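import Cfsg.Agent.Helper6.Sz41

/-!
# Automorphisms of the Suzuki group: extracting the field automorphism
-/

set_option autoImplicit false

namespace Cfsg.Agent.Helper6

variable {F : Type*} [Field F] [Fintype F] {m : ℕ}

/-- every element of the field is of the form `a ^ σ * a` -/
theorem exists_pow_sigma_mul (hF : Fintype.card F = 2 ^ (2 * m + 1)) (c : F) :
    ∃ a : F, a ^ (2 ^ (m + 1)) * a = c := by
  by_cases hc : c = 0
  · exact ⟨0, by rw [hc, mul_zero]⟩
  · obtain ⟨t, ht⟩ := exists_pow_sigma_succ hF (Units.mk0 c hc)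
    refine ⟨(t : F), ?_⟩
    have : (t : F) ^ (2 ^ (m + 1) + 1) = c := by
      rw [← Units.val_pow_eq_pow_val, ht, Units.val_mk0]
    rw [← this]
    exact (pow_succ _ _).symm

theorem sD_comm (hF : Fintype.card F = 2 ^ (2 * m + 1)) (t t' : Fˣ) :
    sD hF t * sD hF t' = sD hF t' * sD hF t := by
  rw [← sD_mul, ← sD_mul, mul_comm]

/-- Lemma A: the shape of an automorphism preserving the translations and the torus -/
theorem aut_shape (hm : 1 ≤ m) (hF : Fintype.card F = 2 ^ (2 * m + 1))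
    (γ : MulAut (Cfsg.Sz F m))
    (hQ : ∀ a b : F, ∃ a' b' : F, γ (sU hF a b) = sU hF a' b')
    (hT : ∀ t : Fˣ, ∃ t' : Fˣ, γ (sD hF t) = sD hF t') :
    ∃ (g₁ : F → F) (τ : Fˣ → Fˣ),
      (∀ a b : F, ∃ b' : F, γ (sU hF a b) = sU hF (g₁ a) b') ∧
      (∀ t : Fˣ, γ (sD hF t) = sD hF (τ t)) ∧
      (∀ a c : F, g₁ (a + c) = g₁ a + g₁ c) ∧
      (∀ (t : Fˣ) (a : F), g₁ ((t : F) * a) = (τ t : F) * g₁ a) ∧
      (∀ a : F, g₁ a = 0 → a = 0) := by
  have hs0 : (2 : ℕ) ^ (m + 1) ≠ 0 := by positivity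
  choose fA fB hf using hQ
  choose τ hτ using hT
  -- the centre is preserved
  have F1 : ∀ b : F, fA 0 b = 0 := by
    intro b
    obtain ⟨a', ha'⟩ := exists_pow_sigma_mul hF b
    have h1 : γ (sU hF 0 b) = γ (sU hF a' 0) * γ (sU hF a' 0) := by
      rw [← map_mul, sU_sq hm hF, ha']
    rw [hf, hf, sU_sq hm hF] at h1
    exact (sU_inj hF h1).1
  have F2 : ∀ a b : F, fA a b = fA a 0 := by
    intro a b
    have h1 : γ (sU hF a b) = γ (sU hF a 0) * γ (sU hF 0 b) := by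
      rw [← map_mul, ← sU_split hm hF]
    rw [hf, hf, hf, sU_mul hm hF, F1, add_zero] at h1
    exact (sU_inj hF h1).1
  refine ⟨fun a => fA a 0, τ, ?_, hτ, ?_, ?_, ?_⟩
  · intro a b
    exact ⟨fB a b, by rw [hf, F2]⟩
  · intro a c
    have h1 : γ (sU hF a 0 * sU hF c 0) = γ (sU hF a 0) * γ (sU hF c 0) := map_mul _ _ _
    rw [sU_mul hm hF, hf, hf, hf, sU_mul hm hF, F2] at h1
    exact (sU_inj hF h1).1
  · intro t a
    have h1 : γ (sD hF t * sU hF a 0 * (sD hF t)⁻¹) =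
        γ (sD hF t) * γ (sU hF a 0) * (γ (sD hF t))⁻¹ := by
      rw [map_mul, map_mul, map_inv]
    rw [sD_conj_sU hm hF, hf, hf, hτ, sD_conj_sU hm hF, F2] at h1
    exact (sU_inj hF h1).1
  · intro a ha
    have h1 : γ (sU hF a 0 * sU hF a 0) = γ (sU hF a 0) * γ (sU hF a 0) := map_mul _ _ _
    simp only at ha
    rw [hf, ha, sU_sq hm hF, sU_sq hm hF, zero_pow hs0, zero_mul, sU_zero hm hF] at h1
    have h2 : sU hF 0 (a ^ (2 ^ (m + 1)) * a) = 1 := by
      apply γ.injective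
      rw [h1, map_one]
    have h3 := ((sU_eq_one_iff hm hF _ _).1 h2).2
    rcases mul_eq_zero.1 h3 with h | h
    · exact pow_eq_zero_iff hs0 |>.1 h
    · exact h

/-- Lemma B: a normalised additive map compatible with the torus is a field automorphism -/
theorem exists_ringEquiv_of_shape (g₁ : F → F) (τ : Fˣ → Fˣ)
    (hadd : ∀ a c : F, g₁ (a + c) = g₁ a + g₁ c)
    (hmul : ∀ (t : Fˣ) (a : F), g₁ ((t : F) * a) = (τ t : F) * g₁ a)
    (hone : g₁ 1 = 1) :
    ∃ σ : F ≃+* F, (∀ a : F, σ a = g₁ a) ∧ (∀ t : Fˣ, σ (t : F) = (τ t : F)) := by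
  have h0 : g₁ 0 = 0 := by
    have := hadd 0 0
    rw [add_zero] at this
    exact left_eq_add.1 this
  have hτ : ∀ t : Fˣ, g₁ (t : F) = (τ t : F) := by
    intro t
    have := hmul t 1
    rwa [mul_one, hone, mul_one] at this
  let f : F →+* F :=
    { toFun := g₁
      map_one' := hone
      map_mul' := by
        intro a b
        by_cases ha : a = 0
        · rw [ha, zero_mul, h0, zero_mul]
        · have := hmul (Units.mk0 a ha) b
          rw [Units.val_mk0] at this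
          rw [this, ← hτ, Units.val_mk0]
      map_zero' := h0
      map_add' := hadd }
  have hinj : Function.Injective f := f.injective
  have hbij : Function.Bijective f := ⟨hinj, Finite.injective_iff_surjective.1 hinj⟩
  refine ⟨RingEquiv.ofBijective f hbij, fun a => rfl, fun t => ?_⟩
  exact hτ t

/-- Step 3: after a torus conjugation and a field automorphism, the automorphism is the identity
on the torus and on the translations modulo the centre -/
theorem exists_field_normalize (hm : 1 ≤ m) (hF : Fintype.card F = 2 ^ (2 * m + 1))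
    (γ : MulAut (Cfsg.Sz F m))
    (hQ : ∀ a b : F, ∃ a' b' : F, γ (sU hF a b) = sU hF a' b')
    (hT : ∀ t : Fˣ, ∃ t' : Fˣ, γ (sD hF t) = sD hF t') :
    ∃ (c : Fˣ) (σ : F ≃+* F),
      (∀ a b : F, ∃ b' : F,
        ((szFieldAut hm hF σ)⁻¹ * (MulAut.conj (sD hF c) * γ)) (sU hF a b) = sU hF a b') ∧
      (∀ t : Fˣ, ((szFieldAut hm hF σ)⁻¹ * (MulAut.conj (sD hF c) * γ)) (sD hF t) = sD hF t) := by
  obtain ⟨g₁, τ, h1, h2, -, -, h5⟩ := aut_shape hm hF γ hQ hT
  have hg1 : g₁ 1 ≠ 0 := fun h => one_ne_zero (h5 1 h)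
  obtain ⟨c, hc⟩ : ∃ c : Fˣ, c = (Units.mk0 (g₁ 1) hg1)⁻¹ := ⟨_, rfl⟩
  set δ : MulAut (Cfsg.Sz F m) := MulAut.conj (sD hF c) * γ with hδ
  have hδU : ∀ a b : F, ∃ b' : F, δ (sU hF a b) = sU hF ((c : F) * g₁ a) b' := by
    intro a b
    obtain ⟨b', hb'⟩ := h1 a b
    refine ⟨(c : F) ^ (2 ^ (m + 1) + 1) * b', ?_⟩
    rw [hδ, MulAut.mul_apply, MulAut.conj_apply, hb', sD_conj_sU hm hF]
  have hδD : ∀ t : Fˣ, δ (sD hF t) = sD hF (τ t) := by
    intro t
    rw [hδ, MulAut.mul_apply, MulAut.conj_apply, h2, sD_comm, mul_assoc, mul_inv_cancel, mul_one]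
  obtain ⟨g₁', τ', k1, k2, k3, k4, -⟩ := aut_shape hm hF δ
    (fun a b => by obtain ⟨b', h⟩ := hδU a b; exact ⟨_, b', h⟩)
    (fun t => ⟨_, hδD t⟩)
  have hone : g₁' 1 = 1 := by
    obtain ⟨b', hb'⟩ := k1 1 0
    obtain ⟨b'', hb''⟩ := hδU 1 0
    rw [hb''] at hb'
    have := (sU_inj hF hb').1
    rw [← this, hc, Units.val_inv_eq_inv_val, Units.val_mk0, inv_mul_cancel₀ hg1]
  obtain ⟨σ, hσ1, hσ2⟩ := exists_ringEquiv_of_shape g₁' τ' k3 k4 hone
  refine ⟨c, σ, ?_, ?_⟩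
  · intro a b
    obtain ⟨b', hb'⟩ := k1 a b
    refine ⟨σ.symm b', ?_⟩
    rw [MulAut.mul_apply, ← hδ, hb']
    have h3 : szFieldAut hm hF σ (sU hF a (σ.symm b')) = sU hF (g₁' a) b' := by
      rw [szFieldAut_sU, hσ1, RingEquiv.apply_symm_apply]
    rw [← h3, MulAut.inv_apply_self]
  · intro t
    rw [MulAut.mul_apply, ← hδ, k2]
    have h3 : szFieldAut hm hF σ (sD hF t) = sD hF (τ' t) := by
      rw [szFieldAut_sD]
      congr 1
      apply Units.ext
      rw [Units.coe_map]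
      exact hσ2 t
    rw [← h3, MulAut.inv_apply_self]

end Cfsg.Agent.Helper6
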