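import Cfsg.Agent.Helper6.Sz47

/-!
# Embeddings of Suzuki groups: rigidity
-/

set_option autoImplicit false

namespace Cfsg.Agent.Helper6

variable {F : Type*} [Field F] [Fintype F] {m : ℕ} {K : Type*} [Field K] [Fintype K] {k : ℕ}

/-- Bruhat decomposition for elements of the group -/
theorem bruhat_decomp' (hm : 1 ≤ m) (hF : Fintype.card F = 2 ^ (2 * m + 1)) (g : Cfsg.Sz F m) :
    g ∈ szB F m ∨
    (∃ (x y a b : F) (t : Fˣ), g = sU hF x y * sW hF * (sU hF a b * sD hF t)) := by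
  rcases bruhat_decomp hm hF g.2 with ⟨a, b, t, h⟩ | ⟨x, y, a, b, t, h⟩
  · left
    exact (mem_szB_iff_exists hm hF g).2 ⟨a, b, t, Subtype.ext h⟩
  · right
    exact ⟨x, y, a, b, t, Subtype.ext h⟩

/-- the only three fixed points lemma, in terms of the point parametrisation -/
theorem eq_one_of_three_fixed (hm : 1 ≤ m) (hF : Fintype.card F = 2 ^ (2 * m + 1))
    (g : Cfsg.Sz F m) {o1 o2 o3 : Option (F × F)} (h12 : o1 ≠ o2) (h23 : o2 ≠ o3) (h13 : o1 ≠ o3)
    (h1 : g • ovPt F m o1 = ovPt F m o1) (h2 : g • ovPt F m o2 = ovPt F m o2)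
    (h3 : g • ovPt F m o3 = ovPt F m o3) : g = 1 := by
  apply sz_three_points hm hF g (ovΩ F m o1) (ovΩ F m o2) (ovΩ F m o3)
  · exact fun h => h12 (ovΩ_injective h)
  · exact fun h => h23 (ovΩ_injective h)
  · exact fun h => h13 (ovΩ_injective h)
  · rw [smul_ovΩ_eq_iff]; exact h1
  · rw [smul_ovΩ_eq_iff]; exact h2
  · rw [smul_ovΩ_eq_iff]; exact h3

/-- a homomorphism that is standard on the torus does not map the Weyl element into the Borel
subgroup -/
theorem hom_sW_not_mem_szB (hm : 1 ≤ m) (hF : Fintype.card F = 2 ^ (2 * m + 1)) (hk : 1 ≤ k)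
    (hK : Fintype.card K = 2 ^ (2 * k + 1)) (φ : Cfsg.Sz K k →* Cfsg.Sz F m) (ι : K →+* F)
    (hD : ∀ t : Kˣ, φ (sD hK t) = sD hF (Units.map (ι : K →* F) t)) :
    φ (sW hK) ∉ szB F m := by
  have h2 : (2 : F) = 0 := two_eq_zero_of_card hF
  intro hmem
  obtain ⟨a, b, s, hs⟩ := (mem_szB_iff_exists hm hF _).1 hmem
  obtain ⟨t₁, ht₁⟩ := exists_unit_ne_one hk hK
  -- `φ (sW)` is an involution, so `s = 1`
  have hsq : φ (sW hK) * φ (sW hK) = 1 := by rw [← map_mul, sW_mul_self, map_one]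
  have hs1 : s = 1 := by
    have h3 : sU hF a b * sD hF s * (sU hF a b * sD hF s) =
        sU hF (a + (s : F) * a)
          (b + (s : F) ^ (2 ^ (m + 1) + 1) * b + a ^ (2 ^ (m + 1)) * ((s : F) * a)) *
          sD hF (s * s) := by
      have e1 : sD hF s * sU hF a b =
          sU hF ((s : F) * a) ((s : F) ^ (2 ^ (m + 1) + 1) * b) * sD hF s := by
        rw [← sD_conj_sU hm hF]; group
      have e2 : sU hF a b * sD hF s * (sU hF a b * sD hF s) =
          sU hF a b * (sD hF s * sU hF a b) * sD hF s := by group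
      rw [e2, e1, ← mul_assoc, sU_mul hm hF, mul_assoc, ← sD_mul]
    rw [← hs, hsq] at h3
    have h4 : sU hF 0 0 * sD hF 1 = sU hF (a + (s : F) * a)
          (b + (s : F) ^ (2 ^ (m + 1) + 1) * b + a ^ (2 ^ (m + 1)) * ((s : F) * a)) *
          sD hF (s * s) := by
      rw [sU_zero hm hF, sD_one, one_mul]; exact h3
    obtain ⟨-, -, h5⟩ := sB_unique hF h4
    have h6 : (s : F) * s = 1 := by rw [← Units.val_mul, ← h5, Units.val_one]
    have h7 : ((s : F) + 1) * ((s : F) + 1) = 0 := by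
      linear_combination h6 + ((s : F) + 1) * h2
    have h8 : (s : F) + 1 = 0 := by
      rcases mul_eq_zero.1 h7 with h | h <;> exact h
    apply Units.ext
    rw [Units.val_one]
    linear_combination h8 - h2
  rw [hs1, sD_one, mul_one] at hs
  -- conjugating the torus
  have h3 : φ (sW hK) * φ (sD hK t₁) = φ (sD hK t₁⁻¹) * φ (sW hK) := by
    rw [← map_mul, ← map_mul, sW_mul_sD]
  rw [hs, hD, hD] at h3
  have e1 : sD hF (Units.map (ι : K →* F) t₁⁻¹) * sU hF a b =
      sU hF (((Units.map (ι : K →* F) t₁⁻¹ : Fˣ) : F) * a)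
        (((Units.map (ι : K →* F) t₁⁻¹ : Fˣ) : F) ^ (2 ^ (m + 1) + 1) * b) *
        sD hF (Units.map (ι : K →* F) t₁⁻¹) := by
    rw [← sD_conj_sU hm hF]; group
  rw [e1] at h3
  obtain ⟨-, -, h5⟩ := sB_unique hF h3
  have h6 : t₁ = t₁⁻¹ := by
    apply Units.ext
    have := congrArg (fun u : Fˣ => (u : F)) h5
    simp only [Units.coe_map, MonoidHom.coe_coe] at this
    exact ι.injective this
  have h7 : (t₁ : K) * t₁ = 1 := by
    have : t₁ * t₁ = 1 := by
      nth_rewrite 2 [h6]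
      exact mul_inv_cancel t₁
    rw [← Units.val_mul, this, Units.val_one]
  have h2K : (2 : K) = 0 := two_eq_zero_of_card hK
  have h8 : ((t₁ : K) + 1) * ((t₁ : K) + 1) = 0 := by
    linear_combination h7 + ((t₁ : K) + 1) * h2K
  have h9 : (t₁ : K) + 1 = 0 := by
    rcases mul_eq_zero.1 h8 with h | h <;> exact h
  apply ht₁
  apply Units.ext
  rw [Units.val_one]
  linear_combination h9 - h2K

/-- a homomorphism that maps the Borel subgroup into the Borel subgroup and is standard on the torus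
maps the complement of the Borel subgroup into the complement -/
theorem hom_not_mem_szB (hm : 1 ≤ m) (hF : Fintype.card F = 2 ^ (2 * m + 1)) (hk : 1 ≤ k)
    (hK : Fintype.card K = 2 ^ (2 * k + 1)) (φ : Cfsg.Sz K k →* Cfsg.Sz F m) (ι : K →+* F)
    (hB : ∀ g ∈ szB K k, φ g ∈ szB F m)
    (hD : ∀ t : Kˣ, φ (sD hK t) = sD hF (Units.map (ι : K →* F) t))
    (g : Cfsg.Sz K k) (hg : g ∉ szB K k) : φ g ∉ szB F m := by
  rcases bruhat_decomp' hk hK g with h | ⟨x, y, a, b, t, h⟩
  · exact absurd h hg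
  · intro hmem
    apply hom_sW_not_mem_szB hm hF hk hK φ ι hD
    have h1 : φ (sW hK) = (φ (sU hK x y))⁻¹ * φ g * (φ (sU hK a b * sD hK t))⁻¹ := by
      rw [h, map_mul, map_mul]; group
    rw [h1]
    refine (szB F m).mul_mem ((szB F m).mul_mem ((szB F m).inv_mem ?_) hmem)
      ((szB F m).inv_mem ?_)
    · exact hB _ (sU_mem_szB hk hK x y)
    · exact hB _ ((szB K k).mul_mem (sU_mem_szB hk hK a b) (sD_mem_szB hk hK t))

/-- a conjugate of a non-trivial torus element fixes exactly two points -/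
theorem fixed_point_of_conj_torus (hm : 1 ≤ m) (hF : Fintype.card F = 2 ^ (2 * m + 1))
    (x₀ y₀ : F) {s : Fˣ} (hs : s ≠ 1) (h : Cfsg.Sz F m) (hh : h ∉ szB F m)
    (hfix : h⁻¹ * (sU hF x₀ y₀ * sD hF s * (sU hF x₀ y₀)⁻¹) * h ∈ szB F m) :
    h • ovPt F m none = ovPt F m (some (x₀, y₀)) := by
  obtain ⟨v, hv⟩ : ∃ v : Cfsg.Sz F m, v = sU hF x₀ y₀ := ⟨_, rfl⟩
  rw [← hv] at hfix
  have hv0 : v • ovPt F m (some (0, 0)) = ovPt F m (some (x₀, y₀)) := by
    rw [hv, sU_smul_some]; simp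
  obtain ⟨o', ho'⟩ := exists_smul_eq_ovPt h none
  rw [mem_szB_iff', mul_smul, mul_smul, ho'] at hfix
  have hfix' : (v * sD hF s * v⁻¹) • ovPt F m o' = ovPt F m o' := by
    have := congrArg (fun p => h • p) hfix
    simp only [smul_inv_smul] at this
    rw [this, ho']
  rcases o' with _ | ⟨x', y'⟩
  · exact absurd ho' hh
  obtain ⟨o'', ho''⟩ := exists_smul_eq_ovPt v⁻¹ (some (x', y'))
  have h3 : sD hF s • ovPt F m o'' = ovPt F m o'' := by
    rw [← ho'']
    have : sD hF s = v⁻¹ * (v * sD hF s * v⁻¹) * v := by group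
    rw [this, mul_smul, mul_smul, smul_inv_smul, hfix']
  rcases o'' with _ | ⟨x'', y''⟩
  · exfalso
    have h4 : v • ovPt F m none = ovPt F m (some (x', y')) := by
      rw [← ho'', smul_inv_smul]
    rw [hv, sU_smul_none] at h4
    exact Option.some_ne_none _ (ovPt_injective h4).symm
  · have h4 : x'' = 0 ∧ y'' = 0 := by
      by_contra hne
      exact hs (szD_eq_one_of_fix hF hne h3)
    obtain ⟨rfl, rfl⟩ := h4
    rw [ho', ← hv0, ← ho'', smul_inv_smul]

/-- Step 5': an embedding that agrees with the standard embedding on the Borel subgroup is the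
standard embedding -/
theorem hom_eq_of_eq_on_szB (hm : 1 ≤ m) (hF : Fintype.card F = 2 ^ (2 * m + 1)) (hk : 1 ≤ k)
    (hK : Fintype.card K = 2 ^ (2 * k + 1)) (ψ E : Cfsg.Sz K k →* Cfsg.Sz F m) (ι : K →+* F)
    (hEU : ∀ a b : K, E (sU hK a b) = sU hF (ι a) (ι b))
    (hED : ∀ t : Kˣ, E (sD hK t) = sD hF (Units.map (ι : K →* F) t))
    (hEW : E (sW hK) = sW hF)
    (hψ : ∀ g ∈ szB K k, ψ g = E g) : ψ = E := by
  obtain ⟨t₁, ht₁⟩ := exists_unit_ne_one hk hK
  have ht₁' : Units.map (ι : K →* F) t₁ ≠ 1 := by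
    intro h'
    apply ht₁
    apply Units.ext
    have := congrArg (fun u : Fˣ => (u : F)) h'
    simp only [Units.coe_map, MonoidHom.coe_coe, Units.val_one] at this
    rw [Units.val_one]
    exact ι.injective (by rw [this, map_one])
  have hEB : ∀ g ∈ szB K k, E g ∈ szB F m := by
    intro g hg
    obtain ⟨a, b, t, rfl⟩ := (mem_szB_iff_exists hk hK g).1 hg
    rw [map_mul, hEU, hED]
    exact (szB F m).mul_mem (sU_mem_szB hm hF _ _) (sD_mem_szB hm hF _)
  have hψB : ∀ g ∈ szB K k, ψ g ∈ szB F m := fun g hg => by rw [hψ g hg]; exact hEB g hg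
  have hψD : ∀ t : Kˣ, ψ (sD hK t) = sD hF (Units.map (ι : K →* F) t) := fun t => by
    rw [hψ _ (sD_mem_szB hk hK t), hED]
  -- (b)
  have hb : ∀ g : Cfsg.Sz K k, (E g)⁻¹ * ψ g ∈ szB F m := by
    intro g
    by_cases hg : g ∈ szB K k
    · rw [hψ g hg, inv_mul_cancel]; exact (szB F m).one_mem
    obtain ⟨o, ho⟩ := exists_smul_eq_ovPt g none
    rcases o with _ | ⟨x, y⟩
    · exact absurd ho hg
    obtain ⟨v, hv⟩ : ∃ v : Cfsg.Sz K k, v = sU hK x y := ⟨_, rfl⟩
    have hv0 : v • ovPt K k (some (0, 0)) = ovPt K k (some (x, y)) := by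
      rw [hv, sU_smul_some]; simp
    obtain ⟨dp, hdp⟩ : ∃ dp : Cfsg.Sz K k, dp = v * sD hK t₁ * v⁻¹ := ⟨_, rfl⟩
    have hdpB : dp ∈ szB K k := by
      rw [hdp, hv]
      exact (szB K k).mul_mem ((szB K k).mul_mem (sU_mem_szB hk hK x y) (sD_mem_szB hk hK t₁))
        ((szB K k).inv_mem (sU_mem_szB hk hK x y))
    have hdpp : dp • ovPt K k (some (x, y)) = ovPt K k (some (x, y)) := by
      rw [hdp, mul_smul, mul_smul, ← hv0, inv_smul_smul, sD_smul_some]
      simp
    have heB : g⁻¹ * dp * g ∈ szB K k := by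
      rw [mem_szB_iff', mul_smul, mul_smul, ho, hdpp, ← ho, inv_smul_smul]
    have hEdp : E dp = sU hF (ι x) (ι y) * sD hF (Units.map (ι : K →* F) t₁) *
        (sU hF (ι x) (ι y))⁻¹ := by
      rw [hdp, hv, map_mul, map_mul, map_inv, hEU, hED]
    have h1 : (E g)⁻¹ * E dp * E g ∈ szB F m := by
      have := hEB _ heB
      rwa [map_mul, map_mul, map_inv] at this
    have h2 : (ψ g)⁻¹ * E dp * ψ g ∈ szB F m := by
      have := hψB _ heB
      rwa [map_mul, map_mul, map_inv, hψ dp hdpB] at this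
    rw [hEdp] at h1 h2
    have p1 := fixed_point_of_conj_torus hm hF (ι x) (ι y) ht₁' (E g)
      (hom_not_mem_szB hm hF hk hK E ι hEB hED g hg) h1
    have p2 := fixed_point_of_conj_torus hm hF (ι x) (ι y) ht₁' (ψ g)
      (hom_not_mem_szB hm hF hk hK ψ ι hψB hψD g hg) h2
    rw [mem_szB_iff', mul_smul, p2, ← p1, inv_smul_smul]
  -- (c)
  ext g
  have h1 : (E g)⁻¹ * ψ g = 1 := by
    have key : ∀ h : Cfsg.Sz K k, ∀ o, E h • ovPt F m none = ovPt F m o →
        ((E g)⁻¹ * ψ g) • ovPt F m o = ovPt F m o := by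
      intro h o hh
      have h3 : (E h)⁻¹ * ((E g)⁻¹ * ψ g) * E h ∈ szB F m := by
        have : (E h)⁻¹ * ((E g)⁻¹ * ψ g) * E h =
            ((E (g * h))⁻¹ * ψ (g * h)) * ((E h)⁻¹ * ψ h)⁻¹ := by
          rw [map_mul, map_mul]; group
        rw [this]
        exact (szB F m).mul_mem (hb _) ((szB F m).inv_mem (hb _))
      rw [mem_szB_iff', mul_smul, mul_smul, hh] at h3
      have := congrArg (fun p => E h • p) h3
      simp only [smul_inv_smul] at this
      rw [this, hh]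
    have f1 := key 1 none (by rw [map_one, one_smul])
    have f2 := key (sW hK) (some (0, 0)) (by rw [hEW, sW_smul_none])
    have f3 := key (sU hK 1 0 * sW hK) (some (1, 0)) (by
      rw [map_mul, hEW, hEU, mul_smul, sW_smul_none, sU_smul_some]
      simp)
    refine eq_one_of_three_fixed hm hF _ ?_ ?_ ?_ f1 f2 f3
    · exact fun h => Option.some_ne_none _ h.symm
    · intro h
      have := Option.some_injective _ h
      rw [Prod.mk.injEq] at this
      exact zero_ne_one this.1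
    · exact fun h => Option.some_ne_none _ h.symm
  have : ψ g = E g * ((E g)⁻¹ * ψ g) := by group
  rw [this, h1, mul_one]

end Cfsg.Agent.Helper6
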