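import Cfsg.Agent.Helper6.Sz25

/-!
# The Lie-type Suzuki group `Cfsg.Lie.Sz F (2^(m+1))` is the ovoid stabiliser `Cfsg.Sz F m`
-/

set_option autoImplicit false

namespace Cfsg.Agent.Helper6

open Cfsg.Lie

variable {F : Type*} [Field F] [Fintype F] {m : ℕ}

omit [Fintype F] in
theorem det_eq_one_of_presJ (h2 : (2 : F) = 0) {M : Matrix (Fin 4) (Fin 4) F} (hM : PresJ M) :
    M.det = 1 := by
  have h1 := congrArg Matrix.det hM
  have hJ : (Cfsg.suzukiForm F).det = 1 := det_tMat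
  rw [Matrix.det_mul, Matrix.det_mul, Matrix.det_transpose, hJ, mul_one] at h1
  have h3 : (M.det - 1) * (M.det - 1) = 0 := by
    linear_combination h1 + (1 - M.det) * h2
  have h4 : M.det - 1 = 0 := by
    rcases mul_eq_zero.1 h3 with h | h <;> exact h
  linear_combination h4

/-- a Suzuki matrix stabilises the ovoid -/
theorem mem_Sz_of_isSzMat (hm : 1 ≤ m) (hF : Fintype.card F = 2 ^ (2 * m + 1))
    (g : Matrix.SpecialLinearGroup (Fin 4) F)
    (hg : IsSzMat m (g : Matrix (Fin 4) (Fin 4) F)) : g ∈ Cfsg.Sz F m := by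
  apply mem_Sz_of_forall
  -- every point is `h • ∞` with `h` a Suzuki matrix
  have key : ∀ h : Matrix.SpecialLinearGroup (Fin 4) F,
      IsSzMat m (h : Matrix (Fin 4) (Fin 4) F) → ∃ o', (g * h) • ovPt F m none = ovPt F m o' := by
    intro h hh
    have h1 : IsSzMat m ((g * h : Matrix.SpecialLinearGroup (Fin 4) F) :
        Matrix (Fin 4) (Fin 4) F) := by
      rw [Matrix.SpecialLinearGroup.coe_mul]
      exact hg.mul hF hh
    obtain ⟨o', c, hc⟩ := first_col hF h1
    exact ⟨o', smul_ovPt _ _ _ c hc⟩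
  rintro (_ | ⟨x, y⟩)
  · obtain ⟨o', ho'⟩ := key 1 (by
      have := isSzMat_szU (m := m) hF 0 0
      rwa [szU_zero hm hF] at this)
    rw [mul_one] at ho'
    exact ⟨o', ho'⟩
  · obtain ⟨o', ho'⟩ := key (szU F m x y * szT F) (by
      rw [Matrix.SpecialLinearGroup.coe_mul]
      exact (isSzMat_szU hF x y).mul hF (isSzMat_szT hF))
    refine ⟨o', ?_⟩
    rw [mul_smul, mul_smul, szT_smul_none, szU_smul_some hF] at ho'
    simpa using ho'

omit [Fintype F] in
/-- `PresJ` in terms of the form `altForm4` -/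
theorem altForm4_eq (u v : Fin 4 → F) :
    altForm4 u v = u ⬝ᵥ (Cfsg.suzukiForm F).mulVec v := by
  simp [altForm4, dotProduct, Fin.sum_univ_four, mulVec_four, Cfsg.suzukiForm]

omit [Fintype F] in
theorem presJ_iff_altForm4 (M : Matrix (Fin 4) (Fin 4) F) :
    PresJ M ↔ ∀ u v, altForm4 (M.mulVec u) (M.mulVec v) = altForm4 u v := by
  constructor
  · intro h u v
    rw [altForm4_eq, altForm4_eq, Matrix.mulVec_mulVec, ← Matrix.vecMul_transpose,
      Matrix.dotProduct_mulVec, Matrix.vecMul_vecMul, ← Matrix.dotProduct_mulVec,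
      ← Matrix.mul_assoc]
    unfold PresJ at h
    rw [h]
  · intro h
    unfold PresJ
    ext i j
    have := h (Pi.single i 1) (Pi.single j 1)
    rw [presJ_entry]
    simp only [altForm4, Matrix.mulVec_single_one, Matrix.col_apply] at this
    rw [this]
    fin_cases i <;> fin_cases j <;> simp [Cfsg.suzukiForm]

/-- The Lie-type Suzuki group is the image in `GL₄` of the ovoid stabiliser. -/
theorem lieSz_eq_map (hm : 1 ≤ m) (hF : Fintype.card F = 2 ^ (2 * m + 1)) :
    Cfsg.Lie.Sz F (2 ^ (m + 1)) =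
      (Cfsg.Sz F m).map (Matrix.SpecialLinearGroup.toGL :
        Matrix.SpecialLinearGroup (Fin 4) F →* Matrix.GeneralLinearGroup (Fin 4) F) := by
  have h2 : (2 : F) = 0 := two_eq_zero_of_card hF
  apply le_antisymm
  · rw [Cfsg.Lie.Sz, Subgroup.closure_le]
    rintro g ⟨hgSp, hgstar⟩
    have hP : PresJ (g : Matrix (Fin 4) (Fin 4) F) := (presJ_iff_altForm4 _).2 hgSp
    have hdet := det_eq_one_of_presJ h2 hP
    refine ⟨⟨(g : Matrix (Fin 4) (Fin 4) F), hdet⟩, mem_Sz_of_isSzMat hm hF _ ⟨hP, hgstar⟩, ?_⟩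
    apply Units.ext
    rfl
  · rintro _ ⟨h, hh, rfl⟩
    apply Subgroup.subset_closure
    have := isSzMat_of_mem_Sz hm hF hh
    exact ⟨(presJ_iff_altForm4 _).1 this.1, this.2⟩

/-- the isomorphism between the two models of the Suzuki group -/
noncomputable def lieSzEquiv (hm : 1 ≤ m) (hF : Fintype.card F = 2 ^ (2 * m + 1)) :
    Cfsg.Sz F m ≃* Cfsg.Lie.Sz F (2 ^ (m + 1)) :=
  ((Cfsg.Sz F m).equivMapOfInjective _ Matrix.SpecialLinearGroup.toGL_injective).trans
    (MulEquiv.subgroupCongr (lieSz_eq_map hm hF).symm)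

theorem lieSz_simple (hm : 1 ≤ m) (hF : Fintype.card F = 2 ^ (2 * m + 1)) :
    IsSimpleGroup (Cfsg.Lie.Sz F (2 ^ (m + 1))) := by
  have := sz_simple hm hF
  exact (lieSzEquiv hm hF).symm.isSimpleGroup

end Cfsg.Agent.Helper6
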