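import Cfsg.Agent.Helper6.Sz1

/-!
# Explicit elements of the Suzuki group
-/

set_option autoImplicit false

namespace Cfsg.Agent.Helper6

open scoped Pointwise

variable {F : Type*} [Field F] [Fintype F] {m : ℕ}

/-! ### translations -/

/-- translation matrix -/
def uMat (a b A fab : F) : Matrix (Fin 4) (Fin 4) F :=
  !![1, a, b + A * a, fab; 0, 1, A, b; 0, 0, 1, a; 0, 0, 0, 1]

omit [Fintype F] in
theorem det_uMat (a b A fab : F) : (uMat a b A fab).det = 1 := by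
  unfold uMat
  simp [Matrix.det_succ_row_zero, Fin.sum_univ_succ, Fin.succAbove]

/-- the translation by `(a, b)` -/
noncomputable def szU (F : Type*) [Field F] [Fintype F] (m : ℕ) (a b : F) :
    Matrix.SpecialLinearGroup (Fin 4) F :=
  ⟨uMat a b (a ^ (2 ^ (m + 1))) (ovF F m a b), det_uMat _ _ _ _⟩

theorem szU_mulVec_some (hF : Fintype.card F = 2 ^ (2 * m + 1)) (a b x y : F) :
    (szU F m a b : Matrix (Fin 4) (Fin 4) F).mulVec (ovVecOpt F m (some (x, y))) =
      ovVecOpt F m (some (x + a, y + b + a ^ (2 ^ (m + 1)) * x)) := by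
  show (uMat a b (a ^ (2 ^ (m + 1))) (ovF F m a b)).mulVec (ovVec F m x y) =
    ovVec F m (x + a) (y + b + a ^ (2 ^ (m + 1)) * x)
  unfold ovVec
  rw [ovF_translate hF]
  ext i
  fin_cases i <;> simp [uMat, Matrix.mulVec, dotProduct, Fin.sum_univ_four] <;> ring

theorem szU_mulVec_none (a b : F) :
    (szU F m a b : Matrix (Fin 4) (Fin 4) F).mulVec (ovVecOpt F m none) = ovVecOpt F m none := by
  show (uMat a b (a ^ (2 ^ (m + 1))) (ovF F m a b)).mulVec ![1, 0, 0, 0] = ![1, 0, 0, 0]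
  ext i
  fin_cases i <;> simp [uMat, Matrix.mulVec, dotProduct, Fin.sum_univ_four]

theorem szU_smul_some (hF : Fintype.card F = 2 ^ (2 * m + 1)) (a b x y : F) :
    szU F m a b • ovPt F m (some (x, y)) =
      ovPt F m (some (x + a, y + b + a ^ (2 ^ (m + 1)) * x)) :=
  smul_ovPt _ _ _ 1 (by rw [szU_mulVec_some hF, one_smul])

theorem szU_smul_none (a b : F) : szU F m a b • ovPt F m none = ovPt F m none :=
  smul_ovPt _ _ _ 1 (by rw [szU_mulVec_none, one_smul])

theorem szU_mem (hF : Fintype.card F = 2 ^ (2 * m + 1)) (a b : F) : szU F m a b ∈ Cfsg.Sz F m := by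
  apply mem_Sz_of_forall
  rintro (_ | ⟨x, y⟩)
  · exact ⟨_, szU_smul_none a b⟩
  · exact ⟨_, szU_smul_some hF a b x y⟩

/-! ### the inversion -/

/-- the inversion matrix -/
def tMat (F : Type*) [Field F] : Matrix (Fin 4) (Fin 4) F :=
  !![0, 0, 0, 1; 0, 0, 1, 0; 0, 1, 0, 0; 1, 0, 0, 0]

omit [Fintype F] in
theorem det_tMat : (tMat F).det = 1 := by
  unfold tMat
  simp [Matrix.det_succ_row_zero, Fin.sum_univ_succ, Fin.succAbove]
  norm_num

/-- the inversion -/
def szT (F : Type*) [Field F] : Matrix.SpecialLinearGroup (Fin 4) F := ⟨tMat F, det_tMat⟩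

omit [Fintype F] in
theorem tMat_mulVec (v : Fin 4 → F) : (tMat F).mulVec v = ![v 3, v 2, v 1, v 0] := by
  ext i
  fin_cases i <;> simp [tMat, Matrix.mulVec, dotProduct, Fin.sum_univ_four]

theorem szT_smul_none : szT F • ovPt F m none = ovPt F m (some (0, 0)) := by
  apply smul_ovPt _ _ _ 1
  show (tMat F).mulVec ![1, 0, 0, 0] = (1 : F) • ovVec F m 0 0
  rw [tMat_mulVec, one_smul]
  unfold ovVec
  rw [ovF_zero]
  simp

theorem szT_smul_zero : szT F • ovPt F m (some (0, 0)) = ovPt F m none := by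
  apply smul_ovPt _ _ _ 1
  show (tMat F).mulVec (ovVec F m 0 0) = (1 : F) • ![1, 0, 0, 0]
  rw [tMat_mulVec, one_smul]
  unfold ovVec
  rw [ovF_zero]
  simp

theorem szT_smul_some (hF : Fintype.card F = 2 ^ (2 * m + 1)) {x y : F}
    (hf : ovF F m x y ≠ 0) :
    szT F • ovPt F m (some (x, y)) =
      ovPt F m (some (y / ovF F m x y, x / ovF F m x y)) := by
  apply smul_ovPt _ _ _ (ovF F m x y)
  show (tMat F).mulVec (ovVec F m x y) = (ovF F m x y) • ovVec F m _ _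
  rw [tMat_mulVec]
  unfold ovVec
  rw [ovF_inv hF hf]
  ext i
  fin_cases i <;> simp <;> field_simp

theorem szT_mem (hF : Fintype.card F = 2 ^ (2 * m + 1)) : szT F ∈ Cfsg.Sz F m := by
  apply mem_Sz_of_forall
  rintro (_ | ⟨x, y⟩)
  · exact ⟨_, szT_smul_none⟩
  · by_cases hf : ovF F m x y = 0
    · obtain ⟨rfl, rfl⟩ := ovF_eq_zero hF hf
      exact ⟨_, szT_smul_zero⟩
    · exact ⟨_, szT_smul_some hF hf⟩

/-! ### the torus -/

/-- scaling identity for the ovoid function -/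
theorem ovF_scale (hF : Fintype.card F = 2 ^ (2 * m + 1)) (t x y : F) :
    ovF F m (t * x) (t ^ (2 ^ (m + 1) + 1) * y) = t ^ (2 ^ (m + 1) + 2) * ovF F m x y := by
  rw [ovF_eq, ovF_eq, mul_pow, mul_pow, mul_pow, pow_add t (2 ^ (m + 1)) 1, mul_pow,
    pow_sigma_sigma hF]
  ring

/-- the torus matrix, `r = 2^m` -/
def dMat (r : ℕ) (t : F) : Matrix (Fin 4) (Fin 4) F :=
  Matrix.diagonal ![t ^ (r + 1), t ^ r, (t ^ r)⁻¹, (t ^ (r + 1))⁻¹]

omit [Fintype F] in
theorem det_dMat (r : ℕ) {t : F} (ht : t ≠ 0) : (dMat r t).det = 1 := by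
  unfold dMat
  rw [Matrix.det_diagonal, Fin.prod_univ_four]
  simp
  field_simp

/-- the torus element -/
noncomputable def szD (F : Type*) [Field F] [Fintype F] (m : ℕ) (t : Fˣ) :
    Matrix.SpecialLinearGroup (Fin 4) F :=
  ⟨dMat (2 ^ m) (t : F), det_dMat _ t.ne_zero⟩

theorem szD_mulVec_some (hF : Fintype.card F = 2 ^ (2 * m + 1)) (t : Fˣ) (x y : F) :
    (szD F m t : Matrix (Fin 4) (Fin 4) F).mulVec (ovVecOpt F m (some (x, y))) =
      ((t : F) ^ (2 ^ m + 1))⁻¹ •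
        ovVecOpt F m (some ((t : F) * x, (t : F) ^ (2 ^ (m + 1) + 1) * y)) := by
  show (dMat (2 ^ m) (t : F)).mulVec (ovVec F m x y) =
    ((t : F) ^ (2 ^ m + 1))⁻¹ • ovVec F m _ _
  unfold ovVec
  rw [ovF_scale hF]
  have ht : (t : F) ≠ 0 := t.ne_zero
  have hs : 2 ^ (m + 1) = 2 ^ m + 2 ^ m := by rw [pow_succ]; ring
  ext i
  fin_cases i
  · simp [dMat, Matrix.mulVec_diagonal]
    rw [hs]
    field_simp
    ring
  · simp [dMat, Matrix.mulVec_diagonal]
    rw [hs]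
    field_simp
    ring
  · simp [dMat, Matrix.mulVec_diagonal]
    field_simp
    ring
  · simp [dMat, Matrix.mulVec_diagonal]

theorem szD_mulVec_none (t : Fˣ) :
    (szD F m t : Matrix (Fin 4) (Fin 4) F).mulVec (ovVecOpt F m none) =
      ((t : F) ^ (2 ^ m + 1)) • ovVecOpt F m none := by
  show (dMat (2 ^ m) (t : F)).mulVec ![1, 0, 0, 0] = ((t : F) ^ (2 ^ m + 1)) • ![1, 0, 0, 0]
  ext i
  fin_cases i <;> simp [dMat, Matrix.mulVec_diagonal]

theorem szD_smul_some (hF : Fintype.card F = 2 ^ (2 * m + 1)) (t : Fˣ) (x y : F) :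
    szD F m t • ovPt F m (some (x, y)) =
      ovPt F m (some ((t : F) * x, (t : F) ^ (2 ^ (m + 1) + 1) * y)) :=
  smul_ovPt _ _ _ _ (szD_mulVec_some hF t x y)

theorem szD_smul_none (t : Fˣ) : szD F m t • ovPt F m none = ovPt F m none :=
  smul_ovPt _ _ _ _ (szD_mulVec_none t)

theorem szD_mem (hF : Fintype.card F = 2 ^ (2 * m + 1)) (t : Fˣ) : szD F m t ∈ Cfsg.Sz F m := by
  apply mem_Sz_of_forall
  rintro (_ | ⟨x, y⟩)
  · exact ⟨_, szD_smul_none t⟩
  · exact ⟨_, szD_smul_some hF t x y⟩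

end Cfsg.Agent.Helper6
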