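import Cfsg.Agent.Helper6.AutQ3

/-!
# The automorphism group of a Sylow 2-subgroup of the Suzuki group
-/

set_option autoImplicit false

namespace Cfsg.Agent.Helper6

variable {F : Type*} [Field F] [Fintype F] {m : ℕ}

/-- the preimage of a subgroup under an isomorphism is isomorphic to the subgroup -/
def comapEquivSub {G H : Type*} [Group G] [Group H] (e : G ≃* H) (K : Subgroup H) :
    K.comap e.toMonoidHom ≃* K where
  toFun x := ⟨e x.1, x.2⟩
  invFun y := ⟨e.symm y.1, by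
    show e (e.symm y.1) ∈ K
    rw [e.apply_symm_apply]
    exact y.2⟩
  left_inv x := Subtype.ext (e.symm_apply_apply _)
  right_inv y := Subtype.ext (e.apply_symm_apply _)
  map_mul' x y := Subtype.ext (map_mul e _ _)

/-- the parametrisation of a group isomorphic to the translation subgroup -/
noncomputable def SuzPar.ofEquiv (hm : 1 ≤ m) (hF : Fintype.card F = 2 ^ (2 * m + 1))
    {S : Type*} [Group S] (e : S ≃* szQ hm hF) : SuzPar F m S where
  u a b := e.symm (qU hm hF a b)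
  mul a b c d := by rw [← map_mul, qU_mul]
  inj a b c d h := qU_inj hm hF (e.symm.injective h)
  surj x := by
    obtain ⟨a, b, h⟩ := qU_surj hm hF (e x)
    exact ⟨a, b, by rw [← h, e.symm_apply_apply]⟩

/-- every Sylow `2`-subgroup of the Suzuki group (Lie model) is isomorphic to the translation
subgroup -/
theorem sylow_lieSz_equiv (hm : 1 ≤ m) (hF : Fintype.card F = 2 ^ (2 * m + 1))
    (P : Sylow 2 (Cfsg.Lie.Sz F (2 ^ (m + 1)))) :
    Nonempty ((P : Subgroup (Cfsg.Lie.Sz F (2 ^ (m + 1)))) ≃* szQ hm hF) := by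
  have : Fact (Nat.Prime 2) := ⟨Nat.prime_two⟩
  let E := lieSzEquiv hm hF
  have hr : (P : Subgroup (Cfsg.Lie.Sz F (2 ^ (m + 1)))) ≤ E.toMonoidHom.range := by
    rw [MonoidHom.range_eq_top.2 E.surjective]
    exact le_top
  let P' : Sylow 2 (Cfsg.Sz F m) := P.comapOfInjective E.toMonoidHom E.injective hr
  have hP' : (P' : Subgroup (Cfsg.Sz F m)) =
      (P : Subgroup (Cfsg.Lie.Sz F (2 ^ (m + 1)))).comap E.toMonoidHom :=
    Sylow.coe_comapOfInjective _ _ _ _
  obtain ⟨g, hg⟩ := sylow_two_eq_conjSub hm hF P'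
  have e1 : (P : Subgroup (Cfsg.Lie.Sz F (2 ^ (m + 1)))) ≃*
      ((P : Subgroup (Cfsg.Lie.Sz F (2 ^ (m + 1)))).comap E.toMonoidHom : Subgroup (Cfsg.Sz F m)) :=
    (comapEquivSub E _).symm
  have e2 : ((P : Subgroup (Cfsg.Lie.Sz F (2 ^ (m + 1)))).comap E.toMonoidHom :
      Subgroup (Cfsg.Sz F m)) ≃* conjSub g (szQ hm hF) :=
    MulEquiv.subgroupCongr (hP'.symm.trans hg)
  have e3 : szQ hm hF ≃* conjSub g (szQ hm hF) := MulEquiv.subgroupMap (MulAut.conj g) (szQ hm hF)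
  exact ⟨(e1.trans e2).trans e3.symm⟩

/-- the automorphism group of a Sylow `2`-subgroup of the Suzuki group -/
theorem aut_sylow_lieSz {S : Type*} [Group S] [Finite S] (hm : 1 ≤ m)
    (hF : Fintype.card F = 2 ^ (2 * m + 1)) (P : Sylow 2 (Cfsg.Lie.Sz F (2 ^ (m + 1))))
    (hS : Nonempty (S ≃* (P : Subgroup (Cfsg.Lie.Sz F (2 ^ (m + 1)))))) :
    Cfsg.IsElementaryAbelian 2 (Cfsg.pCore 2 (MulAut S)) ∧
      Nat.card (Cfsg.pCore 2 (MulAut S)) = 2 ^ ((2 * m + 1) ^ 2) ∧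
      Nat.card (MulAut S) = 2 ^ ((2 * m + 1) ^ 2) * ((2 * m + 1) * (2 ^ (2 * m + 1) - 1)) := by
  obtain ⟨e⟩ := hS
  obtain ⟨e'⟩ := sylow_lieSz_equiv hm hF P
  exact (SuzPar.ofEquiv hm hF (e.trans e')).aut_structure hF

end Cfsg.Agent.Helper6
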