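import Cfsg.Agent.Helper6.Sz31

/-!
# The Suzuki group is generated by two elements
-/

set_option autoImplicit false

namespace Cfsg.Agent.Helper6

variable {F : Type*} [Field F] [Fintype F] {m : ℕ}

/-- commutator of two translations (matrix level) -/
theorem szU_comm (hm : 1 ≤ m) (hF : Fintype.card F = 2 ^ (2 * m + 1)) (a b c d : F) :
    szU F m a b * szU F m c d * (szU F m a b)⁻¹ * (szU F m c d)⁻¹ =
      szU F m 0 (a ^ (2 ^ (m + 1)) * c + c ^ (2 ^ (m + 1)) * a) := by
  have h2 : (2 : F) = 0 := two_eq_zero_of_card hF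
  have key : szU F m a b * szU F m c d =
      szU F m 0 (a ^ (2 ^ (m + 1)) * c + c ^ (2 ^ (m + 1)) * a) *
        (szU F m c d * szU F m a b) := by
    rw [szU_mul hm hF, szU_mul hm hF, szU_mul hm hF, zero_pow (by positivity)]
    congr 1
    · ring
    · linear_combination (-(c ^ (2 ^ (m + 1)) * a)) * h2
  rw [key]
  group

/-- A subgroup of `SL₄` containing `szD t` for a generator `t` of `Fˣ` and `szT * szU 1 0`
contains the whole Suzuki group. -/
theorem sz_le_of_two_gens (hm : 1 ≤ m) (hF : Fintype.card F = 2 ^ (2 * m + 1))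
    (N' : Subgroup (Matrix.SpecialLinearGroup (Fin 4) F)) (t : Fˣ)
    (ht : ∀ x : Fˣ, x ∈ Subgroup.zpowers t)
    (hd : szD F m t ∈ N') (hy : szT F * szU F m 1 0 ∈ N') : Cfsg.Sz F m ≤ N' := by
  have h2 : (2 : F) = 0 := two_eq_zero_of_card hF
  -- the whole torus
  have hD : ∀ x : Fˣ, szD F m x ∈ N' := by
    intro x
    obtain ⟨j, rfl⟩ := Subgroup.mem_zpowers_iff.1 (ht x)
    have h1 : szD F m (t ^ j) = (szD F m t) ^ j := map_zpow (szDHom F m) t j
    rw [h1]
    exact N'.zpow_mem hd j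
  -- `t ≠ 1`
  have ht1 : t ≠ 1 := by
    obtain ⟨x, hx⟩ := exists_unit_ne_one hm hF
    intro h
    apply hx
    obtain ⟨j, rfl⟩ := Subgroup.mem_zpowers_iff.1 (ht x)
    rw [h, one_zpow]
  -- a translation with nonzero first coordinate
  have hw : ∀ x : Fˣ, ∃ g : F, szU F m ((x : F) * x + x) g ∈ N' := by
    intro x
    have h1 : szD F m x * szD F m x * ((szT F * szU F m 1 0)⁻¹ *
        (szD F m x * (szT F * szU F m 1 0) * (szD F m x)⁻¹)) ∈ N' :=
      N'.mul_mem (N'.mul_mem (hD x) (hD x)) (N'.mul_mem (N'.inv_mem hy)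
        (N'.mul_mem (N'.mul_mem (hD x) hy) (N'.inv_mem (hD x))))
    have h3 : szD F m x * szT F = szT F * szD F m x⁻¹ := by
      have := szT_mul_szD (F := F) (m := m) x⁻¹
      rw [inv_inv] at this
      exact this.symm
    have h4 : szD F m x * szD F m x * ((szT F * szU F m 1 0)⁻¹ *
        (szD F m x * (szT F * szU F m 1 0) * (szD F m x)⁻¹)) =
        (szD F m x * (szD F m x * (szU F m 1 0)⁻¹ * (szD F m x)⁻¹) * (szD F m x)⁻¹) *
          (szD F m x * szU F m 1 0 * (szD F m x)⁻¹) := by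
      have e1 : szD F m x * (szT F * szU F m 1 0) * (szD F m x)⁻¹ =
          szT F * ((szD F m x)⁻¹ * szU F m 1 0 * (szD F m x)⁻¹) := by
        rw [← mul_assoc, h3, ← szD_inv]; group
      rw [e1, mul_inv_rev, szT_inv]
      have e2 : (szU F m 1 0)⁻¹ * szT F * (szT F * ((szD F m x)⁻¹ * szU F m 1 0 * (szD F m x)⁻¹)) =
          (szU F m 1 0)⁻¹ * ((szD F m x)⁻¹ * szU F m 1 0 * (szD F m x)⁻¹) := by
        rw [mul_assoc ((szU F m 1 0)⁻¹), ← mul_assoc (szT F), szT_mul_self, one_mul]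
      rw [e2]; group
    rw [h4, szU_inv hm hF, szD_conj_szU' hm hF, szD_conj_szU' hm hF, szD_conj_szU' hm hF,
      szU_mul hm hF] at h1
    have e : (x : F) * ((x : F) * 1) + (x : F) * 1 = (x : F) * x + x := by ring
    rw [e] at h1
    exact ⟨_, h1⟩
  have hw' : ∀ a : F, a ≠ 0 → ∃ g : F, szU F m a g ∈ N' := by
    intro a ha
    obtain ⟨g, hg⟩ := hw t
    have he0 : (t : F) * t + t ≠ 0 := by
      have h1 : (t : F) * t + t = t * (t + 1) := by ring
      rw [h1]
      refine mul_ne_zero t.ne_zero ?_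
      intro h
      apply ht1
      apply Units.ext
      rw [Units.val_one]
      linear_combination h - h2
    set μ : Fˣ := Units.mk0 (a / ((t : F) * t + t)) (div_ne_zero ha he0) with hμ
    have h1 : szD F m μ * szU F m ((t : F) * t + t) g * (szD F m μ)⁻¹ ∈ N' :=
      N'.mul_mem (N'.mul_mem (hD μ) hg) (N'.inv_mem (hD μ))
    rw [szD_conj_szU' hm hF] at h1
    have h3 : (μ : F) * ((t : F) * t + t) = a := by
      rw [hμ, Units.val_mk0, div_mul_cancel₀ _ he0]
    rw [h3] at h1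
    exact ⟨_, h1⟩
  -- central translations
  have hcen : ∀ z : F, szU F m 0 z ∈ N' := by
    intro z
    by_cases hz : z = 0
    · rw [hz, szU_zero hm hF]; exact N'.one_mem
    · have hw0 : (t : F) ^ 2 ^ (m + 1) + t ≠ 0 := by
        intro h
        apply unit_pow_sigma_ne hF ht1
        linear_combination h - (t : F) * h2
      obtain ⟨c, hc⟩ := exists_pow_sigma_succ (m := m) hF
        (Units.mk0 (z / ((t : F) ^ 2 ^ (m + 1) + t)) (div_ne_zero hz hw0))
      have hcF : (c : F) ^ (2 ^ (m + 1) + 1) = z / ((t : F) ^ 2 ^ (m + 1) + t) := by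
        have := congrArg (fun u : Fˣ => (u : F)) hc
        simpa using this
      obtain ⟨g1, hg1⟩ := hw' ((c : F) * t) (mul_ne_zero c.ne_zero t.ne_zero)
      obtain ⟨g2, hg2⟩ := hw' (c : F) c.ne_zero
      have h1 : szU F m ((c : F) * t) g1 * szU F m c g2 * (szU F m ((c : F) * t) g1)⁻¹ *
          (szU F m c g2)⁻¹ ∈ N' :=
        N'.mul_mem (N'.mul_mem (N'.mul_mem hg1 hg2) (N'.inv_mem hg1)) (N'.inv_mem hg2)
      rw [szU_comm hm hF] at h1
      have h3 : ((c : F) * t) ^ 2 ^ (m + 1) * c + (c : F) ^ 2 ^ (m + 1) * ((c : F) * t) = z := by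
        have : ((c : F) * t) ^ 2 ^ (m + 1) * c + (c : F) ^ 2 ^ (m + 1) * ((c : F) * t) =
            (c : F) ^ (2 ^ (m + 1) + 1) * ((t : F) ^ 2 ^ (m + 1) + t) := by
          rw [mul_pow, pow_succ]; ring
        rw [this, hcF, div_mul_cancel₀ _ hw0]
      rw [h3] at h1
      exact h1
  -- all translations
  have hU : ∀ a b : F, szU F m a b ∈ N' := by
    intro a b
    by_cases ha : a = 0
    · rw [ha]; exact hcen b
    · obtain ⟨g, hg⟩ := hw' a ha
      have h1 := N'.mul_mem hg (hcen (b - g))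
      rw [szU_mul_central hm hF] at h1
      have h3 : g + (b - g) = b := by ring
      rwa [h3] at h1
  -- conclude with the Borel-overgroup lemma
  apply sz_le_of_szU_of_moving hm hF N' hU hy
  · exact (Cfsg.Sz F m).mul_mem (szT_mem hF) (szU_mem hF 1 0)
  · rw [mul_smul, szU_smul_none, szT_smul_none]
    intro h
    exact (Option.some_ne_none _) (ovPt_injective h)

theorem sz_two_generated (hm : 1 ≤ m) (hF : Fintype.card F = 2 ^ (2 * m + 1)) :
    ∃ a b : Cfsg.Sz F m, Subgroup.closure ({a, b} : Set (Cfsg.Sz F m)) = ⊤ := by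
  obtain ⟨t, ht⟩ := IsCyclic.exists_generator (α := Fˣ)
  refine ⟨⟨szD F m t, szD_mem hF t⟩,
    ⟨szT F * szU F m 1 0, (Cfsg.Sz F m).mul_mem (szT_mem hF) (szU_mem hF 1 0)⟩, ?_⟩
  set M := Subgroup.closure ({⟨szD F m t, szD_mem hF t⟩,
    ⟨szT F * szU F m 1 0, (Cfsg.Sz F m).mul_mem (szT_mem hF) (szU_mem hF 1 0)⟩} :
      Set (Cfsg.Sz F m)) with hM
  have h1 : szD F m t ∈ M.map (Cfsg.Sz F m).subtype :=
    ⟨_, Subgroup.subset_closure (Set.mem_insert _ _), rfl⟩
  have h2 : szT F * szU F m 1 0 ∈ M.map (Cfsg.Sz F m).subtype :=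
    ⟨_, Subgroup.subset_closure (Set.mem_insert_of_mem _ rfl), rfl⟩
  have key := sz_le_of_two_gens hm hF (M.map (Cfsg.Sz F m).subtype) t ht h1 h2
  rw [eq_top_iff]
  intro x _
  obtain ⟨y, hy, hyx⟩ := key x.2
  have hyx' : y = x := Subtype.ext hyx
  rwa [← hyx']

end Cfsg.Agent.Helper6
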