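import Mathlib

/-!
# Groups generated by involutions satisfying the exchange condition are Coxeter groups

Abstract version (Bourbaki, Lie IV §1.5 Prop. 5 and §1.6 Thm. 1), stated with the word length.
-/

set_option autoImplicit false

namespace Cfsg.Agent.Helper6

section Cox

variable {W ι : Type*} [Group W] (f : ι → W)

/-- word product -/
def wp (l : List ι) : W := (l.map f).prod

@[simp] theorem wp_nil : wp f [] = 1 := by simp [wp]

@[simp] theorem wp_cons (i : ι) (l : List ι) : wp f (i :: l) = f i * wp f l := by simp [wp]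

@[simp] theorem wp_append (l l' : List ι) : wp f (l ++ l') = wp f l * wp f l' := by simp [wp]

theorem wp_singleton (i : ι) : wp f [i] = f i := by simp [wp]

/-- word length -/
noncomputable def wl (w : W) : ℕ := sInf {k | ∃ l : List ι, wp f l = w ∧ l.length = k}

/-- the hypotheses: involutions, generation, parity, and Bourbaki's condition (C) -/
structure ExchData : Prop where
  inv : ∀ i, f i * f i = 1
  gen : ∀ w, ∃ l, wp f l = w
  ne : ∀ i w, wl f (f i * w) ≠ wl f w
  condC : ∀ i j w, wl f w < wl f (f i * w) → wl f (f i * (w * f j)) < wl f (w * f j) →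
    f i * w = w * f j

variable {f}

theorem wl_le {l : List ι} {w : W} (h : wp f l = w) : wl f w ≤ l.length :=
  Nat.sInf_le ⟨l, h, rfl⟩

theorem exists_red (hgen : ∀ w, ∃ l, wp f l = w) (w : W) :
    ∃ l, wp f l = w ∧ l.length = wl f w := by
  obtain ⟨l, hl⟩ := hgen w
  have : (sInf {k | ∃ l : List ι, wp f l = w ∧ l.length = k}) ∈
      {k | ∃ l : List ι, wp f l = w ∧ l.length = k} := Nat.sInf_mem ⟨l.length, l, hl, rfl⟩
  exact this

theorem wl_one : wl f (1 : W) = 0 := by
  have := wl_le (f := f) (l := []) (w := 1) (wp_nil f)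
  simpa using this

theorem wl_mul_le (hgen : ∀ w, ∃ l, wp f l = w) (i : ι) (w : W) : wl f (f i * w) ≤ wl f w + 1 := by
  obtain ⟨l, hl, hlen⟩ := exists_red hgen w
  have := wl_le (f := f) (l := i :: l) (w := f i * w) (by rw [wp_cons, hl])
  simpa [hlen] using this

theorem wl_mul_le' (hgen : ∀ w, ∃ l, wp f l = w) (i : ι) (w : W) :
    wl f (w * f i) ≤ wl f w + 1 := by
  obtain ⟨l, hl, hlen⟩ := exists_red hgen w
  have := wl_le (f := f) (l := l ++ [i]) (w := w * f i) (by rw [wp_append, hl, wp_singleton])
  simpa [hlen] using this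

theorem wl_le_mul (h : ExchData f) (i : ι) (w : W) : wl f w ≤ wl f (f i * w) + 1 := by
  have := wl_mul_le h.gen i (f i * w)
  rwa [← mul_assoc, h.inv, one_mul] at this

theorem wl_le_mul' (h : ExchData f) (i : ι) (w : W) : wl f w ≤ wl f (w * f i) + 1 := by
  have := wl_mul_le' h.gen i (w * f i)
  rwa [mul_assoc, h.inv, mul_one] at this

/-- reduced words -/
def Red (f : ι → W) (l : List ι) : Prop := wl f (wp f l) = l.length

theorem Red.tail (h : ExchData f) {i : ι} {l : List ι} (hr : Red f (i :: l)) : Red f l := by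
  unfold Red at *
  have h1 := wl_mul_le h.gen i (wp f l)
  have h2 := wl_le (f := f) (l := l) rfl
  rw [wp_cons] at hr
  simp only [List.length_cons] at hr
  omega

theorem Red.init (h : ExchData f) {i : ι} {l : List ι} (hr : Red f (l ++ [i])) : Red f l := by
  unfold Red at *
  have h1 := wl_mul_le' h.gen i (wp f l)
  have h2 := wl_le (f := f) (l := l) rfl
  rw [wp_append, wp_singleton] at hr
  simp only [List.length_append, List.length_cons, List.length_nil] at hr
  omega

/-- exchange condition, in a "splitting" form -/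
theorem exch (h : ExchData f) (i : ι) : ∀ (l : List ι), Red f l →
    wl f (f i * wp f l) < wl f (wp f l) →
    ∃ l₁ z l₂, l = l₁ ++ z :: l₂ ∧ f i * wp f l₁ = wp f l₁ * f z := by
  intro l
  induction l using List.reverseRecOn with
  | nil =>
    intro _ hlt
    rw [wp_nil, wl_one] at hlt
    exact absurd hlt (Nat.not_lt_zero _)
  | append_singleton l z ih =>
    intro hr hlt
    have hr' : Red f l := hr.init h
    by_cases hlt' : wl f (f i * wp f l) < wl f (wp f l)
    · obtain ⟨l₁, z', l₂, rfl, he⟩ := ih hr' hlt'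
      exact ⟨l₁, z', l₂ ++ [z], by simp, he⟩
    · have hgt : wl f (wp f l) < wl f (f i * wp f l) :=
        lt_of_le_of_ne (not_lt.1 hlt') (h.ne i _).symm
      rw [wp_append, wp_singleton] at hlt
      exact ⟨l, z, [], rfl, h.condC i z (wp f l) hgt hlt⟩

end Cox

end Cfsg.Agent.Helper6
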