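import Cfsg.Agent.Helper6.BN5

set_option autoImplicit false

namespace Cfsg.Agent.Helper6

open DoubleCoset

variable {G : Type*} [Group G] {P : Cfsg.BNPair G}

/-- Bourbaki's condition (C) -/
theorem cond_C {s t w : G} (hs : s ∈ P.S) (ht : t ∈ P.S) (hw : w ∈ P.N)
    (h1 : len P P.S w < len P P.S (s * w))
    (h2 : len P P.S (s * (w * t)) < len P P.S (w * t)) : Rel P (s * w) (w * t) := by
  have hwE : Expr P P.S w := expr_of_mem_N hw
  have hwtN : w * t ∈ P.N := P.N.mul_mem hw (P.subset ht)
  obtain ⟨c, hc, hcn⟩ := key2 (le_refl _) (expr_of_mem_N hwtN) hs h2.le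
  have K := key (le_refl _) _ w hwE rfl s hs h1.le (c * w) (mul_mem_dc P hc (self_mem_dc P w))
  have K2 := mem_mul_S ht (P.N.mul_mem (P.subset hs) hw) K
  have e : s * (c * w) * t = s * c * (w * t) := by group
  rw [e] at K2
  rcases K2 with K2 | K2
  · exfalso
    have := rel_of_dc_eq (P.N.mul_mem (P.N.mul_mem (P.subset hs) hw) (P.subset ht)) hwtN
      (mem_dc_both K2 hcn)
    rw [mul_assoc] at this
    exact not_rel_S_mul hs hwtN this
  · exact rel_of_dc_eq (P.N.mul_mem (P.subset hs) hw) hwtN (mem_dc_both K2 hcn)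

theorem len_S_mul_S_eq_two {s t : G} (hs : s ∈ P.S) (ht : t ∈ P.S) (hne : s ≠ t) :
    len P P.S (s * t) = 2 := by
  have htE : Expr P P.S t := expr_of_mem_N (P.subset ht)
  have h1 : len P P.S (s * t) ≠ 1 := by
    have := len_S_mul_ne (le_refl _) htE hs
    rwa [len_S_eq_one ht] at this
  have h0 : len P P.S (s * t) ≠ 0 := by
    intro h0
    have hT := (len_eq_zero_iff (htE.S_mul hs)).1 h0
    -- s * t ∈ T → s⁻¹ ~ t → s ~ t
    have hr : Rel P s⁻¹ t := by
      unfold Rel; rw [inv_inv]; exact hT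
    have hr2 : Rel P s t := (rel_inv_S hs).symm.trans hr
    exact hne (P.inj s hs t ht hr2.1)
  have h2 := len_S_mul_le hs htE
  rw [len_S_eq_one ht] at h2
  omega

theorem mem_of_dc_inter {M : Subgroup G} (hM : P.B ≤ M) {n g : G} (hg : g ∈ dc P n)
    (hgM : g ∈ M) : n ∈ M := by
  rw [mem_dc] at hg
  obtain ⟨b, hb, b', hb', rfl⟩ := hg
  have : n = b⁻¹ * (b * n * b') * b'⁻¹ := by group
  rw [this]
  exact M.mul_mem (M.mul_mem (M.inv_mem (hM hb)) hgM) (M.inv_mem (hM hb'))

/-- the commutation lemma for a normal subgroup `H`: elements of `S ∩ BH` commute modulo `B ⊓ N`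
with elements of `S \ BH`. -/
theorem comm_of_normal (H : Subgroup G) [H.Normal] {s s' : G} (hs : s ∈ P.S)
    (hsM : s ∈ P.B ⊔ H) (hs' : s' ∈ P.S) (hs'M : s' ∉ P.B ⊔ H) :
    s * s' * s⁻¹ * s'⁻¹ ∈ P.B := by
  set M := P.B ⊔ H with hMdef
  have hBM : P.B ≤ M := le_sup_left
  have hHM : H ≤ M := le_sup_right
  have hne : s ≠ s' := by
    rintro rfl; exact hs'M hsM
  -- s = b * h
  have hsM' : s ∈ ((P.B ⊔ H : Subgroup G) : Set G) := hsM
  rw [Subgroup.mul_normal] at hsM'
  obtain ⟨b, hb, h, hh, e⟩ := hsM'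
  simp only at e
  -- s' h s'⁻¹ ∈ H
  have hconj : s' * h * s'⁻¹ ∈ H := Subgroup.Normal.conj_mem inferInstance h hh s'
  obtain ⟨b0, hb0, hs'inv⟩ := S_inv P hs'
  have hh' : h = b⁻¹ * s := by rw [← e]; group
  have hss'N : s * s' ∈ P.N := P.N.mul_mem (P.subset hs) (P.subset hs')
  have hs's : len P P.S (s' * s) = 2 := len_S_mul_S_eq_two hs' hs (Ne.symm hne)
  have hss' : len P P.S (s * s') = 2 := len_S_mul_S_eq_two hs hs' hne
  -- s * s' * b0 ∈ dc (s * s')
  have h1 : s * s' * b0 ∈ dc P (s * s') := mem_dc_mul P hb0 (self_mem_dc P _)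
  have h2 := S_mul_mem P hs' hss'N (mul_mem_dc P (P.B.inv_mem hb) h1)
  have e2 : s' * (b⁻¹ * (s * s' * b0)) = s' * h * s'⁻¹ := by
    rw [hh', hs'inv]; group
  rw [e2] at h2
  have hw2 : WordFor P P.S [s, s'] (s * s') :=
    ⟨by intro x hx; simp at hx; rcases hx with rfl | rfl <;> assumption, by simpa using Rel.refl _⟩
  rcases h2 with h2 | h2
  · -- s' * (s * s') ∈ M
    have hn3 : s' * (s * s') ∈ M := mem_of_dc_inter hBM h2 (hHM hconj)
    have hw3 : WordFor P P.S [s', s, s'] (s' * (s * s')) := hw2.cons hs'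
    have hlen3 : len P P.S (s' * (s * s')) ≠ 3 := by
      intro h3
      have := letters_mem hBM 3 _ hn3 _ hw3 rfl h3 s' (by simp)
      exact hs'M this
    have hle3 := len_le hw3
    have hne3 := len_S_mul_ne (le_refl _) (expr_of_mem_N hss'N) hs'
    have hlt : len P P.S (s' * (s * s')) < len P P.S (s * s') := by
      simp at hle3
      omega
    have hC := cond_C hs' hs' (P.subset hs)
      (by rw [len_S_eq_one hs, hs's]; omega) hlt
    -- Rel (s' * s) (s * s')
    have hN : s' * s ∈ P.N := P.N.mul_mem (P.subset hs') (P.subset hs)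
    have := T_conj P hN hC
    have e3 : s' * s * ((s' * s)⁻¹ * (s * s')) * (s' * s)⁻¹ = s * s' * s⁻¹ * s'⁻¹ := by group
    rw [e3] at this
    exact this.1
  · -- s * s' ∈ M
    exfalso
    have hn2 : s * s' ∈ M := mem_of_dc_inter hBM h2 (hHM hconj)
    have := letters_mem hBM 2 _ hn2 _ hw2 rfl hss' s' (by simp)
    exact hs'M this

/-- Tits' simplicity criterion -/
theorem simple_of_irreducible [Nontrivial G] (hirr : P.Irreducible)
    (hsolv : Group.IsSolvable P.B) (hperf : commutator G = ⊤) (hcore : P.B.normalCore = ⊥) :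
    IsSimpleGroup G := by
  refine ⟨fun H hH => ?_⟩
  have := hH
  set M := P.B ⊔ H with hMdef
  have hBM : P.B ≤ M := le_sup_left
  have hHM : H ≤ M := le_sup_right
  have hpar := overgroup_eq_parabolic M hBM
  set X : Set G := {s | s ∈ P.S ∧ s ∈ M} with hX
  have hXS : X ⊆ P.S := fun s hs => hs.1
  by_cases hXne : X.Nonempty
  · by_cases hXc : (P.S \ X).Nonempty
    · exfalso
      obtain ⟨s, hs, s', hs', hnot⟩ := hirr X hXS hXne hXc
      apply hnot
      apply comm_of_normal H hs.1 hs.2 hs'.1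
      intro h
      exact hs'.2 ⟨hs'.1, h⟩
    · right
      rw [Set.not_nonempty_iff_eq_empty, Set.sdiff_eq_empty] at hXc
      have hXeq : X = P.S := Set.Subset.antisymm hXS hXc
      rw [hXeq, parabolic_S] at hpar
      -- B ⊔ H = ⊤, so G ⧸ H is solvable and perfect
      have hsurj : Function.Surjective ((QuotientGroup.mk' H).comp P.B.subtype) := by
        intro q
        obtain ⟨g, rfl⟩ := QuotientGroup.mk_surjective q
        have hg : g ∈ ((P.B ⊔ H : Subgroup G) : Set G) := by
          show g ∈ M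
          rw [hpar]; trivial
        rw [Subgroup.mul_normal] at hg
        obtain ⟨b, hb, h, hh, e⟩ := hg
        simp only at e
        refine ⟨⟨b, hb⟩, ?_⟩
        show (QuotientGroup.mk b : G ⧸ H) = QuotientGroup.mk g
        rw [QuotientGroup.eq]
        have : b⁻¹ * g = h := by rw [← e]; group
        rw [this]; exact hh
      have : Group.IsSolvable (G ⧸ H) := Group.isSolvable_of_surjective hsurj
      have hperfQ : commutator (G ⧸ H) = ⊤ := by
        rw [_root_.commutator_def, ← Subgroup.map_top_of_surjective (QuotientGroup.mk' H)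
          (QuotientGroup.mk'_surjective H), ← Subgroup.map_commutator, ← _root_.commutator_def,
          hperf]
      by_contra hHtop
      have : Nontrivial (G ⧸ H) := by
        rw [← not_subsingleton_iff_nontrivial]
        intro hsub
        apply hHtop
        exact QuotientGroup.subgroup_eq_top_of_subsingleton H hsub
      exact (Group.IsSolvable.commutator_lt_top_of_nontrivial (G ⧸ H)).ne hperfQ
  · left
    rw [Set.not_nonempty_iff_eq_empty] at hXne
    rw [hXne, parabolic_empty] at hpar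
    have hHB : H ≤ P.B := by rw [← hpar]; exact hHM
    have := Subgroup.normal_le_normalCore.2 hHB
    rw [hcore] at this
    exact le_bot_iff.1 this

end Cfsg.Agent.Helper6
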