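import Cfsg.Agent.Helper6.BN3

set_option autoImplicit false

namespace Cfsg.Agent.Helper6

open DoubleCoset

variable {G : Type*} [Group G] {P : Cfsg.BNPair G}

theorem rel_S_inv_mul {x y : G} (hx : x ∈ P.S) (hy : y ∈ P.N) : Rel P (x * y) (x⁻¹ * y) := by
  unfold Rel
  have : (x * y)⁻¹ * (x⁻¹ * y) = y⁻¹ * (x * x)⁻¹ * y := by group
  rw [this]
  exact T_conj' P hy ((P.B ⊓ P.N).inv_mem (sq_mem_T P hx))

theorem expr_of_mem_closure {J : Set G} (hJ : J ⊆ P.S) {m : G} (hm : m ∈ Subgroup.closure J) :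
    Expr P J m := by
  induction hm using Subgroup.closure_induction_left with
  | one => exact ⟨[], wordFor_nil_iff.2 (Subgroup.one_mem _)⟩
  | mul_left x hx y _ ih => exact ih.S_mul hx
  | inv_mul_cancel x hx y _ ih =>
    exact (ih.S_mul hx).congr (rel_S_inv_mul (hJ hx) (ih.mem_N hJ))

theorem WordFor.prod_mem_closure {J : Set G} {l : List G} {n : G} (h : WordFor P J l n) :
    l.prod ∈ Subgroup.closure J :=
  list_prod_mem (fun s hs => Subgroup.subset_closure (h.1 s hs))

theorem Expr.mem_parabolic {J : Set G} {n : G} (h : Expr P J n) : n ∈ P.parabolic J := by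
  obtain ⟨l, hl⟩ := h
  have : n = l.prod * (l.prod⁻¹ * n) := by group
  rw [this]
  exact (P.parabolic J).mul_mem (closure_le_parabolic P J hl.prod_mem_closure)
    (B_le_parabolic P J hl.2.1)

/-- `S ∩ P_J = J` -/
theorem S_mem_parabolic {J : Set G} (hJ : J ⊆ P.S) {s : G} (hs : s ∈ P.S)
    (h : s ∈ P.parabolic J) : s ∈ J := by
  obtain ⟨m, hm, hsm⟩ := (mem_parabolic_iff P hJ s).1 h
  have hmN : m ∈ P.N := closure_le_N P hJ hm
  have hrel : Rel P s m := rel_of_dc_eq (P.subset hs) hmN (dc_eq_of_mem P hsm)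
  have hE : Expr P J s := (expr_of_mem_closure hJ hm).congr hrel.symm
  have hlen : len P J s = 1 := by rw [len_eq_len_S' hJ hE, len_S_eq_one hs]
  obtain ⟨l, hl, hll⟩ := exists_reduced hE
  rw [hlen, List.length_eq_one_iff] at hll
  obtain ⟨j, rfl⟩ := hll
  have hj : j ∈ J := hl.1 j (by simp)
  have h2 := hl.2
  rw [List.prod_singleton] at h2
  have := P.inj j (hJ hj) s hs h2.1
  rw [← this]; exact hj

/-- letters of reduced words of elements of an overgroup `M` of `B` lie in `M` -/
theorem letters_mem {M : Subgroup G} (hM : P.B ≤ M) : ∀ (k : ℕ) (n : G), n ∈ M →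
    ∀ l : List G, WordFor P P.S l n → l.length = k → len P P.S n = k → ∀ s ∈ l, s ∈ M := by
  intro k
  induction k with
  | zero =>
    intro n _ l _ hlen _ s hs
    rw [List.length_eq_zero_iff] at hlen
    rw [hlen] at hs
    simp at hs
  | succ k ih =>
    intro n hnM l hl hlen hk
    cases l with
    | nil => simp at hlen
    | cons s l' =>
      have hs : s ∈ P.S := hl.1 s List.mem_cons_self
      have hn : Expr P P.S n := ⟨_, hl⟩
      have hnN : n ∈ P.N := hn.mem_N (le_refl _)
      have hl' : WordFor P P.S l' (s * n) := hl.tail (le_refl _)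
      have hlen' : l'.length = k := by simpa using hlen
      have hlen_n' : len P P.S (s * n) = k := by
        apply le_antisymm
        · have := len_le hl'; omega
        · have := len_le_S_mul (le_refl _) hs hn; omega
      obtain ⟨c, hc, hcn⟩ := key2 (le_refl _) hn hs (by omega)
      rw [mem_dc] at hcn
      obtain ⟨b', hb', b'', hb'', e⟩ := hcn
      have hsM : s ∈ M := by
        have : s = b' * n * b'' * n⁻¹ * c⁻¹ := by
          rw [← e]; group
        rw [this]
        exact M.mul_mem (M.mul_mem (M.mul_mem (M.mul_mem (hM hb') hnM) (hM hb'')) (M.inv_mem hnM))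
          (M.inv_mem (hM hc))
      have IH := ih (s * n) (M.mul_mem hsM hnM) l' hl' hlen' hlen_n'
      intro x hx
      rcases List.mem_cons.1 hx with rfl | hx
      · exact hsM
      · exact IH x hx

/-- every subgroup containing `B` is parabolic -/
theorem overgroup_eq_parabolic (M : Subgroup G) (hM : P.B ≤ M) :
    M = P.parabolic {s | s ∈ P.S ∧ s ∈ M} := by
  apply le_antisymm
  · intro g hg
    obtain ⟨n, hnN, hgn⟩ := bruhat_exists P g
    rw [mem_dc] at hgn
    obtain ⟨b, hb, b', hb', rfl⟩ := hgn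
    have hnM : n ∈ M := by
      have : n = b⁻¹ * (b * n * b') * b'⁻¹ := by group
      rw [this]
      exact M.mul_mem (M.mul_mem (M.inv_mem (hM hb)) hg) (M.inv_mem (hM hb'))
    obtain ⟨l, hl, hlen⟩ := exists_reduced (expr_of_mem_N hnN)
    have hlet := letters_mem hM _ n hnM l hl hlen rfl
    have hl2 : WordFor P {s | s ∈ P.S ∧ s ∈ M} l n := ⟨fun s hs => ⟨hl.1 s hs, hlet s hs⟩, hl.2⟩
    have hnP : n ∈ P.parabolic {s | s ∈ P.S ∧ s ∈ M} := Expr.mem_parabolic ⟨l, hl2⟩
    exact Subgroup.mul_mem _ (Subgroup.mul_mem _ (B_le_parabolic P _ hb) hnP) (B_le_parabolic P _ hb')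
  · unfold Cfsg.BNPair.parabolic
    rw [sup_le_iff, Subgroup.closure_le]
    exact ⟨hM, fun s hs => hs.2⟩

/-- `n ∈ ⟨B, n B n⁻¹⟩` -/
theorem mem_sup_conj : ∀ (k : ℕ) (n : G), n ∈ P.N → len P P.S n = k →
    n ∈ P.B ⊔ P.B.map (MulAut.conj n).toMonoidHom := by
  intro k
  induction k with
  | zero =>
    intro n hn hk
    have := (len_eq_zero_iff (expr_of_mem_N hn)).1 hk
    exact (le_sup_left : P.B ≤ _) this.1
  | succ k ih =>
    intro n hnN hk
    have hn : Expr P P.S n := expr_of_mem_N hnN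
    obtain ⟨l, hl, hlen⟩ := exists_reduced hn
    rw [hk] at hlen
    cases l with
    | nil => simp at hlen
    | cons s l' =>
      have hs : s ∈ P.S := hl.1 s List.mem_cons_self
      have hl' : WordFor P P.S l' (s * n) := hl.tail (le_refl _)
      have hlen' : l'.length = k := by simpa using hlen
      have hlen_n' : len P P.S (s * n) = k := by
        apply le_antisymm
        · have := len_le hl'; omega
        · have := len_le_S_mul (le_refl _) hs hn; omega
      obtain ⟨c, hc, hcn⟩ := key2 (le_refl _) hn hs (by omega)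
      rw [mem_dc] at hcn
      obtain ⟨b', hb', b'', hb'', e⟩ := hcn
      set H := P.B ⊔ P.B.map (MulAut.conj n).toMonoidHom with hH
      have hBH : P.B ≤ H := le_sup_left
      have hconj : ∀ b ∈ P.B, n * b * n⁻¹ ∈ H := by
        intro b hb
        apply (le_sup_right : P.B.map (MulAut.conj n).toMonoidHom ≤ H)
        exact ⟨b, hb, by simp⟩
      have hsH : s ∈ H := by
        have : s = b' * (n * b'' * n⁻¹) * c⁻¹ := by
          have : s = (s * c * n) * n⁻¹ * c⁻¹ := by group
          rw [this, e]; group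
        rw [this]
        exact H.mul_mem (H.mul_mem (hBH hb') (hconj b'' hb'')) (H.inv_mem (hBH hc))
      have IH := ih (s * n) (P.N.mul_mem (P.subset hs) hnN) hlen_n'
      have hle : P.B ⊔ P.B.map (MulAut.conj (s * n)).toMonoidHom ≤ H := by
        rw [sup_le_iff]
        refine ⟨hBH, ?_⟩
        rintro x ⟨b, hb, rfl⟩
        have : (MulAut.conj (s * n)).toMonoidHom b = s * (n * b * n⁻¹) * s⁻¹ := by
          simp [mul_assoc]
        rw [this]
        exact H.mul_mem (H.mul_mem hsH (hconj b hb)) (H.inv_mem hsH)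
      have h1 : s * n ∈ H := hle IH
      have : n = s⁻¹ * (s * n) := by group
      rw [this]
      exact H.mul_mem (H.inv_mem hsH) h1

theorem sup_closure_eq_sup_conj {n : G} (hn : n ∈ P.N) :
    P.B ⊔ Subgroup.closure {n} = P.B ⊔ P.B.map (MulAut.conj n).toMonoidHom := by
  apply le_antisymm
  · rw [sup_le_iff, Subgroup.closure_le, Set.singleton_subset_iff]
    exact ⟨le_sup_left, mem_sup_conj _ n hn rfl⟩
  · rw [sup_le_iff]
    refine ⟨le_sup_left, ?_⟩
    rintro x ⟨b, hb, rfl⟩
    have hnH : n ∈ P.B ⊔ Subgroup.closure {n} :=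
      (le_sup_right : Subgroup.closure {n} ≤ _) (Subgroup.subset_closure rfl)
    have hbH : b ∈ P.B ⊔ Subgroup.closure {n} := (le_sup_left : P.B ≤ _) hb
    have : (MulAut.conj n).toMonoidHom b = n * b * n⁻¹ := by simp
    rw [this]
    exact Subgroup.mul_mem _ (Subgroup.mul_mem _ hnH hbH) (Subgroup.inv_mem _ hnH)

/-- if `g P_J g⁻¹ ≤ M` for an overgroup `M` of `B` then `g ∈ M` -/
theorem mem_of_conj_le {J : Set G} {M : Subgroup G} (hM : P.B ≤ M) (g : G)
    (h : (P.parabolic J).map (MulAut.conj g).toMonoidHom ≤ M) : g ∈ M := by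
  obtain ⟨n, hnN, hgn⟩ := bruhat_exists P g
  rw [mem_dc] at hgn
  obtain ⟨b, hb, b', hb', rfl⟩ := hgn
  have hconj : ∀ x ∈ P.B, n * x * n⁻¹ ∈ M := by
    intro x hx
    have h1 : b'⁻¹ * x * b' ∈ P.parabolic J :=
      B_le_parabolic P J (P.B.mul_mem (P.B.mul_mem (P.B.inv_mem hb') hx) hb')
    have h2 : (MulAut.conj (b * n * b')).toMonoidHom (b'⁻¹ * x * b') ∈ M := h ⟨_, h1, rfl⟩
    have e : n * x * n⁻¹ = b⁻¹ * (MulAut.conj (b * n * b')).toMonoidHom (b'⁻¹ * x * b') * b := by
      simp only [MulEquiv.toMonoidHom_eq_coe, MonoidHom.coe_coe, MulAut.conj_apply]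
      group
    rw [e]
    exact M.mul_mem (M.mul_mem (M.inv_mem (hM hb)) h2) (hM hb)
  have hnM : n ∈ M := by
    have h1 := mem_sup_conj _ n hnN rfl
    have hle : P.B ⊔ P.B.map (MulAut.conj n).toMonoidHom ≤ M := by
      rw [sup_le_iff]
      refine ⟨hM, ?_⟩
      rintro x ⟨y, hy, rfl⟩
      have : (MulAut.conj n).toMonoidHom y = n * y * n⁻¹ := by simp
      rw [this]
      exact hconj y hy
    exact hle h1
  exact M.mul_mem (M.mul_mem (hM hb) hnM) (hM hb')

theorem normalizer_parabolic (J : Set G) :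
    Subgroup.normalizer (P.parabolic J : Set G) = P.parabolic J := by
  apply le_antisymm
  · intro g hg
    apply mem_of_conj_le (B_le_parabolic P J) g (J := J)
    rintro x ⟨y, hy, rfl⟩
    have := (Subgroup.mem_set_normalizer_iff.1 hg y).1 hy
    simpa using this
  · exact Subgroup.le_normalizer

theorem parabolic_eq_of_conj {J K : Set G} (g : G)
    (h : (P.parabolic J).map (MulAut.conj g).toMonoidHom = P.parabolic K) :
    P.parabolic J = P.parabolic K := by
  have hgK : g ∈ P.parabolic K := mem_of_conj_le (B_le_parabolic P K) g h.le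
  have hgJ : g⁻¹ ∈ P.parabolic J := by
    apply mem_of_conj_le (B_le_parabolic P J) g⁻¹ (J := K)
    rintro x ⟨y, hy, rfl⟩
    rw [← h] at hy
    obtain ⟨z, hz, rfl⟩ := hy
    have e : (MulAut.conj g⁻¹).toMonoidHom ((MulAut.conj g).toMonoidHom z) = z := by
      simp [mul_assoc]
    rw [e]; exact hz
  have hgJ' : g ∈ P.parabolic J := by simpa using (P.parabolic J).inv_mem hgJ
  apply le_antisymm
  · intro x hx
    have h1 : (MulAut.conj g).toMonoidHom x ∈ P.parabolic K := by
      rw [← h]; exact ⟨x, hx, rfl⟩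
    have e : x = g⁻¹ * (MulAut.conj g).toMonoidHom x * g := by simp [mul_assoc]
    rw [e]
    exact Subgroup.mul_mem _ (Subgroup.mul_mem _ (Subgroup.inv_mem _ hgK) h1) hgK
  · intro y hy
    rw [← h] at hy
    obtain ⟨x, hx, rfl⟩ := hy
    have : (MulAut.conj g).toMonoidHom x = g * x * g⁻¹ := by simp
    rw [this]
    exact Subgroup.mul_mem _ (Subgroup.mul_mem _ hgJ' hx) (Subgroup.inv_mem _ hgJ')

theorem parabolic_mono {J K : Set G} (h : J ⊆ K) : P.parabolic J ≤ P.parabolic K := by
  unfold Cfsg.BNPair.parabolic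
  exact sup_le_sup_left (Subgroup.closure_mono h) _

theorem parabolic_le_iff {J K : Set G} (hJ : J ⊆ P.S) (hK : K ⊆ P.S) :
    P.parabolic J ≤ P.parabolic K ↔ J ⊆ K := by
  constructor
  · intro h s hs
    exact S_mem_parabolic hK (hJ hs) (h (closure_le_parabolic P J (Subgroup.subset_closure hs)))
  · exact parabolic_mono

theorem parabolic_injective {J K : Set G} (hJ : J ⊆ P.S) (hK : K ⊆ P.S)
    (h : P.parabolic J = P.parabolic K) : J = K :=
  Set.Subset.antisymm ((parabolic_le_iff hJ hK).1 h.le) ((parabolic_le_iff hK hJ).1 h.ge)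

theorem parabolic_inf {J K : Set G} (hJ : J ⊆ P.S) (hK : K ⊆ P.S) :
    P.parabolic J ⊓ P.parabolic K = P.parabolic (J ∩ K) := by
  apply le_antisymm
  · intro g hg
    have hM : P.B ≤ P.parabolic J ⊓ P.parabolic K :=
      le_inf (B_le_parabolic P J) (B_le_parabolic P K)
    obtain ⟨n, hnN, hgn⟩ := bruhat_exists P g
    rw [mem_dc] at hgn
    obtain ⟨b, hb, b', hb', rfl⟩ := hgn
    have hnM : n ∈ P.parabolic J ⊓ P.parabolic K := by
      have : n = b⁻¹ * (b * n * b') * b'⁻¹ := by group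
      rw [this]
      exact Subgroup.mul_mem _ (Subgroup.mul_mem _ (Subgroup.inv_mem _ (hM hb)) hg)
        (Subgroup.inv_mem _ (hM hb'))
    obtain ⟨l, hl, hlen⟩ := exists_reduced (expr_of_mem_N hnN)
    have hlet := letters_mem hM _ n hnM l hl hlen rfl
    have hl2 : WordFor P (J ∩ K) l n :=
      ⟨fun s hs => ⟨S_mem_parabolic hJ (hl.1 s hs) (hlet s hs).1,
        S_mem_parabolic hK (hl.1 s hs) (hlet s hs).2⟩, hl.2⟩
    have hnP : n ∈ P.parabolic (J ∩ K) := Expr.mem_parabolic ⟨l, hl2⟩
    exact Subgroup.mul_mem _ (Subgroup.mul_mem _ (B_le_parabolic P _ hb) hnP) (B_le_parabolic P _ hb')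
  · exact le_inf (parabolic_mono Set.inter_subset_left) (parabolic_mono Set.inter_subset_right)

theorem S_not_mem_closure_rest {s : G} (hs : s ∈ P.S) :
    s ∉ Subgroup.closure (P.S \ {s}) ⊔ (P.B ⊓ P.N) := by
  intro h
  have hle : Subgroup.closure (P.S \ {s}) ⊔ (P.B ⊓ P.N) ≤ P.parabolic (P.S \ {s}) := by
    rw [sup_le_iff]
    exact ⟨closure_le_parabolic P _, inf_le_left.trans (B_le_parabolic P _)⟩
  have := S_mem_parabolic (J := P.S \ {s}) Set.sdiff_subset hs (hle h)
  exact this.2 rfl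

end Cfsg.Agent.Helper6
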