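import Mathlib
import Cfsg.Prelude.Def_LieExceptional

set_option autoImplicit false

namespace Cfsg.Agent.Helper6

open DoubleCoset

variable {G : Type*} [Group G] (P : Cfsg.BNPair G)

/-- the double coset `B n B` -/
abbrev dc (n : G) : Set G := doubleCoset n (P.B : Set G) P.B

theorem mem_dc {n g : G} : g ∈ dc P n ↔ ∃ b ∈ P.B, ∃ b' ∈ P.B, g = b * n * b' := by
  unfold dc
  rw [mem_doubleCoset]
  rfl

theorem self_mem_dc (n : G) : n ∈ dc P n := mem_doubleCoset_self P.B P.B n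

theorem dc_eq_of_mem {n g : G} (h : g ∈ dc P n) : dc P g = dc P n :=
  doubleCoset_eq_of_mem h

theorem mul_mem_dc {n g b : G} (hb : b ∈ P.B) (h : g ∈ dc P n) : b * g ∈ dc P n := by
  rw [mem_dc] at h ⊢
  obtain ⟨b1, hb1, b2, hb2, rfl⟩ := h
  exact ⟨b * b1, P.B.mul_mem hb hb1, b2, hb2, by group⟩

theorem mem_dc_mul {n g b : G} (hb : b ∈ P.B) (h : g ∈ dc P n) : g * b ∈ dc P n := by
  rw [mem_dc] at h ⊢
  obtain ⟨b1, hb1, b2, hb2, rfl⟩ := h
  exact ⟨b1, hb1, b2 * b, P.B.mul_mem hb2 hb, by group⟩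

theorem dc_one : dc P 1 = (P.B : Set G) := by
  ext g
  rw [mem_dc]
  constructor
  · rintro ⟨b, hb, b', hb', rfl⟩
    simpa using P.B.mul_mem hb hb'
  · intro hg
    exact ⟨g, hg, 1, P.B.one_mem, by simp⟩

theorem dc_eq_B {b : G} (hb : b ∈ P.B) : dc P b = (P.B : Set G) := by
  rw [← dc_one P]
  apply dc_eq_of_mem
  rw [dc_one]
  exact hb

theorem inv_mem_dc {n g : G} (h : g ∈ dc P n) : g⁻¹ ∈ dc P n⁻¹ := by
  rw [mem_dc] at h ⊢
  obtain ⟨b1, hb1, b2, hb2, rfl⟩ := h
  exact ⟨b2⁻¹, P.B.inv_mem hb2, b1⁻¹, P.B.inv_mem hb1, by group⟩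

/-- right multiplication by an element of `B` does not change the double coset -/
theorem dc_mul_right {n b : G} (hb : b ∈ P.B) : dc P (n * b) = dc P n :=
  dc_eq_of_mem P (mem_dc_mul P hb (self_mem_dc P n))

theorem dc_mul_left {n b : G} (hb : b ∈ P.B) : dc P (b * n) = dc P n :=
  dc_eq_of_mem P (mul_mem_dc P hb (self_mem_dc P n))

theorem S_mem_N {s : G} (hs : s ∈ P.S) : s ∈ P.N := P.subset hs

theorem S_inv {s : G} (hs : s ∈ P.S) : ∃ b ∈ P.B, s⁻¹ = s * b :=
  ⟨(s * s)⁻¹, P.B.inv_mem (P.sq_mem s hs), by group⟩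

theorem S_inv' {s : G} (hs : s ∈ P.S) : ∃ b ∈ P.B, s⁻¹ = b * s :=
  ⟨(s * s)⁻¹, P.B.inv_mem (P.sq_mem s hs), by group⟩

theorem sq_mem_T {s : G} (hs : s ∈ P.S) : s * s ∈ P.B ⊓ P.N :=
  ⟨P.sq_mem s hs, P.N.mul_mem (P.subset hs) (P.subset hs)⟩

/-- (BN1) -/
theorem S_mul_mem {s n g : G} (hs : s ∈ P.S) (hn : n ∈ P.N) (h : g ∈ dc P n) :
    s * g ∈ dc P (s * n) ∪ dc P n := by
  rw [mem_dc] at h
  obtain ⟨b1, hb1, b2, hb2, rfl⟩ := h
  have := P.mul_mem_union s hs n hn b1 hb1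
  rcases this with h | h
  · left
    have := mem_dc_mul P hb2 h
    simpa [mul_assoc] using this
  · right
    have := mem_dc_mul P hb2 h
    simpa [mul_assoc] using this

theorem S_inv_mul_mem {s n g : G} (hs : s ∈ P.S) (hn : n ∈ P.N) (h : g ∈ dc P n) :
    s⁻¹ * g ∈ dc P (s * n) ∪ dc P n := by
  obtain ⟨b, hb, hsb⟩ := S_inv P hs
  rw [hsb, mul_assoc]
  exact S_mul_mem P hs hn (mul_mem_dc P hb h)

theorem S_not_mem_B {s : G} (hs : s ∈ P.S) : s ∉ P.B := by
  intro hsB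
  apply P.conj_ne s hs
  ext g
  constructor
  · rintro ⟨b, hb, rfl⟩
    exact P.B.mul_mem (P.B.mul_mem hsB hb) hsB
  · intro hg
    refine ⟨s⁻¹ * g * s⁻¹, P.B.mul_mem (P.B.mul_mem (P.B.inv_mem hsB) hg) (P.B.inv_mem hsB), ?_⟩
    group

theorem closure_eq_top : Subgroup.closure ((P.B : Set G) ∪ P.S) = ⊤ := by
  rw [eq_top_iff, ← P.sup_eq_top, sup_le_iff]
  refine ⟨?_, ?_⟩
  · intro b hb
    exact Subgroup.subset_closure (Or.inl hb)
  · rw [← P.closure_sup, sup_le_iff]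
    refine ⟨?_, ?_⟩
    · apply Subgroup.closure_mono
      exact Set.subset_union_right
    · intro b hb
      exact Subgroup.subset_closure (Or.inl hb.1)

/-- Bruhat decomposition: existence -/
theorem bruhat_exists (g : G) : ∃ n ∈ P.N, g ∈ dc P n := by
  have hg : g ∈ Subgroup.closure ((P.B : Set G) ∪ P.S) := by
    rw [closure_eq_top]; trivial
  induction hg using Subgroup.closure_induction_left with
  | one => exact ⟨1, P.N.one_mem, by rw [dc_one]; exact P.B.one_mem⟩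
  | mul_left x hx y _ ih =>
    obtain ⟨n, hn, hy⟩ := ih
    rcases hx with hx | hx
    · exact ⟨n, hn, mul_mem_dc P hx hy⟩
    · rcases S_mul_mem P hx hn hy with h | h
      · exact ⟨x * n, P.N.mul_mem (P.subset hx) hn, h⟩
      · exact ⟨n, hn, h⟩
  | inv_mul_cancel x hx y _ ih =>
    obtain ⟨n, hn, hy⟩ := ih
    rcases hx with hx | hx
    · exact ⟨n, hn, mul_mem_dc P (P.B.inv_mem hx) hy⟩
    · rcases S_inv_mul_mem P hx hn hy with h | h
      · exact ⟨x * n, P.N.mul_mem (P.subset hx) hn, h⟩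
      · exact ⟨n, hn, h⟩

/-! ### words -/

theorem T_conj {n t : G} (hn : n ∈ P.N) (ht : t ∈ P.B ⊓ P.N) : n * t * n⁻¹ ∈ P.B ⊓ P.N :=
  ⟨P.conj_mem n hn t ht, P.N.mul_mem (P.N.mul_mem hn ht.2) (P.N.inv_mem hn)⟩

theorem T_conj' {n t : G} (hn : n ∈ P.N) (ht : t ∈ P.B ⊓ P.N) : n⁻¹ * t * n ∈ P.B ⊓ P.N := by
  have := T_conj P (P.N.inv_mem hn) ht
  simpa using this

theorem list_prod_mem_N {l : List G} (hl : ∀ s ∈ l, s ∈ P.S) : l.prod ∈ P.N :=
  list_prod_mem (fun s hs => P.subset (hl s hs))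

theorem closure_ST_eq_N : Subgroup.closure (P.S ∪ ((P.B ⊓ P.N : Subgroup G) : Set G)) = P.N := by
  rw [Subgroup.closure_union, Subgroup.closure_eq, P.closure_sup]

/-- every element of `N` is, modulo `B ⊓ N`, a product of elements of `S` -/
theorem exists_word {n : G} (hn : n ∈ P.N) :
    ∃ l : List G, (∀ s ∈ l, s ∈ P.S) ∧ l.prod⁻¹ * n ∈ P.B ⊓ P.N := by
  have hn' : n ∈ Subgroup.closure (P.S ∪ ((P.B ⊓ P.N : Subgroup G) : Set G)) := by
    rw [closure_ST_eq_N]; exact hn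
  clear hn
  induction hn' using Subgroup.closure_induction_left with
  | one => exact ⟨[], by simp, by simp⟩
  | mul_left x hx y _ ih =>
    obtain ⟨l, hl, hy⟩ := ih
    rcases hx with hx | hx
    · refine ⟨x :: l, ?_, ?_⟩
      · intro s hs
        rcases List.mem_cons.1 hs with rfl | hs
        · exact hx
        · exact hl s hs
      · have : (x :: l).prod⁻¹ * (x * y) = l.prod⁻¹ * y := by
          rw [List.prod_cons]; group
        rw [this]; exact hy
    · refine ⟨l, hl, ?_⟩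
      have : l.prod⁻¹ * (x * y) = (l.prod⁻¹ * x * l.prod) * (l.prod⁻¹ * y) := by group
      rw [this]
      exact (P.B ⊓ P.N).mul_mem (T_conj' P (list_prod_mem_N P hl) hx) hy
  | inv_mul_cancel x hx y _ ih =>
    obtain ⟨l, hl, hy⟩ := ih
    rcases hx with hx | hx
    · refine ⟨x :: l, ?_, ?_⟩
      · intro s hs
        rcases List.mem_cons.1 hs with rfl | hs
        · exact hx
        · exact hl s hs
      · have : (x :: l).prod⁻¹ * (x⁻¹ * y) = (l.prod⁻¹ * (x * x)⁻¹ * l.prod) * (l.prod⁻¹ * y) := by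
          rw [List.prod_cons]; group
        rw [this]
        exact (P.B ⊓ P.N).mul_mem
          (T_conj' P (list_prod_mem_N P hl) ((P.B ⊓ P.N).inv_mem (sq_mem_T P hx))) hy
    · refine ⟨l, hl, ?_⟩
      have : l.prod⁻¹ * (x⁻¹ * y) = (l.prod⁻¹ * x⁻¹ * l.prod) * (l.prod⁻¹ * y) := by group
      rw [this]
      exact (P.B ⊓ P.N).mul_mem
        (T_conj' P (list_prod_mem_N P hl) ((P.B ⊓ P.N).inv_mem hx)) hy

/-- Bruhat uniqueness, for words -/
theorem bruhat_unique_aux : ∀ l : List G, (∀ s ∈ l, s ∈ P.S) → ∀ n' ∈ P.N,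
    dc P l.prod = dc P n' → l.prod⁻¹ * n' ∈ P.B := by
  intro l
  induction l with
  | nil =>
    intro _ n' _ h
    have : n' ∈ dc P ([] : List G).prod := by rw [h]; exact self_mem_dc P n'
    rw [List.prod_nil, dc_one] at this
    simpa using this
  | cons s l ih =>
    intro hl n' hn' h
    have hs : s ∈ P.S := hl s (List.mem_cons_self)
    have hl' : ∀ x ∈ l, x ∈ P.S := fun x hx => hl x (List.mem_cons_of_mem _ hx)
    have hw : l.prod ∈ P.N := list_prod_mem_N P hl'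
    rw [List.prod_cons] at h ⊢
    -- l.prod = s⁻¹ * (s * l.prod) ∈ s⁻¹ * dc n'
    have h1 : s * l.prod ∈ dc P n' := by rw [← h]; exact self_mem_dc P _
    have h2 : s⁻¹ * (s * l.prod) ∈ dc P (s * n') ∪ dc P n' := S_inv_mul_mem P hs hn' h1
    rw [inv_mul_cancel_left] at h2
    rcases h2 with h2 | h2
    · -- l.prod ~ s n'
      have h3 := ih hl' (s * n') (P.N.mul_mem (P.subset hs) hn') (dc_eq_of_mem P h2)
      -- (s * l.prod)⁻¹ * n' = (l.prod⁻¹ * (s * n')) * (n'⁻¹ * (s*s)⁻¹ * n')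
      have : (s * l.prod)⁻¹ * n' = (l.prod⁻¹ * (s * n')) * (n'⁻¹ * (s * s)⁻¹ * n') := by group
      rw [this]
      exact P.B.mul_mem h3 (T_conj' P hn' ((P.B ⊓ P.N).inv_mem (sq_mem_T P hs))).1
    · -- l.prod ~ n', so dc l.prod = dc (s * l.prod)
      exfalso
      have h3 : dc P l.prod = dc P (s * l.prod) := by
        rw [h]; exact dc_eq_of_mem P h2
      have h4 := ih hl' (s * l.prod) (P.N.mul_mem (P.subset hs) hw) h3
      have h5 : l.prod⁻¹ * (s * l.prod) ∈ P.B ⊓ P.N :=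
        ⟨h4, P.N.mul_mem (P.N.inv_mem hw) (P.N.mul_mem (P.subset hs) hw)⟩
      have h6 := T_conj P hw h5
      have : l.prod * (l.prod⁻¹ * (s * l.prod)) * l.prod⁻¹ = s := by group
      rw [this] at h6
      exact S_not_mem_B P hs h6.1

/-- Bruhat uniqueness -/
theorem bruhat_unique {n n' : G} (hn : n ∈ P.N) (hn' : n' ∈ P.N) :
    dc P n = dc P n' ↔ n⁻¹ * n' ∈ P.B := by
  constructor
  · intro h
    obtain ⟨l, hl, hln⟩ := exists_word P hn
    -- n = l.prod * t
    have h1 : dc P l.prod = dc P n := by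
      have : n = l.prod * (l.prod⁻¹ * n) := by group
      rw [this, dc_mul_right P hln.1]
    have h2 := bruhat_unique_aux P l hl n' hn' (h1.trans h)
    have : n⁻¹ * n' = (l.prod⁻¹ * n)⁻¹ * (l.prod⁻¹ * n') := by group
    rw [this]
    exact P.B.mul_mem (P.B.inv_mem hln.1) h2
  · intro h
    have : n' = n * (n⁻¹ * n') := by group
    rw [this, dc_mul_right P h]

/-! ### parabolic subgroups -/

theorem parabolic_eq_closure (J : Set G) :
    P.parabolic J = Subgroup.closure ((P.B : Set G) ∪ J) := by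
  unfold Cfsg.BNPair.parabolic
  rw [Subgroup.closure_union, Subgroup.closure_eq]

theorem closure_le_N {J : Set G} (hJ : J ⊆ P.S) : Subgroup.closure J ≤ P.N := by
  rw [Subgroup.closure_le]
  exact fun s hs => P.subset (hJ hs)

theorem B_le_parabolic (J : Set G) : P.B ≤ P.parabolic J := le_sup_left

theorem closure_le_parabolic (J : Set G) : Subgroup.closure J ≤ P.parabolic J := le_sup_right

theorem dc_subset_parabolic {J : Set G} {n : G} (hn : n ∈ Subgroup.closure J) :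
    dc P n ⊆ P.parabolic J := by
  intro g hg
  rw [mem_dc] at hg
  obtain ⟨b, hb, b', hb', rfl⟩ := hg
  exact (P.parabolic J).mul_mem ((P.parabolic J).mul_mem (B_le_parabolic P J hb)
    (closure_le_parabolic P J hn)) (B_le_parabolic P J hb')

/-- `P_J = B W_J B` -/
theorem mem_parabolic_iff {J : Set G} (hJ : J ⊆ P.S) (g : G) :
    g ∈ P.parabolic J ↔ ∃ n ∈ Subgroup.closure J, g ∈ dc P n := by
  constructor
  · intro hg
    rw [parabolic_eq_closure] at hg
    induction hg using Subgroup.closure_induction_left with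
    | one => exact ⟨1, Subgroup.one_mem _, by rw [dc_one]; exact P.B.one_mem⟩
    | mul_left x hx y _ ih =>
      obtain ⟨n, hn, hy⟩ := ih
      rcases hx with hx | hx
      · exact ⟨n, hn, mul_mem_dc P hx hy⟩
      · rcases S_mul_mem P (hJ hx) (closure_le_N P hJ hn) hy with h | h
        · exact ⟨x * n, Subgroup.mul_mem _ (Subgroup.subset_closure hx) hn, h⟩
        · exact ⟨n, hn, h⟩
    | inv_mul_cancel x hx y _ ih =>
      obtain ⟨n, hn, hy⟩ := ih
      rcases hx with hx | hx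
      · exact ⟨n, hn, mul_mem_dc P (P.B.inv_mem hx) hy⟩
      · rcases S_inv_mul_mem P (hJ hx) (closure_le_N P hJ hn) hy with h | h
        · exact ⟨x * n, Subgroup.mul_mem _ (Subgroup.subset_closure hx) hn, h⟩
        · exact ⟨n, hn, h⟩
  · rintro ⟨n, hn, hg⟩
    exact dc_subset_parabolic P hn hg

end Cfsg.Agent.Helper6
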