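import Cfsg.Agent.Helper13.Symp

/-!
# The Weil representation of `Sp_{2n}(q)`, `q` odd: definitions

The Schrödinger model: the Heisenberg operators `heis ψ v` (`v ∈ F^{2n}`) on the space of the
complex functions on `F^n`, the parity operator, the odd functions, and the group of the pairs
`(g, T)` with `g ∈ Sp_{2n}(F)` and `T` an invertible operator with
`T ∘ heis ψ v = heis ψ (g v) ∘ T` for all `v`.
-/

set_option autoImplicit false

namespace Cfsg.Agent.Helper6.SPweil

open Matrix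

variable {F : Type*} [Field F] {n : ℕ}

/-- the first half of the coordinates -/
def vx (v : Fin n ⊕ Fin n → F) : Fin n → F := fun i => v (Sum.inl i)

/-- the second half of the coordinates -/
def vy (v : Fin n ⊕ Fin n → F) : Fin n → F := fun i => v (Sum.inr i)

theorem vx_add (v w : Fin n ⊕ Fin n → F) : vx (v + w) = vx v + vx w := rfl

theorem vy_add (v w : Fin n ⊕ Fin n → F) : vy (v + w) = vy v + vy w := rfl

theorem vx_zero : vx (0 : Fin n ⊕ Fin n → F) = 0 := rfl

theorem vy_zero : vy (0 : Fin n ⊕ Fin n → F) = 0 := rfl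

theorem vx_neg (v : Fin n ⊕ Fin n → F) : vx (-v) = -vx v := rfl

theorem vy_neg (v : Fin n ⊕ Fin n → F) : vy (-v) = -vy v := rfl

theorem vx_smul (a : F) (v : Fin n ⊕ Fin n → F) : vx (a • v) = a • vx v := rfl

theorem vy_smul (a : F) (v : Fin n ⊕ Fin n → F) : vy (a • v) = a • vy v := rfl

/-- the alternating form in terms of the two halves -/
theorem sympForm_eq_vx_vy (v w : Fin n ⊕ Fin n → F) :
    Cfsg.sympForm n F v w = vy v ⬝ᵥ vx w - vx v ⬝ᵥ vy w := by
  rw [Cfsg.Agent.Helper13.sympForm_eq_sum]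
  simp only [dotProduct, vx, vy]
  rw [← Finset.sum_sub_distrib]

/-- the Heisenberg operator of `v = (x, y)`: `f ↦ (z ↦ ψ (x · z + x · y / 2) f (z + y))` -/
noncomputable def heis (ψ : AddChar F ℂ) (v : Fin n ⊕ Fin n → F) :
    Module.End ℂ ((Fin n → F) → ℂ) where
  toFun f := fun z => ψ (vx v ⬝ᵥ z + 2⁻¹ * (vx v ⬝ᵥ vy v)) * f (z + vy v)
  map_add' := by
    intro f g
    funext z
    simp only [Pi.add_apply]
    ring
  map_smul' := by
    intro a f
    funext z
    simp only [Pi.smul_apply, smul_eq_mul, RingHom.id_apply]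
    ring

theorem heis_apply (ψ : AddChar F ℂ) (v : Fin n ⊕ Fin n → F) (f : (Fin n → F) → ℂ)
    (z : Fin n → F) :
    heis ψ v f z = ψ (vx v ⬝ᵥ z + 2⁻¹ * (vx v ⬝ᵥ vy v)) * f (z + vy v) := rfl

/-- the parity operator `f ↦ (z ↦ f (-z))` -/
def par : Module.End ℂ ((Fin n → F) → ℂ) where
  toFun f := fun z => f (-z)
  map_add' := by
    intro f g
    rfl
  map_smul' := by
    intro a f
    rfl

theorem par_apply (f : (Fin n → F) → ℂ) (z : Fin n → F) : par f z = f (-z) := rfl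

/-- the odd functions -/
def oddPart (F : Type*) [Field F] (n : ℕ) : Submodule ℂ ((Fin n → F) → ℂ) where
  carrier := {f | ∀ z, f (-z) = -f z}
  add_mem' := by
    intro f g hf hg z
    simp only [Pi.add_apply, hf z, hg z]
    ring
  zero_mem' := by
    intro z
    simp
  smul_mem' := by
    intro a f hf z
    simp only [Pi.smul_apply, hf z, smul_eq_mul]
    ring

/-- the even functions -/
def evenPart (F : Type*) [Field F] (n : ℕ) : Submodule ℂ ((Fin n → F) → ℂ) where
  carrier := {f | ∀ z, f (-z) = f z}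
  add_mem' := by
    intro f g hf hg z
    simp only [Pi.add_apply, hf z, hg z]
  zero_mem' := by
    intro z
    simp
  smul_mem' := by
    intro a f hf z
    simp only [Pi.smul_apply, hf z]

theorem mem_oddPart (f : (Fin n → F) → ℂ) : f ∈ oddPart F n ↔ ∀ z, f (-z) = -f z := Iff.rfl

theorem mem_evenPart (f : (Fin n → F) → ℂ) : f ∈ evenPart F n ↔ ∀ z, f (-z) = f z := Iff.rfl

/-- `T` intertwines the Heisenberg operators with their twist by `g` -/
def Intertwines (ψ : AddChar F ℂ) (g : Matrix.symplecticGroup (Fin n) F)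
    (T : ((Fin n → F) → ℂ) ≃ₗ[ℂ] ((Fin n → F) → ℂ)) : Prop :=
  ∀ (v : Fin n ⊕ Fin n → F) (f : (Fin n → F) → ℂ),
    T (heis ψ v f) = heis ψ ((g : Matrix (Fin n ⊕ Fin n) (Fin n ⊕ Fin n) F) *ᵥ v) (T f)

/-- the group of the pairs `(g, T)` with `T` intertwining for `g` -/
def weilGrp (ψ : AddChar F ℂ) :
    Subgroup (Matrix.symplecticGroup (Fin n) F ×
      (((Fin n → F) → ℂ) ≃ₗ[ℂ] ((Fin n → F) → ℂ))) where
  carrier := {p | Intertwines ψ p.1 p.2}
  mul_mem' := by
    rintro ⟨g, T⟩ ⟨g', T'⟩ h h' v f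
    show T (T' (heis ψ v f)) = heis ψ (((g * g' : Matrix.symplecticGroup (Fin n) F) :
      Matrix (Fin n ⊕ Fin n) (Fin n ⊕ Fin n) F) *ᵥ v) (T (T' f))
    rw [h' v f, h _ (T' f)]
    congr 2
    rw [Matrix.mulVec_mulVec]
    rfl
  one_mem' := by
    intro v f
    show heis ψ v f = heis ψ (((1 : Matrix.symplecticGroup (Fin n) F) :
      Matrix (Fin n ⊕ Fin n) (Fin n ⊕ Fin n) F) *ᵥ v) f
    congr 2
    show v = (1 : Matrix (Fin n ⊕ Fin n) (Fin n ⊕ Fin n) F) *ᵥ v
    rw [Matrix.one_mulVec]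
  inv_mem' := by
    rintro ⟨g, T⟩ h v f
    show T.symm (heis ψ v f) = heis ψ (((g⁻¹ : Matrix.symplecticGroup (Fin n) F) :
      Matrix (Fin n ⊕ Fin n) (Fin n ⊕ Fin n) F) *ᵥ v) (T.symm f)
    apply T.injective
    rw [LinearEquiv.apply_symm_apply, h _ (T.symm f), LinearEquiv.apply_symm_apply]
    congr 2
    rw [Matrix.mulVec_mulVec]
    have : ((g : Matrix (Fin n ⊕ Fin n) (Fin n ⊕ Fin n) F) *
        ((g⁻¹ : Matrix.symplecticGroup (Fin n) F) :
          Matrix (Fin n ⊕ Fin n) (Fin n ⊕ Fin n) F)) = 1 := by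
      have := congrArg (fun a : Matrix.symplecticGroup (Fin n) F =>
        (a : Matrix (Fin n ⊕ Fin n) (Fin n ⊕ Fin n) F)) (mul_inv_cancel g)
      exact this
    rw [this, Matrix.one_mulVec]

theorem mem_weilGrp (ψ : AddChar F ℂ)
    (p : Matrix.symplecticGroup (Fin n) F ×
      (((Fin n → F) → ℂ) ≃ₗ[ℂ] ((Fin n → F) → ℂ))) :
    p ∈ weilGrp ψ ↔ Intertwines ψ p.1 p.2 := Iff.rfl

end Cfsg.Agent.Helper6.SPweil
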