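import Cfsg.Agent.Helper6.Sz5

/-!
# The torus of the Suzuki group
-/

set_option autoImplicit false

namespace Cfsg.Agent.Helper6

open scoped Pointwise

variable {F : Type*} [Field F] [Fintype F] {m : ℕ}

omit [Fintype F] in
theorem dMat_mul (r : ℕ) (t t' : F) : dMat r (t * t') = dMat r t * dMat r t' := by
  unfold dMat
  rw [Matrix.diagonal_mul_diagonal]
  congr 1
  ext i
  fin_cases i <;> simp [mul_pow, mul_comm]

theorem szD_mul (t t' : Fˣ) : szD F m (t * t') = szD F m t * szD F m t' := by
  apply Subtype.ext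
  show dMat (2 ^ m) ((t * t' : Fˣ) : F) = dMat (2 ^ m) (t : F) * dMat (2 ^ m) (t' : F)
  rw [Units.val_mul, dMat_mul]

theorem szD_one : szD F m 1 = 1 := by
  apply Subtype.ext
  show dMat (2 ^ m) ((1 : Fˣ) : F) = 1
  unfold dMat
  rw [← Matrix.diagonal_one]
  congr 1
  ext i
  fin_cases i <;> simp

/-- the torus as a homomorphism -/
noncomputable def szDHom (F : Type*) [Field F] [Fintype F] (m : ℕ) :
    Fˣ →* Matrix.SpecialLinearGroup (Fin 4) F where
  toFun := szD F m
  map_one' := szD_one
  map_mul' := szD_mul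

theorem szD_injective : Function.Injective (szD F m) := by
  intro t t' h
  have hM : dMat (2 ^ m) (t : F) = dMat (2 ^ m) (t' : F) := congrArg Subtype.val h
  have h0 : (t : F) ^ (2 ^ m + 1) = (t' : F) ^ (2 ^ m + 1) := by
    have := congrFun (congrFun hM 0) 0
    simpa [dMat] using this
  have h1 : (t : F) ^ (2 ^ m) = (t' : F) ^ (2 ^ m) := by
    have := congrFun (congrFun hM 1) 1
    simpa [dMat] using this
  rw [pow_succ, pow_succ, h1] at h0
  have hne : (t' : F) ^ (2 ^ m) ≠ 0 := pow_ne_zero _ t'.ne_zero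
  exact Units.ext (mul_left_cancel₀ hne h0)

theorem szD_smul_zero (hF : Fintype.card F = 2 ^ (2 * m + 1)) (t : Fˣ) :
    szD F m t • ovPt F m (some (0, 0)) = ovPt F m (some (0, 0)) := by
  rw [szD_smul_some hF]
  simp

/-- The stabiliser in the Suzuki group of the two base points is isomorphic to `Fˣ`. -/
theorem two_point_stab_equiv (hm : 1 ≤ m) (hF : Fintype.card F = 2 ^ (2 * m + 1)) :
    Nonempty (↥(MulAction.stabilizer (Cfsg.Sz F m) (Cfsg.suzukiPointInfinity F) ⊓
        MulAction.stabilizer (Cfsg.Sz F m) (Cfsg.suzukiPointZero F)) ≃* Fˣ) := by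
  set K := MulAction.stabilizer (Cfsg.Sz F m) (Cfsg.suzukiPointInfinity F) ⊓
        MulAction.stabilizer (Cfsg.Sz F m) (Cfsg.suzukiPointZero F) with hK
  have hmemK : ∀ t : Fˣ, (⟨szD F m t, szD_mem hF t⟩ : Cfsg.Sz F m) ∈ K := by
    intro t
    rw [hK, Subgroup.mem_inf, MulAction.mem_stabilizer_iff, MulAction.mem_stabilizer_iff]
    constructor
    · rw [← ovPt_none (m := m)]
      exact szD_smul_none t
    · rw [← ovPt_zero (m := m)]
      exact szD_smul_zero hF t
  let φ : Fˣ →* K :=
    { toFun := fun t => ⟨⟨szD F m t, szD_mem hF t⟩, hmemK t⟩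
      map_one' := by
        apply Subtype.ext; apply Subtype.ext
        exact szD_one
      map_mul' := by
        intro t t'
        apply Subtype.ext; apply Subtype.ext
        exact szD_mul t t' }
  have hinj : Function.Injective φ := by
    intro t t' h
    apply szD_injective (m := m)
    exact congrArg (fun k : K => ((k : Cfsg.Sz F m) : Matrix.SpecialLinearGroup (Fin 4) F)) h
  have hsurj : Function.Surjective φ := by
    rintro ⟨⟨g, hg⟩, hk⟩
    rw [hK, Subgroup.mem_inf, MulAction.mem_stabilizer_iff, MulAction.mem_stabilizer_iff] at hk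
    obtain ⟨k1, k2⟩ := hk
    rw [← ovPt_none (m := m)] at k1
    rw [← ovPt_zero (m := m)] at k2
    obtain ⟨t, ht⟩ := two_point_stab hm hF hg k1 k2
    refine ⟨t, ?_⟩
    apply Subtype.ext; apply Subtype.ext
    exact ht.symm
  exact ⟨(MulEquiv.ofBijective φ ⟨hinj, hsurj⟩).symm⟩

end Cfsg.Agent.Helper6
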