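import Mathlib

/-!
# Fourier projections for a finite abelian group acting on a complex vector space

Definitions used in the proof of S2343 (minimal degree of a non-trivial irreducible complex
representation of the small Ree groups).
-/

set_option autoImplicit false

namespace Cfsg.Agent.Helper6.ReeH

open scoped BigOperators

/-- Fourier projection attached to the `p`-th character of the family `χ`:
`|A|⁻¹ ∑ₓ χ_p(-x) s(x)`. -/
noncomputable def fproj {A ι M : Type*} [AddCommGroup A] [Fintype A] [Ring M] [Algebra ℂ M]
    (χ : ι → AddChar A ℂ) (s : A → M) (p : ι) : M :=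
  (Fintype.card A : ℂ)⁻¹ • ∑ x : A, χ p (-x) • s x

/-- the character `(u, v) ↦ ψ (a u + b v)` of `K × K`, for `p = (a, b)`. -/
noncomputable def chi2 {K : Type*} [Field K] (ψ : AddChar K ℂ) (p : K × K) : AddChar (K × K) ℂ :=
  (ψ.mulShift p.1).compAddMonoidHom (AddMonoidHom.fst K K) *
    (ψ.mulShift p.2).compAddMonoidHom (AddMonoidHom.snd K K)

end Cfsg.Agent.Helper6.ReeH
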