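import Cfsg.Agent.Helper6.SUrep1
import Cfsg.Agent.Helper6.ReeH1

/-!
# Landazuri–Seitz bounds for the unitary groups: more definitions

Multiplication of the skew elements by an element of the fixed field, and the Fourier projections
of a family of operators indexed by a finite abelian group.
-/

set_option autoImplicit false

namespace Cfsg.Agent.Helper6.SUrep

open Matrix Cfsg.Agent.Helper13 Cfsg.Agent.Helper6.ReeH

variable {F : Type*} [Field F] [Fintype F] {q n : ℕ}

/-- multiplication by an element of the fixed field on the skew elements -/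
def mulS (hF : Fintype.card F = q ^ 2) (κ : F) (hκ : κ ^ q = κ) : skewS hF →+ skewS hF where
  toFun c := ⟨κ * c.1, by
    have hc : c.1 + c.1 ^ q = 0 := c.2
    show κ * c.1 + (κ * c.1) ^ q = 0
    rw [mul_pow, hκ]
    linear_combination κ * hc⟩
  map_zero' := by
    apply Subtype.ext
    show κ * (0 : F) = 0
    rw [mul_zero]
  map_add' := by
    intro a b
    apply Subtype.ext
    show κ * (a.1 + b.1) = κ * a.1 + κ * b.1
    rw [mul_add]

theorem mulS_coe (hF : Fintype.card F = q ^ 2) (κ : F) (hκ : κ ^ q = κ) (c : skewS hF) :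
    ((mulS hF κ hκ c : skewS hF) : F) = κ * c.1 := rfl

/-- multiplication by a non-zero element of the fixed field, as an additive equivalence of the
skew elements -/
def mulSEquiv (hF : Fintype.card F = q ^ 2) (κ : F) (hκ : κ ^ q = κ) (hκ0 : κ ≠ 0) :
    skewS hF ≃+ skewS hF where
  toFun := mulS hF κ hκ
  invFun := mulS hF κ⁻¹ (by rw [inv_pow, hκ])
  left_inv := by
    intro c
    apply Subtype.ext
    rw [mulS_coe, mulS_coe, ← mul_assoc, inv_mul_cancel₀ hκ0, one_mul]
  right_inv := by
    intro c
    apply Subtype.ext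
    rw [mulS_coe, mulS_coe, ← mul_assoc, mul_inv_cancel₀ hκ0, one_mul]
  map_add' := (mulS hF κ hκ).map_add

theorem mulSEquiv_coe (hF : Fintype.card F = q ^ 2) (κ : F) (hκ : κ ^ q = κ) (hκ0 : κ ≠ 0)
    (c : skewS hF) : ((mulSEquiv hF κ hκ hκ0 c : skewS hF) : F) = κ * c.1 := rfl

noncomputable instance (hF : Fintype.card F = q ^ 2) : Fintype (skewS hF) := Fintype.ofFinite _

section generic

variable {S : Type*} [AddCommGroup S] [Fintype S] {M : Type*} [AddCommGroup M] [Module ℂ M]

/-- the Fourier projection attached to the character `ψ` of `S`, for a family of operators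
`s : S → End M` -/
noncomputable def fpr (s : S → Module.End ℂ M) (ψ : AddChar S ℂ) : Module.End ℂ M :=
  fproj (fun ψ : AddChar S ℂ => ψ) s ψ

end generic

end Cfsg.Agent.Helper6.SUrep
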