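import Mathlib
import Cfsg.Agent.Helper19.SU3.Sylow
import Cfsg.Agent.Helper19.SU3.Aut3
import Cfsg.Agent.Helper19.SU3.Field

set_option autoImplicit false
set_option linter.unusedSectionVars false

/-!
Automorphisms of the Sylow 2-subgroup `Heis bar` of `SU₃(2ⁿ)`: definitions.

* `ind ψ : F → F`, the map induced by `ψ` on the `a`-coordinate (i.e. on `S / Z(S)`);
* `indHom : MulAut (Heis bar) →* Equiv.Perm F`;
* `cen γ hγ`, the central automorphism `(a, b) ↦ (a, b + γ a)`;
* `semi l σ hσ`, the semilinear automorphism `(a, b) ↦ (l σ(a), l \bar l σ(b))`.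
-/

namespace Cfsg.Agent.Helper6.SUaut

open Cfsg.Agent.Helper19.SU3

variable {F : Type*} [Field F] {bar : F →+* F} [BarField F bar]

/-- the norm -/
abbrev nm (bar : F →+* F) (a : F) : F := a * bar a

/-- the map induced on the `a`-coordinate by an automorphism (junk value `0` if there is no
element with this `a`-coordinate, which does not happen when the trace is onto) -/
noncomputable def ind (ψ : MulAut (Heis bar)) (a : F) : F :=
  open Classical in if h : ∃ x : Heis bar, x.a = a then (ψ h.choose).a else 0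

section
variable [Fintype F] (hω : ∃ ω : F, bar ω ≠ ω) (hTr : ∀ c : F, bar c = c → ∃ b, b + bar b = c)
include hω hTr

theorem ind_apply (ψ : MulAut (Heis bar)) (x : Heis bar) : (ψ x).a = ind ψ x.a := by
  obtain ⟨A, hA⟩ := Heis.exists_induced hω hTr ψ
  have hex : ∃ y : Heis bar, y.a = x.a := ⟨x, rfl⟩
  unfold ind
  rw [dif_pos hex, hA, hA, hex.choose_spec]

theorem ind_one (a : F) : ind (1 : MulAut (Heis bar)) a = a := by
  obtain ⟨x, hx⟩ := Heis.exists_a (bar := bar) hTr a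
  rw [← hx, ← ind_apply hω hTr]
  rfl

theorem ind_mul (ψ ψ' : MulAut (Heis bar)) (a : F) : ind (ψ * ψ') a = ind ψ (ind ψ' a) := by
  obtain ⟨x, hx⟩ := Heis.exists_a (bar := bar) hTr a
  rw [← hx, ← ind_apply hω hTr, ← ind_apply hω hTr, ← ind_apply hω hTr]
  rfl

theorem ind_add (ψ : MulAut (Heis bar)) (a a' : F) : ind ψ (a + a') = ind ψ a + ind ψ a' := by
  obtain ⟨x, hx⟩ := Heis.exists_a (bar := bar) hTr a
  obtain ⟨y, hy⟩ := Heis.exists_a (bar := bar) hTr a'
  have h : (x * y).a = a + a' := by rw [Heis.mul_a, hx, hy]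
  rw [← h, ← ind_apply hω hTr, map_mul, Heis.mul_a, ind_apply hω hTr, ind_apply hω hTr, hx, hy]

theorem ind_zero (ψ : MulAut (Heis bar)) : ind ψ 0 = 0 := by
  have h := ind_add hω hTr ψ 0 0
  rw [add_zero] at h
  exact left_eq_add.mp h

/-- the action of `Aut S` on `S / Z(S) = (F, +)` -/
noncomputable def indHom : MulAut (Heis bar) →* Equiv.Perm F where
  toFun ψ :=
    { toFun := ind ψ
      invFun := ind ψ⁻¹
      left_inv := fun a => by rw [← ind_mul hω hTr, inv_mul_cancel, ind_one hω hTr]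
      right_inv := fun a => by rw [← ind_mul hω hTr, mul_inv_cancel, ind_one hω hTr] }
  map_one' := by
    ext a
    exact ind_one hω hTr a
  map_mul' ψ ψ' := by
    ext a
    exact ind_mul hω hTr ψ ψ' a

@[simp] theorem indHom_apply (ψ : MulAut (Heis bar)) (a : F) : indHom hω hTr ψ a = ind ψ a := rfl

theorem mem_ker_indHom (ψ : MulAut (Heis bar)) :
    ψ ∈ (indHom hω hTr).ker ↔ ∀ x : Heis bar, (ψ x).a = x.a := by
  rw [MonoidHom.mem_ker]
  constructor
  · intro h x
    rw [ind_apply hω hTr, ← indHom_apply hω hTr, h]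
    rfl
  · intro h
    ext a
    obtain ⟨x, hx⟩ := Heis.exists_a (bar := bar) hTr a
    rw [indHom_apply, ← hx, ← ind_apply hω hTr, h]
    rfl

end

/-- the central automorphism `(a, b) ↦ (a, b + γ a)` -/
def cenFun (γ : F →+ F) (hγ : ∀ a, bar (γ a) = γ a) (x : Heis bar) : Heis bar :=
  ⟨x.a, x.b + γ x.a, by
    rw [map_add, hγ]
    linear_combination x.h + Heis.char2 bar (γ x.a)⟩

@[simp] theorem cenFun_a (γ : F →+ F) (hγ : ∀ a, bar (γ a) = γ a) (x : Heis bar) :
    (cenFun γ hγ x).a = x.a := rfl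

@[simp] theorem cenFun_b (γ : F →+ F) (hγ : ∀ a, bar (γ a) = γ a) (x : Heis bar) :
    (cenFun γ hγ x).b = x.b + γ x.a := rfl

/-- the central automorphism attached to `γ : F →+ F₀` -/
def cen (γ : F →+ F) (hγ : ∀ a, bar (γ a) = γ a) : MulAut (Heis bar) where
  toFun := cenFun γ hγ
  invFun := cenFun γ hγ
  left_inv x := by
    ext
    · simp
    · simp only [cenFun_b, cenFun_a]
      linear_combination Heis.char2 bar (γ x.a)
  right_inv x := by
    ext
    · simp
    · simp only [cenFun_b, cenFun_a]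
      linear_combination Heis.char2 bar (γ x.a)
  map_mul' x y := by
    ext
    · simp
    · simp only [cenFun_b, cenFun_a, Heis.mul_b, Heis.mul_a, map_add]
      ring

@[simp] theorem cen_apply_a (γ : F →+ F) (hγ : ∀ a, bar (γ a) = γ a) (x : Heis bar) :
    (cen γ hγ x).a = x.a := rfl

@[simp] theorem cen_apply_b (γ : F →+ F) (hγ : ∀ a, bar (γ a) = γ a) (x : Heis bar) :
    (cen γ hγ x).b = x.b + γ x.a := rfl

/-- the semilinear map `(a, b) ↦ (l σ(a), l \bar l σ(b))` -/
def semiFun (l : F) (σ : F →+* F) (hσ : ∀ x, σ (bar x) = bar (σ x)) (x : Heis bar) : Heis bar :=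
  ⟨l * σ x.a, l * bar l * σ x.b, by
    have h := congrArg σ x.h
    rw [map_add, map_mul, hσ, hσ] at h
    rw [map_mul, map_mul, map_mul, Heis.bb (bar := bar)]
    linear_combination (l * bar l) * h⟩

@[simp] theorem semiFun_a (l : F) (σ : F →+* F) (hσ : ∀ x, σ (bar x) = bar (σ x)) (x : Heis bar) :
    (semiFun l σ hσ x).a = l * σ x.a := rfl

@[simp] theorem semiFun_b (l : F) (σ : F →+* F) (hσ : ∀ x, σ (bar x) = bar (σ x)) (x : Heis bar) :
    (semiFun l σ hσ x).b = l * bar l * σ x.b := rfl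

theorem semiFun_mul (l : F) (σ : F →+* F) (hσ : ∀ x, σ (bar x) = bar (σ x)) (x y : Heis bar) :
    semiFun l σ hσ (x * y) = semiFun l σ hσ x * semiFun l σ hσ y := by
  ext
  · simp only [semiFun_a, Heis.mul_a, map_add]
    ring
  · simp only [semiFun_b, semiFun_a, Heis.mul_b, map_add, map_mul, hσ]
    ring

theorem symm_bar (σ : F ≃+* F) (hσ : ∀ x, σ (bar x) = bar (σ x)) (x : F) :
    σ.symm (bar x) = bar (σ.symm x) := by
  apply σ.injective
  rw [hσ, σ.apply_symm_apply, σ.apply_symm_apply]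

/-- the semilinear automorphism `(a, b) ↦ (l σ(a), l \bar l σ(b))`, `l ≠ 0` -/
def semi (l : Fˣ) (σ : F ≃+* F) (hσ : ∀ x, σ (bar x) = bar (σ x)) : MulAut (Heis bar) where
  toFun := semiFun (l : F) (σ : F →+* F) hσ
  invFun := semiFun (σ.symm ((l⁻¹ : Fˣ) : F)) (σ.symm : F →+* F) (symm_bar σ hσ)
  left_inv x := by
    have h1 : σ.symm ((l⁻¹ : Fˣ) : F) * σ.symm (l : F) = 1 := by
      rw [← map_mul, Units.inv_mul, map_one]
    have h2 : bar (σ.symm ((l⁻¹ : Fˣ) : F)) * σ.symm (bar (l : F)) = 1 := by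
      rw [← symm_bar σ hσ, ← map_mul, ← map_mul, Units.inv_mul, map_one, map_one]
    ext
    · show σ.symm ((l⁻¹ : Fˣ) : F) * σ.symm ((l : F) * σ x.a) = x.a
      rw [map_mul, RingEquiv.symm_apply_apply]
      linear_combination x.a * h1
    · show σ.symm ((l⁻¹ : Fˣ) : F) * bar (σ.symm ((l⁻¹ : Fˣ) : F)) *
        σ.symm ((l : F) * bar (l : F) * σ x.b) = x.b
      rw [map_mul, map_mul, RingEquiv.symm_apply_apply]
      linear_combination (x.b * bar (σ.symm ((l⁻¹ : Fˣ) : F)) * σ.symm (bar (l : F))) * h1 + x.b * h2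
  right_inv x := by
    have h1 : (l : F) * ((l⁻¹ : Fˣ) : F) = 1 := Units.mul_inv l
    have h2 : bar (l : F) * bar ((l⁻¹ : Fˣ) : F) = 1 := by
      rw [← map_mul, Units.mul_inv, map_one]
    ext
    · show (l : F) * σ (σ.symm ((l⁻¹ : Fˣ) : F) * σ.symm x.a) = x.a
      rw [map_mul, RingEquiv.apply_symm_apply, RingEquiv.apply_symm_apply]
      linear_combination x.a * h1
    · show (l : F) * bar (l : F) * σ (σ.symm ((l⁻¹ : Fˣ) : F) *
        bar (σ.symm ((l⁻¹ : Fˣ) : F)) * σ.symm x.b) = x.b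
      rw [map_mul, map_mul, hσ, RingEquiv.apply_symm_apply, RingEquiv.apply_symm_apply]
      linear_combination (x.b * bar (l : F) * bar ((l⁻¹ : Fˣ) : F)) * h1 + x.b * h2
  map_mul' := semiFun_mul _ _ hσ

@[simp] theorem semi_apply_a (l : Fˣ) (σ : F ≃+* F) (hσ : ∀ x, σ (bar x) = bar (σ x))
    (x : Heis bar) : (semi l σ hσ x).a = (l : F) * σ x.a := rfl

@[simp] theorem semi_apply_b (l : Fˣ) (σ : F ≃+* F) (hσ : ∀ x, σ (bar x) = bar (σ x))
    (x : Heis bar) : (semi l σ hσ x).b = (l : F) * bar (l : F) * σ x.b := rfl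

/-- a ring automorphism commutes with a Frobenius power -/
theorem ringEquiv_comm_bar {q : ℕ} (hbar : ∀ x, bar x = x ^ q) (σ : F ≃+* F) (x : F) :
    σ (bar x) = bar (σ x) := by
  rw [hbar, hbar, map_pow]

end Cfsg.Agent.Helper6.SUaut
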