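import Mathlib

/-!
# Linear algebra for lower bounds on representation degrees
-/

set_option autoImplicit false

namespace Cfsg.Agent.Helper6

open Module

section LA

variable {V : Type*} [AddCommGroup V] [Module ℂ V]

/-- a family of commuting involutions, one of them non-trivial, has a simultaneous eigenvector on
which that one acts as `-1` -/
theorem exists_simultaneous_eigenvector {ι : Type*} [Fintype ι] (z : ι → Module.End ℂ V)
    (hcomm : ∀ i j, z i * z j = z j * z i) (hsq : ∀ i, z i * z i = 1) (i₀ : ι) (h0 : z i₀ ≠ 1) :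
    ∃ v : V, v ≠ 0 ∧ z i₀ v = -v ∧ ∀ i, z i v = v ∨ z i v = -v := by
  classical
  have h1 : ∃ w, z i₀ w ≠ w := by
    by_contra hcon
    push Not at hcon
    exact h0 (LinearMap.ext fun w => by rw [hcon w]; rfl)
  obtain ⟨w, hw⟩ := h1
  have hzz : ∀ i x, z i (z i x) = x := fun i x => by
    have := LinearMap.congr_fun (hsq i) x
    simpa using this
  have hc : ∀ i j x, z i (z j x) = z j (z i x) := fun i j x => by
    have := LinearMap.congr_fun (hcomm i j) x
    simpa using this
  have key : ∀ s : Finset ι,
      ∃ v : V, v ≠ 0 ∧ z i₀ v = -v ∧ ∀ i ∈ s, z i v = v ∨ z i v = -v := by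
    intro s
    induction s using Finset.induction_on with
    | empty =>
      refine ⟨w - z i₀ w, sub_ne_zero.2 (Ne.symm hw), ?_, by simp⟩
      rw [map_sub, hzz]
      abel
    | insert j s hj ih =>
      obtain ⟨v, hv0, hv1, hv2⟩ := ih
      by_cases h : v + z j v = 0
      · refine ⟨v, hv0, hv1, ?_⟩
        intro i hi
        rcases Finset.mem_insert.1 hi with rfl | hi
        · right
          exact eq_neg_of_add_eq_zero_right h
        · exact hv2 i hi
      · refine ⟨v + z j v, h, ?_, ?_⟩
        · rw [map_add, hc, hv1, map_neg]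
          abel
        · intro i hi
          rcases Finset.mem_insert.1 hi with rfl | hi
          · left
            rw [map_add, hzz]
            abel
          · rcases hv2 i hi with h' | h'
            · left
              rw [map_add, hc, h']
            · right
              rw [map_add, hc, h', map_neg]
              abel
  obtain ⟨v, a, b, c⟩ := key Finset.univ
  exact ⟨v, a, b, fun i => c i (Finset.mem_univ i)⟩

/-- simultaneous eigenspaces for distinct characters are independent: dimension count -/
theorem card_mul_le_finrank_of_eigen {ι τ : Type*} [Fintype τ] [FiniteDimensional ℂ V]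
    (z : ι → Module.End ℂ V) (hcomm : ∀ i j, Commute (z i) (z j))
    (χ : τ → ι → ℂ) (hχ : Function.Injective χ) (W : τ → Submodule ℂ V)
    (hW : ∀ t, ∀ w ∈ W t, ∀ i, z i w = χ t i • w) (n : ℕ) (hn : ∀ t, n ≤ finrank ℂ (W t)) :
    Fintype.card τ * n ≤ finrank ℂ V := by
  classical
  have hind : iSupIndep (fun χ' : ι → ℂ => ⨅ i, (z i).maxGenEigenspace (χ' i)) :=
    Module.End.independent_iInf_maxGenEigenspace_of_forall_mapsTo z
      (fun i j φ => Module.End.mapsTo_maxGenEigenspace_of_comm (hcomm j i) φ)
  have hind2 : iSupIndep (fun t => ⨅ i, (z i).maxGenEigenspace (χ t i)) := hind.comp hχ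
  have hle : ∀ t, W t ≤ ⨅ i, (z i).maxGenEigenspace (χ t i) := by
    intro t w hw
    rw [Submodule.mem_iInf]
    intro i
    rw [Module.End.mem_maxGenEigenspace]
    refine ⟨1, ?_⟩
    rw [pow_one, LinearMap.sub_apply, hW t w hw i]
    simp
  have hindW : iSupIndep W := hind2.mono hle
  have key : ∀ s : Finset τ, ∑ t ∈ s, finrank ℂ (W t) = finrank ℂ ↥(⨆ t ∈ s, W t) := by
    intro s
    induction s using Finset.induction_on with
    | empty =>
      have h0 : (⨆ t ∈ (∅ : Finset τ), W t) = ⊥ := by simp
      rw [Finset.sum_empty, h0, finrank_bot]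
    | insert t s ht ih =>
      rw [Finset.sum_insert ht, ih, Finset.iSup_insert]
      have hd : Disjoint (W t) (⨆ t' ∈ s, W t') :=
        hindW.disjoint_biSup (y := (s : Set τ)) (by simpa using ht)
      have := Submodule.finrank_sup_add_finrank_inf_eq (W t) (⨆ t' ∈ s, W t')
      rw [hd.eq_bot, finrank_bot, add_zero] at this
      exact this.symm
  calc Fintype.card τ * n = ∑ _t : τ, n := by simp
    _ ≤ ∑ t, finrank ℂ (W t) := Finset.sum_le_sum fun t _ => hn t
    _ = finrank ℂ ↥(⨆ t ∈ Finset.univ, W t) := key _
    _ ≤ finrank ℂ V := Submodule.finrank_le _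

end LA

/-- a projective representation of an elementary abelian 2-group with small radical has large
degree -/
theorem card_quotient_le_sq_finrank {A : Type*} [AddCommGroup A] [Finite A] {W : Type*}
    [AddCommGroup W] [Module ℂ W] [FiniteDimensional ℂ W] [Nontrivial W]
    (X : A → Module.End ℂ W) (σ : A → A → ℂ) (hσ : ∀ a c, σ a c ≠ 0)
    (hX : ∀ a c, X a * X c = σ a c • X (a + c)) (hX0 : X 0 = 1) (hA : ∀ a : A, a + a = 0)
    (R : AddSubgroup A) (hR : ∀ c, c ∉ R → ∃ a, σ a c = - σ c a) :
    Nat.card (A ⧸ R) ≤ (finrank ℂ W) ^ 2 := by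
  classical
  have : Fintype (A ⧸ R) := Fintype.ofFinite _
  have hn0 : (finrank ℂ W : ℂ) ≠ 0 := by
    have : 0 < finrank ℂ W := finrank_pos
    exact_mod_cast this.ne'
  have htr : ∀ c, c ∉ R → LinearMap.trace ℂ W (X c) = 0 := by
    intro c hc
    obtain ⟨a, ha⟩ := hR c hc
    have h1 : X a * X c = -(X c * X a) := by
      rw [hX, hX, ha, add_comm c a, neg_smul]
    have h2 : X a * (X c * X a) = -(σ a a • X c) := by
      rw [← mul_assoc, h1, neg_mul, mul_assoc, hX a a, hA, hX0, mul_smul_comm, mul_one]
    have h3 : LinearMap.trace ℂ W (X a * (X c * X a)) = σ a a * LinearMap.trace ℂ W (X c) := by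
      rw [LinearMap.trace_mul_comm, mul_assoc, hX a a, hA, hX0, mul_smul_comm, mul_one, map_smul,
        smul_eq_mul]
    rw [h2, map_neg, map_smul, smul_eq_mul] at h3
    have h4 : σ a a * LinearMap.trace ℂ W (X c) = 0 := by linear_combination (-1 / 2 : ℂ) * h3
    rcases mul_eq_zero.1 h4 with h | h
    · exact absurd h (hσ a a)
    · exact h
  have hY : LinearIndependent ℂ (fun q : A ⧸ R => X (Quotient.out q)) := by
    rw [linearIndependent_iff']
    intro s g hsum q₀ hq₀
    have h1 := congrArg (fun M => LinearMap.trace ℂ W (M * X (Quotient.out q₀))) hsum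
    simp only [Finset.sum_mul, smul_mul_assoc, map_sum, map_smul, zero_mul, map_zero] at h1
    rw [Finset.sum_eq_single q₀] at h1
    · rw [hX, hA, hX0, map_smul, LinearMap.trace_one, smul_eq_mul, smul_eq_mul] at h1
      rcases mul_eq_zero.1 h1 with h | h
      · exact h
      · rcases mul_eq_zero.1 h with h' | h'
        · exact absurd h' (hσ _ _)
        · exact absurd h' hn0
    · intro q _ hne
      rw [hX, map_smul, htr, smul_zero, smul_zero]
      intro hmem
      apply hne
      have hneg : -(Quotient.out q₀) = Quotient.out q₀ := neg_eq_of_add_eq_zero_left (hA _)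
      have h5 : -(Quotient.out q₀) + Quotient.out q ∈ R := by
        rw [hneg, add_comm]; exact hmem
      have h6 : ((Quotient.out q₀ : A) : A ⧸ R) = ((Quotient.out q : A) : A ⧸ R) :=
        QuotientAddGroup.eq.2 h5
      rw [QuotientAddGroup.out_eq', QuotientAddGroup.out_eq'] at h6
      exact h6.symm
    · intro h
      exact absurd hq₀ h
  have h7 := hY.fintype_card_le_finrank
  rw [Module.finrank_linearMap, ← pow_two] at h7
  rw [Nat.card_eq_fintype_card]
  exact h7

end Cfsg.Agent.Helper6
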