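import Cfsg.Agent.Helper6.Sz49
import Cfsg.Agent.Helper6.Sz50

/-!
# The radical of the commutator form of the Suzuki 2-group twisted by a character
-/

set_option autoImplicit false

namespace Cfsg.Agent.Helper6

open Module

variable {F : Type*} [Field F] [Fintype F] {m : ℕ}

/-- the additive map `x ↦ x ^ σ + x` -/
noncomputable def artinHom (hF : Fintype.card F = 2 ^ (2 * m + 1)) : F →+ F where
  toFun x := x ^ (2 ^ (m + 1)) + x
  map_zero' := by rw [zero_pow (by positivity), add_zero]
  map_add' x y := by rw [add_pow_sigma hF]; ring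

theorem artinHom_apply (hF : Fintype.card F = 2 ^ (2 * m + 1)) (x : F) :
    artinHom hF x = x ^ (2 ^ (m + 1)) + x := rfl

theorem card_artinHom_range (hF : Fintype.card F = 2 ^ (2 * m + 1)) :
    2 * Nat.card (artinHom hF).range = Fintype.card F := by
  classical
  have h2 : (2 : F) = 0 := two_eq_zero_of_card hF
  have hker : Nat.card (artinHom hF).ker = 2 := by
    have hk : ∀ x : F, x ∈ (artinHom hF).ker ↔ x = 0 ∨ x = 1 := by
      intro x
      rw [AddMonoidHom.mem_ker, artinHom_apply]
      constructor
      · intro h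
        have h1 : x ^ (2 ^ (m + 1)) = x := by linear_combination h - x * h2
        have h3 : x ^ 2 = x := by
          rw [← pow_sigma_sigma hF, h1, h1]
        have h4 : x * (x - 1) = 0 := by linear_combination h3
        rcases mul_eq_zero.1 h4 with h | h
        · left; exact h
        · right; exact sub_eq_zero.1 h
      · rintro (rfl | rfl)
        · rw [zero_pow (by positivity), add_zero]
        · rw [one_pow]; linear_combination h2
    have : ((artinHom hF).ker : Set F) = {0, 1} := by
      ext x
      simp only [SetLike.mem_coe, hk, Set.mem_insert_iff, Set.mem_singleton_iff]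
    have h5 : Nat.card (artinHom hF).ker = Set.ncard ((artinHom hF).ker : Set F) := rfl
    rw [h5, this]
    exact Set.ncard_pair zero_ne_one
  have h3 := AddSubgroup.card_mul_index (artinHom hF).ker
  rw [AddSubgroup.index_ker, hker, Nat.card_eq_fintype_card (α := F)] at h3
  exact h3

/-- multiplication by a scalar preserving the image of the Artin map is trivial -/
theorem eq_one_of_mul_artin_range (hF : Fintype.card F = 2 ^ (2 * m + 1)) {z : F} (hz : z ≠ 0)
    (h : ∀ x ∈ (artinHom hF).range, z * x ∈ (artinHom hF).range) : z = 1 := by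
  classical
  set H := (artinHom hF).range with hH
  -- the subfield of multipliers
  let E : Subfield F :=
    { carrier := {κ | ∀ x ∈ H, κ * x ∈ H}
      mul_mem' := by
        intro a b ha hb x hx
        rw [mul_assoc]
        exact ha _ (hb _ hx)
      one_mem' := by
        intro x hx
        rwa [one_mul]
      add_mem' := by
        intro a b ha hb x hx
        rw [add_mul]
        exact H.add_mem (ha _ hx) (hb _ hx)
      zero_mem' := by
        intro x _
        rw [zero_mul]
        exact H.zero_mem
      neg_mem' := by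
        intro a ha x hx
        rw [neg_mul]
        exact H.neg_mem (ha _ hx)
      inv_mem' := by
        intro a ha
        by_cases ha0 : a = 0
        · rw [ha0, inv_zero]
          intro x _
          rw [zero_mul]
          exact H.zero_mem
        · intro x hx
          let f : H → H := fun y => ⟨a * y, ha y y.2⟩
          have hinj : Function.Injective f := by
            intro y y' hyy
            have := congrArg Subtype.val hyy
            exact Subtype.ext (mul_left_cancel₀ ha0 this)
          obtain ⟨y, hy⟩ := Finite.injective_iff_surjective.1 hinj ⟨x, hx⟩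
          have hy' : a * (y : F) = x := congrArg Subtype.val hy
          rw [← hy', ← mul_assoc, inv_mul_cancel₀ ha0, one_mul]
          exact y.2 }
  have hzE : z ∈ E := h
  -- `H` as a vector space over `E`
  let HE : Submodule E F :=
    { carrier := H
      add_mem' := fun ha hb => H.add_mem ha hb
      zero_mem' := H.zero_mem
      smul_mem' := by
        intro c x hx
        exact c.2 x hx }
  have hcardH : Nat.card HE = Nat.card H := rfl
  have c1 : Fintype.card F = Fintype.card E ^ finrank E F := Module.card_eq_pow_finrank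
  have c2 : Fintype.card HE = Fintype.card E ^ finrank E HE := Module.card_eq_pow_finrank
  have c3 := card_artinHom_range hF
  rw [← hH, ← hcardH, Nat.card_eq_fintype_card, c2, c1] at c3
  -- `card E = 2`
  have hE1 : 1 < Fintype.card E := Fintype.one_lt_card
  have hE2 : Fintype.card E = 2 := by
    set e := Fintype.card E with he
    set a := finrank E F with ha
    set b := finrank E HE with hb
    have hba : b < a := by
      by_contra hcon
      push Not at hcon
      have : e ^ a ≤ e ^ b := Nat.pow_le_pow_right (by omega) hcon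
      have : 0 < e ^ b := by positivity
      omega
    obtain ⟨d, hd⟩ : ∃ d, a = b + (d + 1) := ⟨a - b - 1, by omega⟩
    rw [hd, pow_add] at c3
    have hpos : 0 < e ^ b := by positivity
    have h5 : e ^ (d + 1) = 2 := by
      have := Nat.eq_of_mul_eq_mul_left hpos (by linarith : e ^ b * 2 = e ^ b * e ^ (d + 1))
      exact this.symm
    have h6 : e ∣ 2 := by
      rw [← h5, pow_succ]
      exact dvd_mul_left _ _
    have := Nat.le_of_dvd (by norm_num) h6
    omega
  by_contra hz1
  have h3 : 2 < Fintype.card E := by
    rw [Fintype.two_lt_card_iff]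
    refine ⟨0, 1, ⟨z, hzE⟩, zero_ne_one, ?_, ?_⟩
    · intro h'
      exact hz (congrArg Subtype.val h').symm
    · intro h'
      exact hz1 (congrArg Subtype.val h').symm
  omega

section radical

variable (ε : F → ℂ)

/-- the radical of the commutator form twisted by `ε` has at most one non-zero element -/
theorem radical_le_two (hm : 1 ≤ m) (hF : Fintype.card F = 2 ^ (2 * m + 1))
    (hmul : ∀ x y, ε (x + y) = ε x * ε y) (hpm : ∀ x, ε x = 1 ∨ ε x = -1) {b₀ : F}
    (hb₀ : ε b₀ = -1) {c c' : F} (hc0 : c ≠ 0) (hc0' : c' ≠ 0)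
    (hc : ∀ a, ε (a ^ (2 ^ (m + 1)) * c + c ^ (2 ^ (m + 1)) * a) = 1)
    (hc' : ∀ a, ε (a ^ (2 ^ (m + 1)) * c' + c' ^ (2 ^ (m + 1)) * a) = 1) : c = c' := by
  classical
  have h2 : (2 : F) = 0 := two_eq_zero_of_card hF
  have hε0 : ε 0 = 1 := by
    have h1 := hmul 0 0
    rw [add_zero] at h1
    rcases hpm 0 with h | h
    · exact h
    · rw [h] at h1; norm_num at h1
  -- the kernel of `ε`
  let Kε : AddSubgroup F :=
    { carrier := {x | ε x = 1}
      add_mem' := by
        intro x y hx hy
        show ε (x + y) = 1
        rw [hmul, hx, hy, one_mul]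
      zero_mem' := hε0
      neg_mem' := by
        intro x hx
        have : -x = x := neg_eq_of_add_eq_zero_left (by linear_combination x * h2)
        show ε (-x) = 1
        rw [this]; exact hx }
  have hKtop : Kε ≠ ⊤ := by
    intro h
    have : b₀ ∈ Kε := by rw [h]; trivial
    have h1 : ε b₀ = 1 := this
    rw [hb₀] at h1
    norm_num at h1
  have hKcard : 2 * Nat.card Kε ≤ Fintype.card F := by
    have h1 := AddSubgroup.card_mul_index Kε
    rw [Nat.card_eq_fintype_card (α := F)] at h1
    have h3 : Kε.index ≠ 1 := fun h => hKtop (AddSubgroup.index_eq_one.1 h)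
    have h4 : Kε.index ≠ 0 := AddSubgroup.index_ne_zero_of_finite
    have h5 : 2 ≤ Kε.index := by omega
    calc 2 * Nat.card Kε = Nat.card Kε * 2 := by ring
      _ ≤ Nat.card Kε * Kε.index := Nat.mul_le_mul_left _ h5
      _ = Fintype.card F := h1
  set H := (artinHom hF).range with hH
  -- for `c` in the radical, `c ^ (σ + 1) • H = Kε`
  have key : ∀ d : F, d ≠ 0 → (∀ a, ε (a ^ (2 ^ (m + 1)) * d + d ^ (2 ^ (m + 1)) * a) = 1) →
      ∀ x, x ∈ Kε ↔ ∃ y ∈ H, x = d ^ (2 ^ (m + 1) + 1) * y := by
    intro d hd0 hd
    have hdpow : d ^ (2 ^ (m + 1) + 1) ≠ 0 := pow_ne_zero _ hd0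
    -- the image subgroup
    let S : AddSubgroup F := H.map (AddMonoidHom.mulLeft (d ^ (2 ^ (m + 1) + 1)))
    have hSK : S ≤ Kε := by
      rintro _ ⟨y, ⟨x, rfl⟩, rfl⟩
      show ε _ = 1
      have := hd (d * x)
      rw [AddMonoidHom.coe_mulLeft, artinHom_apply]
      rw [mul_pow] at this
      have e1 : (d ^ (2 ^ (m + 1)) * x ^ (2 ^ (m + 1))) * d + d ^ (2 ^ (m + 1)) * (d * x) =
          d ^ (2 ^ (m + 1) + 1) * (x ^ (2 ^ (m + 1)) + x) := by ring
      rw [e1] at this
      exact this
    have hScard : Nat.card S = Nat.card H := by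
      apply Nat.card_congr
      exact (AddSubgroup.equivMapOfInjective H _ (by
        intro a b hab
        exact mul_left_cancel₀ hdpow hab)).symm.toEquiv
    have hSeq : S = Kε := by
      apply AddSubgroup.eq_of_le_of_card_ge hSK
      have := card_artinHom_range hF
      rw [← hH] at this
      rw [hScard]
      omega
    intro x
    rw [← hSeq]
    constructor
    · rintro ⟨y, hy, rfl⟩
      exact ⟨y, hy, rfl⟩
    · rintro ⟨y, hy, rfl⟩
      exact ⟨y, hy, rfl⟩
  have k1 := key c hc0 hc
  have k2 := key c' hc0' hc'
  -- the ratio preserves `H`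
  have hcp : c ^ (2 ^ (m + 1) + 1) ≠ 0 := pow_ne_zero _ hc0
  have hcp' : c' ^ (2 ^ (m + 1) + 1) ≠ 0 := pow_ne_zero _ hc0'
  have hz : (c' / c) ^ (2 ^ (m + 1) + 1) = 1 := by
    apply eq_one_of_mul_artin_range hF (pow_ne_zero _ (div_ne_zero hc0' hc0))
    intro x hx
    -- `c' ^ (σ+1) * x ∈ Kε`, so it is `c ^ (σ+1) * y`
    have h3 : c' ^ (2 ^ (m + 1) + 1) * x ∈ Kε := (k2 _).2 ⟨x, hx, rfl⟩
    obtain ⟨y, hy, hxy⟩ := (k1 _).1 h3
    have : (c' / c) ^ (2 ^ (m + 1) + 1) * x = y := by
      rw [div_pow, div_mul_eq_mul_div, hxy, mul_div_assoc, mul_div_cancel₀ _ hcp]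
    rw [this]
    exact hy
  have := eq_one_of_pow_sigma_succ hF hz
  rw [div_eq_one_iff_eq hc0] at this
  exact this.symm

end radical

end Cfsg.Agent.Helper6
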