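import Mathlib
import Cfsg.Prelude.Def_LieExceptional

set_option autoImplicit false

namespace Cfsg.Agent.Helper6

section poly

variable {F : Type*} [Field F]

theorem ovoid_poly1 (h2 : (2 : F) = 0) (x y a b X Y A Bs : F) :
    (x + a) * (y + b + A * x) + (X + A) * (x + a) ^ 2 + (Y + Bs + a ^ 2 * X) =
      (x * y + X * x ^ 2 + Y) + a * y + (b + A * a) * x + (a * b + A * a ^ 2 + Bs) := by
  linear_combination (A * a * x + A * x ^ 2 + X * a * x + X * a ^ 2) * h2

theorem ovoid_poly2 (h2 : (2 : F) = 0) (x y X Y : F) :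
    x * y * (X * Y + X ^ 2 * x ^ 2 + y ^ 2) + Y * y ^ 2 + X * (x * y + X * x ^ 2 + Y) ^ 2 =
      (X * Y + X ^ 2 * x ^ 2 + y ^ 2) * (x * y + X * x ^ 2 + Y) := by
  linear_combination (X * Y * x * y + X ^ 2 * x ^ 3 * y) * h2

end poly

section field

variable {F : Type*} [Field F] [Fintype F] {m : ℕ}

/-- the ovoid function -/
def ovF (F : Type*) [Field F] (m : ℕ) (x y : F) : F :=
  x * y + x ^ (2 ^ (m + 1) + 2) + y ^ (2 ^ (m + 1))

/-- the affine ovoid vectors -/
def ovVec (F : Type*) [Field F] (m : ℕ) (x y : F) : Fin 4 → F := ![ovF F m x y, y, x, 1]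

theorem two_eq_zero_of_card (hF : Fintype.card F = 2 ^ (2 * m + 1)) : (2 : F) = 0 := by
  have h := FiniteField.cast_card_eq_zero F
  rw [hF] at h
  push_cast at h
  exact pow_eq_zero_iff (by omega) |>.1 h

theorem pow_sigma_sigma (hF : Fintype.card F = 2 ^ (2 * m + 1)) (x : F) :
    (x ^ (2 ^ (m + 1))) ^ (2 ^ (m + 1)) = x ^ 2 := by
  rw [← pow_mul]
  have : 2 ^ (m + 1) * 2 ^ (m + 1) = Fintype.card F * 2 := by
    rw [hF, ← pow_add, ← pow_succ]
    congr 1
    omega
  rw [this, pow_mul, FiniteField.pow_card]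

theorem add_pow_sigma (hF : Fintype.card F = 2 ^ (2 * m + 1)) (x y : F) :
    (x + y) ^ (2 ^ (m + 1)) = x ^ (2 ^ (m + 1)) + y ^ (2 ^ (m + 1)) := by
  have : CharP F 2 := CharTwo.of_one_ne_zero_of_two_eq_zero one_ne_zero (two_eq_zero_of_card hF)
  have : Fact (Nat.Prime 2) := ⟨Nat.prime_two⟩
  exact add_pow_char_pow x y 2 (m + 1)

theorem ovF_eq (x y : F) :
    ovF F m x y = x * y + x ^ (2 ^ (m + 1)) * x ^ 2 + y ^ (2 ^ (m + 1)) := by
  unfold ovF; rw [pow_add]

theorem ovF_zero : ovF F m (0 : F) 0 = 0 := by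
  unfold ovF
  simp

/-- translation identity -/
theorem ovF_translate (hF : Fintype.card F = 2 ^ (2 * m + 1)) (x y a b : F) :
    ovF F m (x + a) (y + b + a ^ (2 ^ (m + 1)) * x) =
      ovF F m x y + a * y + (b + a ^ (2 ^ (m + 1)) * a) * x + ovF F m a b := by
  rw [ovF_eq, ovF_eq, ovF_eq, add_pow_sigma hF, add_pow_sigma hF, add_pow_sigma hF, mul_pow,
    pow_sigma_sigma hF]
  exact ovoid_poly1 (two_eq_zero_of_card hF) x y a b _ _ _ _

/-- `σ`-power of the ovoid function -/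
theorem ovF_pow_sigma (hF : Fintype.card F = 2 ^ (2 * m + 1)) (x y : F) :
    (ovF F m x y) ^ (2 ^ (m + 1)) =
      x ^ (2 ^ (m + 1)) * y ^ (2 ^ (m + 1)) + (x ^ (2 ^ (m + 1))) ^ 2 * x ^ 2 + y ^ 2 := by
  rw [ovF_eq, add_pow_sigma hF, add_pow_sigma hF, mul_pow, mul_pow, pow_sigma_sigma hF,
    pow_sigma_sigma hF, ← pow_mul, ← pow_mul, mul_comm 2 (2 ^ (m + 1))]
  ring

/-- anisotropy -/
theorem ovF_eq_zero (hF : Fintype.card F = 2 ^ (2 * m + 1)) {x y : F} (h : ovF F m x y = 0) :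
    x = 0 ∧ y = 0 := by
  have h2 : (2 : F) = 0 := two_eq_zero_of_card hF
  have hσ : (2 : ℕ) ^ (m + 1) ≠ 0 := by positivity
  by_cases hx : x = 0
  · subst hx
    unfold ovF at h
    simp at h
    exact ⟨rfl, h⟩
  · exfalso
    -- t = y / x^(σ+1)
    set s := 2 ^ (m + 1) with hs
    set t := y / (x ^ s * x) with ht
    have hxs : x ^ s ≠ 0 := pow_ne_zero _ hx
    have hy : y = t * (x ^ s * x) := by rw [ht]; field_simp
    have hts : t ^ s = y ^ s / (x ^ 2 * x ^ s) := by
      rw [ht, div_pow, mul_pow, pow_sigma_sigma hF]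
    have hys : y ^ s = t ^ s * (x ^ 2 * x ^ s) := by rw [hts]; field_simp
    have e1 : t ^ s + t + 1 = 0 := by
      have h' := h
      rw [ovF_eq, hys] at h'
      rw [hy] at h'
      have : (t ^ s + t + 1) * (x ^ s * x ^ 2) = 0 := by
        linear_combination h'
      rcases mul_eq_zero.1 this with h0 | h0
      · exact h0
      · exact absurd h0 (mul_ne_zero hxs (pow_ne_zero _ hx))
    have e2 : t ^ 2 + t ^ s + 1 = 0 := by
      have := congrArg (fun z => z ^ s) e1
      rw [add_pow_sigma hF, add_pow_sigma hF, pow_sigma_sigma hF, one_pow, zero_pow hσ] at this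
      exact this
    have e3 : t * (t + 1) = 0 := by
      linear_combination e1 + e2 - (t ^ s + 1) * h2
    rcases mul_eq_zero.1 e3 with h0 | h0
    · rw [h0, zero_pow hσ] at e1
      simp at e1
    · have ht1 : t = 1 := by linear_combination h0 - h2
      rw [ht1, one_pow] at e1
      have : (1 : F) = 0 := by linear_combination e1 - h2
      exact one_ne_zero this

/-- inversion identity -/
theorem ovF_inv (hF : Fintype.card F = 2 ^ (2 * m + 1)) {x y : F} (hf : ovF F m x y ≠ 0) :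
    ovF F m (y / ovF F m x y) (x / ovF F m x y) = 1 / ovF F m x y := by
  have h2 : (2 : F) = 0 := two_eq_zero_of_card hF
  set s := 2 ^ (m + 1) with hs
  set f := ovF F m x y with hfdef
  have hfs : f ^ s = x ^ s * y ^ s + (x ^ s) ^ 2 * x ^ 2 + y ^ 2 := ovF_pow_sigma hF x y
  have hfs0 : f ^ s ≠ 0 := pow_ne_zero _ hf
  have key := ovoid_poly2 h2 x y (x ^ s) (y ^ s)
  rw [← ovF_eq (m := m) x y, ← hfdef, ← hfs] at key
  rw [ovF_eq, div_pow, div_pow, div_pow]
  field_simp
  linear_combination key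

end field

end Cfsg.Agent.Helper6
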