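import Cfsg.Prelude.Def_DegreeGraph
import Cfsg.Agent.Helper74.FSCount

/-!
# The character degrees of the Suzuki groups: the abstract hypotheses

`FrobHyp` : a Frobenius group `X = K ⋊ H` with `|K| = q²`, `|H| = q - 1`, `k(K) = 3q - 2`
(`q = 2 T²`, `T = 2 ^ m`) with a non-real element in the kernel.

`FrobIrr` : the irreducible characters of such a group.

`SzHyp` : the group theoretic properties of `Sz(q)` used in the determination of the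
character degrees.
-/

set_option autoImplicit false

namespace Cfsg.Agent.Helper6

open scoped ComplexConjugate

universe u

/-- a Frobenius group `K ⋊ H` of "Suzuki Borel" type -/
structure FrobHyp {X : Type u} [Group X] (K H : Subgroup X) (T : ℕ) : Prop where
  pow : ∃ m : ℕ, 1 ≤ m ∧ T = 2 ^ m
  normal : K.Normal
  inf : K ⊓ H = ⊥
  sup : K ⊔ H = ⊤
  fpf : ∀ h ∈ H, h ≠ 1 → ∀ k ∈ K, h * k = k * h → k = 1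
  cardK : Nat.card K = (2 * T ^ 2) ^ 2
  cardH : Nat.card H = 2 * T ^ 2 - 1
  comm : ∀ a ∈ H, ∀ b ∈ H, a * b = b * a
  classes : Nat.card (ConjClasses K) = 3 * (2 * T ^ 2) - 2
  nonreal : ∃ ρ ∈ K, ∀ x : X, x * ρ * x⁻¹ ≠ ρ⁻¹

/-- the irreducible characters of a Frobenius group of "Suzuki Borel" type: three characters
`Θ, Ψ₁, Ψ₂` of degrees `q - 1`, `(q - 1) T`, `(q - 1) T` vanishing off `K`, and `q - 1` linear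
characters trivial on `K` -/
structure FrobIrr {X : Type u} [Group X] (K : Subgroup X) (T : ℕ) (Θ Ψ₁ Ψ₂ : X → ℂ) : Prop where
  irrΘ : Cfsg.IsIrrCharacter X Θ
  irrΨ₁ : Cfsg.IsIrrCharacter X Ψ₁
  irrΨ₂ : Cfsg.IsIrrCharacter X Ψ₂
  ne₁ : Θ ≠ Ψ₁
  ne₂ : Θ ≠ Ψ₂
  ne₁₂ : Ψ₁ ≠ Ψ₂
  degΘ : Θ 1 = ((2 * T ^ 2 - 1 : ℕ) : ℂ)
  degΨ₁ : Ψ₁ 1 = (((2 * T ^ 2 - 1) * T : ℕ) : ℂ)
  degΨ₂ : Ψ₂ 1 = (((2 * T ^ 2 - 1) * T : ℕ) : ℂ)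
  conjΨ : ∀ x, Ψ₂ x = conj (Ψ₁ x)
  conjΘ : ∀ x, conj (Θ x) = Θ x
  vanΘ : ∀ x, x ∉ K → Θ x = 0
  vanΨ₁ : ∀ x, x ∉ K → Ψ₁ x = 0
  vanΨ₂ : ∀ x, x ∉ K → Ψ₂ x = 0
  all : ∀ β : X → ℂ, Cfsg.IsIrrCharacter X β → (∃ n ∈ K, β n ≠ β 1) → β = Θ ∨ β = Ψ₁ ∨ β = Ψ₂
  lin : ∀ β : X → ℂ, Cfsg.IsIrrCharacter X β → (∀ n ∈ K, β n = β 1) → β 1 = 1
  cardLin : Nat.card {β : Cfsg.IrrCharacter X // ∀ n ∈ K, (β : X → ℂ) n = (β : X → ℂ) 1}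
    = 2 * T ^ 2 - 1

/-- the group theoretic properties of `Sz(q)`, `q = 2 T²`, `T = 2 ^ m`: a Sylow `2`-subgroup `Q`,
its normalizer `B = Q ⋊ H`, an element `w` with `G = B ∪ B w B`, and the two cyclic tori
`K₁, K₂` of orders `q ± 2 T + 1`. -/
structure SzHyp {G : Type u} [Group G] (Q H B K₁ K₂ : Subgroup G) (w : G) (T : ℕ) : Prop where
  pow : ∃ m : ℕ, 1 ≤ m ∧ T = 2 ^ m
  cardG : Nat.card G = (2 * T ^ 2) ^ 2 * ((2 * T ^ 2) ^ 2 + 1) * (2 * T ^ 2 - 1)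
  QB : Q ≤ B
  HB : H ≤ B
  Qnormal : ∀ b ∈ B, ∀ x ∈ Q, b * x * b⁻¹ ∈ Q
  inf : Q ⊓ H = ⊥
  sup : ∀ b ∈ B, ∃ x ∈ Q, ∃ h ∈ H, b = x * h
  fpf : ∀ h ∈ H, h ≠ 1 → ∀ x ∈ Q, h * x = x * h → x = 1
  cardQ : Nat.card Q = (2 * T ^ 2) ^ 2
  cardH : Nat.card H = 2 * T ^ 2 - 1
  comm : ∀ a ∈ H, ∀ b ∈ H, a * b = b * a
  classesQ : Nat.card (ConjClasses Q) = 3 * (2 * T ^ 2) - 2
  nonreal : ∃ ρ ∈ Q, ∀ b ∈ B, b * ρ * b⁻¹ ≠ ρ⁻¹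
  TI : ∀ x ∈ Q, x ≠ 1 → ∀ g : G, g⁻¹ * x * g ∈ B → g ∈ B
  wB : w ∉ B
  bruhat : ∀ g : G, g ∉ B → ∃ b ∈ B, ∃ b' ∈ B, g = b * w * b'
  winv : ∀ h ∈ H, w⁻¹ * h * w = h⁻¹
  wint : ∀ b ∈ B, w⁻¹ * b * w ∈ B → b ∈ H
  classesG : Nat.card (ConjClasses G) = 2 * T ^ 2 + 3
  hC₁ : ∀ k ∈ K₁, k ≠ 1 → Subgroup.centralizer ({k} : Set G) ≤ K₁
  hab₁ : ∀ a ∈ K₁, ∀ b ∈ K₁, a * b = b * a
  hTI₁ : ∀ g : G, g ∉ Subgroup.normalizer (K₁ : Set G) → ∀ k ∈ K₁, g * k * g⁻¹ ∈ K₁ → k = 1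
  cardK₁ : Nat.card K₁ = 2 * T ^ 2 + 2 * T + 1
  idx₁ : (K₁.subgroupOf (Subgroup.normalizer (K₁ : Set G))).index = 4
  offB₁ : ∀ k ∈ K₁, k ≠ 1 → ∀ g : G, g * k * g⁻¹ ∉ B
  hC₂ : ∀ k ∈ K₂, k ≠ 1 → Subgroup.centralizer ({k} : Set G) ≤ K₂
  hab₂ : ∀ a ∈ K₂, ∀ b ∈ K₂, a * b = b * a
  hTI₂ : ∀ g : G, g ∉ Subgroup.normalizer (K₂ : Set G) → ∀ k ∈ K₂, g * k * g⁻¹ ∈ K₂ → k = 1
  cardK₂ : Nat.card K₂ = 2 * T ^ 2 - 2 * T + 1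
  idx₂ : (K₂.subgroupOf (Subgroup.normalizer (K₂ : Set G))).index = 4
  offB₂ : ∀ k ∈ K₂, k ≠ 1 → ∀ g : G, g * k * g⁻¹ ∉ B
  disj : ∀ k ∈ K₁, k ≠ 1 → ∀ g : G, g * k * g⁻¹ ∉ K₂

/-- the list of character degrees of `Sz(q)`, `q = 2 T²` -/
def szDegreeSet (T : ℕ) : Set ℕ :=
  {1, (2 * T ^ 2) ^ 2, (2 * T ^ 2) ^ 2 + 1, (2 * T ^ 2 - 1) * (2 * T ^ 2 - 2 * T + 1),
    (2 * T ^ 2 - 1) * (2 * T ^ 2 + 2 * T + 1), (2 * T ^ 2 - 1) * T}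

/-- restriction of a function to a subgroup -/
def resFun {G : Type u} [Group G] (B : Subgroup G) (χ : G → ℂ) : ↥B → ℂ := fun b => χ (b : G)

/-- the numerical data extracted from the character theory of `Sz(q)` -/
structure SzNum {ι : Type u} (T : ℕ) (R : Finset ι) (d m n₁ n₂ : ι → ℕ) (cj : ι → ι)
    (F₁ F₂ : Finset ι) : Prop where
  card : R.card = T ^ 2 + 2
  deg : ∀ χ ∈ R, d χ = (2 * T ^ 2 - 1) * (m χ + T * (n₁ χ + n₂ χ))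
  dvd : ∀ χ ∈ R, d χ ∣ (2 * T ^ 2) ^ 2 * ((2 * T ^ 2) ^ 2 + 1) * (2 * T ^ 2 - 1)
  sum_mm : ∑ χ ∈ R, m χ ^ 2 = T ^ 2
  sum_mn₁ : ∑ χ ∈ R, m χ * n₁ χ = T * (T ^ 2 - 1)
  sum_mn₂ : ∑ χ ∈ R, m χ * n₂ χ = T * (T ^ 2 - 1)
  sum_n₁n₁ : ∑ χ ∈ R, n₁ χ ^ 2 = 1 + T ^ 2 * (T ^ 2 - 1)
  sum_n₂n₂ : ∑ χ ∈ R, n₂ χ ^ 2 = 1 + T ^ 2 * (T ^ 2 - 1)
  sum_n₁n₂ : ∑ χ ∈ R, n₁ χ * n₂ χ = T ^ 2 * (T ^ 2 - 1)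
  cj_mem : ∀ χ ∈ R, cj χ ∈ R
  cj_m : ∀ χ ∈ R, m (cj χ) = m χ
  cj_n₁ : ∀ χ ∈ R, n₁ (cj χ) = n₂ χ
  cj_n₂ : ∀ χ ∈ R, n₂ (cj χ) = n₁ χ
  F₁R : F₁ ⊆ R
  F₂R : F₂ ⊆ R
  disj : Disjoint F₁ F₂
  cardF₁ : 2 * F₁.card = T * (T + 1)
  cardF₂ : 4 ≤ T → 2 * F₂.card = T * (T - 1)
  F₂empty : T < 4 → F₂ = ∅
  const₁ : ∀ χ ∈ F₁, ∀ ψ ∈ F₁, m χ = m ψ ∧ n₁ χ = n₁ ψ ∧ n₂ χ = n₂ ψ
  const₂ : ∀ χ ∈ F₂, ∀ ψ ∈ F₂, m χ = m ψ ∧ n₁ χ = n₁ ψ ∧ n₂ χ = n₂ ψ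

/-- the known characters of `Sz(q)`: the constituents of the characters induced from the linear
characters of `B`: the principal character `χ₀`, the Steinberg character and the principal
series -/
structure SzKnown {G : Type u} [Group G] [Fintype G] (Q B : Subgroup G) [Fintype ↥B] (T : ℕ)
    (𝓚 : Finset (Cfsg.IrrCharacter G)) : Prop where
  card : 𝓚.card = T ^ 2 + 1
  lin : ∀ χ : Cfsg.IrrCharacter G, χ ∉ 𝓚 → ∀ β : ↥B → ℂ, Cfsg.IsIrrCharacter ↥B β →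
    (∀ n : ↥B, (n : G) ∈ Q → β n = β 1) → Cfsg.classInner (resFun B (χ : G → ℂ)) β = 0
  deg : ∀ χ ∈ 𝓚, Cfsg.charDegree (χ : G → ℂ) = 1 ∨
    Cfsg.charDegree (χ : G → ℂ) = (2 * T ^ 2) ^ 2 ∨
    Cfsg.charDegree (χ : G → ℂ) = (2 * T ^ 2) ^ 2 + 1
  deg_sq : ∃ χ ∈ 𝓚, Cfsg.charDegree (χ : G → ℂ) = (2 * T ^ 2) ^ 2
  deg_sq1 : ∃ χ ∈ 𝓚, Cfsg.charDegree (χ : G → ℂ) = (2 * T ^ 2) ^ 2 + 1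
  off : ∀ χ ∈ 𝓚, ∀ g g' : G, (∀ x : G, x * g * x⁻¹ ∉ B) → (∀ x : G, x * g' * x⁻¹ ∉ B) →
    (χ : G → ℂ) g = (χ : G → ℂ) g'
  mult : ∃ χ₀ ∈ 𝓚, (∀ β : ↥B → ℂ, Cfsg.IsIrrCharacter ↥B β → (∃ n : ↥B, (n : G) ∈ Q ∧ β n ≠ β 1) →
      Cfsg.classInner (resFun B (χ₀ : G → ℂ)) β = 0) ∧
    ∀ χ ∈ 𝓚, χ ≠ χ₀ → ∀ β : ↥B → ℂ, Cfsg.IsIrrCharacter ↥B β →
      (∃ n : ↥B, (n : G) ∈ Q ∧ β n ≠ β 1) →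
      Cfsg.classInner (resFun B (χ : G → ℂ)) β = β 1 / ((2 * T ^ 2 - 1 : ℕ) : ℂ)
  conj_mem : ∀ χ ∈ 𝓚, Cfsg.Agent.Helper74.irrConj χ ∈ 𝓚

end Cfsg.Agent.Helper6
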