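import Cfsg.Agent.Helper6.Sz6

/-!
# Orders of the Suzuki group and of its point stabiliser
-/

set_option autoImplicit false

namespace Cfsg.Agent.Helper6

open scoped Pointwise

variable {F : Type*} [Field F] [Fintype F] {m : ℕ}

theorem card_two_point_stab (hm : 1 ≤ m) (hF : Fintype.card F = 2 ^ (2 * m + 1)) :
    Nat.card ↥(MulAction.stabilizer (Cfsg.Sz F m) (Cfsg.suzukiPointInfinity F) ⊓
        MulAction.stabilizer (Cfsg.Sz F m) (Cfsg.suzukiPointZero F)) = Fintype.card F - 1 := by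
  obtain ⟨e⟩ := two_point_stab_equiv hm hF
  rw [Nat.card_congr e.toEquiv, Nat.card_units, Nat.card_eq_fintype_card]

/-- the orbit of the zero point under the stabiliser of the point at infinity -/
theorem orbit_zero (hF : Fintype.card F = 2 ^ (2 * m + 1)) :
    MulAction.orbit (MulAction.stabilizer (Cfsg.Sz F m) (Cfsg.suzukiPointInfinity F))
      (Cfsg.suzukiPointZero F) = (ovPt F m) '' (Set.range some) := by
  ext p
  constructor
  · rintro ⟨⟨⟨g, hg⟩, hb⟩, rfl⟩
    rw [MulAction.mem_stabilizer_iff] at hb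
    change g • Cfsg.suzukiPointInfinity F = Cfsg.suzukiPointInfinity F at hb
    change g • Cfsg.suzukiPointZero F ∈ _
    rw [← ovPt_none (m := m)] at hb
    rw [← ovPt_zero (m := m)]
    obtain ⟨o', ho'⟩ := smul_mem_of_mem_Sz hg (some (0, 0))
    rcases o' with _ | xy
    · exfalso
      rw [← hb] at ho'
      have := ovPt_injective (MulAction.injective g ho')
      exact Option.some_ne_none _ this
    · rw [ho']
      exact ⟨some xy, ⟨xy, rfl⟩, rfl⟩
  · rintro ⟨_, ⟨⟨x, y⟩, rfl⟩, rfl⟩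
    have hb : (⟨szU F m x y, szU_mem hF x y⟩ : Cfsg.Sz F m) ∈
        MulAction.stabilizer (Cfsg.Sz F m) (Cfsg.suzukiPointInfinity F) := by
      rw [MulAction.mem_stabilizer_iff, ← ovPt_none (m := m)]
      exact szU_smul_none x y
    refine ⟨⟨⟨szU F m x y, szU_mem hF x y⟩, hb⟩, ?_⟩
    change szU F m x y • Cfsg.suzukiPointZero F = _
    rw [← ovPt_zero (m := m), szU_smul_some hF]
    simp

theorem card_point_stab (hm : 1 ≤ m) (hF : Fintype.card F = 2 ^ (2 * m + 1)) :
    Nat.card (MulAction.stabilizer (Cfsg.Sz F m) (Cfsg.suzukiPointInfinity F)) =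
      (Fintype.card F) ^ 2 * (Fintype.card F - 1) := by
  set B := MulAction.stabilizer (Cfsg.Sz F m) (Cfsg.suzukiPointInfinity F) with hB
  rw [← Subgroup.index_mul_card (MulAction.stabilizer B (Cfsg.suzukiPointZero F)),
    MulAction.index_stabilizer, orbit_zero hF, Set.ncard_image_of_injective _ ovPt_injective,
    ← Set.image_univ, Set.ncard_image_of_injective _ (Option.some_injective _), Set.ncard_univ,
    Nat.card_prod, Nat.card_eq_fintype_card]
  have e : ↥(MulAction.stabilizer B (Cfsg.suzukiPointZero F)) ≃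
      ↥(MulAction.stabilizer (Cfsg.Sz F m) (Cfsg.suzukiPointInfinity F) ⊓
        MulAction.stabilizer (Cfsg.Sz F m) (Cfsg.suzukiPointZero F)) :=
    { toFun := fun x => ⟨x.1.1, ⟨x.1.2, x.2⟩⟩
      invFun := fun k => ⟨⟨k.1, k.2.1⟩, k.2.2⟩
      left_inv := fun x => rfl
      right_inv := fun k => rfl }
  rw [Nat.card_congr e, card_two_point_stab hm hF, sq]

theorem orbit_infinity (hF : Fintype.card F = 2 ^ (2 * m + 1)) :
    MulAction.orbit (Cfsg.Sz F m) (Cfsg.suzukiPointInfinity F) = Cfsg.suzukiOvoid F m := by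
  ext p
  constructor
  · rintro ⟨⟨g, hg⟩, rfl⟩
    change g • Cfsg.suzukiPointInfinity F ∈ _
    rw [← ovPt_none (m := m)]
    obtain ⟨o', ho'⟩ := smul_mem_of_mem_Sz hg none
    rw [ho']
    exact ovPt_mem o'
  · intro hp
    rw [suzukiOvoid_eq_range] at hp
    obtain ⟨o, rfl⟩ := hp
    rcases o with _ | ⟨x, y⟩
    · refine ⟨1, ?_⟩
      show (1 : Cfsg.Sz F m) • Cfsg.suzukiPointInfinity F = _
      rw [one_smul]; rfl
    · refine ⟨⟨szU F m x y * szT F, (Cfsg.Sz F m).mul_mem (szU_mem hF x y) (szT_mem hF)⟩, ?_⟩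
      change (szU F m x y * szT F) • Cfsg.suzukiPointInfinity F = _
      rw [mul_smul, ← ovPt_none (m := m), szT_smul_none, szU_smul_some hF]
      simp

theorem card_Sz (hm : 1 ≤ m) (hF : Fintype.card F = 2 ^ (2 * m + 1)) :
    Nat.card (Cfsg.Sz F m) =
      (Fintype.card F) ^ 2 * ((Fintype.card F) ^ 2 + 1) * (Fintype.card F - 1) := by
  rw [← Subgroup.index_mul_card (MulAction.stabilizer (Cfsg.Sz F m) (Cfsg.suzukiPointInfinity F)),
    MulAction.index_stabilizer, orbit_infinity hF, card_point_stab hm hF,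
    ← Nat.card_coe_set_eq, card_suzukiOvoid]
  ring

end Cfsg.Agent.Helper6
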