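import Cfsg.Agent.Helper6.NTor6

/-!
# Additive maps compatible with the norm `a ↦ a ^ (σ + 1)` are semilinear
-/

set_option autoImplicit false

namespace Cfsg.Agent.Helper6

/-- Hua's identity -/
theorem hua_identity {K : Type*} [Field K] {a b : K} (ha : a ≠ 0) (hb : b ≠ 0)
    (hab : b⁻¹ - a ≠ 0) : a - (a⁻¹ + (b⁻¹ - a)⁻¹)⁻¹ = a * b * a := by
  have h1 : 1 - a * b ≠ 0 := by
    intro h
    apply hab
    have : b⁻¹ - a = (1 - a * b) * b⁻¹ := by field_simp
    rw [this, h, zero_mul]
  have h2 : b⁻¹ - a = (1 - a * b) / b := by field_simp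
  have h3 : a⁻¹ + (b⁻¹ - a)⁻¹ = 1 / (a * (1 - a * b)) := by
    rw [h2]
    field_simp
    ring
  rw [h3]
  field_simp
  ring

/-- Hua's argument: two additive maps related by inversion -/
theorem hua_map {K : Type*} [Field K] (f g : K →+ K) (hR : ∀ x : K, x ≠ 0 → f x * g x⁻¹ = 1)
    {a b : K} (ha : a ≠ 0) (hb : b ≠ 0) (hab : a * b ≠ 1) :
    f (a * b * a) = f a * g b * f a := by
  have hf0 : ∀ x : K, x ≠ 0 → f x ≠ 0 := by
    intro x hx h
    have := hR x hx
    rw [h, zero_mul] at this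
    exact zero_ne_one this
  have hginv : ∀ x : K, x ≠ 0 → g x⁻¹ = (f x)⁻¹ := by
    intro x hx
    exact eq_inv_of_mul_eq_one_right (hR x hx)
  have hfinv : ∀ x : K, x ≠ 0 → f x⁻¹ = (g x)⁻¹ := by
    intro x hx
    have := hR x⁻¹ (inv_ne_zero hx)
    rw [inv_inv] at this
    exact eq_inv_of_mul_eq_one_left this
  have hu : b⁻¹ - a ≠ 0 := by
    intro h
    apply hab
    rw [sub_eq_zero] at h
    rw [← h, inv_mul_cancel₀ hb]
  have hgb : g b ≠ 0 := by
    intro h
    have := hR b⁻¹ (inv_ne_zero hb)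
    rw [inv_inv, h, mul_zero] at this
    exact zero_ne_one this
  have hfu : f (b⁻¹ - a) = (g b)⁻¹ - f a := by
    rw [map_sub, hfinv b hb]
  have hfu0 : (g b)⁻¹ - f a ≠ 0 := by
    rw [← hfu]
    exact hf0 _ hu
  have hv : a⁻¹ + (b⁻¹ - a)⁻¹ ≠ 0 := by
    intro h
    have h1 := hua_identity ha hb hu
    rw [h, inv_zero, sub_zero] at h1
    -- `a = a * b * a`
    apply hab
    have : a * (a * b) = a * 1 := by
      rw [mul_one]
      calc a * (a * b) = a * b * a := by ring
        _ = a := h1.symm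
    exact mul_left_cancel₀ ha this
  have hgv : g (a⁻¹ + (b⁻¹ - a)⁻¹) = (f a)⁻¹ + ((g b)⁻¹ - f a)⁻¹ := by
    rw [map_add, hginv a ha, hginv _ hu, hfu]
  have key : a * b * a = a - (a⁻¹ + (b⁻¹ - a)⁻¹)⁻¹ := (hua_identity ha hb hu).symm
  rw [key, map_sub, hfinv _ hv, hgv]
  exact hua_identity (hf0 a ha) hgb hfu0

variable {F : Type*} [Field F] [Fintype F] {m : ℕ}

/-- the additive map `l ↦ l ^ σ + l` -/
noncomputable def wpHom (hF : Fintype.card F = 2 ^ (2 * m + 1)) : F →+ F where
  toFun := fun l => l ^ (2 ^ (m + 1)) + l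
  map_zero' := by simp
  map_add' := by
    intro x y
    show (x + y) ^ (2 ^ (m + 1)) + (x + y) = _
    rw [add_pow_sigma hF]
    ring

/-- the image of `l ↦ l ^ σ + l` -/
noncomputable def szT0 (hF : Fintype.card F = 2 ^ (2 * m + 1)) : AddSubgroup F := (wpHom hF).range

theorem mem_szT0_iff (hF : Fintype.card F = 2 ^ (2 * m + 1)) (u : F) :
    u ∈ szT0 hF ↔ ∃ l : F, l ^ (2 ^ (m + 1)) + l = u := Iff.rfl

theorem one_not_mem_szT0 (hF : Fintype.card F = 2 ^ (2 * m + 1)) : (1 : F) ∉ szT0 hF := by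
  have h2 : (2 : F) = 0 := two_eq_zero_of_card hF
  have hσ0 : (2 : ℕ) ^ (m + 1) ≠ 0 := by positivity
  rintro ⟨l, hl⟩
  change l ^ (2 ^ (m + 1)) + l = 1 at hl
  have hl1 : l ^ (2 ^ (m + 1)) = l + 1 := by
    linear_combination hl - l * h2
  have hl2 : (l ^ (2 ^ (m + 1))) ^ (2 ^ (m + 1)) = l := by
    rw [hl1, add_pow_sigma hF, one_pow, hl1]
    linear_combination h2
  rw [pow_sigma_sigma hF] at hl2
  have hl3 : l = 0 ∨ l = 1 := by
    have : l * (l - 1) = 0 := by linear_combination hl2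
    rcases mul_eq_zero.1 this with h | h
    · exact Or.inl h
    · exact Or.inr (sub_eq_zero.1 h)
  rcases hl3 with rfl | rfl
  · rw [zero_pow hσ0, add_zero] at hl
    exact zero_ne_one hl
  · rw [one_pow] at hl
    have : (1 : F) = 0 := by linear_combination hl
    exact one_ne_zero this

theorem szT0_index (hF : Fintype.card F = 2 ^ (2 * m + 1)) : (szT0 hF).index = 2 := by
  have h2 : (2 : F) = 0 := two_eq_zero_of_card hF
  have hneg : ∀ x : F, -x = x := by
    intro x
    linear_combination (-x) * h2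
  have h℘ : ∀ l, wpHom hF l = l ^ (2 ^ (m + 1)) + l := fun l => rfl
  have hker : ∀ l : F, wpHom hF l = 0 → l = 0 ∨ l = 1 := by
    intro l hl
    rw [h℘] at hl
    have hl' : l ^ (2 ^ (m + 1)) = l := by
      have := eq_neg_of_add_eq_zero_left hl
      rw [this, hneg]
    by_cases h0 : l = 0
    · exact Or.inl h0
    · right
      by_contra h1
      have hne : Units.mk0 l h0 ≠ 1 := by
        intro h
        apply h1
        have := congrArg Units.val h
        simpa using this
      exact unit_pow_sigma_ne hF hne hl'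
  have hone : wpHom hF 1 = 0 := by
    rw [h℘, one_pow]
    linear_combination h2
  have hcardker : Nat.card (wpHom hF).ker = 2 := by
    rw [Nat.card_eq_two_iff]
    refine ⟨⟨0, (wpHom hF).ker.zero_mem⟩, ⟨1, (AddMonoidHom.mem_ker).2 hone⟩, ?_, ?_⟩
    · intro h
      have := congrArg Subtype.val h
      exact zero_ne_one this
    · ext ⟨l, hl⟩
      simp only [Set.mem_insert_iff, Set.mem_singleton_iff, Set.mem_univ, iff_true]
      rcases hker l ((AddMonoidHom.mem_ker).1 hl) with h | h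
      · left; exact Subtype.ext h
      · right; exact Subtype.ext h
  have h3 := AddSubgroup.card_mul_index (wpHom hF).ker
  rw [AddSubgroup.index_ker, hcardker] at h3
  have h4 := AddSubgroup.card_mul_index (wpHom hF).range
  rw [← h3] at h4
  have hpos : 0 < Nat.card (wpHom hF).range := Nat.card_pos
  show (wpHom hF).range.index = 2
  nlinarith

theorem add_mem_szT0_iff (hF : Fintype.card F = 2 ^ (2 * m + 1)) (u v : F) :
    u + v ∈ szT0 hF ↔ (u ∈ szT0 hF ↔ v ∈ szT0 hF) :=
  AddSubgroup.add_mem_iff_of_index_two (szT0_index hF)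

/-- the polar form of the norm takes values in a multiple of the hyperplane -/
theorem polar_div_mem_szT0 (hF : Fintype.card F = 2 ^ (2 * m + 1)) {a : F} (ha : a ≠ 0) (d : F) :
    (a ^ (2 ^ (m + 1)) * d + a * d ^ (2 ^ (m + 1))) / (a ^ (2 ^ (m + 1)) * a) ∈ szT0 hF := by
  refine ⟨d / a, ?_⟩
  show (d / a) ^ (2 ^ (m + 1)) + d / a = _
  have ha' : a ^ (2 ^ (m + 1)) ≠ 0 := pow_ne_zero _ ha
  rw [div_pow]
  field_simp
  ring

section semilinear

variable (hF : Fintype.card F = 2 ^ (2 * m + 1)) (A B : F →+ F)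
  (hA : Function.Injective A) (hB : Function.Bijective B)
  (hBN : ∀ a : F, B (a ^ (2 ^ (m + 1)) * a) = (A a) ^ (2 ^ (m + 1)) * A a)

include hF hBN in
/-- polarisation -/
theorem norm_compat_polar (a d : F) :
    B (a ^ (2 ^ (m + 1)) * d + a * d ^ (2 ^ (m + 1))) =
      (A a) ^ (2 ^ (m + 1)) * A d + A a * (A d) ^ (2 ^ (m + 1)) := by
  have h1 := hBN (a + d)
  have e1 : (a + d) ^ (2 ^ (m + 1)) * (a + d) =
      a ^ (2 ^ (m + 1)) * a + d ^ (2 ^ (m + 1)) * d +
        (a ^ (2 ^ (m + 1)) * d + a * d ^ (2 ^ (m + 1))) := by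
    rw [add_pow_sigma hF]; ring
  have e2 : (A a + A d) ^ (2 ^ (m + 1)) * (A a + A d) =
      (A a) ^ (2 ^ (m + 1)) * A a + (A d) ^ (2 ^ (m + 1)) * A d +
        ((A a) ^ (2 ^ (m + 1)) * A d + A a * (A d) ^ (2 ^ (m + 1))) := by
    rw [add_pow_sigma hF]; ring
  have hB3 : B (a ^ (2 ^ (m + 1)) * a + d ^ (2 ^ (m + 1)) * d +
      (a ^ (2 ^ (m + 1)) * d + a * d ^ (2 ^ (m + 1)))) =
      B (a ^ (2 ^ (m + 1)) * a) + B (d ^ (2 ^ (m + 1)) * d) +
        B (a ^ (2 ^ (m + 1)) * d + a * d ^ (2 ^ (m + 1))) := by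
    rw [map_add, map_add]
  rw [e1, hB3, hBN, hBN, map_add A, e2] at h1
  exact add_left_cancel h1

include hA hBN in
theorem norm_compat_mem (c x : F) (hc : c ≠ 0) (hx : x / c ∈ szT0 hF) : B x / B c ∈ szT0 hF := by
  obtain ⟨a, hac⟩ := exists_pow_sigma_mul hF c
  have ha : a ≠ 0 := by
    rintro rfl
    rw [mul_zero] at hac
    exact hc hac.symm
  obtain ⟨l, hl⟩ := hx
  change l ^ (2 ^ (m + 1)) + l = x / c at hl
  have hx' : x = a ^ (2 ^ (m + 1)) * (l * a) + a * (l * a) ^ (2 ^ (m + 1)) := by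
    have : x = c * (l ^ (2 ^ (m + 1)) + l) := by rw [hl, mul_div_cancel₀ _ hc]
    rw [this, ← hac, mul_pow]; ring
  have hAa : A a ≠ 0 := by
    intro h
    apply ha
    apply hA
    rw [h, map_zero]
  rw [hx', norm_compat_polar hF A B hBN, ← hac, hBN]
  exact polar_div_mem_szT0 hF hAa _

include hA hB hBN in
theorem norm_compat_mem_iff (c x : F) (hc : c ≠ 0) :
    x / c ∈ szT0 hF ↔ B x / B c ∈ szT0 hF := by
  constructor
  · exact norm_compat_mem hF A B hA hBN c x hc
  · intro h
    by_contra hx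
    have hBc : B c ≠ 0 := by
      intro h0
      apply hc
      apply hB.1
      rw [h0, map_zero]
    have h1 : ¬ (c / c ∈ szT0 hF) := by
      rw [div_self hc]
      exact one_not_mem_szT0 hF
    have h2 : (c + x) / c ∈ szT0 hF := by
      rw [add_div, add_mem_szT0_iff]
      exact ⟨fun h' => absurd h' h1, fun h' => absurd h' hx⟩
    have h3 := norm_compat_mem hF A B hA hBN c (c + x) hc h2
    rw [map_add, add_div, div_self hBc, add_mem_szT0_iff] at h3
    exact one_not_mem_szT0 hF (h3.2 h)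

/-- the companion map `y ↦ (B y⁻¹)⁻¹` -/
noncomputable def compMap (y : F) : F := (B y⁻¹)⁻¹

include hA hB hBN in
theorem compMap_mem_iff (x y : F) :
    x * y ∈ szT0 hF ↔ B x * compMap B y ∈ szT0 hF := by
  unfold compMap
  by_cases hy : y = 0
  · rw [hy, mul_zero, inv_zero, map_zero, inv_zero, mul_zero]
  · have := norm_compat_mem_iff hF A B hA hB hBN y⁻¹ x (inv_ne_zero hy)
    rw [div_inv_eq_mul, div_eq_mul_inv] at this
    exact this

include hF hA hB hBN in
theorem compMap_add (y y' : F) : compMap B (y + y') = compMap B y + compMap B y' := by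
  have h2 : (2 : F) = 0 := two_eq_zero_of_card hF
  have key : ∀ x : F, B x * (compMap B (y + y') + compMap B y + compMap B y') ∈ szT0 hF := by
    intro x
    have e : B x * (compMap B (y + y') + compMap B y + compMap B y') =
        (B x * compMap B (y + y') + B x * compMap B y) + B x * compMap B y' := by ring
    rw [e, add_mem_szT0_iff, add_mem_szT0_iff,
      ← compMap_mem_iff hF A B hA hB hBN, ← compMap_mem_iff hF A B hA hB hBN,
      ← compMap_mem_iff hF A B hA hB hBN, mul_add, add_mem_szT0_iff]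
    tauto
  have hw : compMap B (y + y') + compMap B y + compMap B y' = 0 := by
    by_contra hw
    obtain ⟨x, hx⟩ := hB.2 (compMap B (y + y') + compMap B y + compMap B y')⁻¹
    have := key x
    rw [hx, inv_mul_cancel₀ hw] at this
    exact one_not_mem_szT0 hF this
  linear_combination hw - (compMap B y + compMap B y') * h2

end semilinear

/-- additive bijections compatible with the norm are semilinear -/
theorem semilinear_of_norm_compat (hF : Fintype.card F = 2 ^ (2 * m + 1)) (A B : F →+ F)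
    (hA : Function.Injective A) (hB : Function.Bijective B)
    (hBN : ∀ a : F, B (a ^ (2 ^ (m + 1)) * a) = (A a) ^ (2 ^ (m + 1)) * A a) :
    ∃ (μ : Fˣ) (f : F ≃+* F), (∀ a : F, A a = μ * f a) ∧
      (∀ b : F, B b = ((μ : F) ^ (2 ^ (m + 1)) * μ) * f b) := by
  have h2 : (2 : F) = 0 := two_eq_zero_of_card hF
  have hB0 : ∀ x : F, x ≠ 0 → B x ≠ 0 := by
    intro x hx h
    apply hx
    apply hB.1
    rw [h, map_zero]
  have hb1 : B 1 ≠ 0 := hB0 1 one_ne_zero
  -- the two normalised maps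
  let C : F →+ F :=
    { toFun := compMap B
      map_zero' := by unfold compMap; rw [inv_zero, map_zero, inv_zero]
      map_add' := compMap_add hF A B hA hB hBN }
  let f : F →+ F := (AddMonoidHom.mulLeft (B 1)⁻¹).comp B
  let g : F →+ F := (AddMonoidHom.mulLeft (B 1)).comp C
  have hf : ∀ x, f x = (B 1)⁻¹ * B x := fun x => rfl
  have hg : ∀ x, g x = B 1 * (B x⁻¹)⁻¹ := fun x => rfl
  have hf1 : f 1 = 1 := by rw [hf, inv_mul_cancel₀ hb1]
  have hR : ∀ x : F, x ≠ 0 → f x * g x⁻¹ = 1 := by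
    intro x hx
    rw [hf, hg, inv_inv]
    have := hB0 x hx
    field_simp
  have hg1 : g 1 = 1 := by
    have := hR 1 one_ne_zero
    rwa [hf1, one_mul, inv_one] at this
  have hfg : ∀ b : F, f b = g b := by
    intro b
    by_cases hb : b = 0
    · rw [hb, map_zero, map_zero]
    by_cases hb' : b = 1
    · rw [hb', hf1, hg1]
    have := hua_map f g hR (a := 1) (b := b) one_ne_zero hb (by rwa [one_mul])
    rwa [one_mul, mul_one, hf1, one_mul, mul_one] at this
  have hfinv : ∀ a : F, a ≠ 0 → f a⁻¹ = (f a)⁻¹ := by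
    intro a ha
    have := hR a⁻¹ (inv_ne_zero ha)
    rw [inv_inv, ← hfg] at this
    exact eq_inv_of_mul_eq_one_left this
  have hf0 : ∀ x : F, x ≠ 0 → f x ≠ 0 := by
    intro x hx
    rw [hf]
    exact mul_ne_zero (inv_ne_zero hb1) (hB0 x hx)
  have hH : ∀ a b : F, f (a * b * a) = f a * f b * f a := by
    intro a b
    by_cases ha : a = 0
    · rw [ha, zero_mul, zero_mul, map_zero, zero_mul, zero_mul]
    by_cases hb : b = 0
    · rw [hb, mul_zero, zero_mul, map_zero, mul_zero, zero_mul]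
    by_cases hab : a * b = 1
    · rw [hab, one_mul]
      have hb' : b = a⁻¹ := eq_inv_of_mul_eq_one_right hab
      rw [hb', hfinv a ha, mul_inv_cancel₀ (hf0 a ha), one_mul]
    · rw [hua_map f g hR ha hb hab, hfg b]
  have hsq : ∀ a : F, f (a * a) = f a * f a := by
    intro a
    have := hH a 1
    rwa [mul_one, hf1, mul_one] at this
  have hmul : ∀ c b : F, f (c * b) = f c * f b := by
    intro c b
    obtain ⟨a, ha⟩ : ∃ a : F, a * a = c := by
      by_cases hc : c = 0
      · exact ⟨0, by rw [hc, mul_zero]⟩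
      · obtain ⟨t, ht⟩ := exists_unit_sq hF (Units.mk0 c hc)
        refine ⟨(t : F), ?_⟩
        have := congrArg Units.val ht
        rwa [Units.val_mul, Units.val_mk0] at this
    rw [← ha, hsq]
    have := hH a b
    rw [show a * b * a = a * a * b by ring, show f a * f b * f a = f a * f a * f b by ring] at this
    exact this
  let fr : F →+* F :=
    { toFun := f
      map_one' := hf1
      map_mul' := hmul
      map_zero' := map_zero f
      map_add' := map_add f }
  have hinj : Function.Injective fr := fr.injective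
  have hbij : Function.Bijective fr := ⟨hinj, Finite.injective_iff_surjective.1 hinj⟩
  obtain ⟨μ0, hμ0⟩ := exists_pow_sigma_mul hF (B 1)
  have hμne : μ0 ≠ 0 := by
    rintro rfl
    rw [mul_zero] at hμ0
    exact hb1 hμ0.symm
  have hBf : ∀ b : F, B b = B 1 * f b := by
    intro b
    rw [hf, ← mul_assoc, mul_inv_cancel₀ hb1, one_mul]
  refine ⟨Units.mk0 μ0 hμne, RingEquiv.ofBijective fr hbij, ?_, ?_⟩
  · intro a
    show A a = μ0 * f a
    apply pow_sigma_succ_injective hF
    show (A a) ^ (2 ^ (m + 1) + 1) = (μ0 * f a) ^ (2 ^ (m + 1) + 1)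
    rw [pow_succ (A a), pow_succ (μ0 * f a), ← hBN, hBf, ← hμ0, mul_pow]
    have : f (a ^ (2 ^ (m + 1)) * a) = (f a) ^ (2 ^ (m + 1)) * f a := by
      rw [hmul]
      congr 1
      exact map_pow fr a _
    rw [this]
    ring
  · intro b
    show B b = (μ0 ^ (2 ^ (m + 1)) * μ0) * f b
    rw [hμ0]
    exact hBf b

end Cfsg.Agent.Helper6
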