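import Cfsg.Agent.Helper6.AutQ1

/-!
# Automorphisms of the Sylow 2-subgroup of the Suzuki group: components
-/

set_option autoImplicit false

namespace Cfsg.Agent.Helper6

variable {F : Type*} [Field F] [Fintype F] {m : ℕ}

/-- a parametrisation of a group by pairs of field elements, with the multiplication of the
Sylow `2`-subgroup of the Suzuki group -/
structure SuzPar (F : Type*) [Field F] (m : ℕ) (Q : Type*) [Group Q] where
  /-- the parametrisation -/
  u : F → F → Q
  /-- the multiplication rule -/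
  mul : ∀ a b c d : F, u a b * u c d = u (a + c) (b + d + a ^ (2 ^ (m + 1)) * c)
  /-- injectivity -/
  inj : ∀ a b c d : F, u a b = u c d → a = c ∧ b = d
  /-- surjectivity -/
  surj : ∀ x : Q, ∃ a b : F, x = u a b

theorem norm_eq_zero_iff {a : F} : a ^ (2 ^ (m + 1)) * a = 0 ↔ a = 0 := by
  constructor
  · intro h
    rcases mul_eq_zero.1 h with h | h
    · exact (pow_eq_zero_iff (pow_ne_zero (m + 1) two_ne_zero)).1 h
    · exact h
  · rintro rfl
    rw [mul_zero]

namespace SuzPar

variable {Q : Type*} [Group Q] (p : SuzPar F m Q)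

/-- first coordinate -/
noncomputable def cA (x : Q) : F := (p.surj x).choose

/-- second coordinate -/
noncomputable def cB (x : Q) : F := (p.surj x).choose_spec.choose

theorem u_cA_cB (x : Q) : p.u (p.cA x) (p.cB x) = x :=
  (p.surj x).choose_spec.choose_spec.symm

theorem cA_u (a b : F) : p.cA (p.u a b) = a := (p.inj _ _ _ _ (p.u_cA_cB (p.u a b))).1

theorem cB_u (a b : F) : p.cB (p.u a b) = b := (p.inj _ _ _ _ (p.u_cA_cB (p.u a b))).2

theorem u_zero : p.u 0 0 = 1 := by
  have h := p.mul 0 0 0 0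
  simp only [add_zero, mul_zero] at h
  exact mul_left_cancel (h.trans (mul_one _).symm)

theorem cA_mul (x y : Q) : p.cA (x * y) = p.cA x + p.cA y := by
  obtain ⟨a, b, rfl⟩ := p.surj x
  obtain ⟨c, d, rfl⟩ := p.surj y
  rw [p.mul, p.cA_u, p.cA_u, p.cA_u]

theorem cA_one : p.cA 1 = 0 := by rw [← p.u_zero, p.cA_u]

theorem cB_one : p.cB 1 = 0 := by rw [← p.u_zero, p.cB_u]

theorem u_split (a b : F) : p.u a b = p.u a 0 * p.u 0 b := by
  rw [p.mul, add_zero, zero_add, mul_zero, add_zero]

theorem u_zero_mul (b d : F) : p.u 0 b * p.u 0 d = p.u 0 (b + d) := by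
  rw [p.mul, add_zero, zero_pow (pow_ne_zero (m + 1) two_ne_zero), zero_mul, add_zero]

/-- the second coordinate of the image of `u a 0` -/
noncomputable def autL (α : MulAut Q) (a : F) : F := p.cB (α (p.u a 0))

theorem autL_zero (α : MulAut Q) : p.autL α 0 = 0 := by
  unfold autL
  rw [p.u_zero, map_one, p.cB_one]

/-- the second coordinate of the image of `u 0 b` -/
noncomputable def autBfun (α : MulAut Q) (b : F) : F := p.cB (α (p.u 0 b))

variable (hF : Fintype.card F = 2 ^ (2 * m + 1))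
include hF

theorem u_sq (a b : F) : p.u a b * p.u a b = p.u 0 (a ^ (2 ^ (m + 1)) * a) := by
  have h2 := two_eq_zero_of_card hF
  have haa : ∀ x : F, x + x = 0 := fun x => by rw [← two_mul, h2, zero_mul]
  rw [p.mul, haa, haa, zero_add]

theorem sq_eq_one_iff (x : Q) : x * x = 1 ↔ p.cA x = 0 := by
  obtain ⟨a, b, rfl⟩ := p.surj x
  rw [p.u_sq hF, p.cA_u, ← p.u_zero]
  constructor
  · intro h
    exact norm_eq_zero_iff.1 (p.inj _ _ _ _ h).2
  · rintro rfl
    rw [mul_zero]

theorem cA_aut_zero (α : MulAut Q) (b : F) : p.cA (α (p.u 0 b)) = 0 := by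
  rw [← p.sq_eq_one_iff hF, ← map_mul, p.u_sq hF, mul_zero, p.u_zero, map_one]

/-- the first component of an automorphism -/
noncomputable def autA (α : MulAut Q) : F →+ F where
  toFun a := p.cA (α (p.u a 0))
  map_zero' := by rw [p.u_zero, map_one, p.cA_one]
  map_add' a c := by
    have h : p.u a 0 * p.u c 0 = p.u (a + c) 0 * p.u 0 (a ^ (2 ^ (m + 1)) * c) := by
      rw [p.mul, p.mul]
      congr 1 <;> ring
    have h' := congrArg (fun x => p.cA (α x)) h
    simp only [map_mul, p.cA_mul, p.cA_aut_zero hF, add_zero] at h'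
    exact h'.symm

theorem autA_apply (α : MulAut Q) (a : F) : p.autA hF α a = p.cA (α (p.u a 0)) := rfl

theorem cA_aut (α : MulAut Q) (x : Q) : p.cA (α x) = p.autA hF α (p.cA x) := by
  obtain ⟨a, b, rfl⟩ := p.surj x
  rw [p.cA_u, p.u_split a b, map_mul, p.cA_mul, p.cA_aut_zero hF, add_zero]
  rfl

theorem autA_mul (α β : MulAut Q) (a : F) :
    p.autA hF (α * β) a = p.autA hF α (p.autA hF β a) := by
  rw [autA_apply, MulAut.mul_apply, p.cA_aut hF, ← autA_apply]

theorem autA_one (a : F) : p.autA hF 1 a = a := by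
  rw [autA_apply, MulAut.one_apply, p.cA_u]

theorem autA_injective (α : MulAut Q) : Function.Injective (p.autA hF α) := by
  rw [injective_iff_map_eq_zero]
  intro a ha
  rw [autA_apply, ← p.sq_eq_one_iff hF, ← map_mul, p.u_sq hF] at ha
  have h1 := (MulEquiv.map_eq_one_iff α).1 ha
  rw [← p.u_zero] at h1
  exact norm_eq_zero_iff.1 (p.inj _ _ _ _ h1).2

theorem aut_u_zero' (α : MulAut Q) (b : F) : α (p.u 0 b) = p.u 0 (p.autBfun α b) := by
  conv_lhs => rw [← p.u_cA_cB (α (p.u 0 b)), p.cA_aut_zero hF]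
  rfl

/-- the second component of an automorphism -/
noncomputable def autB (α : MulAut Q) : F →+ F where
  toFun := p.autBfun α
  map_zero' := by
    unfold autBfun
    rw [p.u_zero, map_one, p.cB_one]
  map_add' b d := by
    have h : α (p.u 0 b) * α (p.u 0 d) = α (p.u 0 (b + d)) := by
      rw [← map_mul, p.u_zero_mul]
    rw [p.aut_u_zero' hF, p.aut_u_zero' hF, p.aut_u_zero' hF, p.u_zero_mul] at h
    exact ((p.inj _ _ _ _ h).2).symm

theorem aut_u_zero (α : MulAut Q) (b : F) : α (p.u 0 b) = p.u 0 (p.autB hF α b) :=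
  p.aut_u_zero' hF α b

theorem autB_injective (α : MulAut Q) : Function.Injective (p.autB hF α) := by
  rw [injective_iff_map_eq_zero]
  intro b hb
  have h1 := p.aut_u_zero hF α b
  rw [hb, p.u_zero] at h1
  have h2 := (MulEquiv.map_eq_one_iff α).1 h1
  rw [← p.u_zero] at h2
  exact (p.inj _ _ _ _ h2).2

theorem autB_bijective (α : MulAut Q) : Function.Bijective (p.autB hF α) :=
  ⟨p.autB_injective hF α, Finite.injective_iff_surjective.1 (p.autB_injective hF α)⟩

theorem autB_norm (α : MulAut Q) (a : F) :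
    p.autB hF α (a ^ (2 ^ (m + 1)) * a) =
      (p.autA hF α a) ^ (2 ^ (m + 1)) * p.autA hF α a := by
  have h1 : α (p.u a 0) * α (p.u a 0) = α (p.u 0 (a ^ (2 ^ (m + 1)) * a)) := by
    rw [← map_mul, p.u_sq hF]
  rw [p.aut_u_zero hF, ← p.u_cA_cB (α (p.u a 0)), p.u_sq hF] at h1
  exact ((p.inj _ _ _ _ h1).2).symm

/-- every automorphism is semilinear on the first coordinate -/
theorem exists_semilinear (α : MulAut Q) :
    ∃ (μ : Fˣ) (f : F ≃+* F), ∀ a : F, p.autA hF α a = μ * f a := by
  obtain ⟨μ, f, h1, -⟩ := semilinear_of_norm_compat hF (p.autA hF α) (p.autB hF α)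
    (p.autA_injective hF α) (p.autB_bijective hF α) (p.autB_norm hF α)
  exact ⟨μ, f, h1⟩

/-- the first component as a permutation -/
noncomputable def autAEquiv (α : MulAut Q) : Equiv.Perm F :=
  { toFun := p.autA hF α
    invFun := p.autA hF α⁻¹
    left_inv := fun a => by rw [← p.autA_mul hF, inv_mul_cancel, p.autA_one hF]
    right_inv := fun a => by rw [← p.autA_mul hF, mul_inv_cancel, p.autA_one hF] }

/-- the first component as a homomorphism -/
noncomputable def autAHom : MulAut Q →* Equiv.Perm F where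
  toFun := p.autAEquiv hF
  map_one' := by
    apply Equiv.ext
    intro a
    exact p.autA_one hF a
  map_mul' α β := by
    apply Equiv.ext
    intro a
    exact p.autA_mul hF α β a

theorem autAHom_apply (α : MulAut Q) (a : F) : p.autAHom hF α a = p.autA hF α a := rfl

theorem mem_ker_iff (α : MulAut Q) :
    α ∈ (p.autAHom hF).ker ↔ ∀ a : F, p.autA hF α a = a := by
  rw [MonoidHom.mem_ker]
  constructor
  · intro h a
    rw [← autAHom_apply, h]
    rfl
  · intro h
    apply Equiv.ext
    intro a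
    exact h a

theorem autB_of_mem_ker {α : MulAut Q} (hα : α ∈ (p.autAHom hF).ker) (b : F) :
    p.autB hF α b = b := by
  obtain ⟨a, rfl⟩ := exists_pow_sigma_mul hF b
  rw [p.autB_norm hF, (p.mem_ker_iff hF α).1 hα]

theorem aut_apply_of_mem_ker {α : MulAut Q} (hα : α ∈ (p.autAHom hF).ker) (a b : F) :
    α (p.u a b) = p.u a (b + p.autL α a) := by
  rw [p.u_split a b, map_mul, p.aut_u_zero hF, p.autB_of_mem_ker hF hα]
  have h1 : α (p.u a 0) = p.u a (p.autL α a) := by
    conv_lhs => rw [← p.u_cA_cB (α (p.u a 0))]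
    have h2 := (p.mem_ker_iff hF α).1 hα a
    rw [autA_apply] at h2
    rw [h2]
    rfl
  rw [h1, p.mul]
  congr 1 <;> ring

theorem autL_add {α : MulAut Q} (hα : α ∈ (p.autAHom hF).ker) (a c : F) :
    p.autL α (a + c) = p.autL α a + p.autL α c := by
  have h : α (p.u a 0) * α (p.u c 0) = α (p.u (a + c) (a ^ (2 ^ (m + 1)) * c)) := by
    rw [← map_mul, p.mul]
    congr 2
    ring
  rw [p.aut_apply_of_mem_ker hF hα, p.aut_apply_of_mem_ker hF hα,
    p.aut_apply_of_mem_ker hF hα, p.mul] at h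
  have h1 := (p.inj _ _ _ _ h).2
  linear_combination (-1 : F) * h1

theorem ker_comm {α β : MulAut Q} (hα : α ∈ (p.autAHom hF).ker)
    (hβ : β ∈ (p.autAHom hF).ker) : α * β = β * α := by
  apply MulEquiv.ext
  intro x
  obtain ⟨a, b, rfl⟩ := p.surj x
  rw [MulAut.mul_apply, MulAut.mul_apply, p.aut_apply_of_mem_ker hF hβ,
    p.aut_apply_of_mem_ker hF hα, p.aut_apply_of_mem_ker hF hα, p.aut_apply_of_mem_ker hF hβ]
  congr 1
  ring

theorem ker_sq {α : MulAut Q} (hα : α ∈ (p.autAHom hF).ker) : α ^ 2 = 1 := by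
  apply MulEquiv.ext
  intro x
  obtain ⟨a, b, rfl⟩ := p.surj x
  rw [pow_two, MulAut.mul_apply, p.aut_apply_of_mem_ker hF hα, p.aut_apply_of_mem_ker hF hα,
    MulAut.one_apply]
  congr 1
  have h2 := two_eq_zero_of_card hF
  linear_combination p.autL α a * h2

/-- the kernel of the first-component homomorphism is elementary abelian -/
theorem ker_isElementaryAbelian : Cfsg.IsElementaryAbelian 2 (p.autAHom hF).ker := by
  refine ⟨⟨⟨fun α β => Subtype.ext (p.ker_comm hF α.2 β.2)⟩⟩, ?_⟩
  intro α hα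
  exact p.ker_sq hF hα

end SuzPar

end Cfsg.Agent.Helper6
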