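import Cfsg.Agent.Helper6.AutQ2
import Cfsg.Prelude.Def_Solvable

/-!
# Automorphisms of the Sylow 2-subgroup of the Suzuki group: the automorphism group
-/

set_option autoImplicit false

namespace Cfsg.Agent.Helper6

variable {F : Type*} [Field F] [Fintype F] {m : ℕ}

/-- the number of additive endomorphisms of the field -/
theorem card_addMonoidHom (hF : Fintype.card F = 2 ^ (2 * m + 1)) :
    Nat.card (F →+ F) = 2 ^ ((2 * m + 1) ^ 2) := by
  have : CharP F 2 := CharTwo.of_one_ne_zero_of_two_eq_zero one_ne_zero (two_eq_zero_of_card hF)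
  letI : Algebra (ZMod 2) F := ZMod.algebra F 2
  rw [Nat.card_congr (AddMonoidHom.toZModLinearMapEquiv 2 (M := F) (M₁ := F)).toEquiv]
  have h1 := Module.card_eq_pow_finrank (K := ZMod 2) (V := F)
  rw [hF, ZMod.card] at h1
  have h2 : Module.finrank (ZMod 2) F = 2 * m + 1 := (Nat.pow_right_injective le_rfl h1).symm
  rw [Module.natCard_eq_pow_finrank (K := ZMod 2) (V := F →ₗ[ZMod 2] F),
    Module.finrank_linearMap, h2, Nat.card_zmod, sq]

namespace SuzPar

variable {Q : Type*} [Group Q] (p : SuzPar F m Q)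

/-- the endomorphism with given components -/
noncomputable def mkHom (A B L : F →+ F)
    (h : ∀ a c : F, B (a ^ (2 ^ (m + 1)) * c) = (A a) ^ (2 ^ (m + 1)) * A c) : Q →* Q where
  toFun x := p.u (A (p.cA x)) (B (p.cB x) + L (p.cA x))
  map_one' := by
    rw [p.cA_one, p.cB_one, map_zero, map_zero, map_zero, add_zero, p.u_zero]
  map_mul' x y := by
    obtain ⟨a, b, rfl⟩ := p.surj x
    obtain ⟨c, d, rfl⟩ := p.surj y
    rw [p.mul, p.cA_u, p.cB_u, p.cA_u, p.cB_u, p.cA_u, p.cB_u, p.mul, map_add, map_add, map_add,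
      map_add, h]
    congr 1
    abel

theorem mkHom_u (A B L : F →+ F)
    (h : ∀ a c : F, B (a ^ (2 ^ (m + 1)) * c) = (A a) ^ (2 ^ (m + 1)) * A c) (a b : F) :
    p.mkHom A B L h (p.u a b) = p.u (A a) (B b + L a) := by
  show p.u (A (p.cA (p.u a b))) (B (p.cB (p.u a b)) + L (p.cA (p.u a b))) = _
  rw [p.cA_u, p.cB_u]

theorem mkHom_injective (A B L : F →+ F)
    (h : ∀ a c : F, B (a ^ (2 ^ (m + 1)) * c) = (A a) ^ (2 ^ (m + 1)) * A c)
    (hA : Function.Injective A) (hB : Function.Injective B) :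
    Function.Injective (p.mkHom A B L h) := by
  rw [injective_iff_map_eq_one]
  intro x hx
  obtain ⟨a, b, rfl⟩ := p.surj x
  rw [p.mkHom_u, ← p.u_zero] at hx
  obtain ⟨h1, h2⟩ := p.inj _ _ _ _ hx
  have ha : a = 0 := by
    apply hA
    rw [h1, map_zero]
  subst ha
  rw [map_zero, add_zero] at h2
  have hb : b = 0 := by
    apply hB
    rw [h2, map_zero]
  rw [hb]
  exact p.u_zero

/-- the automorphism with given components -/
noncomputable def mkAut [Finite Q] (A B L : F →+ F)
    (h : ∀ a c : F, B (a ^ (2 ^ (m + 1)) * c) = (A a) ^ (2 ^ (m + 1)) * A c)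
    (hA : Function.Injective A) (hB : Function.Injective B) : MulAut Q :=
  MulEquiv.ofBijective (p.mkHom A B L h)
    ⟨p.mkHom_injective A B L h hA hB,
      Finite.injective_iff_surjective.1 (p.mkHom_injective A B L h hA hB)⟩

theorem mkAut_u [Finite Q] (A B L : F →+ F)
    (h : ∀ a c : F, B (a ^ (2 ^ (m + 1)) * c) = (A a) ^ (2 ^ (m + 1)) * A c)
    (hA : Function.Injective A) (hB : Function.Injective B) (a b : F) :
    p.mkAut A B L h hA hB (p.u a b) = p.u (A a) (B b + L a) :=
  p.mkHom_u A B L h a b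

/-- the diagonal-field automorphisms: first component -/
noncomputable def semiA (μ : Fˣ) (f : F ≃+* F) : F →+ F :=
  (AddMonoidHom.mulLeft (μ : F)).comp f.toRingHom.toAddMonoidHom

omit [Fintype F] in
theorem semiA_apply (μ : Fˣ) (f : F ≃+* F) (a : F) : semiA μ f a = μ * f a := rfl

omit [Fintype F] in
theorem semiA_injective (μ : Fˣ) (f : F ≃+* F) : Function.Injective (semiA μ f) := by
  intro a c hac
  rw [semiA_apply, semiA_apply] at hac
  exact f.injective (mul_left_cancel₀ μ.ne_zero hac)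

/-- the diagonal-field automorphisms: second component -/
noncomputable def semiB (μ : Fˣ) (f : F ≃+* F) : F →+ F :=
  (AddMonoidHom.mulLeft ((μ : F) ^ (2 ^ (m + 1)) * μ)).comp f.toRingHom.toAddMonoidHom

omit [Fintype F] in
theorem semiB_apply (μ : Fˣ) (f : F ≃+* F) (a : F) :
    semiB (m := m) μ f a = ((μ : F) ^ (2 ^ (m + 1)) * μ) * f a := rfl

omit [Fintype F] in
theorem semiB_injective (μ : Fˣ) (f : F ≃+* F) : Function.Injective (semiB (m := m) μ f) := by
  intro a c hac
  rw [semiB_apply, semiB_apply] at hac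
  exact f.injective (mul_left_cancel₀
    (mul_ne_zero (pow_ne_zero _ μ.ne_zero) μ.ne_zero) hac)

omit [Fintype F] in
theorem semi_compat (μ : Fˣ) (f : F ≃+* F) (a c : F) :
    semiB (m := m) μ f (a ^ (2 ^ (m + 1)) * c) =
      (semiA μ f a) ^ (2 ^ (m + 1)) * semiA μ f c := by
  rw [semiB_apply, semiA_apply, semiA_apply, map_mul, map_pow, mul_pow]
  ring

/-- the diagonal-field automorphism -/
noncomputable def semiAut [Finite Q] (x : Fˣ × (F ≃+* F)) : MulAut Q :=
  p.mkAut (semiA x.1 x.2) (semiB x.1 x.2) 0 (semi_compat x.1 x.2) (semiA_injective x.1 x.2)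
    (semiB_injective x.1 x.2)

variable (hF : Fintype.card F = 2 ^ (2 * m + 1))
include hF

theorem autA_mkAut [Finite Q] (A B L : F →+ F)
    (h : ∀ a c : F, B (a ^ (2 ^ (m + 1)) * c) = (A a) ^ (2 ^ (m + 1)) * A c)
    (hA : Function.Injective A) (hB : Function.Injective B) (a : F) :
    p.autA hF (p.mkAut A B L h hA hB) a = A a := by
  rw [autA_apply, p.mkAut_u, p.cA_u]

theorem autA_semiAut [Finite Q] (x : Fˣ × (F ≃+* F)) (a : F) :
    p.autA hF (p.semiAut x) a = x.1 * x.2 a :=
  p.autA_mkAut hF _ _ _ _ _ _ a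

/-- the kernel is in bijection with the additive endomorphisms -/
theorem card_ker [Finite Q] : Nat.card (p.autAHom hF).ker = 2 ^ ((2 * m + 1) ^ 2) := by
  rw [← card_addMonoidHom hF]
  let Φ : (p.autAHom hF).ker → (F →+ F) := fun α =>
    { toFun := p.autL α.1
      map_zero' := p.autL_zero α.1
      map_add' := p.autL_add hF α.2 }
  have hΦ : ∀ (α : (p.autAHom hF).ker) (a : F), Φ α a = p.autL α.1 a := fun _ _ => rfl
  apply Nat.card_congr
  apply Equiv.ofBijective Φ
  constructor
  · intro α β hαβ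
    apply Subtype.ext
    apply MulEquiv.ext
    intro x
    obtain ⟨a, b, rfl⟩ := p.surj x
    rw [p.aut_apply_of_mem_ker hF α.2, p.aut_apply_of_mem_ker hF β.2, ← hΦ, ← hΦ, hαβ]
  · intro L
    have hid : ∀ a c : F, (AddMonoidHom.id F) (a ^ (2 ^ (m + 1)) * c) =
        ((AddMonoidHom.id F) a) ^ (2 ^ (m + 1)) * (AddMonoidHom.id F) c := fun _ _ => rfl
    let α : MulAut Q := p.mkAut (AddMonoidHom.id F) (AddMonoidHom.id F) L hid
      Function.injective_id Function.injective_id
    have hα : α ∈ (p.autAHom hF).ker := by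
      rw [p.mem_ker_iff hF]
      intro a
      rw [p.autA_mkAut hF]
      rfl
    refine ⟨⟨α, hα⟩, ?_⟩
    apply AddMonoidHom.ext
    intro a
    rw [hΦ]
    show p.cB (α (p.u a 0)) = L a
    rw [p.mkAut_u, p.cB_u]
    show (0 : F) + L a = L a
    rw [zero_add]

/-- the image of the first-component homomorphism -/
theorem card_range [Finite Q] :
    Nat.card (p.autAHom hF).range = (2 * m + 1) * (2 ^ (2 * m + 1) - 1) := by
  have e : Fˣ × (F ≃+* F) ≃ (p.autAHom hF).range := by
    apply Equiv.ofBijective (fun x => (⟨p.autAHom hF (p.semiAut x), ⟨p.semiAut x, rfl⟩⟩ :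
      (p.autAHom hF).range))
    constructor
    · rintro ⟨μ, f⟩ ⟨μ', f'⟩ h
      have h1 : ∀ a : F, (μ : F) * f a = μ' * f' a := by
        intro a
        have h2 := congrArg (fun y : (p.autAHom hF).range => (y : Equiv.Perm F) a) h
        simp only [autAHom_apply, autA_semiAut] at h2
        exact h2
      have hμ : μ = μ' := by
        apply Units.ext
        have := h1 1
        rwa [map_one, map_one, mul_one, mul_one] at this
      subst hμ
      have hf : f = f' := by
        apply RingEquiv.ext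
        intro a
        exact mul_left_cancel₀ μ.ne_zero (h1 a)
      rw [hf]
    · rintro ⟨_, α, rfl⟩
      obtain ⟨μ, f, h⟩ := p.exists_semilinear hF α
      refine ⟨(μ, f), ?_⟩
      apply Subtype.ext
      apply Equiv.ext
      intro a
      show p.autAHom hF (p.semiAut (μ, f)) a = p.autAHom hF α a
      rw [autAHom_apply, autAHom_apply, autA_semiAut, h]
  rw [← Nat.card_congr e, Nat.card_prod, Nat.card_units, card_ringAut hF,
    Nat.card_eq_fintype_card, hF, mul_comm]

include p in
/-- the order of the automorphism group -/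
theorem card_mulAut [Finite Q] :
    Nat.card (MulAut Q) = 2 ^ ((2 * m + 1) ^ 2) * ((2 * m + 1) * (2 ^ (2 * m + 1) - 1)) := by
  rw [← Subgroup.card_mul_index (p.autAHom hF).ker, Subgroup.index_ker, p.card_ker hF,
    p.card_range hF]

/-- the largest normal `2`-subgroup of the automorphism group -/
theorem pCore_eq_ker [Finite Q] : Cfsg.pCore 2 (MulAut Q) = (p.autAHom hF).ker := by
  apply le_antisymm
  · apply sSup_le
    rintro N ⟨-, hN2⟩ x hx
    rw [MonoidHom.mem_ker]
    obtain ⟨k, hk⟩ := hN2 ⟨x, hx⟩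
    have hx2 : x ^ (2 ^ k) = 1 := congrArg Subtype.val hk
    have h1 : (p.autAHom hF x) ^ (2 ^ k) = 1 := by rw [← map_pow, hx2, map_one]
    have h2 : (p.autAHom hF x) ^ ((2 * m + 1) * (2 ^ (2 * m + 1) - 1)) = 1 := by
      have h3 := pow_card_eq_one' (G := (p.autAHom hF).range) (x := ⟨p.autAHom hF x, x, rfl⟩)
      rw [p.card_range hF] at h3
      exact congrArg Subtype.val h3
    have hcop : Nat.Coprime (2 ^ k) ((2 * m + 1) * (2 ^ (2 * m + 1) - 1)) := by
      apply Nat.Coprime.pow_left
      rw [Nat.coprime_two_left]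
      apply Odd.mul
      · exact ⟨m, rfl⟩
      · have h4 : 2 ^ (2 * m + 1) = 2 * 2 ^ (2 * m) := by rw [pow_succ, mul_comm]
        have h5 : 0 < 2 ^ (2 * m) := by positivity
        exact ⟨2 ^ (2 * m) - 1, by omega⟩
    have h3 := pow_gcd_eq_one.2 ⟨h1, h2⟩
    rwa [Nat.Coprime.gcd_eq_one hcop, pow_one] at h3
  · apply le_sSup
    exact ⟨inferInstance, IsPGroup.of_card (p.card_ker hF)⟩

include p in
/-- the structure of the automorphism group of a group parametrised like the Sylow `2`-subgroup of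
the Suzuki group -/
theorem aut_structure [Finite Q] :
    Cfsg.IsElementaryAbelian 2 (Cfsg.pCore 2 (MulAut Q)) ∧
      Nat.card (Cfsg.pCore 2 (MulAut Q)) = 2 ^ ((2 * m + 1) ^ 2) ∧
      Nat.card (MulAut Q) = 2 ^ ((2 * m + 1) ^ 2) * ((2 * m + 1) * (2 ^ (2 * m + 1) - 1)) := by
  rw [p.pCore_eq_ker hF]
  exact ⟨p.ker_isElementaryAbelian hF, p.card_ker hF, p.card_mulAut hF⟩

end SuzPar

end Cfsg.Agent.Helper6
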