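import Cfsg.Agent.Helper6.BN

set_option autoImplicit false

namespace Cfsg.Agent.Helper6

open DoubleCoset

variable {G : Type*} [Group G] (P : Cfsg.BNPair G)

/-! ### congruence modulo `T = B ⊓ N` -/

/-- `n` and `n'` are congruent modulo `B ⊓ N` (on the right) -/
def Rel (n n' : G) : Prop := n⁻¹ * n' ∈ P.B ⊓ P.N

variable {P}

theorem Rel.refl (n : G) : Rel P n n := by
  unfold Rel; rw [inv_mul_cancel]; exact Subgroup.one_mem _

theorem Rel.symm {n n' : G} (h : Rel P n n') : Rel P n' n := by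
  unfold Rel at *
  have := (P.B ⊓ P.N).inv_mem h
  rwa [mul_inv_rev, inv_inv] at this

theorem Rel.trans {a b c : G} (h1 : Rel P a b) (h2 : Rel P b c) : Rel P a c := by
  unfold Rel at *
  have := (P.B ⊓ P.N).mul_mem h1 h2
  rwa [mul_assoc, mul_inv_cancel_left] at this

theorem Rel.mul_left {n n' : G} (m : G) (h : Rel P n n') : Rel P (m * n) (m * n') := by
  unfold Rel at *
  have : (m * n)⁻¹ * (m * n') = n⁻¹ * n' := by group
  rwa [this]

theorem Rel.mul_right {n n' m : G} (hm : m ∈ P.N) (h : Rel P n n') : Rel P (n * m) (n' * m) := by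
  unfold Rel at *
  have : (n * m)⁻¹ * (n' * m) = m⁻¹ * (n⁻¹ * n') * m := by group
  rw [this]
  exact T_conj' P hm h

theorem Rel.dc_eq {n n' : G} (h : Rel P n n') : dc P n = dc P n' := by
  have : n' = n * (n⁻¹ * n') := by group
  rw [this, dc_mul_right P h.1]

theorem Rel.mem_N {n n' : G} (h : Rel P n n') (hn : n ∈ P.N) : n' ∈ P.N := by
  have : n' = n * (n⁻¹ * n') := by group
  rw [this]
  exact P.N.mul_mem hn h.2

theorem Rel.mem_N' {n n' : G} (h : Rel P n n') (hn : n' ∈ P.N) : n ∈ P.N := h.symm.mem_N hn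

theorem rel_of_dc_eq {n n' : G} (hn : n ∈ P.N) (hn' : n' ∈ P.N) (h : dc P n = dc P n') :
    Rel P n n' :=
  ⟨(bruhat_unique P hn hn').1 h, P.N.mul_mem (P.N.inv_mem hn) hn'⟩

theorem rel_of_mem_T {t : G} (ht : t ∈ P.B ⊓ P.N) : Rel P 1 t := by
  unfold Rel; simpa using ht

theorem rel_mul_T {n t : G} (ht : t ∈ P.B ⊓ P.N) : Rel P n (n * t) := by
  unfold Rel; simpa using ht

theorem rel_sq_mul {s n : G} (hs : s ∈ P.S) (hn : n ∈ P.N) : Rel P (s * (s * n)) n := by
  unfold Rel
  have : (s * (s * n))⁻¹ * n = n⁻¹ * (s * s)⁻¹ * n := by group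
  rw [this]
  exact T_conj' P hn ((P.B ⊓ P.N).inv_mem (sq_mem_T P hs))

theorem rel_mul_sq {s : G} (n : G) (hs : s ∈ P.S) : Rel P (n * s * s) n := by
  unfold Rel
  have : (n * s * s)⁻¹ * n = (s * s)⁻¹ := by group
  rw [this]
  exact (P.B ⊓ P.N).inv_mem (sq_mem_T P hs)

theorem rel_inv_S {s : G} (hs : s ∈ P.S) : Rel P s⁻¹ s := by
  unfold Rel; rw [inv_inv]; exact sq_mem_T P hs

theorem not_rel_S_mul {s n : G} (hs : s ∈ P.S) (hn : n ∈ P.N) : ¬ Rel P (s * n) n := by
  intro h
  unfold Rel at h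
  have h2 := T_conj P hn h
  have : n * ((s * n)⁻¹ * n) * n⁻¹ = s⁻¹ := by group
  rw [this] at h2
  exact S_not_mem_B P hs (by simpa using P.B.inv_mem h2.1)

theorem not_rel_S_one {s : G} (hs : s ∈ P.S) : ¬ Rel P s 1 := by
  have := not_rel_S_mul (P := P) hs P.N.one_mem
  simpa using this

/-! ### words and lengths -/

variable (P)

/-- `l` is a word in the letters `J` representing `n` modulo `B ⊓ N` -/
def WordFor (J : Set G) (l : List G) (n : G) : Prop :=
  (∀ s ∈ l, s ∈ J) ∧ Rel P l.prod n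

/-- `n` is a product of elements of `J` modulo `B ⊓ N` -/
def Expr (J : Set G) (n : G) : Prop := ∃ l, WordFor P J l n

/-- the length of `n` with respect to the letters `J` -/
noncomputable def len (J : Set G) (n : G) : ℕ :=
  sInf {k | ∃ l, WordFor P J l n ∧ l.length = k}

variable {P}

theorem WordFor.congr {J : Set G} {l : List G} {n n' : G} (h : WordFor P J l n)
    (hr : Rel P n n') : WordFor P J l n' := ⟨h.1, h.2.trans hr⟩

theorem wordFor_nil_iff {J : Set G} {n : G} : WordFor P J [] n ↔ n ∈ P.B ⊓ P.N := by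
  unfold WordFor Rel; simp

theorem WordFor.cons {J : Set G} {l : List G} {n s : G} (hs : s ∈ J) (h : WordFor P J l n) :
    WordFor P J (s :: l) (s * n) := by
  refine ⟨?_, ?_⟩
  · intro x hx
    rcases List.mem_cons.1 hx with rfl | hx
    · exact hs
    · exact h.1 x hx
  · rw [List.prod_cons]; exact h.2.mul_left s

theorem WordFor.snoc {J : Set G} (hJ : J ⊆ P.S) {l : List G} {n s : G} (hs : s ∈ J)
    (h : WordFor P J l n) : WordFor P J (l ++ [s]) (n * s) := by
  refine ⟨?_, ?_⟩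
  · intro x hx
    rcases List.mem_append.1 hx with hx | hx
    · exact h.1 x hx
    · rw [List.mem_singleton] at hx; rw [hx]; exact hs
  · rw [List.prod_append, List.prod_singleton]; exact h.2.mul_right (P.subset (hJ hs))

theorem WordFor.mono {J K : Set G} (hJK : J ⊆ K) {l : List G} {n : G} (h : WordFor P J l n) :
    WordFor P K l n := ⟨fun s hs => hJK (h.1 s hs), h.2⟩

theorem WordFor.prod_mem_N {J : Set G} (hJ : J ⊆ P.S) {l : List G} {n : G}
    (h : WordFor P J l n) : l.prod ∈ P.N :=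
  list_prod_mem_N P (fun s hs => hJ (h.1 s hs))

theorem WordFor.mem_N {J : Set G} (hJ : J ⊆ P.S) {l : List G} {n : G} (h : WordFor P J l n) :
    n ∈ P.N := h.2.mem_N (h.prod_mem_N hJ)

theorem WordFor.tail {J : Set G} (hJ : J ⊆ P.S) {l : List G} {n s : G}
    (h : WordFor P J (s :: l) n) : WordFor P J l (s * n) := by
  have hs : s ∈ J := h.1 s List.mem_cons_self
  have hl : ∀ x ∈ l, x ∈ J := fun x hx => h.1 x (List.mem_cons_of_mem _ hx)
  refine ⟨hl, ?_⟩
  have h2 := h.2
  rw [List.prod_cons] at h2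
  have h3 : Rel P (s * (s * l.prod)) l.prod :=
    rel_sq_mul (hJ hs) (list_prod_mem_N P (fun x hx => hJ (hl x hx)))
  exact h3.symm.trans (h2.mul_left s)

theorem WordFor.init {J : Set G} (hJ : J ⊆ P.S) {l : List G} {n t : G}
    (h : WordFor P J (l ++ [t]) n) : WordFor P J l (n * t) := by
  have ht : t ∈ J := h.1 t (by simp)
  have hl : ∀ x ∈ l, x ∈ J := fun x hx => h.1 x (by simp [hx])
  refine ⟨hl, ?_⟩
  have h2 := h.2
  rw [List.prod_append, List.prod_singleton] at h2
  exact (rel_mul_sq l.prod (hJ ht)).symm.trans (h2.mul_right (P.subset (hJ ht)))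

theorem Expr.mem_N {J : Set G} (hJ : J ⊆ P.S) {n : G} (h : Expr P J n) : n ∈ P.N := by
  obtain ⟨l, hl⟩ := h; exact hl.mem_N hJ

theorem Expr.congr {J : Set G} {n n' : G} (h : Expr P J n) (hr : Rel P n n') : Expr P J n' := by
  obtain ⟨l, hl⟩ := h; exact ⟨l, hl.congr hr⟩

theorem Expr.mono {J K : Set G} (hJK : J ⊆ K) {n : G} (h : Expr P J n) : Expr P K n := by
  obtain ⟨l, hl⟩ := h; exact ⟨l, hl.mono hJK⟩

theorem Expr.S_mul {J : Set G} {n s : G} (hs : s ∈ J) (h : Expr P J n) : Expr P J (s * n) := by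
  obtain ⟨l, hl⟩ := h; exact ⟨_, hl.cons hs⟩

theorem Expr.mul_S {J : Set G} (hJ : J ⊆ P.S) {n s : G} (hs : s ∈ J) (h : Expr P J n) :
    Expr P J (n * s) := by
  obtain ⟨l, hl⟩ := h; exact ⟨_, hl.snoc hJ hs⟩

theorem expr_of_mem_N {n : G} (hn : n ∈ P.N) : Expr P P.S n := by
  obtain ⟨l, hl, h⟩ := exists_word P hn
  exact ⟨l, hl, h⟩

theorem len_le {J : Set G} {l : List G} {n : G} (h : WordFor P J l n) : len P J n ≤ l.length :=
  Nat.sInf_le ⟨l, h, rfl⟩

theorem exists_reduced {J : Set G} {n : G} (h : Expr P J n) :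
    ∃ l, WordFor P J l n ∧ l.length = len P J n := by
  obtain ⟨l, hl⟩ := h
  exact Nat.sInf_mem (s := {k | ∃ l, WordFor P J l n ∧ l.length = k}) ⟨l.length, l, hl, rfl⟩

theorem len_congr {J : Set G} {n n' : G} (hr : Rel P n n') : len P J n = len P J n' := by
  unfold len
  congr 1
  ext k
  constructor
  · rintro ⟨l, hl, rfl⟩; exact ⟨l, hl.congr hr, rfl⟩
  · rintro ⟨l, hl, rfl⟩; exact ⟨l, hl.congr hr.symm, rfl⟩

theorem len_S_mul_le {J : Set G} {n s : G} (hs : s ∈ J) (h : Expr P J n) :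
    len P J (s * n) ≤ len P J n + 1 := by
  obtain ⟨l, hl, hlen⟩ := exists_reduced h
  have := len_le (hl.cons hs)
  rw [List.length_cons, hlen] at this
  exact this

theorem len_mul_S_le {J : Set G} (hJ : J ⊆ P.S) {n s : G} (hs : s ∈ J) (h : Expr P J n) :
    len P J (n * s) ≤ len P J n + 1 := by
  obtain ⟨l, hl, hlen⟩ := exists_reduced h
  have := len_le (hl.snoc hJ hs)
  rw [List.length_append, List.length_singleton, hlen] at this
  exact this

theorem len_le_S_mul {J : Set G} (hJ : J ⊆ P.S) {n s : G} (hs : s ∈ J) (h : Expr P J n) :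
    len P J n ≤ len P J (s * n) + 1 := by
  have h1 := len_S_mul_le hs (h.S_mul hs)
  rwa [len_congr (rel_sq_mul (hJ hs) (h.mem_N hJ))] at h1

theorem len_le_mul_S {J : Set G} (hJ : J ⊆ P.S) {n s : G} (hs : s ∈ J) (h : Expr P J n) :
    len P J n ≤ len P J (n * s) + 1 := by
  have h1 := len_mul_S_le hJ hs (h.mul_S hJ hs)
  rwa [len_congr (rel_mul_sq n (hJ hs))] at h1

theorem len_eq_zero_iff {J : Set G} {n : G} (h : Expr P J n) :
    len P J n = 0 ↔ n ∈ P.B ⊓ P.N := by
  constructor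
  · intro h0
    obtain ⟨l, hl, hlen⟩ := exists_reduced h
    rw [h0, List.length_eq_zero_iff] at hlen
    rw [hlen] at hl
    exact wordFor_nil_iff.1 hl
  · intro hn
    have := len_le (J := J) (wordFor_nil_iff.2 hn)
    simpa using this

end Cfsg.Agent.Helper6
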