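import Cfsg.Agent.Helper6.BN2

set_option autoImplicit false

namespace Cfsg.Agent.Helper6

open DoubleCoset

variable {G : Type*} [Group G] {P : Cfsg.BNPair G}

/-- right-handed version of (BN1) -/
theorem mem_mul_S {t n h : G} (ht : t ∈ P.S) (hn : n ∈ P.N) (hh : h ∈ dc P n) :
    h * t ∈ dc P (n * t) ∪ dc P n := by
  have h1 : h⁻¹ ∈ dc P n⁻¹ := inv_mem_dc P hh
  have h2 := S_inv_mul_mem P ht (P.N.inv_mem hn) h1
  obtain ⟨b, hb, hsb⟩ := S_inv P ht
  rcases h2 with h2 | h2
  · left
    have h3 := inv_mem_dc P h2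
    have e1 : (t⁻¹ * h⁻¹)⁻¹ = h * t := by group
    have e2 : (t * n⁻¹)⁻¹ = n * t * b := by
      rw [mul_inv_rev, inv_inv, hsb, mul_assoc]
    rw [e1, e2, dc_mul_right P hb] at h3
    exact h3
  · right
    have h3 := inv_mem_dc P h2
    have e1 : (t⁻¹ * h⁻¹)⁻¹ = h * t := by group
    rw [e1, inv_inv] at h3
    exact h3

theorem mem_dc_both {a b x : G} (ha : x ∈ dc P a) (hb : x ∈ dc P b) : dc P a = dc P b :=
  (dc_eq_of_mem P ha).symm.trans (dc_eq_of_mem P hb)

/-- KEY lemma: if `len (s n) ≥ len n` then `s B n ⊆ B s n B`. -/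
theorem key {J : Set G} (hJ : J ⊆ P.S) : ∀ (k : ℕ) (n : G), Expr P J n → len P J n = k →
    ∀ s ∈ J, len P J n ≤ len P J (s * n) → ∀ g ∈ dc P n, s * g ∈ dc P (s * n) := by
  intro k
  induction k with
  | zero =>
    intro n hn hk s hs _ g hg
    have hnT : n ∈ P.B ⊓ P.N := (len_eq_zero_iff hn).1 hk
    rw [dc_eq_B P hnT.1] at hg
    rw [dc_mul_right P hnT.1]
    exact mem_dc_mul P hg (self_mem_dc P s)
  | succ k ih =>
    intro n hn hk s hs hle g hg
    have hnN : n ∈ P.N := hn.mem_N hJ
    have hsS : s ∈ P.S := hJ hs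
    obtain ⟨l, hl, hlen⟩ := exists_reduced hn
    rw [hk] at hlen
    rcases List.eq_nil_or_concat l with rfl | ⟨l', t, hlt⟩
    · simp at hlen
    rw [List.concat_eq_append] at hlt
    subst hlt
    have ht : t ∈ J := hl.1 t (by simp)
    have htS : t ∈ P.S := hJ ht
    have hl' : WordFor P J l' (n * t) := hl.init hJ
    have hlen' : l'.length = k := by
      rw [List.length_append, List.length_singleton] at hlen; omega
    set n' := n * t with hn'
    have hn'E : Expr P J n' := ⟨l', hl'⟩
    have hn'N : n' ∈ P.N := hn'E.mem_N hJ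
    -- n' * t ~ n
    have hrel : Rel P (n' * t) n := rel_mul_sq n htS
    have hlen_n' : len P J n' = k := by
      apply le_antisymm
      · have := len_le hl'; omega
      · have h1 := len_mul_S_le hJ ht hn'E
        rw [len_congr hrel, hk] at h1
        omega
    -- len n' ≤ len (s n')
    have hle' : len P J n' ≤ len P J (s * n') := by
      by_contra hlt
      have hlt := not_le.1 hlt
      have h1 := len_mul_S_le hJ ht (hn'E.S_mul hs)
      have h2 : Rel P (s * n' * t) (s * n) := by
        rw [mul_assoc]; exact hrel.mul_left s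
      rw [len_congr h2] at h1
      omega
    have IH := ih n' hn'E hlen_n' s hs hle'
    -- reduce to g = b1 * n
    rw [mem_dc] at hg
    obtain ⟨b1, hb1, b2, hb2, rfl⟩ := hg
    have hg0 : b1 * n ∈ dc P n := mul_mem_dc P hb1 (self_mem_dc P n)
    suffices hsuff : s * (b1 * n) ∈ dc P (s * n) by
      have := mem_dc_mul P hb2 hsuff
      simpa [mul_assoc] using this
    rcases S_mul_mem P hsS hnN hg0 with h | h
    · exact h
    · exfalso
      -- s * (b1 * n) ∈ dc n, so s * (b1 * n) * t ∈ dc n' ∪ dc n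
      have h1 : s * (b1 * n) * t ∈ dc P (n * t) ∪ dc P n := mem_mul_S htS hnN h
      -- and s * (b1 * n') ∈ dc (s * n')
      have h2 : s * (b1 * n') ∈ dc P (s * n') := IH _ (mul_mem_dc P hb1 (self_mem_dc P n'))
      have e : s * (b1 * n) * t = s * (b1 * n') := by rw [hn']; group
      rw [e] at h1
      rcases h1 with h1 | h1
      · -- dc (s n') = dc n'
        have := rel_of_dc_eq (P.N.mul_mem (P.subset hsS) hn'N) hn'N (mem_dc_both h2 h1)
        exact not_rel_S_mul hsS hn'N this
      · -- dc (s n') = dc n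
        have h3 : Rel P (s * n') n :=
          rel_of_dc_eq (P.N.mul_mem (P.subset hsS) hn'N) hnN (mem_dc_both h2 h1)
        have h4 : Rel P n' (s * n) :=
          (rel_sq_mul hsS hn'N).symm.trans (h3.mul_left s)
        have := len_congr (J := J) h4
        omega

/-- there is `b ∈ B` with `s b s ∉ B` -/
theorem exists_conj_not_mem {s : G} (hs : s ∈ P.S) : ∃ b ∈ P.B, s * b * s ∉ P.B := by
  by_contra hcon
  have hcon : ∀ b ∈ P.B, s * b * s ∈ P.B := by
    intro b hb
    by_contra hb'
    exact hcon ⟨b, hb, hb'⟩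
  apply P.conj_ne s hs
  ext g
  constructor
  · rintro ⟨b, hb, rfl⟩
    exact hcon b hb
  · intro hg
    have hss := P.sq_mem s hs
    refine ⟨(s * s)⁻¹ * (s * g * s) * (s * s)⁻¹, ?_, ?_⟩
    · exact P.B.mul_mem (P.B.mul_mem (P.B.inv_mem hss) (hcon g hg)) (P.B.inv_mem hss)
    · show s * ((s * s)⁻¹ * (s * g * s) * (s * s)⁻¹) * s = g
      group

/-- there is `b ∈ B` with `s b s ∈ B s B` -/
theorem exists_conj_mem_dc {s : G} (hs : s ∈ P.S) : ∃ b ∈ P.B, s * b * s ∈ dc P s := by
  obtain ⟨b, hb, hnot⟩ := exists_conj_not_mem hs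
  refine ⟨b, hb, ?_⟩
  have h1 : b * s ∈ dc P s := mul_mem_dc P hb (self_mem_dc P s)
  rcases S_mul_mem P hs (P.subset hs) h1 with h | h
  · exfalso
    rw [dc_eq_B P (P.sq_mem s hs)] at h
    apply hnot
    simpa [mul_assoc] using h
  · simpa [mul_assoc] using h

/-- KEY2: if `len (s n) ≤ len n` then `s B n` meets `B n B`. -/
theorem key2 {J : Set G} (hJ : J ⊆ P.S) {n s : G} (hn : Expr P J n) (hs : s ∈ J)
    (hle : len P J (s * n) ≤ len P J n) : ∃ c ∈ P.B, s * c * n ∈ dc P n := by
  have hsS : s ∈ P.S := hJ hs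
  have hnN : n ∈ P.N := hn.mem_N hJ
  have hrel : Rel P (s * (s * n)) n := rel_sq_mul hsS hnN
  have hle' : len P J (s * n) ≤ len P J (s * (s * n)) := by
    rw [len_congr hrel]; exact hle
  have K := key hJ _ (s * n) (hn.S_mul hs) rfl s hs hle'
  rw [hrel.dc_eq] at K
  obtain ⟨b0, hb0, hsb0⟩ := S_inv P hsS
  obtain ⟨c, hc, hcs⟩ := exists_conj_mem_dc hsS
  rw [mem_dc] at hcs
  obtain ⟨b', hb', b'', hb'', hcs⟩ := hcs
  refine ⟨c, hc, ?_⟩
  -- s * c * n = s * c * s * (b0 * (s * n)) = b' * s * (b'' * b0 * (s * n))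
  have e : s * c * n = b' * (s * (b'' * b0 * (s * n))) := by
    have e1 : n = s⁻¹ * (s * n) := by group
    calc s * c * n = s * c * (s⁻¹ * (s * n)) := by rw [← e1]
      _ = s * c * (s * b0 * (s * n)) := by rw [hsb0]
      _ = (s * c * s) * (b0 * (s * n)) := by group
      _ = (b' * s * b'') * (b0 * (s * n)) := by rw [hcs]
      _ = b' * (s * (b'' * b0 * (s * n))) := by group
  rw [e]
  apply mul_mem_dc P hb'
  apply K
  exact mul_mem_dc P (P.B.mul_mem hb'' hb0) (self_mem_dc P _)

/-- lengths always change under left multiplication by a generator -/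
theorem len_S_mul_ne {J : Set G} (hJ : J ⊆ P.S) {n s : G} (hn : Expr P J n) (hs : s ∈ J) :
    len P J (s * n) ≠ len P J n := by
  intro heq
  have hsS : s ∈ P.S := hJ hs
  have hnN : n ∈ P.N := hn.mem_N hJ
  obtain ⟨c, hc, hcn⟩ := key2 hJ hn hs heq.le
  have K := key hJ _ n hn rfl s hs heq.ge (c * n) (mul_mem_dc P hc (self_mem_dc P n))
  rw [← mul_assoc] at K
  have := rel_of_dc_eq (P.N.mul_mem (P.subset hsS) hnN) hnN (mem_dc_both K hcn)
  exact not_rel_S_mul hsS hnN this

/-- characterisation of length increase in terms of double cosets -/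
theorem len_lt_iff {J : Set G} (hJ : J ⊆ P.S) {n s : G} (hn : Expr P J n) (hs : s ∈ J) :
    len P J n < len P J (s * n) ↔ ∀ g ∈ dc P n, s * g ∈ dc P (s * n) := by
  have hsS : s ∈ P.S := hJ hs
  have hnN : n ∈ P.N := hn.mem_N hJ
  constructor
  · intro h
    exact key hJ _ n hn rfl s hs h.le
  · intro K
    by_contra hnot
    have hnot := not_lt.1 hnot
    obtain ⟨c, hc, hcn⟩ := key2 hJ hn hs hnot
    have K' := K (c * n) (mul_mem_dc P hc (self_mem_dc P n))
    rw [← mul_assoc] at K'
    have := rel_of_dc_eq (P.N.mul_mem (P.subset hsS) hnN) hnN (mem_dc_both K' hcn)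
    exact not_rel_S_mul hsS hnN this

/-- The `J`-length agrees with the `S`-length. -/
theorem len_eq_len_S {J : Set G} (hJ : J ⊆ P.S) : ∀ (k : ℕ) (n : G), Expr P J n →
    len P J n = k → len P P.S n = k := by
  intro k
  induction k with
  | zero =>
    intro n hn hk
    have hnT := (len_eq_zero_iff hn).1 hk
    exact (len_eq_zero_iff (hn.mono hJ)).2 hnT
  | succ k ih =>
    intro n hn hk
    obtain ⟨l, hl, hlen⟩ := exists_reduced hn
    rw [hk] at hlen
    cases l with
    | nil => simp at hlen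
    | cons s l' =>
      have hs : s ∈ J := hl.1 s List.mem_cons_self
      have hsS : s ∈ P.S := hJ hs
      have hnN : n ∈ P.N := hn.mem_N hJ
      have hl' : WordFor P J l' (s * n) := hl.tail hJ
      have hlen' : l'.length = k := by simpa using hlen
      have hn'E : Expr P J (s * n) := ⟨l', hl'⟩
      have hrel : Rel P (s * (s * n)) n := rel_sq_mul hsS hnN
      have hlen_n' : len P J (s * n) = k := by
        apply le_antisymm
        · have := len_le hl'; omega
        · have := len_le_S_mul hJ hs hn; omega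
      have hS' : len P P.S (s * n) = k := ih _ hn'E hlen_n'
      -- len_J (s * (s * n)) > len_J (s * n)
      have h1 : len P J (s * n) < len P J (s * (s * n)) := by
        rw [len_congr hrel]; omega
      have h2 := (len_lt_iff hJ hn'E hs).1 h1
      have h3 := (len_lt_iff (le_refl P.S) (hn'E.mono hJ) hsS).2 h2
      rw [len_congr hrel] at h3
      apply le_antisymm
      · have := len_le (hl.mono hJ)
        rw [hlen] at this
        exact this
      · omega

theorem len_eq_len_S' {J : Set G} (hJ : J ⊆ P.S) {n : G} (hn : Expr P J n) :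
    len P J n = len P P.S n := (len_eq_len_S hJ _ n hn rfl).symm

theorem len_S_eq_one {s : G} (hs : s ∈ P.S) : len P P.S s = 1 := by
  have hw : WordFor P P.S [s] s := ⟨by simp [hs], by simpa using Rel.refl s⟩
  have h1 := len_le hw
  have h0 : len P P.S s ≠ 0 := by
    intro h0
    have := (len_eq_zero_iff ⟨_, hw⟩).1 h0
    exact S_not_mem_B P hs this.1
  simp at h1
  omega

end Cfsg.Agent.Helper6
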