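import Cfsg.Agent.Helper6.BN4

set_option autoImplicit false

namespace Cfsg.Agent.Helper6

open DoubleCoset

variable {G : Type*} [Group G] {P : Cfsg.BNPair G}

theorem image_val_subset (J : Set P.S) : Subtype.val '' J ⊆ P.S := by
  rintro _ ⟨s, _, rfl⟩; exact s.2

/-- the order isomorphism between subsets of `S` and overgroups of `B` -/
noncomputable def parabolicIso (P : Cfsg.BNPair G) : Set P.S ≃o {M : Subgroup G // P.B ≤ M} where
  toFun J := ⟨P.parabolic (Subtype.val '' J), B_le_parabolic P _⟩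
  invFun M := {s | (s : G) ∈ M.1}
  left_inv := by
    intro J
    ext s
    constructor
    · intro hs
      have h := S_mem_parabolic (image_val_subset J) s.2 hs
      obtain ⟨s', hs', e⟩ := h
      have : s' = s := Subtype.ext e
      rw [← this]; exact hs'
    · intro hs
      exact closure_le_parabolic P _ (Subgroup.subset_closure ⟨s, hs, rfl⟩)
  right_inv := by
    intro M
    apply Subtype.ext
    show P.parabolic (Subtype.val '' {s : P.S | (s : G) ∈ M.1}) = M.1
    have h := overgroup_eq_parabolic M.1 M.2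
    have e : Subtype.val '' {s : P.S | (s : G) ∈ M.1} = {s | s ∈ P.S ∧ s ∈ M.1} := by
      ext x
      constructor
      · rintro ⟨s, hs, rfl⟩; exact ⟨s.2, hs⟩
      · rintro ⟨hx1, hx2⟩; exact ⟨⟨x, hx1⟩, hx2, rfl⟩
    rw [e]; exact h.symm
  map_rel_iff' := by
    intro J K
    show P.parabolic (Subtype.val '' J) ≤ P.parabolic (Subtype.val '' K) ↔ J ≤ K
    rw [parabolic_le_iff (image_val_subset J) (image_val_subset K)]
    constructor
    · intro h s hs
      obtain ⟨s', hs', e⟩ := h ⟨s, hs, rfl⟩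
      have : s' = s := Subtype.ext e
      rw [← this]; exact hs'
    · intro h
      exact Set.image_mono h

theorem parabolicIso_apply (J : Set P.S) :
    ((parabolicIso P J : {M : Subgroup G // P.B ≤ M}) : Subgroup G) =
      P.parabolic (Subtype.val '' J) := rfl

/-! ### rank one pieces -/

theorem rel_of_mem_closure_singleton {s : G} (hs : s ∈ P.S) {m : G}
    (hm : m ∈ Subgroup.closure {s}) : Rel P m 1 ∨ Rel P m s := by
  induction hm using Subgroup.closure_induction_left with
  | one => exact Or.inl (Rel.refl 1)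
  | mul_left x hx y _ ih =>
    rw [Set.mem_singleton_iff] at hx
    subst hx
    rcases ih with h | h
    · right
      have := h.mul_left x
      rwa [mul_one] at this
    · left
      have h1 := h.mul_left x
      have h2 : Rel P (x * x) 1 := (rel_of_mem_T (sq_mem_T P hs)).symm
      exact h1.trans h2
  | inv_mul_cancel x hx y _ ih =>
    rw [Set.mem_singleton_iff] at hx
    subst hx
    rcases ih with h | h
    · right
      have := h.mul_left x⁻¹
      rw [mul_one] at this
      exact this.trans (rel_inv_S hs)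
    · left
      have := h.mul_left x⁻¹
      rwa [inv_mul_cancel] at this

theorem parabolic_singleton {s : G} (hs : s ∈ P.S) :
    (P.parabolic {s} : Set G) = (P.B : Set G) ∪ dc P s := by
  ext g
  constructor
  · intro hg
    obtain ⟨m, hm, hgm⟩ := (mem_parabolic_iff P (Set.singleton_subset_iff.2 hs) g).1 hg
    rcases rel_of_mem_closure_singleton hs hm with h | h
    · left
      have e : dc P m = (P.B : Set G) := h.dc_eq.trans (dc_one P)
      exact e ▸ hgm
    · right
      have e : dc P m = dc P s := h.dc_eq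
      exact e ▸ hgm
  · rintro (hg | hg)
    · exact B_le_parabolic P _ hg
    · exact dc_subset_parabolic P (J := {s}) (Subgroup.subset_closure (Set.mem_singleton s)) hg

theorem parabolic_empty : P.parabolic ∅ = P.B := by
  unfold Cfsg.BNPair.parabolic
  rw [Subgroup.closure_empty, sup_bot_eq]

theorem parabolic_S : P.parabolic P.S = ⊤ := by
  rw [eq_top_iff, ← P.sup_eq_top, sup_le_iff]
  refine ⟨B_le_parabolic P _, ?_⟩
  rw [← P.closure_sup, sup_le_iff]
  exact ⟨closure_le_parabolic P _, inf_le_left.trans (B_le_parabolic P _)⟩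

/-- S0321 -/
theorem union_dc_subgroup_iff {n : G} (hn : n ∈ P.N) (hnB : n ∉ P.B) :
    (∃ H : Subgroup G, (H : Set G) = (P.B : Set G) ∪ dc P n) ↔ ∃ s ∈ P.S, s⁻¹ * n ∈ P.B := by
  constructor
  · rintro ⟨H, hH⟩
    have hBH : P.B ≤ H := by
      intro b hb
      have : b ∈ (H : Set G) := by rw [hH]; exact Or.inl hb
      exact this
    have hnH : n ∈ H := by
      have : n ∈ (H : Set G) := by rw [hH]; exact Or.inr (self_mem_dc P n)
      exact this
    have h := overgroup_eq_parabolic H hBH
    have hne : ({s | s ∈ P.S ∧ s ∈ H} : Set G).Nonempty := by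
      by_contra hemp
      rw [Set.not_nonempty_iff_eq_empty] at hemp
      rw [hemp, parabolic_empty] at h
      rw [h] at hnH
      exact hnB hnH
    obtain ⟨s, hs, hsH⟩ := hne
    refine ⟨s, hs, ?_⟩
    have : s ∈ (H : Set G) := hsH
    rw [hH] at this
    rcases this with h1 | h1
    · exact absurd h1 (S_not_mem_B P hs)
    · exact (rel_of_dc_eq (P.subset hs) hn (dc_eq_of_mem P h1)).1
  · rintro ⟨s, hs, hsn⟩
    refine ⟨P.parabolic {s}, ?_⟩
    rw [parabolic_singleton hs]
    have : Rel P s n := ⟨hsn, P.N.mul_mem (P.N.inv_mem (P.subset hs)) hn⟩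
    rw [this.dc_eq]

/-- rank one: `G = B ∪ B s B` -/
theorem rank_one_cases (h : P.rank = 1) : ∃ s ∈ P.S, ∀ g : G, g ∈ P.B ∨ g ∈ dc P s := by
  unfold Cfsg.BNPair.rank at h
  rw [Nat.card_eq_one_iff_unique] at h
  obtain ⟨hsub, ⟨s, hs⟩⟩ := h
  have hS : P.S = {s} := by
    ext x
    constructor
    · intro hx
      have : (⟨x, hx⟩ : P.S) = ⟨s, hs⟩ := Subsingleton.elim _ _
      exact congrArg Subtype.val this
    · intro hx
      rw [Set.mem_singleton_iff] at hx
      rw [hx]; exact hs
  refine ⟨s, hs, fun g => ?_⟩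
  have hg : g ∈ (P.parabolic {s} : Set G) := by
    rw [← hS, parabolic_S]; trivial
  rw [parabolic_singleton hs] at hg
  exact hg

theorem rank_one_two_transitive (h : P.rank = 1) :
    MulAction.IsMultiplyPretransitive G (G ⧸ P.B) 2 := by
  obtain ⟨s, hs, hcases⟩ := rank_one_cases h
  rw [MulAction.is_two_pretransitive_iff]
  -- first a lemma: if `x ≠ B` as coset then there is `b ∈ B` with `x = b s B`
  have key : ∀ x : G ⧸ P.B, x ≠ (QuotientGroup.mk 1 : G ⧸ P.B) →
      ∃ b ∈ P.B, x = (QuotientGroup.mk (b * s) : G ⧸ P.B) := by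
    intro x hx
    obtain ⟨g, rfl⟩ := QuotientGroup.mk_surjective x
    rcases hcases g with hg | hg
    · exfalso
      apply hx
      rw [QuotientGroup.eq]
      simpa using hg
    · rw [mem_dc] at hg
      obtain ⟨b, hb, b', hb', rfl⟩ := hg
      refine ⟨b, hb, ?_⟩
      rw [QuotientGroup.eq]
      have : (b * s * b')⁻¹ * (b * s) = b'⁻¹ := by group
      rw [this]
      exact P.B.inv_mem hb'
  intro a b c d hab hcd
  obtain ⟨ga, rfl⟩ := QuotientGroup.mk_surjective a
  obtain ⟨gc, rfl⟩ := QuotientGroup.mk_surjective c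
  -- move a to the base point
  have h1 : ga⁻¹ • b ≠ (QuotientGroup.mk 1 : G ⧸ P.B) := by
    intro h
    apply hab
    have : b = ga • (QuotientGroup.mk 1 : G ⧸ P.B) := by rw [← h, smul_inv_smul]
    rw [this]
    show (QuotientGroup.mk ga : G ⧸ P.B) = QuotientGroup.mk (ga * 1)
    rw [mul_one]
  have h2 : gc⁻¹ • d ≠ (QuotientGroup.mk 1 : G ⧸ P.B) := by
    intro h
    apply hcd
    have : d = gc • (QuotientGroup.mk 1 : G ⧸ P.B) := by rw [← h, smul_inv_smul]
    rw [this]
    show (QuotientGroup.mk gc : G ⧸ P.B) = QuotientGroup.mk (gc * 1)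
    rw [mul_one]
  obtain ⟨b1, hb1, e1⟩ := key _ h1
  obtain ⟨b2, hb2, e2⟩ := key _ h2
  refine ⟨gc * (b2 * b1⁻¹) * ga⁻¹, ?_, ?_⟩
  · show (QuotientGroup.mk (gc * (b2 * b1⁻¹) * ga⁻¹ * ga) : G ⧸ P.B) = QuotientGroup.mk gc
    rw [QuotientGroup.eq]
    have : (gc * (b2 * b1⁻¹) * ga⁻¹ * ga)⁻¹ * gc = b1 * b2⁻¹ := by group
    rw [this]
    exact P.B.mul_mem hb1 (P.B.inv_mem hb2)
  · have hb : b = ga • (QuotientGroup.mk (b1 * s) : G ⧸ P.B) := by
      rw [← e1, smul_inv_smul]
    have hd : d = gc • (QuotientGroup.mk (b2 * s) : G ⧸ P.B) := by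
      rw [← e2, smul_inv_smul]
    rw [hb, hd]
    show (QuotientGroup.mk (gc * (b2 * b1⁻¹) * ga⁻¹ * (ga * (b1 * s))) : G ⧸ P.B) =
      QuotientGroup.mk (gc * (b2 * s))
    congr 1
    group

end Cfsg.Agent.Helper6
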