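import Cfsg.Agent.Helper6.Cox1

/-!
# Matsumoto-type theorem for groups with the exchange condition
-/

set_option autoImplicit false

namespace Cfsg.Agent.Helper6

open CoxeterSystem (alternatingWord alternatingWord_succ alternatingWord_succ')

section Dihedral

variable {H ι : Type*} [Group H]

theorem mul_pow_mul_eq (a b : H) (m : ℕ) : b * (a * b) ^ m * a = (b * a) ^ (m + 1) := by
  induction m with
  | zero => simp
  | succ m ih =>
    rw [pow_succ (a * b), pow_succ (b * a) (m + 1), ← ih]
    group

theorem alt_quot (h : ι → H) (hinv : ∀ i, h i * h i = 1) (i j : ι) (m : ℕ) :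
    wp h (alternatingWord i j m) * (wp h (alternatingWord j i m))⁻¹ =
      if Even m then (h i * h j) ^ m else (h j * h i) ^ m := by
  have hinv' : ∀ i, (h i)⁻¹ = h i := fun i => inv_eq_of_mul_eq_one_right (hinv i)
  induction m with
  | zero => simp [alternatingWord]
  | succ m ih =>
    rw [alternatingWord_succ' i j m, alternatingWord_succ' j i m, wp_cons, wp_cons, mul_inv_rev]
    have e : ∀ a b c d : H, a * b * (c⁻¹ * d⁻¹) = a * (b * c⁻¹) * d⁻¹ := by intros; group
    rw [e, ih]
    by_cases hm : Even m
    · have hm' : ¬ Even (m + 1) := by rw [Nat.even_add_one]; exact not_not.2 hm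
      rw [if_pos hm, if_pos hm, if_pos hm, if_neg hm', hinv', mul_pow_mul_eq]
    · have hm' : Even (m + 1) := by rw [Nat.even_add_one]; exact hm
      rw [if_neg hm, if_neg hm, if_neg hm, if_pos hm', hinv', mul_pow_mul_eq]

theorem alt_eq_iff (h : ι → H) (hinv : ∀ i, h i * h i = 1) (i j : ι) (m : ℕ) :
    wp h (alternatingWord i j m) = wp h (alternatingWord j i m) ↔ (h i * h j) ^ m = 1 := by
  have hji : h j * h i = (h i * h j)⁻¹ := by
    symm
    apply inv_eq_of_mul_eq_one_right
    calc h i * h j * (h j * h i) = h i * (h j * h j) * h i := by group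
      _ = 1 := by rw [hinv, mul_one, hinv]
  rw [← mul_inv_eq_one, alt_quot h hinv]
  by_cases hm : Even m
  · rw [if_pos hm]
  · rw [if_neg hm, hji, inv_pow, inv_eq_one]

end Dihedral

section Mats

variable {W H ι : Type*} [Group W] [Group H] {f : ι → W}

/-- Matsumoto property for words of length `q` -/
def Mats (f : ι → W) (g : ι → H) (q : ℕ) : Prop :=
  ∀ a b : List ι, a.length = q → b.length = q → Red f a → wp f a = wp f b → wp g a = wp g b

theorem mats_cons (h : ExchData f) {g : ι → H} {q : ℕ} (hM : Mats f g q) {i : ι} {a b : List ι}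
    (ha : a.length = q) (hb : b.length = q) (hr : Red f (i :: a))
    (he : wp f (i :: a) = wp f (i :: b)) : wp g (i :: a) = wp g (i :: b) := by
  have : wp f a = wp f b := by
    rw [wp_cons, wp_cons] at he
    exact mul_left_cancel he
  rw [wp_cons, wp_cons, hM a b ha hb (hr.tail h) this]

theorem mats_concat (h : ExchData f) {g : ι → H} {q : ℕ} (hM : Mats f g q) {i : ι}
    {a b : List ι} (ha : a.length = q) (hb : b.length = q) (hr : Red f (a ++ [i]))
    (he : wp f (a ++ [i]) = wp f (b ++ [i])) : wp g (a ++ [i]) = wp g (b ++ [i]) := by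
  have : wp f a = wp f b := by
    rw [wp_append, wp_append] at he
    exact mul_right_cancel he
  rw [wp_append, wp_append, hM a b ha hb (hr.init h) this]

theorem step (h : ExchData f) {g : ι → H} {q : ℕ} (hM : Mats f g q) {a₀ b' : List ι} {z i : ι}
    (ha : (a₀ ++ [z]).length = q + 1) (hb : (i :: b').length = q + 1)
    (hr : Red f (a₀ ++ [z])) (he : wp f (a₀ ++ [z]) = wp f (i :: b')) :
    wp g (a₀ ++ [z]) = wp g (i :: b') ∨
    (Red f (i :: a₀) ∧ wp f (i :: a₀) = wp f (a₀ ++ [z]) ∧ wp g (i :: a₀) = wp g (i :: b')) := by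
  have hbq : b'.length = q := by simpa using hb
  have haq : a₀.length = q := by simpa using ha
  have hlt : wl f (f i * wp f (a₀ ++ [z])) < wl f (wp f (a₀ ++ [z])) := by
    have h1 : f i * wp f (a₀ ++ [z]) = wp f b' := by
      rw [he, wp_cons, ← mul_assoc, h.inv, one_mul]
    rw [h1]
    have h2 := wl_le (f := f) (l := b') rfl
    rw [hr, ha]
    omega
  obtain ⟨l₁, z', l₂, hl, hx⟩ := exch h i _ hr hlt
  have key : wp f (i :: (l₁ ++ l₂)) = wp f (a₀ ++ [z]) := by
    rw [hl, wp_cons, wp_append, wp_append, wp_cons, ← mul_assoc, hx]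
    group
  have hlen : (l₁ ++ l₂).length = q := by
    have := congrArg List.length hl
    simp only [List.length_append, List.length_cons, List.length_nil] at this ⊢
    omega
  have hred : Red f (i :: (l₁ ++ l₂)) := by
    unfold Red at hr ⊢
    rw [key, hr]
    simp only [List.length_append, List.length_cons, List.length_nil] at hlen ⊢
    omega
  rcases List.eq_nil_or_concat' l₂ with rfl | ⟨l₂', z'', rfl⟩
  · -- the last letter is exchanged
    have h2 : a₀ = l₁ ∧ z = z' := by
      have := List.append_inj' hl rfl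
      simpa using this
    obtain ⟨rfl, rfl⟩ := h2
    right
    rw [List.append_nil] at key hred hlen
    refine ⟨hred, key, ?_⟩
    exact mats_cons h hM hlen hbq hred (key.trans he)
  · left
    have h2 : a₀ = l₁ ++ z' :: l₂' ∧ z = z'' := by
      have e : l₁ ++ z' :: (l₂' ++ [z'']) = (l₁ ++ z' :: l₂') ++ [z''] := by simp
      rw [e] at hl
      have := List.append_inj' hl rfl
      simpa using this
    obtain ⟨rfl, rfl⟩ := h2
    have e1 : wp g (i :: (l₁ ++ (l₂' ++ [z]))) = wp g (i :: b') :=
      mats_cons h hM hlen hbq hred (key.trans he)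
    have e2 : i :: (l₁ ++ (l₂' ++ [z])) = (i :: (l₁ ++ l₂')) ++ [z] := by simp
    have hlen2 : (i :: (l₁ ++ l₂')).length = q := by
      simp only [List.length_append, List.length_cons, List.length_nil] at hlen ⊢
      omega
    have e3 : wp g ((i :: (l₁ ++ l₂')) ++ [z]) = wp g ((l₁ ++ z' :: l₂') ++ [z]) := by
      apply mats_concat h hM hlen2 haq
      · rw [← e2]; exact hred
      · rw [← e2]; exact key
    rw [← e3, ← e2, e1]

end Mats

end Cfsg.Agent.Helper6
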