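import Cfsg.Agent.Helper6.Cox2

/-!
# Matsumoto-type theorem: the chain argument, and the main theorem
-/

set_option autoImplicit false

namespace Cfsg.Agent.Helper6

open CoxeterSystem (alternatingWord alternatingWord_succ alternatingWord_succ')

section Mats

variable {W H ι : Type*} [Group W] [Group H] {f : ι → W}

theorem chain (h : ExchData f) {g : ι → H} (hg : ∀ i, g i * g i = 1)
    (hbr : ∀ i j q, (f i * f j) ^ q = 1 → (g i * g j) ^ q = 1)
    {q : ℕ} (hM : Mats f g q) (s t : ι) :
    ∀ (u : List ι) (k : ℕ) (z : ι),
      (alternatingWord s t (k + 1) ++ u).length = q + 1 →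
      Red f (alternatingWord s t (k + 1) ++ u) →
      wp f (alternatingWord s t (k + 1) ++ u) = wp f (alternatingWord s t k ++ (u ++ [z])) →
      (u ++ [z]).head? = some s →
      wp g (alternatingWord s t (k + 1) ++ u) = wp g (alternatingWord s t k ++ (u ++ [z])) := by
  intro u
  induction u using List.reverseRecOn with
  | nil =>
    intro k z _ _ he hz
    have hzs : z = s := by simpa using hz
    subst hzs
    have e : alternatingWord z t k ++ ([] ++ [z]) = alternatingWord t z (k + 1) := by
      rw [alternatingWord_succ t z k]; simp
    rw [e, List.append_nil] at he ⊢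
    have h1 : (f z * f t) ^ (k + 1) = 1 := (alt_eq_iff f h.inv z t (k + 1)).1 he
    exact (alt_eq_iff g hg z t (k + 1)).2 (hbr z t _ h1)
  | append_singleton u z' ih =>
    intro k z hlen hr he hz
    -- the first letter of the second word
    obtain ⟨b', hb'⟩ : ∃ b', alternatingWord s t k ++ (u ++ [z'] ++ [z]) =
        (if Even k then s else t) :: b' := by
      cases k with
      | zero =>
        have : (u ++ [z'] ++ [z]) ≠ [] := by simp
        obtain ⟨x, b', hxb⟩ := List.exists_cons_of_ne_nil this
        rw [hxb] at hz
        have hx : x = s := by simpa using hz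
        subst hx
        exact ⟨b', by simp [alternatingWord, hxb]⟩
      | succ k₀ =>
        refine ⟨alternatingWord s t k₀ ++ (u ++ [z'] ++ [z]), ?_⟩
        rw [alternatingWord_succ' s t k₀]
        by_cases hk : Even k₀
        · have : ¬ Even (k₀ + 1) := by rw [Nat.even_add_one]; exact not_not.2 hk
          simp [hk, this]
        · have : Even (k₀ + 1) := by rw [Nat.even_add_one]; exact hk
          simp [hk, this]
    have e0 : alternatingWord s t (k + 1) ++ (u ++ [z']) =
        (alternatingWord s t (k + 1) ++ u) ++ [z'] := by simp
    have hlen2 : ((if Even k then s else t) :: b').length = q + 1 := by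
      rw [← hb']
      simp only [List.length_append, List.length_cons, List.length_nil,
        CoxeterSystem.length_alternatingWord] at hlen ⊢
      omega
    rw [hb', e0] at he ⊢
    rw [e0] at hlen hr
    rcases step h hM hlen hlen2 hr he with h1 | ⟨h1, h2, h3⟩
    · exact h1
    · -- the new word is `alternatingWord s t (k + 2) ++ u`
      have e1 : (if Even k then s else t) :: (alternatingWord s t (k + 1) ++ u) =
          alternatingWord s t (k + 1 + 1) ++ u := by
        rw [alternatingWord_succ' s t (k + 1)]
        by_cases hk : Even k
        · have : ¬ Even (k + 1) := by rw [Nat.even_add_one]; exact not_not.2 hk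
          simp [hk, this]
        · have : Even (k + 1) := by rw [Nat.even_add_one]; exact hk
          simp [hk, this]
      rw [e1] at h1 h2 h3
      have hlen3 : (alternatingWord s t (k + 1 + 1) ++ u).length = q + 1 := by
        simp only [List.length_append, List.length_cons, List.length_nil,
          CoxeterSystem.length_alternatingWord] at hlen ⊢
        omega
      have hz' : (u ++ [z']).head? = some s := by
        have : (u ++ [z']) ≠ [] := by simp
        rw [List.head?_append_of_ne_nil _ this] at hz
        exact hz
      have := ih (k + 1) z' hlen3 h1 (by rw [h2, e0]) hz'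
      rw [← h3, this, e0]

theorem mats_all (h : ExchData f) {g : ι → H} (hg : ∀ i, g i * g i = 1)
    (hbr : ∀ i j q, (f i * f j) ^ q = 1 → (g i * g j) ^ q = 1) : ∀ q, Mats f g q := by
  intro q
  induction q with
  | zero =>
    intro a b ha hb _ _
    rw [List.length_eq_zero_iff] at ha hb
    rw [ha, hb]
  | succ q hM =>
    intro a b ha hb hr he
    have hane : a ≠ [] := by
      intro h0; rw [h0] at ha; simp at ha
    have hbne : b ≠ [] := by
      intro h0; rw [h0] at hb; simp at hb
    obtain ⟨t, b', rfl⟩ := List.exists_cons_of_ne_nil hbne
    obtain ⟨s, a', hsa⟩ := List.exists_cons_of_ne_nil hane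
    rcases List.eq_nil_or_concat' a with h0 | ⟨a₀, z, rfl⟩
    · exact absurd h0 hane
    rcases step h hM ha hb hr he with h1 | ⟨h1, h2, h3⟩
    · exact h1
    · have e1 : t :: a₀ = alternatingWord s t (0 + 1) ++ a₀ := by
        simp [alternatingWord]
      have e2 : a₀ ++ [z] = alternatingWord s t 0 ++ (a₀ ++ [z]) := by
        simp [alternatingWord]
      have hlen : (alternatingWord s t (0 + 1) ++ a₀).length = q + 1 := by
        rw [← e1]
        simp only [List.length_append, List.length_cons, List.length_nil] at ha ⊢
        omega
      have hz : (a₀ ++ [z]).head? = some s := by rw [hsa]; rfl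
      have := chain h hg hbr hM s t a₀ 0 z hlen (by rw [← e1]; exact h1)
        (by rw [← e1, ← e2]; exact h2) hz
      rw [← e1, ← e2] at this
      rw [← h3, this]

end Mats

end Cfsg.Agent.Helper6
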