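import Cfsg.Agent.Helper6.Cox3

/-!
# Exchange condition implies Coxeter system
-/

set_option autoImplicit false

namespace Cfsg.Agent.Helper6

section Main

variable {W H ι : Type*} [Group W] [Group H] {f : ι → W}

/-- the map `W → H` defined through reduced words -/
noncomputable def gmap (h : ExchData f) (g : ι → H) (w : W) : H :=
  wp g (Classical.choose (exists_red h.gen w))

theorem gmap_red (h : ExchData f) {g : ι → H} (hg : ∀ i, g i * g i = 1)
    (hbr : ∀ i j q, (f i * f j) ^ q = 1 → (g i * g j) ^ q = 1) {l : List ι} (hr : Red f l) :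
    gmap h g (wp f l) = wp g l := by
  unfold gmap
  obtain ⟨h1, h2⟩ := Classical.choose_spec (exists_red h.gen (wp f l))
  refine mats_all h hg hbr l.length _ _ ?_ rfl ?_ h1
  · rw [h2]; exact hr
  · unfold Red; rw [h1, h2]

theorem gmap_mul (h : ExchData f) {g : ι → H} (hg : ∀ i, g i * g i = 1)
    (hbr : ∀ i j q, (f i * f j) ^ q = 1 → (g i * g j) ^ q = 1) (i : ι) (w : W) :
    gmap h g (f i * w) = g i * gmap h g w := by
  have up : ∀ w : W, wl f w < wl f (f i * w) → gmap h g (f i * w) = g i * gmap h g w := by
    intro w hlt
    obtain ⟨l, hl, hlen⟩ := exists_red h.gen w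
    have hr : Red f l := by unfold Red; rw [hl, hlen]
    have hr2 : Red f (i :: l) := by
      unfold Red
      rw [wp_cons, hl, List.length_cons, hlen]
      have := wl_mul_le h.gen i w
      omega
    have e1 := gmap_red h hg hbr hr
    have e2 := gmap_red h hg hbr hr2
    rw [wp_cons, hl] at e2
    rw [hl] at e1
    rw [e2, e1, wp_cons]
  rcases lt_or_gt_of_ne (h.ne i w) with hlt | hgt
  · -- descent
    have e : f i * (f i * w) = w := by rw [← mul_assoc, h.inv, one_mul]
    have := up (f i * w) (by rw [e]; exact hlt)
    rw [e] at this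
    rw [this, ← mul_assoc, hg, one_mul]
  · exact up w hgt

theorem gmap_wp (h : ExchData f) {g : ι → H} (hg : ∀ i, g i * g i = 1)
    (hbr : ∀ i j q, (f i * f j) ^ q = 1 → (g i * g j) ^ q = 1) (l : List ι) :
    gmap h g (wp f l) = wp g l := by
  induction l with
  | nil =>
    have hr : Red f ([] : List ι) := by unfold Red; rw [wp_nil, wl_one]; rfl
    exact gmap_red h hg hbr hr
  | cons i l ih => rw [wp_cons, gmap_mul h hg hbr, ih, wp_cons]

/-- **Exchange condition implies Coxeter**: a group generated by distinct involutions satisfying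
condition (C) with respect to the word length is a Coxeter group. -/
theorem coxeter_of_exch (h : ExchData f) (hinj : Function.Injective f) :
    ∃ (M : CoxeterMatrix ι) (cs : CoxeterSystem M W), ∀ i, cs.simple i = f i := by
  classical
  -- the Coxeter matrix
  have hsymm : ∀ i j, orderOf (f i * f j) = orderOf (f j * f i) := by
    intro i j
    have : f j * f i = (f i * f j)⁻¹ := by
      symm
      apply inv_eq_of_mul_eq_one_right
      calc f i * f j * (f j * f i) = f i * (f j * f j) * f i := by group
        _ = 1 := by rw [h.inv, mul_one, h.inv]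
    rw [this, orderOf_inv]
  let M : CoxeterMatrix ι :=
    { M := Matrix.of fun i j => orderOf (f i * f j)
      isSymm := by
        ext i j
        simp only [Matrix.transpose_apply, Matrix.of_apply]
        exact hsymm j i
      diagonal := by
        intro i
        simp only [Matrix.of_apply]
        rw [h.inv, orderOf_one]
      off_diagonal := by
        intro i j hij
        simp only [Matrix.of_apply]
        rw [Ne, orderOf_eq_one_iff]
        intro h1
        apply hij
        apply hinj
        have : f i * f j * f j = f j := by rw [h1, one_mul]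
        rwa [mul_assoc, h.inv, mul_one] at this }
  have hM : ∀ i j, M.M i j = orderOf (f i * f j) := fun i j => rfl
  have hlift : M.IsLiftable f := by
    intro i j
    rw [hM]
    exact pow_orderOf_eq_one _
  let cs0 : CoxeterSystem M M.Group := M.toCoxeterSystem
  let π : M.Group →* W := cs0.lift ⟨f, hlift⟩
  have hπ : ∀ i, π (cs0.simple i) = f i := fun i => cs0.lift_apply_simple hlift i
  have hπw : ∀ l : List ι, π (wp cs0.simple l) = wp f l := by
    intro l
    induction l with
    | nil => simp
    | cons i l ih => rw [wp_cons, map_mul, hπ, ih, wp_cons]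
  have hg : ∀ i, cs0.simple i * cs0.simple i = 1 := cs0.simple_mul_simple_self
  have hbr : ∀ i j q, (f i * f j) ^ q = 1 → (cs0.simple i * cs0.simple j) ^ q = 1 := by
    intro i j q hq
    obtain ⟨c, hc⟩ := orderOf_dvd_of_pow_eq_one hq
    rw [hc, ← hM, pow_mul, cs0.simple_mul_simple_pow, one_pow]
  have hinjπ : Function.Injective π := by
    intro x y hxy
    obtain ⟨lx, rfl⟩ := cs0.wordProd_surjective x
    obtain ⟨ly, rfl⟩ := cs0.wordProd_surjective y
    change π (wp cs0.simple lx) = π (wp cs0.simple ly) at hxy
    change wp cs0.simple lx = wp cs0.simple ly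
    rw [hπw, hπw] at hxy
    rw [← gmap_wp h hg hbr lx, ← gmap_wp h hg hbr ly, hxy]
  have hsurjπ : Function.Surjective π := by
    intro w
    obtain ⟨l, rfl⟩ := h.gen w
    exact ⟨wp cs0.simple l, hπw l⟩
  let e : M.Group ≃* W := MulEquiv.ofBijective π ⟨hinjπ, hsurjπ⟩
  refine ⟨M, ⟨e.symm⟩, ?_⟩
  intro i
  change e.symm.symm (PresentedGroup.of i) = f i
  rw [MulEquiv.symm_symm]
  exact hπ i

end Main

end Cfsg.Agent.Helper6
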