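import Cfsg.Agent.Helper6.Cox4
import Cfsg.Agent.Helper6.BN6

/-!
# The Weyl group of a (B,N)-pair is a Coxeter group
-/

set_option autoImplicit false

namespace Cfsg.Agent.Helper6

section Weyl

variable {G : Type*} [Group G] (P : Cfsg.BNPair G)

/-- the representative in `N` of a distinguished generator -/
def sN (s : P.S) : P.N := ⟨(s : G), P.subset s.2⟩

/-- product in `N` of a word in the distinguished generators -/
def nl (l : List P.S) : P.N := (l.map (sN P)).prod

theorem nl_coe (l : List P.S) : ((nl P l : P.N) : G) = (l.map Subtype.val).prod := by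
  induction l with
  | nil => simp [nl]
  | cons s l ih =>
    have : nl P (s :: l) = sN P s * nl P l := by simp [nl]
    rw [this, Subgroup.coe_mul, ih]
    simp [sN]

variable [hN : ((P.B ⊓ P.N).subgroupOf P.N).Normal]

/-- the distinguished generators of the Weyl group -/
def wf (s : P.S) : P.N ⧸ (P.B ⊓ P.N).subgroupOf P.N := QuotientGroup.mk (sN P s)

theorem mk_eq_iff {a b : P.N} :
    (QuotientGroup.mk a : P.N ⧸ (P.B ⊓ P.N).subgroupOf P.N) = QuotientGroup.mk b ↔
      Rel P (a : G) (b : G) := by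
  rw [QuotientGroup.eq, Subgroup.mem_subgroupOf]
  simp [Rel]

theorem wp_wf (l : List P.S) : wp (wf P) l = QuotientGroup.mk (nl P l) := by
  induction l with
  | nil => simp [nl]
  | cons s l ih =>
    have : nl P (s :: l) = sN P s * nl P l := by simp [nl]
    rw [wp_cons, ih, this, QuotientGroup.mk_mul]
    rfl

theorem wordFor_iff (n : P.N) (k : ℕ) :
    (∃ l : List P.S, wp (wf P) l = QuotientGroup.mk n ∧ l.length = k) ↔
      (∃ l : List G, WordFor P P.S l (n : G) ∧ l.length = k) := by
  constructor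
  · rintro ⟨l, hl, hk⟩
    refine ⟨l.map Subtype.val, ⟨?_, ?_⟩, by simpa using hk⟩
    · intro s hs
      obtain ⟨x, _, rfl⟩ := List.mem_map.1 hs
      exact x.2
    · rw [wp_wf, mk_eq_iff, nl_coe] at hl
      exact hl
  · rintro ⟨l, ⟨h1, h2⟩, hk⟩
    lift l to List P.S using h1
    refine ⟨l, ?_, by simpa using hk⟩
    rw [wp_wf, mk_eq_iff, nl_coe]
    exact h2

theorem wl_wf (n : P.N) : wl (wf P) (QuotientGroup.mk n) = len P P.S (n : G) := by
  unfold wl len
  congr 1
  ext k
  exact wordFor_iff P n k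

theorem wf_mul_mk (s : P.S) (n : P.N) :
    wf P s * QuotientGroup.mk n = QuotientGroup.mk (sN P s * n) := rfl

theorem mk_mul_wf (s : P.S) (n : P.N) :
    (QuotientGroup.mk n : P.N ⧸ (P.B ⊓ P.N).subgroupOf P.N) * wf P s =
      QuotientGroup.mk (n * sN P s) := rfl

theorem exchData_wf : ExchData (wf P) where
  inv := by
    intro s
    have : wf P s * wf P s = QuotientGroup.mk (sN P s * sN P s) := rfl
    rw [this, ← QuotientGroup.mk_one, mk_eq_iff]
    apply Rel.symm
    have := rel_of_mem_T (sq_mem_T P s.2)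
    simpa [sN] using this
  gen := by
    intro w
    obtain ⟨n, rfl⟩ := QuotientGroup.mk_surjective w
    obtain ⟨l, hl⟩ := expr_of_mem_N (P := P) n.2
    obtain ⟨l', hl', _⟩ := (wordFor_iff P n l.length).2 ⟨l, hl, rfl⟩
    exact ⟨l', hl'⟩
  ne := by
    intro s w
    obtain ⟨n, rfl⟩ := QuotientGroup.mk_surjective w
    rw [wf_mul_mk, wl_wf, wl_wf]
    exact len_S_mul_ne (le_refl _) (expr_of_mem_N n.2) s.2
  condC := by
    intro s t w
    obtain ⟨n, rfl⟩ := QuotientGroup.mk_surjective w
    rw [wf_mul_mk, mk_mul_wf, wf_mul_mk, wl_wf, wl_wf, wl_wf, wl_wf, mk_eq_iff]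
    intro h1 h2
    exact cond_C s.2 t.2 n.2 h1 h2

theorem wf_injective : Function.Injective (wf P) := by
  intro s t hst
  unfold wf at hst
  rw [mk_eq_iff] at hst
  exact Subtype.ext (P.inj s s.2 t t.2 hst.1)

/-- The Weyl group of a (B,N)-pair is a Coxeter group. -/
theorem weyl_coxeter :
    ∃ (M : CoxeterMatrix P.S) (cs : CoxeterSystem M (P.N ⧸ (P.B ⊓ P.N).subgroupOf P.N)),
      ∀ s : P.S, cs.simple s = QuotientGroup.mk (⟨(s : G), P.subset s.2⟩ : P.N) :=
  coxeter_of_exch (exchData_wf P) (wf_injective P)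

end Weyl

end Cfsg.Agent.Helper6
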