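import Cfsg.Agent.Helper6.Sz51

/-!
# The minimal degree of a faithful complex representation of the Suzuki group
-/

set_option autoImplicit false

namespace Cfsg.Agent.Helper6

open Module

variable {F : Type*} [Field F] [Fintype F] {m : ℕ}

theorem sU_center_mul (hm : 1 ≤ m) (hF : Fintype.card F = 2 ^ (2 * m + 1)) (b b' : F) :
    sU hF 0 b * sU hF 0 b' = sU hF 0 (b + b') := by
  rw [sU_mul hm hF]
  congr 1
  · rw [add_zero]
  · rw [mul_zero, add_zero]

theorem sU_center_comm (hm : 1 ≤ m) (hF : Fintype.card F = 2 ^ (2 * m + 1)) (a c b : F) :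
    sU hF a c * sU hF 0 b = sU hF 0 b * sU hF a c := by
  rw [sU_mul hm hF, sU_mul hm hF]
  congr 1
  · rw [add_zero, zero_add]
  · rw [mul_zero, zero_pow (by positivity), zero_mul]
    ring

theorem sU_center_mul_sD (hm : 1 ≤ m) (hF : Fintype.card F = 2 ^ (2 * m + 1)) (t : Fˣ) (b : F) :
    sU hF 0 b * sD hF t =
      sD hF t * sU hF 0 (((t⁻¹ : Fˣ) : F) ^ (2 ^ (m + 1) + 1) * b) := by
  have h := sD_conj_sU hm hF t⁻¹ 0 b
  rw [mul_zero] at h
  rw [← h, ← sD_inv hF t]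
  group

section core

variable {V : Type*} [AddCommGroup V] [Module ℂ V]

/-- a representation non-trivial on the centre of the Sylow 2-subgroup has a central character -/
theorem exists_central_character (hm : 1 ≤ m) (hF : Fintype.card F = 2 ^ (2 * m + 1))
    (ρ : Cfsg.Sz F m →* Module.End ℂ V) {b₀ : F} (hb₀ : ρ (sU hF 0 b₀) ≠ 1) :
    ∃ ε : F → ℂ, (∀ x y, ε (x + y) = ε x * ε y) ∧ (∀ x, ε x = 1 ∨ ε x = -1) ∧ ε b₀ = -1 ∧
      ∃ v : V, v ≠ 0 ∧ ∀ b, ρ (sU hF 0 b) v = ε b • v := by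
  classical
  have h2 : (2 : F) = 0 := two_eq_zero_of_card hF
  have hzmul : ∀ b b', ρ (sU hF 0 b) * ρ (sU hF 0 b') = ρ (sU hF 0 (b + b')) := by
    intro b b'
    rw [← map_mul, sU_center_mul hm hF]
  obtain ⟨v, hv0, hvb₀, hv⟩ := exists_simultaneous_eigenvector (fun b => ρ (sU hF 0 b))
    (fun b b' => by rw [hzmul, hzmul, add_comm])
    (fun b => by
      rw [hzmul]
      have : b + b = 0 := by linear_combination b * h2
      rw [this, sU_zero hm hF, map_one]) b₀ hb₀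
  have hneg : -v ≠ v := by
    intro h
    have h3 : (2 : ℂ) • v = 0 := by
      rw [two_smul]
      nth_rewrite 1 [← h]
      exact neg_add_cancel v
    rcases smul_eq_zero.1 h3 with h' | h'
    · norm_num at h'
    · exact hv0 h'
  have hε : ∀ b, ρ (sU hF 0 b) v = (if ρ (sU hF 0 b) v = v then (1 : ℂ) else -1) • v := by
    intro b
    split_ifs with h
    · rw [one_smul, h]
    · rcases hv b with h' | h'
      · exact absurd h' h
      · rw [neg_one_smul]; exact h'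
  refine ⟨fun b => if ρ (sU hF 0 b) v = v then (1 : ℂ) else -1, ?_, ?_, ?_, v, hv0, hε⟩
  · intro x y
    have h1 : ρ (sU hF 0 (x + y)) v = ρ (sU hF 0 x) (ρ (sU hF 0 y) v) := by
      rw [← hzmul]; rfl
    rw [hε y, map_smul, hε x, hε (x + y), smul_smul] at h1
    have h3 := sub_eq_zero.2 h1
    rw [← sub_smul] at h3
    rcases smul_eq_zero.1 h3 with h' | h'
    · have h4 := sub_eq_zero.1 h'
      beta_reduce
      rw [h4, mul_comm]
    · exact absurd h' hv0
  · intro x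
    show (if ρ (sU hF 0 x) v = v then (1 : ℂ) else -1) = 1 ∨
      (if ρ (sU hF 0 x) v = v then (1 : ℂ) else -1) = -1
    split_ifs
    · left; rfl
    · right; rfl
  · show (if ρ (sU hF 0 b₀) v = v then (1 : ℂ) else -1) = -1
    rw [if_neg]
    show ¬ ρ (sU hF 0 b₀) v = v
    have : ρ (sU hF 0 b₀) v = -v := hvb₀
    rw [this]
    exact hneg

/-- the dimension of a central eigenspace is at least `2 ^ m` -/
theorem finrank_central_eigenspace_ge [FiniteDimensional ℂ V] (hm : 1 ≤ m)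
    (hF : Fintype.card F = 2 ^ (2 * m + 1))
    (ρ : Cfsg.Sz F m →* Module.End ℂ V) (ε : F → ℂ) (hmul : ∀ x y, ε (x + y) = ε x * ε y)
    (hpm : ∀ x, ε x = 1 ∨ ε x = -1) {b₀ : F} (hεb₀ : ε b₀ = -1) (W : Submodule ℂ V)
    (hW : ∀ v, v ∈ W ↔ ∀ b, ρ (sU hF 0 b) v = ε b • v) (hW0 : W ≠ ⊥) :
    2 ^ m ≤ finrank ℂ W := by
  classical
  have h2 : (2 : F) = 0 := two_eq_zero_of_card hF
  have hchar : ∀ x : F, x + x = 0 := fun x => by linear_combination x * h2
  have hε0 : ε 0 = 1 := by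
    have h1 := hmul 0 0
    rw [add_zero] at h1
    rcases hpm 0 with h | h
    · exact h
    · rw [h] at h1; norm_num at h1
  have hεsq : ∀ x, ε x * ε x = 1 := by
    intro x
    rcases hpm x with h | h <;> rw [h] <;> norm_num
  have hεne : ∀ x, ε x ≠ 0 := by
    intro x h
    have := hεsq x
    rw [h, mul_zero] at this
    exact zero_ne_one this
  haveI : Nontrivial W := Submodule.nontrivial_iff_ne_bot.2 hW0
  -- invariance
  have hinv : ∀ a c : F, ∀ w ∈ W, ρ (sU hF a c) w ∈ W := by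
    intro a c w hw
    rw [hW] at hw ⊢
    intro b
    have h1 : ρ (sU hF 0 b) (ρ (sU hF a c) w) = ρ (sU hF a c) (ρ (sU hF 0 b) w) := by
      show (ρ (sU hF 0 b) * ρ (sU hF a c)) w = (ρ (sU hF a c) * ρ (sU hF 0 b)) w
      rw [← map_mul, ← map_mul, sU_center_comm hm hF]
    rw [h1, hw b, map_smul]
  let X : F → Module.End ℂ W := fun a => (ρ (sU hF a 0)).restrict (hinv a 0)
  have hX : ∀ a c, X a * X c = ε (a ^ (2 ^ (m + 1)) * c) • X (a + c) := by
    intro a c
    apply LinearMap.ext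
    intro w
    apply Subtype.ext
    show ρ (sU hF a 0) (ρ (sU hF c 0) (w : V)) =
      ε (a ^ (2 ^ (m + 1)) * c) • ρ (sU hF (a + c) 0) (w : V)
    have h1 : ρ (sU hF a 0) (ρ (sU hF c 0) (w : V)) = (ρ (sU hF a 0) * ρ (sU hF c 0)) (w : V) := rfl
    have h3 : sU hF a 0 * sU hF c 0 = sU hF (a + c) 0 * sU hF 0 (a ^ (2 ^ (m + 1)) * c) := by
      rw [sU_mul hm hF, sU_mul hm hF]
      congr 1
      · rw [add_zero]
      · rw [mul_zero]; ring
    rw [h1, ← map_mul, h3, map_mul]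
    show ρ (sU hF (a + c) 0) (ρ (sU hF 0 (a ^ (2 ^ (m + 1)) * c)) (w : V)) = _
    rw [(hW _).1 w.2, map_smul]
  have hX0 : X 0 = 1 := by
    apply LinearMap.ext
    intro w
    apply Subtype.ext
    show ρ (sU hF 0 0) (w : V) = (w : V)
    rw [sU_zero hm hF, map_one]
    rfl
  -- the radical
  let R : AddSubgroup F :=
    { carrier := {c | ∀ a, ε (a ^ (2 ^ (m + 1)) * c + c ^ (2 ^ (m + 1)) * a) = 1}
      add_mem' := by
        intro c c' hc hc' a
        have e1 : a ^ (2 ^ (m + 1)) * (c + c') + (c + c') ^ (2 ^ (m + 1)) * a =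
            (a ^ (2 ^ (m + 1)) * c + c ^ (2 ^ (m + 1)) * a) +
              (a ^ (2 ^ (m + 1)) * c' + c' ^ (2 ^ (m + 1)) * a) := by
          rw [add_pow_sigma hF]; ring
        rw [e1, hmul, hc a, hc' a, one_mul]
      zero_mem' := by
        intro a
        rw [mul_zero, zero_pow (by positivity), zero_mul, add_zero]
        exact hε0
      neg_mem' := by
        intro c hc
        have : -c = c := neg_eq_of_add_eq_zero_left (hchar c)
        rw [this]
        exact hc }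
  have hR : ∀ c, c ∉ R → ∃ a, ε (a ^ (2 ^ (m + 1)) * c) = - ε (c ^ (2 ^ (m + 1)) * a) := by
    intro c hc
    have : ¬ ∀ a, ε (a ^ (2 ^ (m + 1)) * c + c ^ (2 ^ (m + 1)) * a) = 1 := hc
    push Not at this
    obtain ⟨a, ha⟩ := this
    refine ⟨a, ?_⟩
    have h1 : ε (a ^ (2 ^ (m + 1)) * c + c ^ (2 ^ (m + 1)) * a) = -1 := by
      rcases hpm (a ^ (2 ^ (m + 1)) * c + c ^ (2 ^ (m + 1)) * a) with h | h
      · exact absurd h ha
      · exact h
    rw [hmul] at h1
    have h3 := hεsq (c ^ (2 ^ (m + 1)) * a)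
    linear_combination ε (c ^ (2 ^ (m + 1)) * a) * h1 - ε (a ^ (2 ^ (m + 1)) * c) * h3
  have hcard := card_quotient_le_sq_finrank X (fun a c => ε (a ^ (2 ^ (m + 1)) * c))
    (fun a c => hεne _) hX hX0 hchar R hR
  -- `card R ≤ 2`
  have hRcard : Nat.card R ≤ 2 := by
    by_contra hcon
    push Not at hcon
    rw [Nat.card_eq_fintype_card, Fintype.two_lt_card_iff] at hcon
    obtain ⟨x, y, z, hxy, hxz, hyz⟩ := hcon
    have hrad : ∀ u u' : R, (u : F) ≠ 0 → (u' : F) ≠ 0 → u = u' := by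
      intro u u' hu hu'
      exact Subtype.ext (radical_le_two ε hm hF hmul hpm hεb₀ hu hu' u.2 u'.2)
    by_cases hx : (x : F) = 0
    · have hy : (y : F) ≠ 0 := fun h => hxy (Subtype.ext (hx.trans h.symm))
      have hz : (z : F) ≠ 0 := fun h => hxz (Subtype.ext (hx.trans h.symm))
      exact hyz (hrad y z hy hz)
    · by_cases hy : (y : F) = 0
      · have hz : (z : F) ≠ 0 := fun h => hyz (Subtype.ext (hy.trans h.symm))
        exact hxz (hrad x z hx hz)
      · exact hxy (hrad x y hx hy)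
  have hidx := AddSubgroup.card_mul_index R
  rw [Nat.card_eq_fintype_card (α := F), hF] at hidx
  have hidx2 : R.index = Nat.card (F ⧸ R) := rfl
  rw [hidx2] at hidx
  set n := finrank ℂ W with hn
  have h5 : 2 ^ (2 * m + 1) ≤ 2 * n ^ 2 := by
    calc 2 ^ (2 * m + 1) = Nat.card R * Nat.card (F ⧸ R) := hidx.symm
      _ ≤ 2 * n ^ 2 := Nat.mul_le_mul hRcard hcard
  have h6 : (2 ^ m) ^ 2 ≤ n ^ 2 := by
    have : 2 ^ (2 * m + 1) = 2 * (2 ^ m) ^ 2 := by
      rw [← pow_mul, pow_succ]; ring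
    omega
  exact (Nat.pow_le_pow_iff_left (by norm_num)).1 h6

/-- **Landazuri–Seitz bound for the Suzuki groups**: a complex representation of `Sz(q)` that is
non-trivial on the centre of a Sylow 2-subgroup has degree at least `2 ^ m * (q - 1)`. -/
theorem sz_rep_finrank_ge [FiniteDimensional ℂ V] (hm : 1 ≤ m)
    (hF : Fintype.card F = 2 ^ (2 * m + 1))
    (ρ : Cfsg.Sz F m →* Module.End ℂ V) {b₀ : F} (hb₀ : ρ (sU hF 0 b₀) ≠ 1) :
    2 ^ m * (2 ^ (2 * m + 1) - 1) ≤ finrank ℂ V := by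
  classical
  obtain ⟨ε, hmul, hpm, hεb₀, v₀, hv₀, hv₀ε⟩ := exists_central_character hm hF ρ hb₀
  have hεsq : ∀ x, ε x * ε x = 1 := by
    intro x
    rcases hpm x with h | h <;> rw [h] <;> norm_num
  let W : Submodule ℂ V :=
    { carrier := {v | ∀ b, ρ (sU hF 0 b) v = ε b • v}
      add_mem' := by
        intro v w hv hw b
        rw [map_add, hv b, hw b, smul_add]
      zero_mem' := by
        intro b
        rw [map_zero, smul_zero]
      smul_mem' := by
        intro c v hv b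
        rw [map_smul, hv b, smul_comm] }
  have hW : ∀ v, v ∈ W ↔ ∀ b, ρ (sU hF 0 b) v = ε b • v := fun v => Iff.rfl
  have hW0 : W ≠ ⊥ := by
    intro h
    have : v₀ ∈ W := hv₀ε
    rw [h, Submodule.mem_bot] at this
    exact hv₀ this
  have hdim := finrank_central_eigenspace_ge hm hF ρ ε hmul hpm hεb₀ W hW hW0
  -- the torus translates
  have hinj : ∀ t : Fˣ, Function.Injective (ρ (sD hF t)) := by
    intro t x y hxy
    have h1 : ρ (sD hF t⁻¹) (ρ (sD hF t) x) = ρ (sD hF t⁻¹) (ρ (sD hF t) y) := by rw [hxy]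
    have h3 : ∀ u, ρ (sD hF t⁻¹) (ρ (sD hF t) u) = u := by
      intro u
      show (ρ (sD hF t⁻¹) * ρ (sD hF t)) u = u
      rw [← map_mul, ← sD_mul, inv_mul_cancel, sD_one, map_one]
      rfl
    rwa [h3, h3] at h1
  have hcount := card_mul_le_finrank_of_eigen (fun b => ρ (sU hF 0 b))
    (fun b b' => by
      show ρ (sU hF 0 b) * ρ (sU hF 0 b') = ρ (sU hF 0 b') * ρ (sU hF 0 b)
      rw [← map_mul, ← map_mul, sU_center_comm hm hF])
    (fun (t : Fˣ) (b : F) => ε (((t⁻¹ : Fˣ) : F) ^ (2 ^ (m + 1) + 1) * b))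
    (by
      intro t t' htt
      have h1 : ∀ b, ε (((t⁻¹ : Fˣ) : F) ^ (2 ^ (m + 1) + 1) * b) =
          ε (((t'⁻¹ : Fˣ) : F) ^ (2 ^ (m + 1) + 1) * b) := fun b => congrFun htt b
      by_contra hne
      have hs : ((t⁻¹ : Fˣ) : F) ^ (2 ^ (m + 1) + 1) + ((t'⁻¹ : Fˣ) : F) ^ (2 ^ (m + 1) + 1) ≠ 0 := by
        intro h0
        have h2 : (2 : F) = 0 := two_eq_zero_of_card hF
        have h3 : ((t⁻¹ : Fˣ) : F) ^ (2 ^ (m + 1) + 1) = ((t'⁻¹ : Fˣ) : F) ^ (2 ^ (m + 1) + 1) := by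
          linear_combination h0 - ((t'⁻¹ : Fˣ) : F) ^ (2 ^ (m + 1) + 1) * h2
        have h4 : (((t⁻¹ * t' : Fˣ) : Fˣ) : F) ^ (2 ^ (m + 1) + 1) = 1 := by
          have h5 : ((t'⁻¹ : Fˣ) : F) ^ (2 ^ (m + 1) + 1) * ((t' : Fˣ) : F) ^ (2 ^ (m + 1) + 1) = 1 := by
            rw [← mul_pow, ← Units.val_mul, inv_mul_cancel, Units.val_one, one_pow]
          rw [Units.val_mul, mul_pow, h3, h5]
        have h6 := eq_one_of_pow_sigma_succ hF h4
        have h7 : t⁻¹ * t' = 1 := Units.ext h6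
        exact hne (inv_mul_eq_one.1 h7)
      set s := ((t⁻¹ : Fˣ) : F) ^ (2 ^ (m + 1) + 1) + ((t'⁻¹ : Fˣ) : F) ^ (2 ^ (m + 1) + 1) with hs'
      have h8 : ε (s * (b₀ / s)) = 1 := by
        rw [hs', add_mul, hmul, h1, hεsq]
      rw [mul_div_cancel₀ _ hs, hεb₀] at h8
      norm_num at h8)
    (fun t => W.map (ρ (sD hF t)))
    (by
      rintro t _ ⟨w, hw, rfl⟩ b
      show ρ (sU hF 0 b) (ρ (sD hF t) w) = _
      have h1 : ρ (sU hF 0 b) (ρ (sD hF t) w) = (ρ (sU hF 0 b) * ρ (sD hF t)) w := rfl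
      rw [h1, ← map_mul, sU_center_mul_sD hm hF, map_mul]
      show ρ (sD hF t) (ρ (sU hF 0 _) w) = _
      rw [(hW w).1 hw, map_smul])
    (2 ^ m)
    (by
      intro t
      rw [← LinearEquiv.finrank_eq (Submodule.equivMapOfInjective (ρ (sD hF t)) (hinj t) W)]
      exact hdim)
  rw [Fintype.card_units, hF] at hcount
  rw [mul_comm]
  exact hcount

end core

end Cfsg.Agent.Helper6
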