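import Mathlib
import Cfsg.Prelude.Def_Sporadic_a

set_option autoImplicit false

namespace Cfsg.Agent.Helper6

/-- index of a point among the 24 coordinates -/
def gIdx : Cfsg.GolayPt → ℕ
  | none => 23
  | some x => x.val

/-- bitmask to word -/
def toWord (n : ℕ) : Cfsg.GolayPt → ZMod 2 := fun p => if n.testBit (gIdx p) then 1 else 0

theorem toWord_apply (n : ℕ) (p : Cfsg.GolayPt) :
    toWord n p = if n.testBit (gIdx p) then 1 else 0 := rfl

theorem toWord_zero : toWord 0 = 0 := by
  funext p; simp [toWord]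

theorem toWord_xor (a b : ℕ) : toWord (a ^^^ b) = toWord a + toWord b := by
  funext p
  simp only [toWord, Nat.testBit_xor, Pi.add_apply]
  cases a.testBit (gIdx p) <;> cases b.testBit (gIdx p) <;> decide

theorem toWord_and (a b : ℕ) (p : Cfsg.GolayPt) :
    toWord (a &&& b) p = toWord a p * toWord b p := by
  simp only [toWord, Nat.testBit_and]
  cases a.testBit (gIdx p) <;> cases b.testBit (gIdx p) <;> decide

theorem toWord_ne_zero_iff (n : ℕ) (p : Cfsg.GolayPt) :
    toWord n p ≠ 0 ↔ n.testBit (gIdx p) = true := by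
  simp only [toWord]
  cases n.testBit (gIdx p) <;> decide

/-- the points correspond to `Fin 24` -/
def gEquiv : Cfsg.GolayPt ≃ Fin 24 := (finSuccEquivLast (n := 23)).symm

theorem gEquiv_val : ∀ p : Cfsg.GolayPt, (gEquiv p).val = gIdx p := by decide

theorem gIdx_symm (i : Fin 24) : gIdx (gEquiv.symm i) = i.val := by
  rw [← gEquiv_val, Equiv.apply_symm_apply]

/-- popcount of the low `k` bits -/
def pcAux : ℕ → ℕ → ℕ
  | 0, _ => 0
  | k + 1, n => n % 2 + pcAux k (n / 2)

/-- popcount of the low 24 bits -/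
def pc (n : ℕ) : ℕ := pcAux 24 n

theorem pcAux_eq (k : ℕ) : ∀ n : ℕ,
    pcAux k n = ∑ i ∈ Finset.range k, if n.testBit i then 1 else 0 := by
  induction k with
  | zero => intro n; simp [pcAux]
  | succ k ih =>
    intro n
    rw [pcAux, ih, Finset.sum_range_succ']
    have h0 : (if n.testBit 0 then 1 else 0) = n % 2 := by
      rw [Nat.testBit_zero]
      rcases Nat.mod_two_eq_zero_or_one n with h | h <;> simp [h]
    rw [h0, add_comm]
    congr 1
    apply Finset.sum_congr rfl
    intro i _
    rw [Nat.testBit_succ]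

theorem sum_toWord_indicator (n : ℕ) :
    (∑ p : Cfsg.GolayPt, if n.testBit (gIdx p) then 1 else 0) = pc n := by
  unfold pc
  rw [pcAux_eq, ← Fin.sum_univ_eq_sum_range (fun i => if n.testBit i then 1 else 0) 24]
  apply Fintype.sum_equiv gEquiv
  intro p
  rw [gEquiv_val]

theorem card_support_toWord (n : ℕ) : (Cfsg.support₂ (toWord n)).card = pc n := by
  unfold Cfsg.support₂
  rw [Finset.card_filter, ← sum_toWord_indicator]
  apply Finset.sum_congr rfl
  intro p _
  simp only [toWord_ne_zero_iff]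

theorem hammingNorm_toWord (n : ℕ) : hammingNorm (toWord n) = pc n := by
  rw [← card_support_toWord]
  rfl

theorem sum_toWord (n : ℕ) : ∑ p, toWord n p = ((pc n : ℕ) : ZMod 2) := by
  rw [← sum_toWord_indicator, Nat.cast_sum]
  apply Finset.sum_congr rfl
  intro p _
  simp only [toWord]
  split_ifs <;> simp

theorem toWord_injOn {a b : ℕ} (ha : a < 2 ^ 24) (hb : b < 2 ^ 24) (h : toWord a = toWord b) :
    a = b := by
  apply Nat.eq_of_testBit_eq
  intro i
  by_cases hi : i < 24
  · have h1 := congrFun h (gEquiv.symm ⟨i, hi⟩)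
    simp only [toWord, gIdx_symm] at h1
    revert h1
    cases a.testBit i <;> cases b.testBit i <;> decide
  · have hi' : 24 ≤ i := not_lt.1 hi
    have h2 : (2 : ℕ) ^ 24 ≤ 2 ^ i := Nat.pow_le_pow_right (by norm_num) hi'
    rw [Nat.testBit_lt_two_pow (lt_of_lt_of_le ha h2),
      Nat.testBit_lt_two_pow (lt_of_lt_of_le hb h2)]

theorem support₂_injective {v w : Cfsg.GolayPt → ZMod 2}
    (h : Cfsg.support₂ v = Cfsg.support₂ w) : v = w := by
  funext p
  have h1 : p ∈ Cfsg.support₂ v ↔ p ∈ Cfsg.support₂ w := by rw [h]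
  unfold Cfsg.support₂ at h1
  simp only [Finset.mem_filter, Finset.mem_univ, true_and] at h1
  revert h1
  generalize v p = x
  generalize w p = y
  revert x y
  decide

/-! ### XOR combinations -/

/-- all XOR-combinations of a list of masks -/
def allCombs : List ℕ → List ℕ
  | [] => [0]
  | m :: ms => allCombs ms ++ (allCombs ms).map (fun x => m ^^^ x)

theorem zero_mem_allCombs (ms : List ℕ) : 0 ∈ allCombs ms := by
  induction ms with
  | nil => simp [allCombs]
  | cons m ms ih => simp [allCombs, ih]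

theorem mem_allCombs_cons {m : ℕ} {ms : List ℕ} {a : ℕ} :
    a ∈ allCombs (m :: ms) ↔ a ∈ allCombs ms ∨ ∃ a' ∈ allCombs ms, a = m ^^^ a' := by
  simp only [allCombs, List.mem_append, List.mem_map]
  constructor
  · rintro (h | ⟨a', h, rfl⟩)
    · exact Or.inl h
    · exact Or.inr ⟨a', h, rfl⟩
  · rintro (h | ⟨a', h, rfl⟩)
    · exact Or.inl h
    · exact Or.inr ⟨a', h, rfl⟩

theorem xor_mem_allCombs (ms : List ℕ) :
    ∀ a ∈ allCombs ms, ∀ b ∈ allCombs ms, a ^^^ b ∈ allCombs ms := by
  induction ms with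
  | nil =>
    intro a ha b hb
    simp only [allCombs, List.mem_singleton] at ha hb ⊢
    rw [ha, hb]; rfl
  | cons m ms ih =>
    intro a ha b hb
    rw [mem_allCombs_cons] at ha hb ⊢
    rcases ha with ha | ⟨a', ha', rfl⟩ <;> rcases hb with hb | ⟨b', hb', rfl⟩
    · exact Or.inl (ih a ha b hb)
    · right
      refine ⟨a ^^^ b', ih a ha b' hb', ?_⟩
      rw [← Nat.xor_assoc, Nat.xor_comm a m, Nat.xor_assoc]
    · right
      refine ⟨a' ^^^ b, ih a' ha' b hb, ?_⟩
      rw [Nat.xor_assoc]
    · left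
      have : m ^^^ a' ^^^ (m ^^^ b') = a' ^^^ b' := by
        rw [Nat.xor_comm m a', Nat.xor_assoc, ← Nat.xor_assoc m m b', Nat.xor_self, Nat.zero_xor]
      rw [this]
      exact ih a' ha' b' hb'

theorem toWord_mem_of_mem_allCombs (C : Submodule (ZMod 2) (Cfsg.GolayPt → ZMod 2))
    (ms : List ℕ) (h : ∀ m ∈ ms, toWord m ∈ C) : ∀ n ∈ allCombs ms, toWord n ∈ C := by
  induction ms with
  | nil =>
    intro n hn
    simp only [allCombs, List.mem_singleton] at hn
    rw [hn, toWord_zero]; exact C.zero_mem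
  | cons m ms ih =>
    intro n hn
    have ih' := ih (fun x hx => h x (List.mem_cons_of_mem _ hx))
    rw [mem_allCombs_cons] at hn
    rcases hn with hn | ⟨a', ha', rfl⟩
    · exact ih' n hn
    · rw [toWord_xor]
      exact C.add_mem (h m List.mem_cons_self) (ih' a' ha')

/-- XOR of the sub-list selected by the bits of `mask` -/
def xorSub : List ℕ → ℕ → ℕ
  | [], _ => 0
  | m :: ms, mask => (if mask % 2 = 1 then m else 0) ^^^ xorSub ms (mask / 2)

theorem toWord_xorSub_mem (C : Submodule (ZMod 2) (Cfsg.GolayPt → ZMod 2))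
    (ms : List ℕ) (h : ∀ m ∈ ms, toWord m ∈ C) : ∀ mask : ℕ, toWord (xorSub ms mask) ∈ C := by
  induction ms with
  | nil => intro mask; simp only [xorSub]; rw [toWord_zero]; exact C.zero_mem
  | cons m ms ih =>
    intro mask
    have ih' := ih (fun x hx => h x (List.mem_cons_of_mem _ hx)) (mask / 2)
    simp only [xorSub]
    rw [toWord_xor]
    apply C.add_mem _ ih'
    split_ifs
    · exact h m List.mem_cons_self
    · rw [toWord_zero]; exact C.zero_mem

end Cfsg.Agent.Helper6
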