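import Cfsg.Agent.Helper6.Golay1

set_option autoImplicit false

namespace Cfsg.Agent.Helper6

/-- mask of the squares modulo 23 (zero included) -/
def qMask : ℕ := 340831

/-- mask of the translate by `t` of the squares modulo 23 -/
def qrMask (t : ℕ) : ℕ := ((qMask <<< t) ||| (qMask >>> (23 - t))) &&& (2 ^ 23 - 1)

/-- a basis in systematic form, highest pivot first -/
def gBasis : List ℕ :=
  [8391797, 4196943, 2101096, 1050548, 525274, 262637, 133817, 69395, 36294, 18147, 10558, 5279]

/-- all 4096 codewords as masks -/
def gCodeList : List ℕ := allCombs gBasis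

/-- the natural basis: translates `0..10` and the all-ones word -/
def natBasis : List ℕ := (List.range 11).map qrMask ++ [2 ^ 24 - 1]

/-- coefficients of `gBasis` with respect to `natBasis` -/
def gCoefs : List ℕ := [3734, 1501, 578, 289, 1505, 1921, 876, 1131, 665, 1085, 690, 345]

/-- strictly increasing lists -/
def incr : List ℕ → Bool
  | [] => true
  | [_] => true
  | a :: b :: l => decide (a < b) && incr (b :: l)

theorem pairwise_of_incr : ∀ l : List ℕ, incr l = true → l.Pairwise (· < ·) := by
  intro l
  induction l with
  | nil => intro _; exact List.Pairwise.nil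
  | cons a l ih =>
    intro h
    cases l with
    | nil => exact List.pairwise_singleton _ _
    | cons b l =>
      simp only [incr, Bool.and_eq_true, decide_eq_true_eq] at h
      have h2 := ih h.2
      have h3 := h2
      rw [List.pairwise_cons] at h3 ⊢
      refine ⟨?_, h2⟩
      intro x hx
      rcases List.mem_cons.1 hx with rfl | hx
      · exact h.1
      · exact lt_trans h.1 (h3.1 x hx)

theorem nodup_of_incr (l : List ℕ) (h : incr l = true) : l.Nodup :=
  (pairwise_of_incr l h).imp (fun h => ne_of_lt h)

theorem qrWord_eq : ∀ t : ZMod 23, ∀ p : Cfsg.GolayPt,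
    Cfsg.qrWord t p = toWord (qrMask t.val) p := by decide +kernel

theorem one_eq : ∀ p : Cfsg.GolayPt, (1 : Cfsg.GolayPt → ZMod 2) p = toWord (2 ^ 24 - 1) p := by
  decide +kernel

end Cfsg.Agent.Helper6
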