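import Cfsg.Agent.Helper6.Golay2

set_option autoImplicit false

namespace Cfsg.Agent.Helper6

theorem gCodeList_length : gCodeList.length = 4096 := by decide +kernel

theorem gCodeList_incr : incr gCodeList = true := by decide +kernel

theorem gCodeList_lt_aux : gCodeList.all (fun n => decide (n < 2 ^ 24)) = true := by
  decide +kernel

theorem gCodeList_lt : ∀ n ∈ gCodeList, n < 2 ^ 24 := by
  intro n hn
  have := List.all_eq_true.1 gCodeList_lt_aux n hn
  simpa using this

theorem qrMask_mem : ∀ t : ZMod 23, qrMask t.val ∈ gCodeList := by decide +kernel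

theorem ones_mem : 2 ^ 24 - 1 ∈ gCodeList := by decide +kernel

theorem gBasis_eq : gBasis = gCoefs.map (xorSub natBasis) := by decide +kernel

theorem gCodeList_weights_aux : gCodeList.all (fun n =>
    decide (pc n = 0 ∨ pc n = 8 ∨ pc n = 12 ∨ pc n = 16 ∨ pc n = 24)) = true := by
  decide +kernel

theorem gCodeList_weights : ∀ n ∈ gCodeList,
    pc n = 0 ∨ pc n = 8 ∨ pc n = 12 ∨ pc n = 16 ∨ pc n = 24 := by
  intro n hn
  have := List.all_eq_true.1 gCodeList_weights_aux n hn
  simpa using this

theorem gCodeList_count8 : (gCodeList.filter (fun n => pc n = 8)).length = 759 := by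
  decide +kernel

theorem gCodeList_count12 : (gCodeList.filter (fun n => pc n = 12)).length = 2576 := by
  decide +kernel

end Cfsg.Agent.Helper6
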