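import Cfsg.Agent.Helper6.Golay3

set_option autoImplicit false

namespace Cfsg.Agent.Helper6

open Cfsg

theorem qrWord_eq_toWord (t : ZMod 23) : qrWord t = toWord (qrMask t.val) :=
  funext (qrWord_eq t)

theorem one_eq_toWord : (1 : GolayPt → ZMod 2) = toWord (2 ^ 24 - 1) := funext one_eq

theorem natBasis_mem : ∀ g ∈ natBasis, toWord g ∈ golayCode := by
  intro g hg
  unfold natBasis at hg
  rw [List.mem_append, List.mem_map, List.mem_singleton] at hg
  rcases hg with ⟨t, ht, rfl⟩ | rfl
  · rw [List.mem_range] at ht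
    have hval : ((t : ℕ) : ZMod 23).val = t := ZMod.val_natCast_of_lt (by omega)
    have : toWord (qrMask t) = qrWord ((t : ℕ) : ZMod 23) := by
      rw [qrWord_eq_toWord, hval]
    rw [this]
    exact Submodule.subset_span (Or.inl ⟨_, rfl⟩)
  · rw [← one_eq_toWord]
    exact Submodule.subset_span (Or.inr rfl)

theorem gBasis_mem : ∀ m ∈ gBasis, toWord m ∈ golayCode := by
  intro m hm
  rw [gBasis_eq, List.mem_map] at hm
  obtain ⟨c, _, rfl⟩ := hm
  exact toWord_xorSub_mem golayCode natBasis natBasis_mem c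

/-- the code is exactly the set of words of the 4096 masks -/
theorem mem_golayCode_iff (w : GolayPt → ZMod 2) :
    w ∈ golayCode ↔ ∃ n ∈ gCodeList, w = toWord n := by
  constructor
  · intro hw
    unfold golayCode at hw
    induction hw using Submodule.span_induction with
    | mem x hx =>
      rcases hx with ⟨t, rfl⟩ | hx
      · exact ⟨_, qrMask_mem t, qrWord_eq_toWord t⟩
      · rw [Set.mem_singleton_iff] at hx
        exact ⟨_, ones_mem, hx.trans one_eq_toWord⟩
    | zero => exact ⟨0, zero_mem_allCombs _, toWord_zero.symm⟩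
    | add x y _ _ ihx ihy =>
      obtain ⟨a, ha, rfl⟩ := ihx
      obtain ⟨b, hb, rfl⟩ := ihy
      exact ⟨a ^^^ b, xor_mem_allCombs _ a ha b hb, (toWord_xor a b).symm⟩
    | smul c x _ ih =>
      obtain ⟨a, ha, rfl⟩ := ih
      have hc : c = 0 ∨ c = 1 := by revert c; decide
      rcases hc with rfl | rfl
      · exact ⟨0, zero_mem_allCombs _, by rw [zero_smul, toWord_zero]⟩
      · exact ⟨a, ha, one_smul _ _⟩
  · rintro ⟨n, hn, rfl⟩
    exact toWord_mem_of_mem_allCombs golayCode gBasis gBasis_mem n hn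

theorem gCodeList_nodup : gCodeList.Nodup := nodup_of_incr _ gCodeList_incr

/-- weights of codewords -/
theorem golay_weights (w : GolayPt → ZMod 2) (hw : w ∈ golayCode) :
    hammingNorm w = 0 ∨ hammingNorm w = 8 ∨ hammingNorm w = 12 ∨ hammingNorm w = 16 ∨
      hammingNorm w = 24 := by
  obtain ⟨n, hn, rfl⟩ := (mem_golayCode_iff w).1 hw
  rw [hammingNorm_toWord]
  exact gCodeList_weights n hn

/-- the map from masks to supports -/
def suppOf (n : ℕ) : Finset GolayPt := support₂ (toWord n)

theorem suppOf_injOn {a b : ℕ} (ha : a < 2 ^ 24) (hb : b < 2 ^ 24) (h : suppOf a = suppOf b) :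
    a = b :=
  toWord_injOn ha hb (support₂_injective h)

theorem wordsOfWeight_eq (k : ℕ) :
    wordsOfWeight (golayCode : Set (GolayPt → ZMod 2)) k =
      suppOf '' ((gCodeList.filter (fun n => pc n = k)).toFinset : Set ℕ) := by
  ext b
  unfold wordsOfWeight supports
  simp only [Set.mem_ofPred_eq, Set.mem_image, SetLike.mem_coe, List.mem_toFinset,
    List.mem_filter, decide_eq_true_eq]
  constructor
  · rintro ⟨⟨w, hw, rfl⟩, hcard⟩
    obtain ⟨n, hn, rfl⟩ := (mem_golayCode_iff w).1 hw
    rw [card_support_toWord] at hcard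
    exact ⟨n, ⟨hn, hcard⟩, rfl⟩
  · rintro ⟨n, ⟨hn, hpc⟩, rfl⟩
    refine ⟨⟨toWord n, (mem_golayCode_iff _).2 ⟨n, hn, rfl⟩, rfl⟩, ?_⟩
    unfold suppOf
    rw [card_support_toWord]; exact hpc

theorem ncard_wordsOfWeight (k : ℕ) :
    (wordsOfWeight (golayCode : Set (GolayPt → ZMod 2)) k).ncard =
      (gCodeList.filter (fun n => pc n = k)).length := by
  have hinj : Set.InjOn suppOf ((gCodeList.filter (fun n => pc n = k)).toFinset : Set ℕ) := by
    intro a ha b hb hab
    simp only [Finset.mem_coe, List.mem_toFinset, List.mem_filter] at ha hb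
    exact suppOf_injOn (gCodeList_lt a ha.1) (gCodeList_lt b hb.1) hab
  rw [wordsOfWeight_eq, Set.InjOn.ncard_image hinj, Set.ncard_coe_finset,
    List.toFinset_card_of_nodup (gCodeList_nodup.filter _)]

theorem octads_ncard : octads.ncard = 759 := by
  unfold octads
  rw [ncard_wordsOfWeight, gCodeList_count8]

theorem dodecads_ncard : dodecads.ncard = 2576 := by
  unfold dodecads
  rw [ncard_wordsOfWeight, gCodeList_count12]

theorem golayCode_coe_eq :
    (golayCode : Set (GolayPt → ZMod 2)) = toWord '' (gCodeList.toFinset : Set ℕ) := by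
  ext w
  simp only [SetLike.mem_coe, Set.mem_image, List.mem_toFinset]
  rw [mem_golayCode_iff]
  constructor
  · rintro ⟨n, hn, rfl⟩; exact ⟨n, hn, rfl⟩
  · rintro ⟨n, hn, rfl⟩; exact ⟨n, hn, rfl⟩

theorem golayCode_card : Nat.card golayCode = 4096 := by
  have h1 : Nat.card golayCode = (golayCode : Set (GolayPt → ZMod 2)).ncard := rfl
  have hinj : Set.InjOn toWord (gCodeList.toFinset : Set ℕ) := by
    intro a ha b hb hab
    simp only [Finset.mem_coe, List.mem_toFinset] at ha hb
    exact toWord_injOn (gCodeList_lt a ha) (gCodeList_lt b hb) hab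
  rw [h1, golayCode_coe_eq, Set.InjOn.ncard_image hinj, Set.ncard_coe_finset,
    List.toFinset_card_of_nodup gCodeList_nodup, gCodeList_length]

theorem golay_finrank : Module.finrank (ZMod 2) golayCode = 12 := by
  have h := Module.natCard_eq_pow_finrank (K := ZMod 2) (V := golayCode)
  rw [golayCode_card, Nat.card_eq_fintype_card, ZMod.card] at h
  have : (2 : ℕ) ^ 12 = 2 ^ Module.finrank (ZMod 2) golayCode := by
    rw [← h]; norm_num
  exact (Nat.pow_right_injective (le_refl 2) this).symm

end Cfsg.Agent.Helper6
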