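import Cfsg.Agent.Helper6.Golay4

set_option autoImplicit false

namespace Cfsg.Agent.Helper6

open Cfsg

/-- masks of all 24 generators -/
def natGens : List ℕ := (List.range 23).map qrMask ++ [2 ^ 24 - 1]

theorem natGens_orth_aux :
    natGens.all (fun a => natGens.all (fun b => decide (pc (a &&& b) % 2 = 0))) = true := by
  decide +kernel

theorem natGens_orth : ∀ a ∈ natGens, ∀ b ∈ natGens, pc (a &&& b) % 2 = 0 := by
  intro a ha b hb
  have h1 := List.all_eq_true.1 natGens_orth_aux a ha
  have h2 := List.all_eq_true.1 h1 b hb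
  simpa using h2

theorem dot_toWord (a b : ℕ) :
    ∑ p, toWord a p * toWord b p = ((pc (a &&& b) : ℕ) : ZMod 2) := by
  rw [← sum_toWord]
  apply Finset.sum_congr rfl
  intro p _
  rw [toWord_and]

theorem generator_eq_toWord {x : GolayPt → ZMod 2} (hx : x ∈ Set.range qrWord ∪ {1}) :
    ∃ a ∈ natGens, x = toWord a := by
  rcases hx with ⟨t, rfl⟩ | hx
  · refine ⟨qrMask t.val, ?_, qrWord_eq_toWord t⟩
    unfold natGens
    rw [List.mem_append, List.mem_map]
    left
    exact ⟨t.val, List.mem_range.2 (ZMod.val_lt t), rfl⟩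
  · rw [Set.mem_singleton_iff] at hx
    refine ⟨2 ^ 24 - 1, ?_, hx.trans one_eq_toWord⟩
    unfold natGens
    rw [List.mem_append, List.mem_singleton]
    right; rfl

theorem golay_self_orthogonal (v w : GolayPt → ZMod 2) (hv : v ∈ golayCode)
    (hw : w ∈ golayCode) : ∑ i, v i * w i = 0 := by
  unfold golayCode at hv hw
  induction hv, hw using Submodule.span_induction₂ with
  | mem_mem x y hx hy =>
    obtain ⟨a, ha, rfl⟩ := generator_eq_toWord hx
    obtain ⟨b, hb, rfl⟩ := generator_eq_toWord hy
    rw [dot_toWord, ZMod.natCast_eq_zero_iff]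
    exact Nat.dvd_of_mod_eq_zero (natGens_orth a ha b hb)
  | zero_left y hy => simp
  | zero_right x hx => simp
  | add_left x y z hx hy hz h1 h2 =>
    simp only [Pi.add_apply, add_mul, Finset.sum_add_distrib, h1, h2, add_zero]
  | add_right x y z hx hy hz h1 h2 =>
    simp only [Pi.add_apply, mul_add, Finset.sum_add_distrib, h1, h2, add_zero]
  | smul_left r x y hx hy h =>
    simp only [Pi.smul_apply, smul_eq_mul, mul_assoc, ← Finset.mul_sum, h, mul_zero]
  | smul_right r x y hx hy h =>
    have : ∀ i, x i * (r • y) i = r * (x i * y i) := by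
      intro i; simp only [Pi.smul_apply, smul_eq_mul]; ring
    simp only [this, ← Finset.mul_sum, h, mul_zero]

end Cfsg.Agent.Helper6
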