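import Mathlib
import Cfsg.Prelude.Def_Sporadic_a

set_option autoImplicit false

namespace Cfsg.Agent.Helper6

open Finset

variable {α : Type*} [Fintype α] [DecidableEq α]

/-- the blocks as a finset -/
noncomputable def blocks (B : Set (Finset α)) : Finset (Finset α) := (Set.toFinite B).toFinset

theorem mem_blocks {B : Set (Finset α)} {b : Finset α} : b ∈ blocks B ↔ b ∈ B :=
  Set.Finite.mem_toFinset _

theorem ncard_eq_card_blocks (B : Set (Finset α)) : B.ncard = (blocks B).card :=
  Set.ncard_eq_toFinset_card B (Set.toFinite B)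

/-- the number of `t`-subsets of `b` containing `A` -/
theorem card_filter_superset {A b : Finset α} (hA : A ⊆ b) {t : ℕ} (hj : A.card ≤ t) :
    ((powersetCard t b).filter (fun s => A ⊆ s)).card = (b.card - A.card).choose (t - A.card) := by
  have : (powersetCard t b).filter (fun s => A ⊆ s) =
      (powersetCard (t - A.card) (b \ A)).image (fun u => u ∪ A) := by
    ext s
    simp only [mem_filter, mem_powersetCard, mem_image]
    constructor
    · rintro ⟨⟨hsb, hst⟩, hAs⟩
      refine ⟨s \ A, ⟨sdiff_subset_sdiff hsb (le_refl _), ?_⟩, ?_⟩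
      · rw [card_sdiff_of_subset hAs, hst]
      · exact sdiff_union_of_subset hAs
    · rintro ⟨u, ⟨hu, huc⟩, rfl⟩
      have hdisj : Disjoint u A := by
        apply Finset.disjoint_of_subset_left hu
        exact sdiff_disjoint
      refine ⟨⟨?_, ?_⟩, subset_union_right⟩
      · exact union_subset (hu.trans sdiff_subset) hA
      · rw [card_union_of_disjoint hdisj, huc]; omega
  rw [this, card_image_of_injOn, card_powersetCard, card_sdiff_of_subset hA]
  intro u hu v hv huv
  rw [mem_coe, mem_powersetCard] at hu hv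
  have hdu : Disjoint u A := Finset.disjoint_of_subset_left hu.1 sdiff_disjoint
  have hdv : Disjoint v A := Finset.disjoint_of_subset_left hv.1 sdiff_disjoint
  simp only at huv
  have h1 : (u ∪ A) \ A = u := union_sdiff_cancel_right hdu
  have h2 : (v ∪ A) \ A = v := union_sdiff_cancel_right hdv
  rw [← h1, ← h2, huv]

variable {t k : ℕ} {B : Set (Finset α)}

/-- the number `λ_j` of blocks containing a given `j`-set, `j ≤ t` -/
theorem card_blocks_superset (hB : Cfsg.IsSteinerSystem t k B) {A : Finset α} (hj : A.card ≤ t) :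
    ((blocks B).filter (fun b => A ⊆ b)).card * (k - A.card).choose (t - A.card) =
      (Fintype.card α - A.card).choose (t - A.card) := by
  classical
  set 𝒮 := (powersetCard t (univ : Finset α)).filter (fun s => A ⊆ s) with h𝒮
  have h1 := sum_card_bipartiteAbove_eq_sum_card_bipartiteBelow (s := 𝒮) (t := blocks B)
    (fun s b => s ⊆ b)
  have hL : ∑ s ∈ 𝒮, ((blocks B).bipartiteAbove (fun s b => s ⊆ b) s).card = 𝒮.card := by
    rw [card_eq_sum_ones]
    apply sum_congr rfl
    intro s hs
    rw [h𝒮, mem_filter, mem_powersetCard] at hs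
    obtain ⟨b, ⟨hbB, hsb⟩, huniq⟩ := hB.2 s hs.1.2
    rw [card_eq_one]
    refine ⟨b, ?_⟩
    ext c
    simp only [bipartiteAbove, mem_filter, mem_blocks, mem_singleton]
    constructor
    · rintro ⟨hc, hsc⟩; exact huniq c ⟨hc, hsc⟩
    · rintro rfl; exact ⟨hbB, hsb⟩
  have hR : ∑ b ∈ blocks B, (𝒮.bipartiteBelow (fun s b => s ⊆ b) b).card =
      ((blocks B).filter (fun b => A ⊆ b)).card * (k - A.card).choose (t - A.card) := by
    rw [← sum_filter_add_sum_filter_not (blocks B) (fun b => A ⊆ b)]
    have hzero : ∑ b ∈ (blocks B).filter (fun b => ¬ A ⊆ b),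
        (𝒮.bipartiteBelow (fun s b => s ⊆ b) b).card = 0 := by
      apply sum_eq_zero
      intro b hb
      rw [mem_filter] at hb
      rw [card_eq_zero, bipartiteBelow, filter_eq_empty_iff]
      intro s hs hsb
      rw [h𝒮, mem_filter] at hs
      exact hb.2 (hs.2.trans hsb)
    rw [hzero, add_zero, ← smul_eq_mul, ← sum_const]
    apply sum_congr rfl
    intro b hb
    rw [mem_filter, mem_blocks] at hb
    have hbk : b.card = k := hB.1 b hb.1
    rw [← hbk, ← card_filter_superset hb.2 hj]
    congr 1
    ext s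
    simp only [bipartiteBelow, h𝒮, mem_filter, mem_powersetCard]
    constructor
    · rintro ⟨⟨⟨_, hst⟩, hAs⟩, hsb⟩; exact ⟨⟨hsb, hst⟩, hAs⟩
    · rintro ⟨⟨hsb, hst⟩, hAs⟩; exact ⟨⟨⟨subset_univ _, hst⟩, hAs⟩, hsb⟩
  rw [hL, hR] at h1
  rw [← h1, h𝒮, card_filter_superset (subset_univ A) hj, card_univ]

/-- block count -/
theorem block_count (hB : Cfsg.IsSteinerSystem t k B) :
    B.ncard * k.choose t = (Fintype.card α).choose t := by
  have := card_blocks_superset hB (A := ∅) (by simp)
  simp only [card_empty, empty_subset, filter_true, Nat.sub_zero] at this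
  rw [ncard_eq_card_blocks]
  exact this

/-- the intersection-number equations: for a finset `b₀` and `j ≤ t`,
`∑_c C(|b₀ ∩ c|, j) · C(k-j, t-j) = C(|b₀|, j) · C(v-j, t-j)` -/
theorem sum_choose_inter (hB : Cfsg.IsSteinerSystem t k B) (b₀ : Finset α) {j : ℕ} (hj : j ≤ t) :
    (∑ c ∈ blocks B, ((b₀ ∩ c).card).choose j) * (k - j).choose (t - j) =
      (b₀.card).choose j * (Fintype.card α - j).choose (t - j) := by
  classical
  have h1 := sum_card_bipartiteAbove_eq_sum_card_bipartiteBelow (s := powersetCard j b₀)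
    (t := blocks B) (fun A c => A ⊆ c)
  have hR : ∑ c ∈ blocks B, ((powersetCard j b₀).bipartiteBelow (fun A c => A ⊆ c) c).card =
      ∑ c ∈ blocks B, ((b₀ ∩ c).card).choose j := by
    apply sum_congr rfl
    intro c _
    rw [← card_powersetCard]
    congr 1
    ext A
    simp only [bipartiteBelow, mem_filter, mem_powersetCard, subset_inter_iff]
    tauto
  rw [hR] at h1
  rw [← h1, sum_mul]
  have : ∀ A ∈ powersetCard j b₀,
      ((blocks B).bipartiteAbove (fun A c => A ⊆ c) A).card * (k - j).choose (t - j) =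
        (Fintype.card α - j).choose (t - j) := by
    intro A hA
    rw [mem_powersetCard] at hA
    have := card_blocks_superset hB (A := A) (by rw [hA.2]; exact hj)
    rw [hA.2] at this
    exact this
  rw [sum_congr rfl this, sum_const, card_powersetCard, smul_eq_mul]

/-- distinct blocks share fewer than `t` points -/
theorem inter_card_lt (hB : Cfsg.IsSteinerSystem t k B) {b c : Finset α} (hb : b ∈ B) (hc : c ∈ B)
    (hbc : b ≠ c) : (b ∩ c).card < t := by
  by_contra h
  have h := not_lt.1 h
  obtain ⟨s, hs, hst⟩ := exists_subset_card_eq h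
  obtain ⟨d, _, huniq⟩ := hB.2 s hst
  have h1 := huniq b ⟨hb, hs.trans inter_subset_left⟩
  have h2 := huniq c ⟨hc, hs.trans inter_subset_right⟩
  exact hbc (h1.trans h2.symm)

/-- fiberwise expansion of the sum of binomial coefficients -/
theorem sum_choose_eq_sum_range (𝔅 : Finset (Finset α)) (b₀ : Finset α) (j m : ℕ)
    (hm : ∀ c ∈ 𝔅, (b₀ ∩ c).card < m) :
    ∑ c ∈ 𝔅, ((b₀ ∩ c).card).choose j =
      ∑ i ∈ range m, (𝔅.filter (fun c => (b₀ ∩ c).card = i)).card * i.choose j := by
  rw [← sum_fiberwise_of_maps_to (s := 𝔅) (t := range m) (g := fun c => (b₀ ∩ c).card)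
    (fun c hc => mem_range.2 (hm c hc))]
  apply sum_congr rfl
  intro i _
  rw [← smul_eq_mul, ← sum_const]
  apply sum_congr rfl
  intro c hc
  rw [mem_filter] at hc
  rw [hc.2]

end Cfsg.Agent.Helper6
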