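import Cfsg.Agent.Helper6.Golay5
import Cfsg.Agent.Helper6.Steiner

set_option autoImplicit false

namespace Cfsg.Agent.Helper6

open Cfsg Finset

theorem support₂_add (v w : GolayPt → ZMod 2) :
    support₂ (v + w) = symmDiff (support₂ v) (support₂ w) := by
  ext p
  unfold support₂
  simp only [mem_filter, mem_univ, true_and, Pi.add_apply, Finset.mem_symmDiff]
  generalize v p = x
  generalize w p = y
  revert x y
  decide

theorem octad_card {b : Finset GolayPt} (hb : b ∈ octads) : b.card = 8 := hb.2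

theorem octad_unique {b₁ b₂ s : Finset GolayPt} (h₁ : b₁ ∈ octads) (h₂ : b₂ ∈ octads)
    (hs : 5 ≤ s.card) (hs₁ : s ⊆ b₁) (hs₂ : s ⊆ b₂) : b₁ = b₂ := by
  obtain ⟨⟨w₁, hw₁, rfl⟩, hc₁⟩ := h₁
  obtain ⟨⟨w₂, hw₂, rfl⟩, hc₂⟩ := h₂
  have hw : w₁ + w₂ ∈ golayCode := golayCode.add_mem hw₁ hw₂
  have hnorm : hammingNorm (w₁ + w₂) = (support₂ (w₁ + w₂)).card := rfl
  have hinter : 5 ≤ (support₂ w₁ ∩ support₂ w₂).card :=
    hs.trans (card_le_card (subset_inter hs₁ hs₂))
  have hle : (support₂ (w₁ + w₂)).card ≤ 6 := by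
    rw [support₂_add, Finset.symmDiff_def]
    have h1 := card_union_le (support₂ w₁ \ support₂ w₂) (support₂ w₂ \ support₂ w₁)
    have h2 := card_sdiff_add_card_inter (support₂ w₁) (support₂ w₂)
    have h3 := card_sdiff_add_card_inter (support₂ w₂) (support₂ w₁)
    rw [inter_comm] at h3
    omega
  have h0 : hammingNorm (w₁ + w₂) = 0 := by
    rcases golay_weights _ hw with h | h | h | h | h <;> omega
  rw [hammingNorm_eq_zero] at h0
  have : w₁ = w₂ := by
    funext p
    have := congrFun h0 p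
    simp only [Pi.add_apply, Pi.zero_apply] at this
    revert this
    generalize w₁ p = x
    generalize w₂ p = y
    revert x y
    decide
  rw [this]

theorem octads_steiner : IsSteinerSystem 5 8 octads := by
  refine ⟨fun b hb => octad_card hb, ?_⟩
  -- counting
  set O := blocks octads with hO
  have hOcard : O.card = 759 := by rw [hO, ← ncard_eq_card_blocks, octads_ncard]
  set F := O.biUnion (fun b => b.powersetCard 5) with hF
  have hdisj : (O : Set (Finset GolayPt)).PairwiseDisjoint (fun b => b.powersetCard 5) := by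
    intro b₁ hb₁ b₂ hb₂ hne
    rw [Function.onFun, disjoint_left]
    intro s hs₁ hs₂
    rw [mem_powersetCard] at hs₁ hs₂
    exact hne (octad_unique (mem_blocks.1 hb₁) (mem_blocks.1 hb₂) (by rw [hs₁.2]) hs₁.1 hs₂.1)
  have hFcard : F.card = 42504 := by
    rw [hF, card_biUnion hdisj]
    have : ∀ b ∈ O, (b.powersetCard 5).card = 56 := by
      intro b hb
      rw [card_powersetCard, octad_card (mem_blocks.1 hb)]
      rfl
    rw [sum_congr rfl this, sum_const, hOcard]
    rfl
  have hsub : F ⊆ (univ : Finset GolayPt).powersetCard 5 := by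
    intro s hs
    rw [hF, mem_biUnion] at hs
    obtain ⟨b, _, hsb⟩ := hs
    rw [mem_powersetCard] at hsb ⊢
    exact ⟨subset_univ _, hsb.2⟩
  have hall : ((univ : Finset GolayPt).powersetCard 5).card = 42504 := by
    rw [card_powersetCard, card_univ]
    have : Fintype.card GolayPt = 24 := by decide
    rw [this]
    rfl
  have hFeq : F = (univ : Finset GolayPt).powersetCard 5 :=
    eq_of_subset_of_card_le hsub (by rw [hall, hFcard])
  intro s hs
  have hsF : s ∈ F := by
    rw [hFeq, mem_powersetCard]; exact ⟨subset_univ _, hs⟩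
  rw [hF, mem_biUnion] at hsF
  obtain ⟨b, hbO, hsb⟩ := hsF
  rw [mem_powersetCard] at hsb
  refine ⟨b, ⟨mem_blocks.1 hbO, hsb.1⟩, ?_⟩
  rintro c ⟨hc, hsc⟩
  exact octad_unique hc (mem_blocks.1 hbO) (by rw [hs]) hsc hsb.1

end Cfsg.Agent.Helper6
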