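import Cfsg.Agent.Helper6.Mult2

/-!
# Central extensions of the Suzuki group by a group of order two
-/

set_option autoImplicit false

namespace Cfsg.Agent.Helper6

/-- commutators with a central factor on the left -/
theorem com_central_mul_left {G : Type*} [Group G] (k e u : G) (hk : ∀ g : G, k * g = g * k) :
    (k * e) * u * (k * e)⁻¹ * u⁻¹ = e * u * e⁻¹ * u⁻¹ := by
  calc (k * e) * u * (k * e)⁻¹ * u⁻¹ = k * (e * u * e⁻¹) * k⁻¹ * u⁻¹ := by group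
    _ = (e * u * e⁻¹) * k * k⁻¹ * u⁻¹ := by rw [hk (e * u * e⁻¹)]
    _ = _ := by group

/-- commutators with a central factor on the right -/
theorem com_central_mul_right {G : Type*} [Group G] (k e u : G) (hk : ∀ g : G, k * g = g * k) :
    e * (u * k) * e⁻¹ * (u * k)⁻¹ = e * u * e⁻¹ * u⁻¹ := by
  calc e * (u * k) * e⁻¹ * (u * k)⁻¹ = e * u * (k * e⁻¹) * k⁻¹ * u⁻¹ := by group
    _ = e * u * (e⁻¹ * k) * k⁻¹ * u⁻¹ := by rw [hk e⁻¹]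
    _ = _ := by group

/-- commutators are multiplicative on the left when central -/
theorem com_mul_left {G : Type*} [Group G] (e e' u : G)
    (h : ∀ g : G, (e' * u * e'⁻¹ * u⁻¹) * g = g * (e' * u * e'⁻¹ * u⁻¹)) :
    (e * e') * u * (e * e')⁻¹ * u⁻¹ = (e * u * e⁻¹ * u⁻¹) * (e' * u * e'⁻¹ * u⁻¹) := by
  calc (e * e') * u * (e * e')⁻¹ * u⁻¹
      = e * (e' * u * e'⁻¹ * u⁻¹) * (u * e⁻¹ * u⁻¹) := by group
    _ = (e' * u * e'⁻¹ * u⁻¹) * e * (u * e⁻¹ * u⁻¹) := by rw [← h e]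
    _ = (e' * u * e'⁻¹ * u⁻¹) * (e * u * e⁻¹ * u⁻¹) := by group
    _ = _ := h _

/-- commutators are multiplicative on the right when central -/
theorem com_mul_right {G : Type*} [Group G] (e u u' : G)
    (h : ∀ g : G, (e * u' * e⁻¹ * u'⁻¹) * g = g * (e * u' * e⁻¹ * u'⁻¹)) :
    e * (u * u') * e⁻¹ * (u * u')⁻¹ = (e * u * e⁻¹ * u⁻¹) * (e * u' * e⁻¹ * u'⁻¹) := by
  calc e * (u * u') * e⁻¹ * (u * u')⁻¹
      = (e * u * e⁻¹) * (e * u' * e⁻¹ * u'⁻¹) * u⁻¹ := by group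
    _ = (e * u' * e⁻¹ * u'⁻¹) * (e * u * e⁻¹) * u⁻¹ := by rw [← h (e * u * e⁻¹)]
    _ = (e * u' * e⁻¹ * u'⁻¹) * (e * u * e⁻¹ * u⁻¹) := by group
    _ = _ := h _

variable {F : Type*} [Field F] [Fintype F] {m : ℕ} {Γ : Type*} [Group Γ]

/-- a central extension of the Suzuki group by a group of order two -/
structure SzCover (σ : Γ →* Cfsg.Sz F m) (z : Γ) : Prop where
  surj : Function.Surjective σ
  zz : z * z = 1
  zc : ∀ g : Γ, g * z = z * g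
  zker : σ z = 1
  ker : ∀ g : Γ, σ g = 1 → g = 1 ∨ g = z
  zne : z ≠ 1

namespace SzCover

variable {σ : Γ →* Cfsg.Sz F m} {z : Γ}

theorem central_of_ker (C : SzCover σ z) {k : Γ} (hk : σ k = 1) (g : Γ) : k * g = g * k := by
  rcases C.ker k hk with rfl | rfl
  · rw [one_mul, mul_one]
  · exact (C.zc g).symm

theorem eq_or_eq_of_map_eq (C : SzCover σ z) {x y : Γ} (h : σ x = σ y) : x = y ∨ x = z * y := by
  have h1 : σ (x * y⁻¹) = 1 := by rw [map_mul, map_inv, h, mul_inv_cancel]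
  rcases C.ker _ h1 with h2 | h2
  · left; exact mul_inv_eq_one.1 h2
  · right; rw [← h2]; group

/-- the preimage of the centre of the Sylow 2-subgroup is elementary abelian -/
theorem cen_elementary (hm : 1 ≤ m) (hF : Fintype.card F = 2 ^ (2 * m + 1)) (C : SzCover σ z) :
    (∀ x : Γ, σ x ∈ szCen hm hF → x * x = 1) ∧
      ∀ x y : Γ, σ x ∈ szCen hm hF → σ y ∈ szCen hm hF → x * y * x⁻¹ * y⁻¹ = 1 := by
  obtain ⟨b₁, b₂, b₃, hb₁, hb₂, hb₃, hb₁₂, hb₁₃, hb₂₃, hb₁₂₃⟩ := exists_indep_triple hm hF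
  obtain ⟨x₁, hx₁⟩ := C.surj (sU hF 0 b₁)
  obtain ⟨x₂, hx₂⟩ := C.surj (sU hF 0 b₂)
  obtain ⟨x₃, hx₃⟩ := C.surj (sU hF 0 b₃)
  have hnotker : ∀ (x : Γ) (b : F), σ x = sU hF 0 b → b ≠ 0 → x ∉ σ.ker := by
    intro x b hx hb hk
    rw [MonoidHom.mem_ker, hx, sU_eq_one_iff hm hF] at hk
    exact hb hk.2
  have hNP : σ.ker ≤ (szCen hm hF).comap σ := by
    intro n hn
    rw [Subgroup.mem_comap, MonoidHom.mem_ker.1 hn]
    exact (szCen hm hF).one_mem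
  have hzA : z ∉ (⊥ : Subgroup Γ) := by
    rw [Subgroup.mem_bot]; exact C.zne
  have hNA : ∀ n ∈ σ.ker, n ∈ (⊥ : Subgroup Γ) ∨ z * n ∈ (⊥ : Subgroup Γ) := by
    intro n hn
    rcases C.ker n (MonoidHom.mem_ker.1 hn) with rfl | rfl
    · left; exact Subgroup.mem_bot.2 rfl
    · right; rw [Subgroup.mem_bot]; exact C.zz
  have hzN : z ∈ σ.ker := MonoidHom.mem_ker.2 C.zker
  have hcent : ∀ n ∈ σ.ker, ∀ x ∈ (szCen hm hF).comap σ, n * x = x * n :=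
    fun n hn x _ => C.central_of_ker (MonoidHom.mem_ker.1 hn) x
  have hsq : ∀ x ∈ (szCen hm hF).comap σ, x * x ∈ σ.ker := by
    intro x hx
    rw [Subgroup.mem_comap] at hx
    obtain ⟨b, hb⟩ := hx
    rw [MonoidHom.mem_ker, map_mul, hb, sU_center_mul_self hm hF]
  have hcomm : ∀ x ∈ (szCen hm hF).comap σ, ∀ y ∈ (szCen hm hF).comap σ,
      x * y * x⁻¹ * y⁻¹ ∈ σ.ker := by
    intro x hx y hy
    rw [Subgroup.mem_comap] at hx hy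
    obtain ⟨b, hb⟩ := hx
    obtain ⟨b', hb'⟩ := hy
    rw [MonoidHom.mem_ker, map_mul, map_mul, map_mul, map_inv, map_inv, hb, hb',
      sU_commutator hm hF, mul_zero, add_zero, sU_zero hm hF]
  have hΘ : ∀ g ∈ {g : Γ | ∃ t : Fˣ, σ g = sD hF t}, ∀ a : Γ,
      g * a * g⁻¹ ∈ (⊥ : Subgroup Γ) ↔ a ∈ (⊥ : Subgroup Γ) := by
    intro g _ a
    rw [Subgroup.mem_bot, Subgroup.mem_bot, conj_eq_one_iff]
  have htrans : ∀ x ∈ (szCen hm hF).comap σ, ∀ y ∈ (szCen hm hF).comap σ, x ∉ σ.ker → y ∉ σ.ker →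
      ∃ g ∈ {g : Γ | ∃ t : Fˣ, σ g = sD hF t}, g * x * g⁻¹ * y⁻¹ ∈ σ.ker := by
    intro x hx y hy hxN hyN
    rw [Subgroup.mem_comap] at hx hy
    obtain ⟨b, hb⟩ := hx
    obtain ⟨b', hb'⟩ := hy
    have hb0 : b ≠ 0 := by
      rintro rfl
      apply hxN
      rw [MonoidHom.mem_ker, hb, sU_zero hm hF]
    have hb'0 : b' ≠ 0 := by
      rintro rfl
      apply hyN
      rw [MonoidHom.mem_ker, hb', sU_zero hm hF]
    obtain ⟨t, ht⟩ := exists_pow_sigma_succ hF (Units.mk0 b' hb'0 * (Units.mk0 b hb0)⁻¹)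
    have ht' : (t : F) ^ (2 ^ (m + 1) + 1) * b = b' := by
      have h1 := congrArg Units.val ht
      rw [Units.val_pow_eq_pow_val, Units.val_mul, Units.val_inv_eq_inv_val, Units.val_mk0,
        Units.val_mk0] at h1
      rw [h1]
      field_simp
    obtain ⟨g, hg⟩ := C.surj (sD hF t)
    refine ⟨g, ⟨t, hg⟩, ?_⟩
    rw [MonoidHom.mem_ker, map_mul, map_mul, map_mul, map_inv, map_inv, hg, hb, hb',
      sD_conj_sU hm hF, mul_zero, ht', sU_center_inv hm hF, sU_center_mul_self hm hF]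
  have key := comm_mem_of_transitive ((szCen hm hF).comap σ) σ.ker ⊥ z hNP C.zz hzA hNA hzN hcent
    hsq hcomm {g : Γ | ∃ t : Fˣ, σ g = sD hF t} hΘ htrans x₁ x₂ x₃
    (show σ x₁ ∈ szCen hm hF from ⟨b₁, hx₁⟩) (show σ x₂ ∈ szCen hm hF from ⟨b₂, hx₂⟩)
    (show σ x₃ ∈ szCen hm hF from ⟨b₃, hx₃⟩)
    (hnotker x₁ b₁ hx₁ hb₁) (hnotker x₂ b₂ hx₂ hb₂) (hnotker x₃ b₃ hx₃ hb₃)
    (hnotker (x₁ * x₂) (b₁ + b₂) (by rw [map_mul, hx₁, hx₂, sU_center_mul hm hF]) hb₁₂)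
    (hnotker (x₁ * x₃) (b₁ + b₃) (by rw [map_mul, hx₁, hx₃, sU_center_mul hm hF]) hb₁₃)
    (hnotker (x₂ * x₃) (b₂ + b₃) (by rw [map_mul, hx₂, hx₃, sU_center_mul hm hF]) hb₂₃)
    (hnotker (x₁ * (x₂ * x₃)) (b₁ + (b₂ + b₃))
      (by rw [map_mul, map_mul, hx₁, hx₂, hx₃, sU_center_mul hm hF, sU_center_mul hm hF]) hb₁₂₃)
  refine ⟨fun x hx => Subgroup.mem_bot.1 (key.1 x hx), fun x y hx hy => ?_⟩
  exact Subgroup.mem_bot.1 (key.2 x hx y hy)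

/-- the preimage of the centre of the Sylow 2-subgroup is central in the preimage of the Sylow
2-subgroup (this needs `m ≥ 2`) -/
theorem cen_central (hm : 2 ≤ m) (hF : Fintype.card F = 2 ^ (2 * m + 1)) (C : SzCover σ z) :
    ∀ e u : Γ, σ e ∈ szCen (le_trans one_le_two hm) hF → σ u ∈ szQ (le_trans one_le_two hm) hF →
      e * u * e⁻¹ * u⁻¹ = 1 := by
  have hm1 : 1 ≤ m := le_trans one_le_two hm
  have h2 : (2 : F) = 0 := two_eq_zero_of_card hF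
  obtain ⟨hE1, hE2⟩ := C.cen_elementary hm1 hF
  obtain ⟨L, hL⟩ : ∃ L : Cfsg.Sz F m → Γ, ∀ s, σ (L s) = s :=
    ⟨Function.surjInv C.surj, Function.surjInv_eq C.surj⟩
  -- commutators lie in the kernel
  have hker_com : ∀ e u : Γ, σ e ∈ szCen hm1 hF → σ u ∈ szQ hm1 hF →
      σ (e * u * e⁻¹ * u⁻¹) = 1 := by
    intro e u he hu
    obtain ⟨b, hb⟩ := he
    obtain ⟨a, d, hd⟩ := (mem_szQ_iff hm1 hF _).1 hu
    rw [map_mul, map_mul, map_mul, map_inv, map_inv, hb, hd, sU_commutator hm1 hF,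
      zero_pow (by positivity), zero_mul, mul_zero, add_zero, sU_zero hm1 hF]
  have hcc : ∀ e u : Γ, σ e ∈ szCen hm1 hF → σ u ∈ szQ hm1 hF → ∀ g : Γ,
      (e * u * e⁻¹ * u⁻¹) * g = g * (e * u * e⁻¹ * u⁻¹) :=
    fun e u he hu g => C.central_of_ker (hker_com e u he hu) g
  have hcenQ : ∀ b : F, sU hF 0 b ∈ szQ hm1 hF := fun b => (mem_szQ_iff hm1 hF _).2 ⟨0, b, rfl⟩
  obtain ⟨ψ, hψ⟩ : ∃ ψ : F → F → Γ, ∀ b a, ψ b a =
      L (sU hF 0 b) * L (sU hF a 0) * (L (sU hF 0 b))⁻¹ * (L (sU hF a 0))⁻¹ := ⟨_, fun _ _ => rfl⟩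
  have hLcen : ∀ b : F, σ (L (sU hF 0 b)) ∈ szCen hm1 hF := fun b => by
    rw [hL]; exact ⟨b, rfl⟩
  have hLQ : ∀ a : F, σ (L (sU hF a 0)) ∈ szQ hm1 hF := fun a => by
    rw [hL]; exact (mem_szQ_iff hm1 hF _).2 ⟨a, 0, rfl⟩
  -- well-definedness
  have hwd : ∀ (e u : Γ) (b a d : F), σ e = sU hF 0 b → σ u = sU hF a d →
      e * u * e⁻¹ * u⁻¹ = ψ b a := by
    intro e u b a d he hu
    have hk : σ (e * (L (sU hF 0 b))⁻¹) = 1 := by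
      rw [map_mul, map_inv, hL, he, mul_inv_cancel]
    have he' : σ ((L (sU hF a 0))⁻¹ * u) = sU hF 0 d := by
      rw [map_mul, map_inv, hL, hu, sU_inv_mul_same hm1 hF, zero_add]
    have huQ : σ u ∈ szQ hm1 hF := by
      rw [hu]; exact (mem_szQ_iff hm1 hF _).2 ⟨a, d, rfl⟩
    calc e * u * e⁻¹ * u⁻¹
        = ((e * (L (sU hF 0 b))⁻¹) * L (sU hF 0 b)) * u *
            ((e * (L (sU hF 0 b))⁻¹) * L (sU hF 0 b))⁻¹ * u⁻¹ := by group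
      _ = L (sU hF 0 b) * u * (L (sU hF 0 b))⁻¹ * u⁻¹ :=
          com_central_mul_left _ _ _ (C.central_of_ker hk)
      _ = L (sU hF 0 b) * (L (sU hF a 0) * ((L (sU hF a 0))⁻¹ * u)) * (L (sU hF 0 b))⁻¹ *
            (L (sU hF a 0) * ((L (sU hF a 0))⁻¹ * u))⁻¹ := by group
      _ = ψ b a * (L (sU hF 0 b) * ((L (sU hF a 0))⁻¹ * u) * (L (sU hF 0 b))⁻¹ *
            ((L (sU hF a 0))⁻¹ * u)⁻¹) := by
          rw [hψ]
          apply com_mul_right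
          apply hcc _ _ (hLcen b)
          rw [he']; exact hcenQ d
      _ = ψ b a := by
          rw [hE2 _ _ (hLcen b) (by rw [he']; exact ⟨d, rfl⟩), mul_one]
  -- values
  have hval : ∀ b a : F, ψ b a = 1 ∨ ψ b a = z := by
    intro b a
    apply C.ker
    rw [hψ]
    exact hker_com _ _ (hLcen b) (hLQ a)
  have hψc : ∀ (b a : F) (g : Γ), ψ b a * g = g * ψ b a := by
    intro b a g
    rw [hψ]
    exact hcc _ _ (hLcen b) (hLQ a) g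
  have hψsq : ∀ b a : F, ψ b a * ψ b a = 1 := by
    intro b a
    rcases hval b a with h | h
    · rw [h, one_mul]
    · rw [h, C.zz]
  -- additivity
  have hadd1 : ∀ b b' a : F, ψ (b + b') a = ψ b a * ψ b' a := by
    intro b b' a
    rw [← hwd (L (sU hF 0 b) * L (sU hF 0 b')) (L (sU hF a 0)) (b + b') a 0
      (by rw [map_mul, hL, hL, sU_center_mul hm1 hF]) (hL _), hψ, hψ]
    apply com_mul_left
    exact hcc _ _ (hLcen b') (hLQ a)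
  have hadd2 : ∀ b a a' : F, ψ b (a + a') = ψ b a * ψ b a' := by
    intro b a a'
    rw [← hwd (L (sU hF 0 b)) (L (sU hF a 0) * L (sU hF a' 0)) b (a + a')
      (0 + 0 + a ^ (2 ^ (m + 1)) * a') (hL _) (by rw [map_mul, hL, hL, sU_mul hm1 hF]), hψ, hψ]
    apply com_mul_right
    exact hcc _ _ (hLcen b) (hLQ a')
  -- invariance under the torus
  have hinv : ∀ (t : Fˣ) (b a : F), ψ ((t : F) ^ (2 ^ (m + 1) + 1) * b) ((t : F) * a) = ψ b a := by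
    intro t b a
    obtain ⟨g, hg⟩ := C.surj (sD hF t)
    rw [← hwd (g * L (sU hF 0 b) * g⁻¹) (g * L (sU hF a 0) * g⁻¹)
      ((t : F) ^ (2 ^ (m + 1) + 1) * b) ((t : F) * a) ((t : F) ^ (2 ^ (m + 1) + 1) * 0)
      (by rw [map_mul, map_mul, map_inv, hL, hg, sD_conj_sU hm1 hF, mul_zero])
      (by rw [map_mul, map_mul, map_inv, hL, hg, sD_conj_sU hm1 hF])]
    have h1 := hψc b a g
    calc g * L (sU hF 0 b) * g⁻¹ * (g * L (sU hF a 0) * g⁻¹) * (g * L (sU hF 0 b) * g⁻¹)⁻¹ *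
          (g * L (sU hF a 0) * g⁻¹)⁻¹
        = g * (L (sU hF 0 b) * L (sU hF a 0) * (L (sU hF 0 b))⁻¹ * (L (sU hF a 0))⁻¹) * g⁻¹ := by
          group
      _ = g * ψ b a * g⁻¹ := by rw [hψ]
      _ = ψ b a := by rw [← h1, mul_inv_cancel_right]
  -- reduction to the second argument one
  have hred : ∀ b a : F, a ≠ 0 → ψ b a = ψ ((a⁻¹) ^ (2 ^ (m + 1) + 1) * b) 1 := by
    intro b a ha
    have h1 := hinv (Units.mk0 a ha)⁻¹ b a
    rw [Units.val_inv_eq_inv_val, Units.val_mk0, inv_mul_cancel₀ ha] at h1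
    exact h1.symm
  obtain ⟨a, ha0, ha1, hc0⟩ := exists_not_additive hm hF
  have hlam : ∀ b : F, ψ b 1 = 1 := by
    have h3 : ∀ b : F,
        ψ ((((a + 1)⁻¹) ^ (2 ^ (m + 1) + 1) + (a⁻¹) ^ (2 ^ (m + 1) + 1) + 1) * b) 1 = 1 := by
      intro b
      have e1 := hadd2 b a 1
      rw [hred b (a + 1) ha1, hred b a ha0] at e1
      have e2 : (((a + 1)⁻¹) ^ (2 ^ (m + 1) + 1) + (a⁻¹) ^ (2 ^ (m + 1) + 1) + 1) * b =
          ((a + 1)⁻¹) ^ (2 ^ (m + 1) + 1) * b + ((a⁻¹) ^ (2 ^ (m + 1) + 1) * b + b) := by ring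
      rw [e2, hadd1, hadd1, e1]
      have e3 := hψc ((a⁻¹) ^ (2 ^ (m + 1) + 1) * b) 1 (ψ b 1)
      calc ψ ((a⁻¹) ^ (2 ^ (m + 1) + 1) * b) 1 * ψ b 1 *
            (ψ ((a⁻¹) ^ (2 ^ (m + 1) + 1) * b) 1 * ψ b 1)
          = ψ ((a⁻¹) ^ (2 ^ (m + 1) + 1) * b) 1 * (ψ b 1 *
            ψ ((a⁻¹) ^ (2 ^ (m + 1) + 1) * b) 1) * ψ b 1 := by group
        _ = ψ ((a⁻¹) ^ (2 ^ (m + 1) + 1) * b) 1 * (ψ ((a⁻¹) ^ (2 ^ (m + 1) + 1) * b) 1 * ψ b 1) *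
            ψ b 1 := by rw [e3]
        _ = (ψ ((a⁻¹) ^ (2 ^ (m + 1) + 1) * b) 1 * ψ ((a⁻¹) ^ (2 ^ (m + 1) + 1) * b) 1) *
            (ψ b 1 * ψ b 1) := by group
        _ = 1 := by rw [hψsq, hψsq, one_mul]
    intro b
    have h4 := h3 ((((a + 1)⁻¹) ^ (2 ^ (m + 1) + 1) + (a⁻¹) ^ (2 ^ (m + 1) + 1) + 1)⁻¹ * b)
    rwa [mul_inv_cancel_left₀ hc0] at h4
  intro e u he hu
  obtain ⟨b, hb⟩ := he
  obtain ⟨a', d, hd⟩ := (mem_szQ_iff hm1 hF _).1 hu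
  rw [hwd e u b a' d hb hd]
  by_cases ha' : a' = 0
  · subst ha'
    rw [← hwd (L (sU hF 0 b)) 1 b 0 0 (hL _) (by rw [map_one, sU_zero hm1 hF])]
    group
  · rw [hred b a' ha', hlam]

/-- the central involution of a double cover of a large Suzuki group is not a product of
commutators -/
theorem not_mem_commutator [Finite Γ] (hm : 2 ≤ m) (hF : Fintype.card F = 2 ^ (2 * m + 1))
    (C : SzCover σ z) : z ∉ commutator Γ := by
  classical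
  have hm1 : 1 ≤ m := le_trans one_le_two hm
  have h2 : (2 : F) = 0 := two_eq_zero_of_card hF
  obtain ⟨hE1, hE2⟩ := C.cen_elementary hm1 hF
  have hZ := C.cen_central hm hF
  have hab : ∀ x y : Γ, σ x ∈ szCen hm1 hF → σ y ∈ szCen hm1 hF → x * y = y * x := by
    intro x y hx hy
    calc x * y = (x * y * x⁻¹ * y⁻¹) * (y * x) := by group
      _ = y * x := by rw [hE2 x y hx hy, one_mul]
  obtain ⟨t₀, ht₀⟩ := exists_unit_ne_one hm1 hF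
  obtain ⟨g₀, hg₀⟩ := C.surj (sD hF t₀)
  have hc0 : (1 : F) + (t₀ : F) ^ (2 ^ (m + 1) + 1) ≠ 0 := by
    intro h
    apply ht₀
    have h1 : (t₀ : F) ^ (2 ^ (m + 1) + 1) = 1 := by
      linear_combination h - h2
    exact Units.ext (by rw [eq_one_of_pow_sigma_succ hF h1, Units.val_one])
  obtain ⟨Et, hEt⟩ : ∃ Et : Subgroup Γ, Et = (szCen hm1 hF).comap σ := ⟨_, rfl⟩
  obtain ⟨Qt, hQt⟩ : ∃ Qt : Subgroup Γ, Qt = (szQ hm1 hF).comap σ := ⟨_, rfl⟩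
  have memEt : ∀ x : Γ, x ∈ Et ↔ σ x ∈ szCen hm1 hF := fun x => by rw [hEt, Subgroup.mem_comap]
  have memQt : ∀ x : Γ, x ∈ Qt ↔ σ x ∈ szQ hm1 hF := fun x => by rw [hQt, Subgroup.mem_comap]
  -- the torus normalises
  have hnorm : ∀ (g : Γ) (t : Fˣ), σ g = sD hF t → ∀ e : Γ, σ e ∈ szCen hm1 hF →
      σ (g * e * g⁻¹) ∈ szCen hm1 hF := by
    intro g t hg e he
    obtain ⟨b, hb⟩ := he
    rw [map_mul, map_mul, map_inv, hg, hb, sD_conj_sU hm1 hF, mul_zero]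
    exact ⟨_, rfl⟩
  -- the commutator homomorphism
  have hκmul : ∀ e e' : Γ, σ e ∈ szCen hm1 hF → σ e' ∈ szCen hm1 hF →
      (e * e') * g₀ * (e * e')⁻¹ * g₀⁻¹ = (e * g₀ * e⁻¹ * g₀⁻¹) * (e' * g₀ * e'⁻¹ * g₀⁻¹) := by
    intro e e' he he'
    have hY : σ (g₀ * e⁻¹ * g₀⁻¹) ∈ szCen hm1 hF :=
      hnorm g₀ t₀ hg₀ e⁻¹ (by rw [map_inv]; exact (szCen hm1 hF).inv_mem he)
    have hX : σ (e' * (g₀ * e'⁻¹ * g₀⁻¹)) ∈ szCen hm1 hF := by
      rw [map_mul]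
      exact (szCen hm1 hF).mul_mem he'
        (hnorm g₀ t₀ hg₀ e'⁻¹ (by rw [map_inv]; exact (szCen hm1 hF).inv_mem he'))
    calc (e * e') * g₀ * (e * e')⁻¹ * g₀⁻¹
        = e * ((e' * (g₀ * e'⁻¹ * g₀⁻¹)) * (g₀ * e⁻¹ * g₀⁻¹)) := by group
      _ = e * ((g₀ * e⁻¹ * g₀⁻¹) * (e' * (g₀ * e'⁻¹ * g₀⁻¹))) := by rw [hab _ _ hX hY]
      _ = _ := by group
  let κ : Et →* Γ := MonoidHom.mk' (fun e => (e : Γ) * g₀ * (e : Γ)⁻¹ * g₀⁻¹) (by
    intro e e'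
    show ((e * e' : Et) : Γ) * g₀ * ((e * e' : Et) : Γ)⁻¹ * g₀⁻¹ = _
    rw [Subgroup.coe_mul]
    exact hκmul _ _ ((memEt _).1 e.2) ((memEt _).1 e'.2))
  have hκ : ∀ e : Et, κ e = (e : Γ) * g₀ * (e : Γ)⁻¹ * g₀⁻¹ := fun _ => rfl
  have hσκ : ∀ (e : Γ) (b : F), σ e = sU hF 0 b →
      σ (e * g₀ * e⁻¹ * g₀⁻¹) = sU hF 0 ((1 + (t₀ : F) ^ (2 ^ (m + 1) + 1)) * b) := by
    intro e b hb
    rw [map_mul, map_mul, map_mul, map_inv, map_inv, hb, hg₀, mul_assoc, mul_assoc,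
      ← mul_assoc (sD hF t₀), sU_center_inv hm1 hF, sD_conj_sU hm1 hF, mul_zero,
      sU_center_mul hm1 hF]
    congr 1
    ring
  have memE1 : ∀ x : Γ, x ∈ κ.range ↔ ∃ e : Γ, σ e ∈ szCen hm1 hF ∧ e * g₀ * e⁻¹ * g₀⁻¹ = x := by
    intro x
    rw [MonoidHom.mem_range]
    constructor
    · rintro ⟨e, rfl⟩
      exact ⟨e, (memEt _).1 e.2, rfl⟩
    · rintro ⟨e, he, rfl⟩
      exact ⟨⟨e, (memEt _).2 he⟩, rfl⟩
  -- `z` is not in the complement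
  have hzA : z ∉ κ.range := by
    rw [memE1]
    rintro ⟨e, ⟨b, hb⟩, he⟩
    have h1 := hσκ e b hb
    rw [he, C.zker] at h1
    have h3 := ((sU_eq_one_iff hm1 hF _ _).1 h1.symm).2
    rcases mul_eq_zero.1 h3 with h4 | h4
    · exact hc0 h4
    · rw [h4, sU_zero hm1 hF] at hb
      have h5 := C.central_of_ker hb g₀
      apply C.zne
      rw [← he, h5]
      group
  have hNA : ∀ n ∈ Et, n ∈ κ.range ∨ z * n ∈ κ.range := by
    intro n hn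
    obtain ⟨b, hb⟩ := (memEt _).1 hn
    obtain ⟨e, he⟩ := C.surj (sU hF 0 ((1 + (t₀ : F) ^ (2 ^ (m + 1) + 1))⁻¹ * b))
    have h1 := hσκ e _ he
    rw [mul_inv_cancel_left₀ hc0, ← hb] at h1
    have heE : σ e ∈ szCen hm1 hF := by rw [he]; exact ⟨_, rfl⟩
    rcases C.eq_or_eq_of_map_eq h1.symm with h3 | h3
    · left
      rw [memE1]
      exact ⟨e, heE, h3.symm⟩
    · right
      rw [memE1]
      refine ⟨e, heE, ?_⟩
      rw [h3, ← mul_assoc, C.zz, one_mul]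
  -- invariance under the torus
  have hconj : ∀ (g : Γ) (t : Fˣ), σ g = sD hF t → ∀ a ∈ κ.range, g * a * g⁻¹ ∈ κ.range := by
    intro g t hg a ha
    rw [memE1] at ha ⊢
    obtain ⟨e, he, rfl⟩ := ha
    refine ⟨g * e * g⁻¹, hnorm g t hg e he, ?_⟩
    have hk : σ (g₀⁻¹ * (g * g₀ * g⁻¹)) = 1 := by
      rw [map_mul, map_mul, map_mul, map_inv, map_inv, hg, hg₀, sD_inv, sD_inv, ← sD_mul,
        ← sD_mul, ← sD_mul, ← sD_one hF]
      congr 1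
      rw [mul_comm t t₀, mul_assoc, mul_inv_cancel, mul_one, inv_mul_cancel]
    have h1 := com_central_mul_right (g₀⁻¹ * (g * g₀ * g⁻¹)) (g * e * g⁻¹) g₀
      (C.central_of_ker hk)
    rw [← h1]
    group
  have hΘ : ∀ g ∈ {g : Γ | ∃ t : Fˣ, σ g = sD hF t}, ∀ a : Γ,
      g * a * g⁻¹ ∈ κ.range ↔ a ∈ κ.range := by
    rintro g ⟨t, hg⟩ a
    constructor
    · intro h
      have h1 := hconj g⁻¹ t⁻¹ (by rw [map_inv, hg, sD_inv]) _ h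
      have h3 : g⁻¹ * (g * a * g⁻¹) * g⁻¹⁻¹ = a := by group
      rwa [h3] at h1
    · exact hconj g t hg a
  -- the hypotheses of the orbit argument
  have hNP : Et ≤ Qt := by
    intro x hx
    obtain ⟨b, hb⟩ := (memEt _).1 hx
    rw [memQt, hb]
    exact (mem_szQ_iff hm1 hF _).2 ⟨0, b, rfl⟩
  have hzN : z ∈ Et := by
    rw [memEt, C.zker]
    exact (szCen hm1 hF).one_mem
  have hcent : ∀ n ∈ Et, ∀ x ∈ Qt, n * x = x * n := by
    intro n hn x hx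
    have h1 := hZ n x ((memEt _).1 hn) ((memQt _).1 hx)
    calc n * x = (n * x * n⁻¹ * x⁻¹) * (x * n) := by group
      _ = x * n := by rw [h1, one_mul]
  have hsq : ∀ x ∈ Qt, x * x ∈ Et := by
    intro x hx
    obtain ⟨a, b, hb⟩ := (mem_szQ_iff hm1 hF _).1 ((memQt _).1 hx)
    rw [memEt, map_mul, hb, sU_sq hm1 hF]
    exact ⟨_, rfl⟩
  have hcomm : ∀ x ∈ Qt, ∀ y ∈ Qt, x * y * x⁻¹ * y⁻¹ ∈ Et := by
    intro x hx y hy
    obtain ⟨a, b, hb⟩ := (mem_szQ_iff hm1 hF _).1 ((memQt _).1 hx)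
    obtain ⟨a', b', hb'⟩ := (mem_szQ_iff hm1 hF _).1 ((memQt _).1 hy)
    rw [memEt, map_mul, map_mul, map_mul, map_inv, map_inv, hb, hb', sU_commutator hm1 hF]
    exact ⟨_, rfl⟩
  have hnotE : ∀ (x : Γ) (a b : F), σ x = sU hF a b → a ≠ 0 → x ∉ Et := by
    intro x a b hx ha hE
    rw [memEt, hx, sU_mem_szCen_iff] at hE
    exact ha hE
  have htrans : ∀ x ∈ Qt, ∀ y ∈ Qt, x ∉ Et → y ∉ Et →
      ∃ g ∈ {g : Γ | ∃ t : Fˣ, σ g = sD hF t}, g * x * g⁻¹ * y⁻¹ ∈ Et := by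
    intro x hx y hy hxN hyN
    obtain ⟨a, b, hb⟩ := (mem_szQ_iff hm1 hF _).1 ((memQt _).1 hx)
    obtain ⟨a', b', hb'⟩ := (mem_szQ_iff hm1 hF _).1 ((memQt _).1 hy)
    have ha0 : a ≠ 0 := by
      rintro rfl
      apply hxN
      rw [memEt, hb]
      exact ⟨_, rfl⟩
    have ha'0 : a' ≠ 0 := by
      rintro rfl
      apply hyN
      rw [memEt, hb']
      exact ⟨_, rfl⟩
    obtain ⟨g, hg⟩ := C.surj (sD hF (Units.mk0 a' ha'0 * (Units.mk0 a ha0)⁻¹))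
    refine ⟨g, ⟨_, hg⟩, ?_⟩
    have h1 : ((Units.mk0 a' ha'0 * (Units.mk0 a ha0)⁻¹ : Fˣ) : F) * a = a' := by
      rw [Units.val_mul, Units.val_inv_eq_inv_val, Units.val_mk0, Units.val_mk0]
      field_simp
    rw [memEt, map_mul, map_mul, map_mul, map_inv, map_inv, hg, hb, hb', sD_conj_sU hm1 hF, h1,
      sU_mul_inv_same hm1 hF]
    exact ⟨_, rfl⟩
  obtain ⟨b₁, b₂, b₃, hb₁, hb₂, hb₃, hb₁₂, hb₁₃, hb₂₃, hb₁₂₃⟩ := exists_indep_triple hm1 hF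
  obtain ⟨x₁, hx₁⟩ := C.surj (sU hF b₁ 0)
  obtain ⟨x₂, hx₂⟩ := C.surj (sU hF b₂ 0)
  obtain ⟨x₃, hx₃⟩ := C.surj (sU hF b₃ 0)
  have hQmem : ∀ (x : Γ) (a b : F), σ x = sU hF a b → x ∈ Qt := by
    intro x a b hx
    rw [memQt, hx]
    exact (mem_szQ_iff hm1 hF _).2 ⟨a, b, rfl⟩
  have key := comm_mem_of_transitive Qt Et κ.range z hNP C.zz hzA hNA hzN hcent
    hsq hcomm {g : Γ | ∃ t : Fˣ, σ g = sD hF t} hΘ htrans x₁ x₂ x₃
    (hQmem _ _ _ hx₁) (hQmem _ _ _ hx₂) (hQmem _ _ _ hx₃)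
    (hnotE x₁ _ _ hx₁ hb₁) (hnotE x₂ _ _ hx₂ hb₂) (hnotE x₃ _ _ hx₃ hb₃)
    (hnotE (x₁ * x₂) (b₁ + b₂) _ (by rw [map_mul, hx₁, hx₂, sU_mul hm1 hF]) hb₁₂)
    (hnotE (x₁ * x₃) (b₁ + b₃) _ (by rw [map_mul, hx₁, hx₃, sU_mul hm1 hF]) hb₁₃)
    (hnotE (x₂ * x₃) (b₂ + b₃) _ (by rw [map_mul, hx₂, hx₃, sU_mul hm1 hF]) hb₂₃)
    (hnotE (x₁ * (x₂ * x₃)) (b₁ + (b₂ + b₃)) _
      (by rw [map_mul, map_mul, hx₁, hx₂, hx₃, sU_mul hm1 hF, sU_mul hm1 hF]) hb₁₂₃)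
  -- the derived subgroup of `Qt` lies in the complement
  have hzQ : z ∈ Qt := hNP hzN
  have hder : (⟨z, hzQ⟩ : Qt) ∉ commutator Qt := by
    intro h
    have hle : commutator Qt ≤ κ.range.comap Qt.subtype := by
      rw [commutator_def, Subgroup.commutator_le]
      intro x _ y _
      rw [Subgroup.mem_comap, commutatorElement_def]
      exact key.2 x x.2 y y.2
    exact hzA (hle h)
  have hidx : Nat.Coprime Qt.index 2 := by
    rw [hQt, Subgroup.index_comap_of_surjective _ C.surj, Nat.coprime_two_right,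
      ← Nat.not_even_iff_odd, even_iff_two_dvd]
    exact szQ_index_odd hm1 hF
  exact not_mem_commutator_of_transfer Qt z C.zc hzQ 2 (by rw [pow_two, C.zz]) hidx hder

end SzCover

end Cfsg.Agent.Helper6
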