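import Cfsg.Agent.Helper6.Mult3
import Cfsg.Agent.Helper6.Sz26

/-!
# The Schur multiplier of the large Suzuki groups is trivial
-/

set_option autoImplicit false

namespace Cfsg.Agent.Helper6

universe u

/-- a stem extension of a finite group with cyclic Sylow `p`-subgroups has no kernel of order `p` -/
theorem stem_ker_card_ne_of_cyclic_sylow {Γ : Type*} {G : Type*} [Group Γ] [Group G] [Finite Γ]
    [Finite G] (σ : Γ →* G) (hσ : Cfsg.IsStemExtension σ) (p : ℕ) [hp : Fact p.Prime]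
    (hcyc : ∀ P : Sylow p G, IsCyclic P) : Nat.card σ.ker ≠ p := by
  intro hcard
  obtain ⟨hs, hcen, hder⟩ := hσ
  obtain ⟨x, hx⟩ := exists_prime_orderOf_dvd_card' (G := σ.ker) p (by rw [hcard])
  obtain ⟨z, hz⟩ : ∃ z : Γ, z = (x : Γ) := ⟨_, rfl⟩
  have hzker : z ∈ σ.ker := by rw [hz]; exact x.2
  have hzord : orderOf z = p := by
    rw [hz, Subgroup.orderOf_coe]; exact hx
  have hzp : z ^ p = 1 := by rw [← hzord]; exact pow_orderOf_eq_one z
  have hz1 : z ≠ 1 := by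
    intro h
    rw [h, orderOf_one] at hzord
    exact hp.1.one_lt.ne hzord
  have hc : ∀ c ∈ σ.ker, ∀ g : Γ, c * g = g * c := fun c hc g =>
    (Subgroup.mem_center_iff.mp (hcen hc) g).symm
  let P : Sylow p G := default
  haveI := hcyc P
  obtain ⟨x₀, hx₀⟩ := IsCyclic.exists_generator (α := P)
  obtain ⟨g₀, hg₀⟩ := hs (x₀ : G)
  obtain ⟨H, hH⟩ : ∃ H : Subgroup Γ, H = (P : Subgroup G).comap σ := ⟨_, rfl⟩
  have hdecomp : ∀ x ∈ H, ∃ (c : Γ) (k : ℤ), (∀ g : Γ, c * g = g * c) ∧ x = c * g₀ ^ k := by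
    intro x hx
    rw [hH, Subgroup.mem_comap] at hx
    obtain ⟨k, hk⟩ := Subgroup.mem_zpowers_iff.1 (hx₀ ⟨σ x, hx⟩)
    have hk' : σ x = σ (g₀ ^ k) := by
      rw [map_zpow, hg₀]
      have := congrArg Subtype.val hk
      rw [Subgroup.coe_zpow] at this
      exact this.symm
    refine ⟨x * (g₀ ^ k)⁻¹, k, hc _ ?_, by group⟩
    rw [MonoidHom.mem_ker, map_mul, map_inv, hk', mul_inv_cancel]
  have hab : ∀ x ∈ H, ∀ y ∈ H, x * y = y * x := by
    intro x hx y hy
    obtain ⟨c, k, hcc, rfl⟩ := hdecomp x hx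
    obtain ⟨c', k', hcc', rfl⟩ := hdecomp y hy
    calc c * g₀ ^ k * (c' * g₀ ^ k') = c * (g₀ ^ k * c') * g₀ ^ k' := by
          simp only [mul_assoc]
      _ = c * (c' * g₀ ^ k) * g₀ ^ k' := by rw [← hcc' (g₀ ^ k)]
      _ = (c * c') * (g₀ ^ k * g₀ ^ k') := by simp only [mul_assoc]
      _ = (c' * c) * (g₀ ^ k' * g₀ ^ k) := by rw [hcc c', zpow_mul_comm]
      _ = c' * (c * g₀ ^ k') * g₀ ^ k := by simp only [mul_assoc]
      _ = c' * (g₀ ^ k' * c) * g₀ ^ k := by rw [hcc (g₀ ^ k')]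
      _ = _ := by simp only [mul_assoc]
  have hzH : z ∈ H := by
    rw [hH, Subgroup.mem_comap, MonoidHom.mem_ker.1 hzker]
    exact Subgroup.one_mem _
  have hcomH : commutator H = ⊥ := by
    rw [commutator_def, Subgroup.commutator_eq_bot_iff_le_centralizer]
    intro x _
    rw [Subgroup.mem_centralizer_iff]
    intro y _
    exact Subtype.ext (hab y y.2 x x.2)
  have hnot : (⟨z, hzH⟩ : H) ∉ commutator H := by
    rw [hcomH, Subgroup.mem_bot]
    intro h
    exact hz1 (congrArg Subtype.val h)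
  have hidx : Nat.Coprime H.index p := by
    rw [hH, Subgroup.index_comap_of_surjective _ hs]
    exact ((Nat.Prime.coprime_iff_not_dvd hp.1).2 P.not_dvd_index).symm
  exact not_mem_commutator_of_transfer H z (fun g => (hc z hzker g).symm) hzH p hzp hidx hnot
    (hder hzker)

variable {F : Type u} [Field F] [Fintype F] {m : ℕ}

/-- no finite stem extension of a large Suzuki group has a kernel of order two -/
theorem sz_stem_ker_card_ne_two {Γ : Type*} [Group Γ] [Finite Γ] (hm : 2 ≤ m)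
    (hF : Fintype.card F = 2 ^ (2 * m + 1)) (σ : Γ →* Cfsg.Sz F m)
    (hσ : Cfsg.IsStemExtension σ) : Nat.card σ.ker ≠ 2 := by
  intro hcard
  obtain ⟨hs, hcen, hder⟩ := hσ
  obtain ⟨y, hy1, hyu⟩ := (Nat.card_eq_two_iff' (1 : σ.ker)).1 hcard
  have hy2 : y ^ 2 = 1 := by
    rw [← hcard]; exact pow_card_eq_one'
  have C : SzCover σ (y : Γ) := by
    refine ⟨hs, ?_, ?_, MonoidHom.mem_ker.1 y.2, ?_, ?_⟩
    · have := congrArg Subtype.val hy2
      rw [Subgroup.coe_pow, pow_two] at this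
      exact this
    · intro g
      exact Subgroup.mem_center_iff.mp (hcen y.2) g
    · intro g hg
      by_cases h : (⟨g, MonoidHom.mem_ker.2 hg⟩ : σ.ker) = 1
      · left; exact congrArg Subtype.val h
      · right; exact congrArg Subtype.val (hyu _ h)
    · intro h
      exact hy1 (Subtype.ext h)
  exact C.not_mem_commutator hm hF (hder y.2)

/-- every finite stem extension of a large Suzuki group is an isomorphism -/
theorem sz_stem_ker_eq_bot (hm : 2 ≤ m) (hF : Fintype.card F = 2 ^ (2 * m + 1)) :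
    ∀ (Γ : Type u) [Group Γ] [Finite Γ] (σ : Γ →* Cfsg.Sz F m), Cfsg.IsStemExtension σ →
      σ.ker = ⊥ := by
  have hm1 : 1 ≤ m := le_trans one_le_two hm
  apply stem_ker_eq_bot_of_not_prime
  intro Γ _ _ σ hσ hp
  by_cases h2 : Nat.card σ.ker = 2
  · exact sz_stem_ker_card_ne_two hm hF σ hσ h2
  · haveI : Fact (Nat.card σ.ker).Prime := ⟨hp⟩
    exact stem_ker_card_ne_of_cyclic_sylow σ hσ (Nat.card σ.ker)
      (fun P => sz_sylow_odd_cyclic hm1 hF h2 P) rfl

/-- the same for the Lie-type model of the Suzuki group -/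
theorem lieSz_stem_ker_eq_bot (hm : 2 ≤ m) (hF : Fintype.card F = 2 ^ (2 * m + 1)) :
    ∀ (Γ : Type u) [Group Γ] [Finite Γ] (σ : Γ →* Cfsg.Lie.Sz F (2 ^ (m + 1))),
      Cfsg.IsStemExtension σ → σ.ker = ⊥ := by
  have hm1 : 1 ≤ m := le_trans one_le_two hm
  intro Γ _ _ σ hσ
  have hker : ((lieSzEquiv hm1 hF).symm.toMonoidHom.comp σ).ker = σ.ker := by
    ext x
    rw [MonoidHom.mem_ker, MonoidHom.mem_ker, MonoidHom.comp_apply]
    exact (lieSzEquiv hm1 hF).symm.map_eq_one_iff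
  have hstem : Cfsg.IsStemExtension ((lieSzEquiv hm1 hF).symm.toMonoidHom.comp σ) := by
    refine ⟨?_, ?_, ?_⟩
    · exact (lieSzEquiv hm1 hF).symm.surjective.comp hσ.1
    · rw [hker]; exact hσ.2.1
    · rw [hker]; exact hσ.2.2
  rw [← hker]
  exact sz_stem_ker_eq_bot hm hF Γ _ hstem

/-- the Schur multiplier of a large Suzuki group is trivial -/
theorem lieSz_multiplier (hm : 2 ≤ m) (hF : Fintype.card F = 2 ^ (2 * m + 1)) :
    Cfsg.HasCyclicSchurMultiplier ↥(Cfsg.Lie.Sz F (2 ^ (m + 1))) 1 := by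
  have hm1 : 1 ≤ m := le_trans one_le_two hm
  have hbot := lieSz_stem_ker_eq_bot hm hF
  haveI : Finite (Cfsg.Lie.Sz F (2 ^ (m + 1))) :=
    Finite.of_equiv _ (lieSzEquiv hm1 hF).toEquiv
  have hid : Cfsg.IsStemExtension (MonoidHom.id ↥(Cfsg.Lie.Sz F (2 ^ (m + 1)))) := by
    refine ⟨Function.surjective_id, ?_, ?_⟩
    · intro x hx
      rw [MonoidHom.mem_ker, MonoidHom.id_apply] at hx
      rw [hx]; exact Subgroup.one_mem _
    · intro x hx
      rw [MonoidHom.mem_ker, MonoidHom.id_apply] at hx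
      rw [hx]; exact Subgroup.one_mem _
  refine ⟨⟨↥(Cfsg.Lie.Sz F (2 ^ (m + 1))), inferInstance, inferInstance, MonoidHom.id _, hid, ?_⟩, ?_⟩
  · have h1 := hbot _ _ hid
    haveI : Subsingleton (MonoidHom.id ↥(Cfsg.Lie.Sz F (2 ^ (m + 1)))).ker := by
      rw [h1]; infer_instance
    haveI : Subsingleton (Multiplicative (ZMod 1)) :=
      inferInstanceAs (Subsingleton (ZMod 1))
    haveI : Unique (MonoidHom.id ↥(Cfsg.Lie.Sz F (2 ^ (m + 1)))).ker :=
      ⟨⟨1⟩, fun a => Subsingleton.elim _ _⟩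
    haveI : Unique (Multiplicative (ZMod 1)) := ⟨⟨1⟩, fun a => Subsingleton.elim _ _⟩
    exact ⟨MulEquiv.ofUnique⟩
  · intro Γ _ _ σ hσ
    refine ⟨1, ?_⟩
    intro x
    have h1 := hbot Γ σ hσ
    refine ⟨1, ?_⟩
    have hx : (x : Γ) ∈ (⊥ : Subgroup Γ) := h1 ▸ x.2
    apply Subtype.ext
    rw [MonoidHom.one_apply, Subgroup.coe_one]
    exact (Subgroup.mem_bot.1 hx).symm

end Cfsg.Agent.Helper6
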