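import Cfsg.Agent.Helper6.Ovoid

set_option autoImplicit false

namespace Cfsg.Agent.Helper6

variable {F : Type*} [Field F] [Fintype F] {m : ℕ}

/-- vector attached to an optional pair of parameters (`none` is the point at infinity) -/
def ovVecOpt (F : Type*) [Field F] (m : ℕ) : Option (F × F) → (Fin 4 → F)
  | none => ![1, 0, 0, 0]
  | some (x, y) => ovVec F m x y

omit [Fintype F] in
theorem ov_core {x1 y1 x2 y2 f1 f2 c0 c1 c2 : F} (hne : ¬ (x1 = x2 ∧ y1 = y2))
    (h3 : c1 + c2 = 0) (h2 : c1 * x1 + c2 * x2 = 0) (h1 : c1 * y1 + c2 * y2 = 0)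
    (h0 : c0 + c1 * f1 + c2 * f2 = 0) : c0 = 0 ∧ c1 = 0 ∧ c2 = 0 := by
  have hc2 : c2 = -c1 := by linear_combination h3
  subst hc2
  have hx : c1 * (x1 - x2) = 0 := by linear_combination h2
  have hy : c1 * (y1 - y2) = 0 := by linear_combination h1
  have hc1 : c1 = 0 := by
    by_contra hc
    apply hne
    constructor
    · have := (mul_eq_zero.1 hx).resolve_left hc
      linear_combination this
    · have := (mul_eq_zero.1 hy).resolve_left hc
      linear_combination this
  subst hc1
  refine ⟨?_, rfl, by simp⟩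
  linear_combination h0

omit [Fintype F] in
theorem ov_indep0 {x1 y1 x2 y2 : F} (hne : ¬ (x1 = x2 ∧ y1 = y2)) :
    LinearIndependent F ![![1, 0, 0, 0], ovVec F m x1 y1, ovVec F m x2 y2] := by
  rw [Fintype.linearIndependent_iff]
  intro c hc
  have h3 := congrFun hc 3
  have h2 := congrFun hc 2
  have h1 := congrFun hc 1
  have h0 := congrFun hc 0
  simp [Fin.sum_univ_three, ovVec] at h3 h2 h1 h0
  obtain ⟨a0, a1, a2⟩ := ov_core hne h3 h2 h1 h0
  intro i
  fin_cases i <;> assumption

omit [Fintype F] in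
theorem ov_indep1 {x1 y1 x2 y2 : F} (hne : ¬ (x1 = x2 ∧ y1 = y2)) :
    LinearIndependent F ![ovVec F m x1 y1, ![1, 0, 0, 0], ovVec F m x2 y2] := by
  rw [Fintype.linearIndependent_iff]
  intro c hc
  have h3 := congrFun hc 3
  have h2 := congrFun hc 2
  have h1 := congrFun hc 1
  have h0 := congrFun hc 0
  simp [Fin.sum_univ_three, ovVec] at h3 h2 h1 h0
  obtain ⟨a0, a1, a2⟩ := ov_core (c0 := c 1) (c1 := c 0) (c2 := c 2)
    (f1 := ovF F m x1 y1) (f2 := ovF F m x2 y2) hne h3 h2 h1 (by linear_combination h0)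
  intro i
  fin_cases i <;> assumption

omit [Fintype F] in
theorem ov_indep2 {x1 y1 x2 y2 : F} (hne : ¬ (x1 = x2 ∧ y1 = y2)) :
    LinearIndependent F ![ovVec F m x1 y1, ovVec F m x2 y2, ![1, 0, 0, 0]] := by
  rw [Fintype.linearIndependent_iff]
  intro c hc
  have h3 := congrFun hc 3
  have h2 := congrFun hc 2
  have h1 := congrFun hc 1
  have h0 := congrFun hc 0
  simp [Fin.sum_univ_three, ovVec] at h3 h2 h1 h0
  obtain ⟨a0, a1, a2⟩ := ov_core (c0 := c 2) (c1 := c 0) (c2 := c 1)
    (f1 := ovF F m x1 y1) (f2 := ovF F m x2 y2) hne h3 h2 h1 (by linear_combination h0)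
  intro i
  fin_cases i <;> assumption

/-- the linear map: translation by `(a, b)` followed by the inversion -/
def ovT (a b A fab : F) : (Fin 4 → F) →ₗ[F] (Fin 4 → F) where
  toFun w := ![w 3, w 2 + a * w 3, w 1 + A * w 2 + b * w 3,
    w 0 + a * w 1 + (b + A * a) * w 2 + fab * w 3]
  map_add' := by
    intro u v
    ext i
    fin_cases i <;> simp <;> ring
  map_smul' := by
    intro c u
    ext i
    fin_cases i <;> simp <;> ring

theorem ovT_ovVec (hF : Fintype.card F = 2 ^ (2 * m + 1)) (a b x y : F) :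
    ovT a b (a ^ (2 ^ (m + 1))) (ovF F m a b) (ovVec F m x y) =
      ![1, x + a, y + b + a ^ (2 ^ (m + 1)) * x,
        ovF F m (x + a) (y + b + a ^ (2 ^ (m + 1)) * x)] := by
  rw [ovF_translate hF]
  ext i
  fin_cases i <;> simp [ovT, ovVec] <;> ring

theorem ov_indep_affine (hF : Fintype.card F = 2 ^ (2 * m + 1)) (x y : Fin 3 → F)
    (hinj : ∀ i j, x i = x j → y i = y j → i = j) :
    LinearIndependent F (fun i => ovVec F m (x i) (y i)) := by
  have h2 : (2 : F) = 0 := two_eq_zero_of_card hF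
  set s := 2 ^ (m + 1) with hs
  set a := x 0 with ha
  set b := y 0 + a ^ s * x 0 with hb
  set x' : Fin 3 → F := fun i => x i + a with hx'
  set y' : Fin 3 → F := fun i => y i + b + a ^ s * x i with hy'
  set f' : Fin 3 → F := fun i => ovF F m (x' i) (y' i) with hf'
  have hx0 : x' 0 = 0 := by
    simp only [hx', ha]; linear_combination (x 0) * h2
  have hy0 : y' 0 = 0 := by
    simp only [hy', hb, ha]; linear_combination (y 0 + x 0 ^ s * x 0) * h2
  have hback : ∀ i j, x' i = x' j → y' i = y' j → i = j := by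
    intro i j h1 h2'
    have hx : x i = x j := by simp only [hx'] at h1; linear_combination h1
    have hy : y i = y j := by
      simp only [hy'] at h2'; rw [hx] at h2'; linear_combination h2'
    exact hinj i j hx hy
  have hf'ne : ∀ i, i ≠ 0 → f' i ≠ 0 := by
    intro i hi h0
    obtain ⟨e1, e2⟩ := ovF_eq_zero hF h0
    exact hi (hback i 0 (e1.trans hx0.symm) (e2.trans hy0.symm))
  have hf1 : f' 1 ≠ 0 := hf'ne 1 (by decide)
  have hf2 : f' 2 ≠ 0 := hf'ne 2 (by decide)
  -- the new points
  have hQne : ¬ (y' 1 / f' 1 = y' 2 / f' 2 ∧ x' 1 / f' 1 = x' 2 / f' 2) := by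
    rintro ⟨e1, e2⟩
    have i1 := ovF_inv hF hf1
    have i2 := ovF_inv hF hf2
    rw [e1, e2, i2] at i1
    have hff : f' 1 = f' 2 := by
      have := congrArg (fun z => z⁻¹) i1
      simpa using this.symm
    rw [hff] at e1 e2
    have hy12 : y' 1 = y' 2 := by field_simp at e1; exact e1
    have hx12 : x' 1 = x' 2 := by field_simp at e2; exact e2
    have := hback 1 2 hx12 hy12
    exact absurd this (by decide)
  have hind := ov_indep0 (m := m) hQne
  let d : Fin 3 → Fˣ := ![1, Units.mk0 _ hf1, Units.mk0 _ hf2]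
  have hind2 := hind.units_smul d
  apply LinearIndependent.of_comp (ovT a b (a ^ s) (ovF F m a b))
  convert hind2 using 1
  funext i
  rw [Function.comp_apply, ovT_ovVec hF]
  fin_cases i
  · show ![1, x' 0, y' 0, f' 0] = _
    have : f' 0 = 0 := by simp only [hf', hx0, hy0]; exact ovF_zero
    rw [hx0, hy0, this]
    simp [d]
  · show ![1, x' 1, y' 1, f' 1] = _
    have i1 : ovF F m (y' 1 / f' 1) (x' 1 / f' 1) = 1 / f' 1 := ovF_inv hF hf1
    ext j
    fin_cases j
    · simp [d, ovVec, Units.smul_def]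
      rw [i1]
      field_simp
    · simp [d, ovVec, Units.smul_def]
      field_simp
    · simp [d, ovVec, Units.smul_def]
      field_simp
    · simp [d, ovVec, Units.smul_def]
  · show ![1, x' 2, y' 2, f' 2] = _
    have i2 : ovF F m (y' 2 / f' 2) (x' 2 / f' 2) = 1 / f' 2 := ovF_inv hF hf2
    ext j
    fin_cases j
    · simp [d, ovVec, Units.smul_def]
      rw [i2]
      field_simp
    · simp [d, ovVec, Units.smul_def]
      field_simp
    · simp [d, ovVec, Units.smul_def]
      field_simp
    · simp [d, ovVec, Units.smul_def]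

end Cfsg.Agent.Helper6
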