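import Cfsg.Agent.Helper6.Ovoid2

set_option autoImplicit false

namespace Cfsg.Agent.Helper6

variable {F : Type*} [Field F] [Fintype F] {m : ℕ}

theorem ov_indep_opt (hF : Fintype.card F = 2 ^ (2 * m + 1)) (P : Fin 3 → Option (F × F))
    (hP : Function.Injective P) : LinearIndependent F (fun i => ovVecOpt F m (P i)) := by
  -- a helper: two distinct `some`s
  have hne_of : ∀ {i j : Fin 3} {x1 y1 x2 y2 : F}, i ≠ j → P i = some (x1, y1) →
      P j = some (x2, y2) → ¬ (x1 = x2 ∧ y1 = y2) := by
    intro i j x1 y1 x2 y2 hij hi hj h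
    apply hij
    apply hP
    rw [hi, hj, h.1, h.2]
  have hsome : ∀ {i k : Fin 3}, i ≠ k → P k = none → ∃ x y, P i = some (x, y) := by
    intro i k hik hk
    rcases hPi : P i with _ | ⟨x, y⟩
    · exact absurd (hP (hPi.trans hk.symm)) hik
    · exact ⟨x, y, rfl⟩
  by_cases hnone : ∃ k, P k = none
  · obtain ⟨k, hk⟩ := hnone
    fin_cases k
    · obtain ⟨x1, y1, h1⟩ := hsome (i := 1) (k := 0) (by decide) hk
      obtain ⟨x2, y2, h2⟩ := hsome (i := 2) (k := 0) (by decide) hk
      have hne := hne_of (i := 1) (j := 2) (by decide) h1 h2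
      have : (fun i => ovVecOpt F m (P i)) =
          ![![1, 0, 0, 0], ovVec F m x1 y1, ovVec F m x2 y2] := by
        funext i
        fin_cases i
        · show ovVecOpt F m (P 0) = _
          rw [show P 0 = none from hk]; rfl
        · show ovVecOpt F m (P 1) = _
          rw [h1]; rfl
        · show ovVecOpt F m (P 2) = _
          rw [h2]; rfl
      rw [this]
      exact ov_indep0 hne
    · obtain ⟨x1, y1, h1⟩ := hsome (i := 0) (k := 1) (by decide) hk
      obtain ⟨x2, y2, h2⟩ := hsome (i := 2) (k := 1) (by decide) hk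
      have hne := hne_of (i := 0) (j := 2) (by decide) h1 h2
      have : (fun i => ovVecOpt F m (P i)) =
          ![ovVec F m x1 y1, ![1, 0, 0, 0], ovVec F m x2 y2] := by
        funext i
        fin_cases i
        · show ovVecOpt F m (P 0) = _
          rw [h1]; rfl
        · show ovVecOpt F m (P 1) = _
          rw [show P 1 = none from hk]; rfl
        · show ovVecOpt F m (P 2) = _
          rw [h2]; rfl
      rw [this]
      exact ov_indep1 hne
    · obtain ⟨x1, y1, h1⟩ := hsome (i := 0) (k := 2) (by decide) hk
      obtain ⟨x2, y2, h2⟩ := hsome (i := 1) (k := 2) (by decide) hk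
      have hne := hne_of (i := 0) (j := 1) (by decide) h1 h2
      have : (fun i => ovVecOpt F m (P i)) =
          ![ovVec F m x1 y1, ovVec F m x2 y2, ![1, 0, 0, 0]] := by
        funext i
        fin_cases i
        · show ovVecOpt F m (P 0) = _
          rw [h1]; rfl
        · show ovVecOpt F m (P 1) = _
          rw [h2]; rfl
        · show ovVecOpt F m (P 2) = _
          rw [show P 2 = none from hk]; rfl
      rw [this]
      exact ov_indep2 hne
  · have hall : ∀ i, ∃ xy : F × F, P i = some xy := by
      intro i
      rcases hPi : P i with _ | xy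
      · exact absurd ⟨i, hPi⟩ hnone
      · exact ⟨xy, rfl⟩
    choose xy hxy using hall
    have : (fun i => ovVecOpt F m (P i)) = fun i => ovVec F m (xy i).1 (xy i).2 := by
      funext i
      rw [hxy i]; rfl
    rw [this]
    apply ov_indep_affine hF
    intro i j h1 h2
    apply hP
    rw [hxy i, hxy j]
    congr 1
    exact Prod.ext h1 h2

theorem ovVecOpt_ne_zero (o : Option (F × F)) : ovVecOpt F m o ≠ 0 := by
  rcases o with _ | ⟨x, y⟩
  · intro h
    have := congrFun h 0
    simp [ovVecOpt] at this
  · intro h
    have := congrFun h 3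
    simp [ovVecOpt, ovVec] at this

/-- the Suzuki–Tits ovoid is an ovoid -/
theorem suzukiOvoid_independent (hF : Fintype.card F = 2 ^ (2 * m + 1))
    (p : Fin 3 ↪ Cfsg.suzukiOvoid F m) :
    Projectivization.Independent (fun i => (p i : Projectivization F (Fin 4 → F))) := by
  have hex : ∀ i, ∃ o : Option (F × F),
      (p i : Projectivization F (Fin 4 → F)) =
        Projectivization.mk F (ovVecOpt F m o) (ovVecOpt_ne_zero o) := by
    intro i
    obtain ⟨v, hv, hpv, hcase⟩ := (p i).2
    rcases hcase with h | ⟨x, y, h⟩
    · refine ⟨none, ?_⟩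
      rw [hpv]
      congr 1
    · refine ⟨some (x, y), ?_⟩
      rw [hpv]
      congr 1
  choose P hPeq using hex
  have hinj : Function.Injective P := by
    intro i j hij
    apply p.injective
    apply Subtype.ext
    rw [hPeq i, hPeq j]
    congr 1
    rw [hij]
  have hfun : (fun i => (p i : Projectivization F (Fin 4 → F))) =
      fun i => Projectivization.mk F (ovVecOpt F m (P i)) (ovVecOpt_ne_zero (P i)) :=
    funext hPeq
  rw [hfun]
  exact Projectivization.Independent.mk _ _ (ov_indep_opt hF P hinj)

end Cfsg.Agent.Helper6
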