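import Cfsg.Agent.S0656

/-!
Helper6: quadratic automorphisms of an abelian group (multiplicative form), and the `SL₂(p)`-machine:
two quadratic elements generating a non-`p`-group give a subgroup mapping onto `SL₂(p)`.
-/

set_option autoImplicit false

namespace Cfsg.Agent.Helper6.Quad

section MulAutQuad
variable {V : Type*} [CommGroup V]

/-- `f` acts quadratically: `(f - 1)² = 0` in additive language -/
def QuadM (f : MulAut V) : Prop := ∀ v : V, f (f v / v) = f v / v

theorem QuadM.apply_eq {f : MulAut V} (v : V) : f v = (f v / v) * v := by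
  rw [div_mul_cancel]

theorem QuadM.pow_apply {f : MulAut V} (hf : QuadM f) (k : ℕ) (v : V) :
    (f ^ k) v = v * (f v / v) ^ k := by
  induction k with
  | zero => simp
  | succ k ih =>
    rw [pow_succ', MulAut.mul_apply, ih, map_mul, map_pow, hf v, pow_succ]
    calc f v * (f v / v) ^ k = (f v / v * v) * (f v / v) ^ k := by rw [div_mul_cancel]
      _ = v * ((f v / v) ^ k * (f v / v)) := by
        rw [mul_comm (f v / v) v, mul_assoc, mul_comm (f v / v)]

theorem QuadM.pow_eq_one {f : MulAut V} (hf : QuadM f) {p : ℕ} (hV : ∀ v : V, v ^ p = 1) :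
    f ^ p = 1 := by
  apply MulEquiv.ext
  intro v
  rw [hf.pow_apply, hV, mul_one, MulAut.one_apply]

theorem QuadM.conj {f : MulAut V} (hf : QuadM f) (g : MulAut V) : QuadM (g * f * g⁻¹) := by
  intro v
  have h1 : (g * f * g⁻¹) v / v = g (f (g⁻¹ v) / g⁻¹ v) := by
    rw [map_div, MulAut.mul_apply, MulAut.mul_apply, MulAut.apply_inv_self]
  rw [h1, MulAut.mul_apply, MulAut.mul_apply, MulAut.inv_apply_self, hf]

end MulAutQuad

section Machine

/-- two quadratic elements generating a non-`p`-group: some subgroup of the group they generate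
maps onto `SL₂(p)` -/
theorem exists_surj_SL2 {p : ℕ} [Fact p.Prime] (hp : p ≠ 2) {X : Type*} [Group X] [Finite X]
    {V : Type*} [CommGroup V] [Finite V] (hV : ∀ v : V, v ^ p = 1) (θ : X →* MulAut V)
    (hθ : Function.Injective θ) (x y : X) (hx : QuadM (θ x)) (hy : QuadM (θ y))
    (hnp : ¬ IsPGroup p (Subgroup.closure ({x, y} : Set X))) :
    ∃ (Γ' : Subgroup ↥(Subgroup.closure ({x, y} : Set X)))
      (π : Γ' →* Matrix.SpecialLinearGroup (Fin 2) (ZMod p)), Function.Surjective π := by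
  classical
  set Γ := Subgroup.closure ({x, y} : Set X) with hΓ
  have hxΓ : x ∈ Γ := Subgroup.subset_closure (by simp)
  have hyΓ : y ∈ Γ := Subgroup.subset_closure (by simp)
  let θΓ : Γ →* MulAut V := θ.comp Γ.subtype
  have hθΓ : Function.Injective θΓ := hθ.comp Subtype.val_injective
  have hgen : Subgroup.closure ({(⟨x, hxΓ⟩ : Γ), ⟨y, hyΓ⟩} : Set Γ) = ⊤ := by
    have h1 := Subgroup.closure_closure_coe_preimage (k := ({x, y} : Set X))
    have h2 : ((↑) : Γ → X) ⁻¹' ({x, y} : Set X) = ({(⟨x, hxΓ⟩ : Γ), ⟨y, hyΓ⟩} : Set Γ) := by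
      ext z
      simp only [Set.mem_preimage, Set.mem_insert_iff, Set.mem_singleton_iff, Subtype.ext_iff]
    rw [← h2]
    exact h1
  obtain ⟨K, iF, iFt, iC, φ, hnpφ, hxp', hyp'⟩ :=
    Cfsg.Agent.Helper97.QuadLin.exists_hom_SL2_of_action (A := V) (p := p) hV θΓ hθΓ
      ⟨x, hxΓ⟩ ⟨y, hyΓ⟩ hgen hx hy hnp
  have hsurj : Function.Surjective φ.rangeRestrict := φ.rangeRestrict_surjective
  let gens : Set φ.range := {φ.rangeRestrict ⟨x, hxΓ⟩, φ.rangeRestrict ⟨y, hyΓ⟩}
  have hgens : Subgroup.closure gens = ⊤ := by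
    have h2 : gens = φ.rangeRestrict '' ({(⟨x, hxΓ⟩ : Γ), ⟨y, hyΓ⟩} : Set Γ) := by
      simp only [gens, Set.image_insert_eq, Set.image_singleton]
    rw [h2, ← MonoidHom.map_closure, hgen, ← MonoidHom.range_eq_map,
      MonoidHom.range_eq_top.2 hsurj]
  have hgp : ∀ s ∈ gens, s ^ p = 1 := by
    rintro s (rfl | rfl)
    · rw [← map_pow, hxp', map_one]
    · rw [← map_pow, hyp', map_one]
  have hS : 1 < Nat.card (Sylow p φ.range) := by
    by_contra hle
    exact hnpφ (Cfsg.Agent.S0656.isPGroup_of_gens_of_sylow gens hgens hgp (not_lt.1 hle))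
  obtain ⟨K₁, hK₁, ⟨e⟩⟩ := Cfsg.Agent.S0274.result p hp φ.range hS
  refine ⟨K₁.comap φ, e.toMonoidHom.comp (φ.subgroupComap K₁), ?_⟩
  intro s
  obtain ⟨h₀, hh₀⟩ := hK₁ (e.symm s).2
  refine ⟨⟨h₀, by rw [Subgroup.mem_comap, hh₀]; exact (e.symm s).2⟩, ?_⟩
  show e ⟨φ h₀, _⟩ = s
  have : (⟨φ h₀, by rw [hh₀]; exact (e.symm s).2⟩ : K₁) = e.symm s := Subtype.ext hh₀
  rw [this, MulEquiv.apply_symm_apply]

end Machine

end Cfsg.Agent.Helper6.Quad
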