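import Cfsg.Agent.Helper6.Quad1
import Cfsg.Agent.Helper40.SL2Hom

/-!
Helper6: `PSL₂(F)`, `F` finite of odd characteristic `p`, has no faithful quadratic module in
characteristic `p`: explicit `SL₂(p)`-subgroups through a given element of order `p`.
-/

set_option autoImplicit false

namespace Cfsg.Agent.Helper6.Quad

open Matrix Cfsg.Agent.Helper40.SL2Hom

section SL2
variable {F : Type*} [Field F]

theorem W_eq_ULU : (W : Matrix.SpecialLinearGroup (Fin 2) F) = U 1 * L (-1) * U 1 := by
  apply sl2_ext <;>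
  · simp only [Matrix.SpecialLinearGroup.coe_mul, W_coe, U_coe, L_coe]
    simp [Matrix.mul_apply, Fin.sum_univ_two]

theorem L_mul_W : (L (-1) : Matrix.SpecialLinearGroup (Fin 2) F) * W = W * U 1 := by
  apply sl2_ext <;>
  · simp only [Matrix.SpecialLinearGroup.coe_mul, W_coe, U_coe, L_coe]
    simp [Matrix.mul_apply, Fin.sum_univ_two]

theorem W_sq_val : ((W * W : Matrix.SpecialLinearGroup (Fin 2) F) : Matrix (Fin 2) (Fin 2) F) =
    Matrix.scalar (Fin 2) (-1 : F) := by
  rw [Matrix.SpecialLinearGroup.coe_mul, W_coe]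
  ext i j
  fin_cases i <;> fin_cases j <;> simp [Matrix.mul_apply, Fin.sum_univ_two]

/-- conjugation by an invertible matrix, as an endomorphism of `SL₂` -/
def conjSL (P Q : Matrix (Fin 2) (Fin 2) F) (hQP : Q * P = 1) :
    Matrix.SpecialLinearGroup (Fin 2) F →* Matrix.SpecialLinearGroup (Fin 2) F where
  toFun A := ⟨P * (A : Matrix (Fin 2) (Fin 2) F) * Q, by
    have hPQ : P * Q = 1 := mul_eq_one_comm.mp hQP
    rw [det_mul, det_mul, A.det_coe, mul_one, ← det_mul, hPQ, det_one]⟩
  map_one' := by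
    have hPQ : P * Q = 1 := mul_eq_one_comm.mp hQP
    apply Matrix.SpecialLinearGroup.ext
    intro i j
    show (P * ((1 : Matrix.SpecialLinearGroup (Fin 2) F) : Matrix (Fin 2) (Fin 2) F) * Q) i j = _
    rw [Matrix.SpecialLinearGroup.coe_one, Matrix.mul_one, hPQ]
  map_mul' A B := by
    apply Matrix.SpecialLinearGroup.ext
    intro i j
    show (P * ((A * B : Matrix.SpecialLinearGroup (Fin 2) F) : Matrix (Fin 2) (Fin 2) F) * Q) i j =
      ((P * (A : Matrix (Fin 2) (Fin 2) F) * Q) * (P * (B : Matrix (Fin 2) (Fin 2) F) * Q)) i j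
    have : P * ((A * B : Matrix.SpecialLinearGroup (Fin 2) F) : Matrix (Fin 2) (Fin 2) F) * Q =
        (P * (A : Matrix (Fin 2) (Fin 2) F) * Q) * (P * (B : Matrix (Fin 2) (Fin 2) F) * Q) := by
      rw [Matrix.SpecialLinearGroup.coe_mul]
      calc P * ((A : Matrix (Fin 2) (Fin 2) F) * (B : Matrix (Fin 2) (Fin 2) F)) * Q
          = P * (A : Matrix (Fin 2) (Fin 2) F) * (1 : Matrix (Fin 2) (Fin 2) F) *
              (B : Matrix (Fin 2) (Fin 2) F) * Q := by simp [Matrix.mul_assoc]
        _ = P * (A : Matrix (Fin 2) (Fin 2) F) * (Q * P) * (B : Matrix (Fin 2) (Fin 2) F) * Q := by rw [hQP]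
        _ = _ := by simp only [Matrix.mul_assoc]
    rw [this]

theorem conjSL_val (P Q : Matrix (Fin 2) (Fin 2) F) (hQP : Q * P = 1)
    (A : Matrix.SpecialLinearGroup (Fin 2) F) :
    ((conjSL P Q hQP A : Matrix.SpecialLinearGroup (Fin 2) F) : Matrix (Fin 2) (Fin 2) F) =
      P * (A : Matrix (Fin 2) (Fin 2) F) * Q := rfl

end SL2

section Unipotent
variable {p : ℕ} [Fact p.Prime] {F : Type*} [Field F] [CharP F p]

/-- an element of order `p` of `PSL₂(F)` lifts to an element of order `p` of `SL₂(F)` -/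
theorem exists_lift_unipotent (hp : p ≠ 2) (ξ : Matrix.ProjectiveSpecialLinearGroup (Fin 2) F)
    (hξ : ξ ≠ 1) (hξp : ξ ^ p = 1) :
    ∃ g : Matrix.SpecialLinearGroup (Fin 2) F,
      (QuotientGroup.mk g : Matrix.ProjectiveSpecialLinearGroup (Fin 2) F) = ξ ∧ g ^ p = 1 ∧ g ≠ 1 := by
  obtain ⟨g₀, rfl⟩ := QuotientGroup.mk_surjective ξ
  have hc : g₀ ^ p ∈ Subgroup.center (Matrix.SpecialLinearGroup (Fin 2) F) := by
    rw [← QuotientGroup.eq_one_iff, QuotientGroup.mk_pow]
    exact hξp
  have hc2 : g₀ ^ p * g₀ ^ p = 1 := by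
    obtain ⟨r, hr, hr'⟩ := Matrix.SpecialLinearGroup.mem_center_iff.mp hc
    rw [Fintype.card_fin] at hr
    apply Matrix.SpecialLinearGroup.ext
    intro i j
    rw [Matrix.SpecialLinearGroup.coe_mul, ← hr', ← map_mul, ← pow_two, hr, map_one,
      Matrix.SpecialLinearGroup.coe_one]
  obtain ⟨k, hk⟩ : ∃ k, p + 1 = 2 * k := by
    rcases (Fact.out : p.Prime).eq_two_or_odd with h | h
    · exact absurd h hp
    · exact ⟨(p + 1) / 2, by omega⟩
  refine ⟨g₀ ^ (p + 1), ?_, ?_, ?_⟩
  · rw [QuotientGroup.mk_pow, pow_succ, hξp, one_mul]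
  · rw [← pow_mul, mul_comm, pow_mul, hk, pow_mul, pow_two, hc2, one_pow]
  · intro h
    apply hξ
    have : (QuotientGroup.mk (g₀ ^ (p + 1)) : Matrix.ProjectiveSpecialLinearGroup (Fin 2) F) = 1 := by
      rw [h]; rfl
    rw [QuotientGroup.mk_pow, pow_succ, hξp, one_mul] at this
    exact this

/-- a non-trivial element of `SL₂(F)` of order `p` is conjugate, by an invertible matrix, to the
standard transvection -/
theorem exists_conj_U (g : Matrix.SpecialLinearGroup (Fin 2) F) (hg : g ^ p = 1) (hg1 : g ≠ 1) :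
    ∃ (P Q : Matrix (Fin 2) (Fin 2) F), Q * P = 1 ∧
      (g : Matrix (Fin 2) (Fin 2) F) * P = P * !![1, 1; 0, 1] := by
  -- entries
  obtain ⟨a, b, c, d, hA⟩ : ∃ a b c d : F, (g : Matrix (Fin 2) (Fin 2) F) = !![a, b; c, d] :=
    ⟨g 0 0, g 0 1, g 1 0, g 1 1, by
      ext i j; fin_cases i <;> fin_cases j <;> rfl⟩
  have hdet : a * d - b * c = 1 := by
    have := g.det_coe
    rw [hA, Matrix.det_fin_two_of] at this
    exact this
  have hAp : (g : Matrix (Fin 2) (Fin 2) F) ^ p = 1 := by
    rw [← Matrix.SpecialLinearGroup.coe_pow, hg, Matrix.SpecialLinearGroup.coe_one]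
  -- Cayley–Hamilton: `(A - 1)² = (t - 2) A`
  have hCH : ((g : Matrix (Fin 2) (Fin 2) F) - 1) * ((g : Matrix (Fin 2) (Fin 2) F) - 1) =
      (a + d - 2) • (g : Matrix (Fin 2) (Fin 2) F) := by
    rw [hA]
    ext i j
    fin_cases i <;> fin_cases j <;>
      simp [Matrix.mul_apply, Fin.sum_univ_two, Matrix.one_apply] <;>
      first
        | linear_combination (-1 : F) * hdet
        | linear_combination (1 : F) * hdet
        | ring
  have hN : ((g : Matrix (Fin 2) (Fin 2) F) - 1) ^ p = 0 := by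
    rw [sub_pow_char_of_commute (p := p) (Commute.one_right _), hAp, one_pow, sub_self]
  have htr : a + d = 2 := by
    have h1 : (((g : Matrix (Fin 2) (Fin 2) F) - 1) * ((g : Matrix (Fin 2) (Fin 2) F) - 1)) ^ p = 0 := by
      rw [(Commute.refl _).mul_pow, hN, zero_mul]
    rw [hCH, smul_pow, hAp] at h1
    have h2 := congrFun (congrFun h1 0) 0
    simp only [Matrix.smul_apply, Matrix.one_apply_eq, smul_eq_mul, mul_one, Matrix.zero_apply] at h2
    have h3 : a + d - 2 = 0 := pow_eq_zero_iff (Fact.out : p.Prime).ne_zero |>.mp h2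
    linear_combination h3
  have hd : d = 2 - a := by linear_combination htr
  subst hd
  by_cases hb : b = 0
  · subst hb
    have ha : a = 1 := by
      have : (a - 1) ^ 2 = 0 := by linear_combination (-1 : F) * hdet
      have := pow_eq_zero_iff (two_ne_zero) |>.mp this
      linear_combination this
    subst ha
    have hc : c ≠ 0 := by
      rintro rfl
      apply hg1
      apply Matrix.SpecialLinearGroup.ext
      intro i j
      rw [hA, Matrix.SpecialLinearGroup.coe_one]
      fin_cases i <;> fin_cases j <;> simp <;> norm_num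
    refine ⟨!![0, 1; c, 0], !![0, c⁻¹; 1, 0], ?_, ?_⟩
    · ext i j
      fin_cases i <;> fin_cases j <;> simp [Matrix.mul_apply, Fin.sum_univ_two, hc]
    · rw [hA]
      ext i j
      fin_cases i <;> fin_cases j <;> simp [Matrix.mul_apply, Fin.sum_univ_two] <;> ring
  · refine ⟨!![b, 0; -(a - 1), 1], !![b⁻¹, 0; (a - 1) * b⁻¹, 1], ?_, ?_⟩
    · ext i j
      fin_cases i <;> fin_cases j <;> simp [Matrix.mul_apply, Fin.sum_univ_two, hb]
    · rw [hA]
      ext i j
      fin_cases i <;> fin_cases j <;> simp [Matrix.mul_apply, Fin.sum_univ_two] <;>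
        first
          | linear_combination (1 : F) * hdet
          | linear_combination (-1 : F) * hdet
          | ring

end Unipotent

end Cfsg.Agent.Helper6.Quad
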