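import Cfsg.Agent.Helper6.Quad2

/-!
Helper6: `PSL₂(F)`, `F` finite of odd characteristic `p`, has no faithful quadratic module in
characteristic `p`.
-/

set_option autoImplicit false

namespace Cfsg.Agent.Helper6.Quad

open Matrix Cfsg.Agent.Helper40.SL2Hom

section PSL2
variable {p : ℕ} [Fact p.Prime] {F : Type*} [Field F] [CharP F p]

/-- an element of a group isomorphic to `PSL₂(F)` (odd characteristic `p`) acting quadratically on a
faithful module of characteristic `p` is trivial -/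
theorem no_quad_psl2 (hp : p ≠ 2)
    {X : Type*} [Group X] [Finite X] (e : X ≃* Matrix.ProjectiveSpecialLinearGroup (Fin 2) F)
    {V : Type*} [CommGroup V] [Finite V] (hV : ∀ v : V, v ^ p = 1) (θ : X →* MulAut V)
    (hθ : Function.Injective θ) (x : X) (hx : QuadM (θ x)) : x = 1 := by
  by_contra hx1
  have hxp : x ^ p = 1 := hθ (by rw [map_pow, hx.pow_eq_one hV, map_one])
  obtain ⟨g, hg1, hg2, hg3⟩ := exists_lift_unipotent hp (e x)
    (fun h => hx1 (e.injective (by rw [h, map_one]))) (by rw [← map_pow, hxp, map_one])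
  obtain ⟨P, Q, hQP, hgP⟩ := exists_conj_U g hg2 hg3
  have hPQ : P * Q = 1 := mul_eq_one_comm.mp hQP
  let c : ZMod p →+* F := ZMod.castHom (dvd_refl p) F
  let ψ₀ : Matrix.SpecialLinearGroup (Fin 2) (ZMod p) →* Matrix.SpecialLinearGroup (Fin 2) F :=
    (conjSL P Q hQP).comp (Matrix.SpecialLinearGroup.map c)
  let ψ : Matrix.SpecialLinearGroup (Fin 2) (ZMod p) →* X :=
    e.symm.toMonoidHom.comp ((QuotientGroup.mk' _).comp ψ₀)
  have hψ₀val : ∀ A : Matrix.SpecialLinearGroup (Fin 2) (ZMod p),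
      ((ψ₀ A : Matrix.SpecialLinearGroup (Fin 2) F) : Matrix (Fin 2) (Fin 2) F) =
        P * ((A : Matrix (Fin 2) (Fin 2) (ZMod p)).map c) * Q := fun A => rfl
  have hψ₀u : ψ₀ (U 1) = g := by
    apply Matrix.SpecialLinearGroup.ext
    intro i j
    rw [hψ₀val, U_coe]
    have : (!![1, 1; 0, 1] : Matrix (Fin 2) (Fin 2) (ZMod p)).map c = !![1, 1; 0, 1] := by
      ext i j
      fin_cases i <;> fin_cases j <;> simp
    rw [this, ← hgP, Matrix.mul_assoc, hPQ, Matrix.mul_one]
  have hψu : ψ (U 1) = x := by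
    show e.symm (QuotientGroup.mk (ψ₀ (U 1))) = x
    rw [hψ₀u, hg1, MulEquiv.symm_apply_apply]
  have hψ₀z : ψ₀ (W * W) ∈ Subgroup.center (Matrix.SpecialLinearGroup (Fin 2) F) := by
    rw [Matrix.SpecialLinearGroup.mem_center_iff]
    refine ⟨-1, by simp, ?_⟩
    rw [hψ₀val, W_sq_val]
    have : ((Matrix.scalar (Fin 2)) (-1 : ZMod p)).map c = (Matrix.scalar (Fin 2)) (-1 : F) := by
      ext i j
      fin_cases i <;> fin_cases j <;> simp
    rw [this]
    have h2 : (Matrix.scalar (Fin 2)) (-1 : F) = -1 := by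
      ext i j
      fin_cases i <;> fin_cases j <;> simp
    rw [h2, Matrix.mul_neg, Matrix.mul_one, Matrix.neg_mul, hPQ]
  have hψz : ψ (W * W) = 1 := by
    show e.symm (QuotientGroup.mk (ψ₀ (W * W))) = 1
    rw [(QuotientGroup.eq_one_iff _).mpr hψ₀z, map_one]
  have hψw : ψ W ≠ 1 := by
    intro h
    have h1 : (QuotientGroup.mk (ψ₀ W) : Matrix.ProjectiveSpecialLinearGroup (Fin 2) F) = 1 := by
      have : e.symm (QuotientGroup.mk (ψ₀ W)) = 1 := h
      rw [← map_one e.symm] at this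
      exact e.symm.injective this
    rw [QuotientGroup.eq_one_iff, Matrix.SpecialLinearGroup.mem_center_iff] at h1
    obtain ⟨r, -, hr⟩ := h1
    rw [hψ₀val, W_coe] at hr
    -- `W = Q (r • 1) P = r • 1`
    have h2 : (!![0, 1; -1, 0] : Matrix (Fin 2) (Fin 2) (ZMod p)).map c =
        Q * ((Matrix.scalar (Fin 2)) r) * P := by
      rw [hr]
      simp only [Matrix.mul_assoc]
      rw [hQP, Matrix.mul_one, ← Matrix.mul_assoc, hQP, Matrix.one_mul]
    have h3 : Q * ((Matrix.scalar (Fin 2)) r) * P = (Matrix.scalar (Fin 2)) r := by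
      rw [Matrix.mul_assoc, (Matrix.scalar_commute r (fun s => mul_comm r s) P).eq,
        ← Matrix.mul_assoc, hQP, Matrix.one_mul]
    rw [h3] at h2
    have h4 := congrFun (congrFun h2 0) 1
    simp at h4
  set y : X := ψ (L (-1)) with hy_def
  have hyconj : y = ψ W * x * (ψ W)⁻¹ := by
    rw [← hψu, eq_mul_inv_iff_mul_eq, ← map_mul, ← map_mul, L_mul_W]
  have hy : QuadM (θ y) := by
    rw [hyconj, map_mul, map_mul, map_inv]
    exact hx.conj _
  have hxΓ : x ∈ Subgroup.closure ({x, y} : Set X) := Subgroup.subset_closure (by simp)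
  have hyΓ : y ∈ Subgroup.closure ({x, y} : Set X) := Subgroup.subset_closure (by simp)
  have hWΓ : ψ W ∈ Subgroup.closure ({x, y} : Set X) := by
    rw [W_eq_ULU, map_mul, map_mul, hψu]
    exact mul_mem (mul_mem hxΓ hyΓ) hxΓ
  have hnp : ¬ IsPGroup p (Subgroup.closure ({x, y} : Set X)) := by
    intro h
    obtain ⟨k, hk⟩ := h ⟨ψ W, hWΓ⟩
    have h2 : (ψ W) ^ 2 = 1 := by rw [pow_two, ← map_mul, hψz]
    have h3 : (ψ W) ^ (p ^ k) = 1 := by
      have := congrArg Subtype.val hk
      simpa using this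
    have hcop : Nat.Coprime (p ^ k) 2 := by
      apply Nat.Coprime.pow_left
      rw [Nat.coprime_primes (Fact.out : p.Prime) Nat.prime_two]
      exact hp
    have h4 : orderOf (ψ W) ∣ 1 := by
      rw [← Nat.Coprime.gcd_eq_one hcop]
      exact Nat.dvd_gcd (orderOf_dvd_of_pow_eq_one h3) (orderOf_dvd_of_pow_eq_one h2)
    exact hψw (orderOf_eq_one_iff.mp (Nat.dvd_one.mp h4))
  obtain ⟨Γ', π, hπ⟩ := exists_surj_SL2 hp hV θ hθ x y hx hy hnp
  -- cardinalities
  have h1 : Nat.card (Matrix.SpecialLinearGroup (Fin 2) (ZMod p)) ≤ Nat.card Γ' :=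
    Nat.card_le_card_of_surjective π hπ
  have h2 : Nat.card Γ' ≤ Nat.card (Subgroup.closure ({x, y} : Set X)) :=
    Nat.card_le_card_of_injective _ Subtype.val_injective
  have h3 : Nat.card (Subgroup.closure ({x, y} : Set X)) ≤ Nat.card ψ.range := by
    apply Subgroup.card_le_of_le
    rw [Subgroup.closure_le]
    rintro z (rfl | rfl)
    · exact ⟨U 1, hψu⟩
    · exact ⟨L (-1), rfl⟩
  have h4 : Nat.card ψ.ker * Nat.card ψ.range = Nat.card (Matrix.SpecialLinearGroup (Fin 2) (ZMod p)) := by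
    rw [← Subgroup.index_ker, Subgroup.card_mul_index]
  have h5 : 2 ≤ Nat.card ψ.ker := by
    have hne : (⟨W * W, hψz⟩ : ψ.ker) ≠ 1 := by
      intro h
      have h6 := congrArg (fun z : ψ.ker => ((z : Matrix.SpecialLinearGroup (Fin 2) (ZMod p)) :
        Matrix (Fin 2) (Fin 2) (ZMod p)) 0 0) h
      simp only [W_sq_val] at h6
      have h7 : (-1 : ZMod p) = 1 := by simpa using h6
      have h8 : (2 : ZMod p) = 0 := by linear_combination (-1 : ZMod p) * h7
      have h9 : ((2 : ℕ) : ZMod p) = 0 := by exact_mod_cast h8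
      rw [ZMod.natCast_eq_zero_iff] at h9
      have := (Nat.prime_dvd_prime_iff_eq (Fact.out : p.Prime) Nat.prime_two).mp h9
      exact hp this
    have : Nontrivial ψ.ker := ⟨⟨_, _, hne⟩⟩
    exact Finite.one_lt_card
  have h6 : 0 < Nat.card ψ.range := Nat.card_pos
  nlinarith

end PSL2

end Cfsg.Agent.Helper6.Quad
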