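import Cfsg.Agent.Helper6.Ree14

/-!
Helper6: the Sylow 2-subgroups of the small Ree group are elementary abelian of order 8.
-/

set_option autoImplicit false
set_option maxRecDepth 100000

namespace Cfsg.Agent.Helper6.Ree

open Cfsg Cfsg.Lie Cfsg.Agent.Helper18 Cfsg.Agent.Helper18.Ree Cfsg.Agent.Helper19.Twist

section Arith

theorem three_pow_mod_eight (m : ℕ) : ∃ k, 3 ^ (2 * m + 1) = 8 * k + 3 := by
  induction m with
  | zero => exact ⟨0, by norm_num⟩
  | succ n ih =>
    obtain ⟨k, hk⟩ := ih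
    refine ⟨9 * k + 3, ?_⟩
    have : 3 ^ (2 * (n + 1) + 1) = 9 * 3 ^ (2 * n + 1) := by ring
    rw [this, hk]
    ring

theorem ree_order_two_part (m : ℕ) : ∃ d, Odd d ∧
    (3 ^ (2 * m + 1)) ^ 3 * (3 ^ (2 * m + 1) - 1) * ((3 ^ (2 * m + 1)) ^ 3 + 1) = 8 * d := by
  obtain ⟨k, hk⟩ := three_pow_mod_eight m
  rw [hk]
  have e1 : 8 * k + 3 - 1 = 2 * (4 * k + 1) := by omega
  have e2 : (8 * k + 3) ^ 3 + 1 = 4 * ((2 * k + 1) * ((8 * k + 3) * (8 * k + 2) + 1)) := by ring
  rw [e1, e2]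
  refine ⟨(8 * k + 3) ^ 3 * (4 * k + 1) * ((2 * k + 1) * ((8 * k + 3) * (8 * k + 2) + 1)), ?_, by ring⟩
  have o1 : Odd (8 * k + 3) := ⟨4 * k + 1, by ring⟩
  have o2 : Odd (4 * k + 1) := ⟨2 * k, by ring⟩
  have o3 : Odd (2 * k + 1) := ⟨k, by ring⟩
  have o4 : Odd ((8 * k + 3) * (8 * k + 2) + 1) := ⟨(8 * k + 3) * (4 * k + 1), by ring⟩
  exact ((o1.pow).mul o2).mul (o3.mul o4)

end Arith

section Syl
variable {G : Type*} [Group G] [Finite G]

/-- a subgroup of order `8` and exponent `2` in a group of order `8 · odd` forces all Sylow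
2-subgroups to be elementary abelian of order `8` -/
theorem sylow_two_of_elementary (E : Subgroup G) (hE : Nat.card E = 8) (hexp : ∀ x ∈ E, x * x = 1)
    (d : ℕ) (hd : Odd d) (hG : Nat.card G = 8 * d) (S : Sylow 2 G) :
    Nat.card S = 8 ∧ ∀ x ∈ S, x * x = 1 := by
  have hp : IsPGroup 2 E := IsPGroup.of_card (n := 3) (by rw [hE]; norm_num)
  obtain ⟨P, hEP⟩ := hp.exists_le_sylow
  have hP8 : Nat.card P ≤ 8 := by
    have h1 : Nat.card P = 2 ^ (Nat.card G).factorization 2 := P.card_eq_multiplicity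
    have h2 : Nat.card P ∣ Nat.card G := Subgroup.card_subgroup_dvd_card _
    rw [hG] at h2
    have h3 : Nat.Coprime (Nat.card P) d := by
      rw [h1]
      exact Nat.Coprime.pow_left _ (Nat.coprime_two_left.mpr hd)
    exact Nat.le_of_dvd (by norm_num) (h3.dvd_of_dvd_mul_right h2)
  have hEP' : Nat.card E ≤ Nat.card P := Subgroup.card_le_of_le hEP
  have hPc : Nat.card P = 8 := by omega
  have hEq : E = P := Subgroup.eq_of_le_of_card_ge hEP (by omega)
  obtain ⟨g, hg⟩ := MulAction.exists_smul_eq G P S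
  constructor
  · rw [← hPc, S.card_eq_multiplicity, P.card_eq_multiplicity]
  · intro x hx
    have hx' : x ∈ ((g • P : Sylow 2 G) : Subgroup G) := by rw [hg]; exact hx
    rw [Sylow.smul_def, Sylow.pointwise_smul_def, Subgroup.mem_smul_pointwise_iff_exists] at hx'
    obtain ⟨y, hy, rfl⟩ := hx'
    rw [← hEq] at hy
    rw [MulAut.smul_def, MulAut.conj_apply]
    have := hexp y hy
    calc g * y * g⁻¹ * (g * y * g⁻¹) = g * (y * y) * g⁻¹ := by group
      _ = 1 := by rw [this]; group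

end Syl

section Klein
variable {K : Type*} [Field K]

theorem mem_center_sl2 (g : Matrix.SpecialLinearGroup (Fin 2) K) :
    g ∈ Subgroup.center (Matrix.SpecialLinearGroup (Fin 2) K) ↔
      (g : Matrix (Fin 2) (Fin 2) K) 0 1 = 0 ∧ (g : Matrix (Fin 2) (Fin 2) K) 1 0 = 0 ∧
        (g : Matrix (Fin 2) (Fin 2) K) 0 0 = (g : Matrix (Fin 2) (Fin 2) K) 1 1 := by
  rw [Matrix.SpecialLinearGroup.mem_center_iff]
  constructor
  · rintro ⟨r, _, hg⟩
    rw [← hg]
    simp
  · rintro ⟨h1, h2, h3⟩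
    have hdet := Cfsg.Agent.Helper40.SL2Hom.sl2_det g
    rw [h1, h2] at hdet
    refine ⟨(g : Matrix (Fin 2) (Fin 2) K) 0 0, ?_, ?_⟩
    · rw [Fintype.card_fin, sq]
      nth_rewrite 2 [h3]
      linear_combination hdet
    · ext i j
      fin_cases i <;> fin_cases j <;> simp [h1, h2, h3]

/-- `[[0,1],[-1,0]]` -/
def Wk (K : Type*) [Field K] : Matrix.SpecialLinearGroup (Fin 2) K :=
  ⟨!![0, 1; -1, 0], by simp [Matrix.det_fin_two]⟩

/-- `[[1,1],[1,-1]]`, of determinant `1` in characteristic `3` -/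
def Zk (K : Type*) [Field K] [CharP K 3] : Matrix.SpecialLinearGroup (Fin 2) K :=
  ⟨!![1, 1; 1, -1], by
    rw [Matrix.det_fin_two]
    simp only [Matrix.of_apply, Matrix.cons_val', Matrix.cons_val_zero, Matrix.cons_val_one,
      Matrix.cons_val_fin_one]
    linear_combination (-1 : K) * two_eq_neg_one (K := K)⟩

theorem Wk_coe : ((Wk K : Matrix.SpecialLinearGroup (Fin 2) K) : Matrix (Fin 2) (Fin 2) K) = !![0, 1; -1, 0] := rfl

theorem Zk_coe [CharP K 3] :
    ((Zk K : Matrix.SpecialLinearGroup (Fin 2) K) : Matrix (Fin 2) (Fin 2) K) = !![1, 1; 1, -1] := rfl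

/-- the image of `W` in `PSL₂(K)` -/
def wb (K : Type*) [Field K] : Matrix.ProjectiveSpecialLinearGroup (Fin 2) K := QuotientGroup.mk (Wk K)

/-- the image of `Z` in `PSL₂(K)` -/
def zb (K : Type*) [Field K] [CharP K 3] : Matrix.ProjectiveSpecialLinearGroup (Fin 2) K :=
  QuotientGroup.mk (Zk K)

theorem WW_mem_center : Wk K * Wk K ∈ Subgroup.center (Matrix.SpecialLinearGroup (Fin 2) K) := by
  rw [mem_center_sl2, Matrix.SpecialLinearGroup.coe_mul, Wk_coe]
  simp [Matrix.mul_apply, Fin.sum_univ_two]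

theorem wb_sq : wb K * wb K = 1 := by
  unfold wb
  rw [← QuotientGroup.mk_mul, QuotientGroup.eq_one_iff]
  exact WW_mem_center

theorem zb_sq [CharP K 3] : zb K * zb K = 1 := by
  unfold zb
  rw [← QuotientGroup.mk_mul, QuotientGroup.eq_one_iff, mem_center_sl2,
    Matrix.SpecialLinearGroup.coe_mul, Zk_coe]
  simp [Matrix.mul_apply, Fin.sum_univ_two]

theorem ZW_eq [CharP K 3] : Zk K * Wk K = Wk K * Wk K * (Wk K * Zk K) := by
  apply Subtype.ext
  simp only [Matrix.SpecialLinearGroup.coe_mul, Wk_coe, Zk_coe]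
  ext i j
  fin_cases i <;> fin_cases j <;> simp [Matrix.mul_apply, Fin.sum_univ_two]

theorem wb_zb_comm [CharP K 3] : Commute (wb K) (zb K) := by
  show wb K * zb K = zb K * wb K
  unfold wb zb
  rw [← QuotientGroup.mk_mul, ← QuotientGroup.mk_mul, ZW_eq, QuotientGroup.mk_mul (Subgroup.center _) (Wk K * Wk K),
    (QuotientGroup.eq_one_iff _).mpr WW_mem_center, one_mul]

theorem wb_ne_one : wb K ≠ 1 := by
  unfold wb
  rw [Ne, QuotientGroup.eq_one_iff, mem_center_sl2, Wk_coe]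
  simp

theorem zb_ne_one [CharP K 3] : zb K ≠ 1 := by
  unfold zb
  rw [Ne, QuotientGroup.eq_one_iff, mem_center_sl2, Zk_coe]
  simp

theorem wb_zb_ne_one [CharP K 3] : wb K * zb K ≠ 1 := by
  unfold wb zb
  rw [Ne, ← QuotientGroup.mk_mul, QuotientGroup.eq_one_iff, mem_center_sl2,
    Matrix.SpecialLinearGroup.coe_mul, Wk_coe, Zk_coe]
  simp [Matrix.mul_apply, Fin.sum_univ_two]

/-- the Klein four-group in `PSL₂(K)` as a homomorphism from `Z₂ × Z₂` -/
noncomputable def kleinHom (K : Type*) [Field K] [CharP K 3] :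
    Multiplicative (ZMod 2) × Multiplicative (ZMod 2) →* Matrix.ProjectiveSpecialLinearGroup (Fin 2) K :=
  MonoidHom.noncommCoprod (zeta2 (wb K) wb_sq) (zeta2 (zb K) zb_sq) (by
    intro z1 z2
    rcases zeta2_cases (wb K) wb_sq z1 with h1 | h1
    · rw [h1]
      exact Commute.one_left _
    · rcases zeta2_cases (zb K) zb_sq z2 with h2 | h2
      · rw [h2]
        exact Commute.one_right _
      · rw [h1, h2]
        exact wb_zb_comm)

theorem kleinHom_apply [CharP K 3] (z1 z2 : Multiplicative (ZMod 2)) :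
    kleinHom K (z1, z2) = zeta2 (wb K) wb_sq z1 * zeta2 (zb K) zb_sq z2 := rfl

theorem kleinHom_injective [CharP K 3] : Function.Injective (kleinHom K) := by
  rw [injective_iff_map_eq_one]
  rintro ⟨z1, z2⟩ h
  rw [kleinHom_apply] at h
  rcases mult_zmod2_cases z1 with rfl | rfl <;> rcases mult_zmod2_cases z2 with rfl | rfl
  · rfl
  · exfalso
    rw [MonoidHom.map_one, one_mul, zeta2_ofAdd_one] at h
    exact zb_ne_one h
  · exfalso
    rw [MonoidHom.map_one, mul_one, zeta2_ofAdd_one] at h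
    exact wb_ne_one h
  · exfalso
    rw [zeta2_ofAdd_one, zeta2_ofAdd_one] at h
    exact wb_zb_ne_one h

end Klein

section Main
variable {K : Type*} [Field K] [Fintype K] {m : ℕ}

theorem mult_zmod2_sq (z : Multiplicative (ZMod 2)) : z * z = 1 := by
  rcases mult_zmod2_cases z with rfl | rfl
  · rfl
  · rfl

/-- all Sylow 2-subgroups of `²G₂(q)` are elementary abelian of order `8` -/
theorem sylow_two_ree (hK : Fintype.card K = 3 ^ (2 * m + 1)) (S : Sylow 2 ↥(twistedG2 K (3 ^ m))) :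
    Nat.card S = 8 ∧ ∀ x ∈ S, x * x = 1 := by
  have := charP_three hK
  have hcard : Nat.card ↥(twistedG2 K (3 ^ m)) = _ :=
    Cfsg.Agent.Helper18.Ree.card_ree_of_torus hK (card_T1 hK)
  obtain ⟨d, hd, hd8⟩ := ree_order_two_part m
  rw [hd8] at hcard
  -- the involution `J` of `G¹`
  let a : ↥(twistedG2 K (3 ^ m)) := ⟨Jg K, Jg_mem_twisted m⟩
  have ha : (a : GL chevG2.Idx K) = Jg K := rfl
  have ha2 : a * a = 1 := by
    apply Subtype.ext
    have h := phi_injective hK (a₁ := tJ K m * tJ K m) (a₂ := 1) (by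
      apply Units.ext
      rw [map_mul, Units.val_mul, phi_tJ, map_one]
      simp)
    have h' := congrArg Subtype.val h
    exact h'
  let Φ : Multiplicative (ZMod 2) × (Multiplicative (ZMod 2) × Multiplicative (ZMod 2)) →*
      ↥(twistedG2 K (3 ^ m)) :=
    (centF hK a ha ha2).comp (MonoidHom.prodMap (MonoidHom.id _) (kleinHom K))
  have hΦ : Function.Injective Φ := by
    show Function.Injective ((centF hK a ha ha2) ∘ (Prod.map id (kleinHom K)))
    exact (centF_injective hK a ha ha2).comp (Function.Injective.prodMap Function.injective_id kleinHom_injective)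
  refine sylow_two_of_elementary Φ.range ?_ ?_ d hd hcard S
  · rw [← Nat.card_congr (MonoidHom.ofInjective hΦ).toEquiv]
    simp [Nat.card_eq_fintype_card]
  · rintro _ ⟨⟨z1, z2, z3⟩, rfl⟩
    rw [← map_mul]
    have : ((z1, z2, z3) : Multiplicative (ZMod 2) × (Multiplicative (ZMod 2) × Multiplicative (ZMod 2))) *
        (z1, z2, z3) = 1 := by
      rw [Prod.mk_mul_mk, Prod.mk_mul_mk, mult_zmod2_sq, mult_zmod2_sq, mult_zmod2_sq]
      rfl
    rw [this, map_one]

end Main

end Cfsg.Agent.Helper6.Ree
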