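import Cfsg.Agent.Helper6.Ree4

/-!
Helper6: `H¹ = H ∩ ²G₂(q) ≃* Kˣ`, hence `|H¹| = q - 1` and `H¹` is cyclic.
-/

set_option autoImplicit false
set_option maxRecDepth 100000

namespace Cfsg.Agent.Helper6.Ree

open Cfsg Cfsg.Lie Cfsg.Agent.Helper18 Cfsg.Agent.Helper18.Ree Cfsg.Agent.Helper19.Twist

section Elts
variable {K : Type*} [Field K]

theorem pairing_8_6 : pairing' chevG2 8 6 = 3 := by decide
theorem pairing_10_6 : pairing' chevG2 10 6 = -1 := by decide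

theorem ch_hJ (a b : K) (ha : a ≠ 0) (hb : b ≠ 0) :
    ch (hG chevG2 K 8 a * hG chevG2 K 10 b) 6 = a ^ 3 * b⁻¹ := by
  have m8 := hG_mem (K := K) chevG2 hG2 8 (by decide) a ha
  have m10 := hG_mem (K := K) chevG2 hG2 10 (by decide) b hb
  unfold ch
  rw [rootEntry_mul chevG2 hG2 _ _ m8 m10, rootEntry_hG chevG2 hG2 8 6 (by decide) (by decide) a ha,
    rootEntry_hG chevG2 hG2 10 6 (by decide) (by decide) b hb, pairing_8_6, pairing_10_6]
  rw [zpow_neg, zpow_one]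
  norm_cast

theorem ch_hInv : ch (hG chevG2 K 8 (-1)) 6 = -1 := by
  unfold ch
  rw [rootEntry_hG chevG2 hG2 8 6 (by decide) (by decide) (-1 : K) (neg_ne_zero.mpr one_ne_zero), pairing_8_6]
  norm_cast

end Elts

section Main
variable {K : Type*} [Field K] [Fintype K] {m : ℕ}

/-- the value at the long simple root, as a homomorphism `H¹ → Kˣ` -/
noncomputable def phi (K : Type*) [Field K] (m : ℕ) : ↥(T1 K m) →* Kˣ where
  toFun g := Units.mk0 (ch g.1 6) (ch_ne_zero g.1 g.2.1 6)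
  map_one' := Units.ext (ch_one 6)
  map_mul' g g' := Units.ext (ch_mul g.1 g'.1 g.2.1 g'.2.1 6)

omit [Fintype K] in
theorem phi_val (g : ↥(T1 K m)) : ((phi K m g : Kˣ) : K) = ch g.1 6 := rfl

theorem phi_injective (hK : Fintype.card K = 3 ^ (2 * m + 1)) : Function.Injective (phi K m) :=
  fun g g' h => Subtype.ext (ch6_injOn hK g.1 g'.1 g.2 g'.2 (congrArg Units.val h))

theorem exists_four_mul (m : ℕ) : ∃ k, 3 ^ (2 * m + 1) + 1 = 4 * k := by
  induction m with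
  | zero => exact ⟨1, by norm_num⟩
  | succ n ih =>
    obtain ⟨k, hk⟩ := ih
    refine ⟨9 * k - 2, ?_⟩
    have e : 3 ^ (2 * (n + 1) + 1) = 9 * 3 ^ (2 * n + 1) := by ring
    have hk1 : 1 ≤ k := by
      rcases k with _ | k
      · omega
      · omega
    omega

/-- the torus element attached to `s ≠ 0` -/
noncomputable def tE (K : Type*) [Field K] (m : ℕ) (s : K) (hs : s ≠ 0) : ↥(T1 K m) :=
  ⟨hG chevG2 K 8 (s ^ 3 ^ m) * hG chevG2 K 10 s,
    ⟨mul_mem (hG_mem chevG2 hG2 8 (by decide) _ (pow_ne_zero _ hs)) (hG_mem chevG2 hG2 10 (by decide) _ hs),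
      hJ_mem (odd_three_pow m) s⟩⟩

/-- the involution of the torus -/
noncomputable def tJ (K : Type*) [Field K] [CharP K 3] (m : ℕ) : ↥(T1 K m) :=
  ⟨hG chevG2 K 8 (-1), ⟨hG_mem chevG2 hG2 8 (by decide) _ (neg_ne_zero.mpr one_ne_zero),
    hInv_mem (odd_three_pow m)⟩⟩

theorem phi_tE (hK : Fintype.card K = 3 ^ (2 * m + 1)) (y : K) (hy : y ≠ 0) :
    ((phi K m (tE K m (y ^ (3 * 3 ^ m + 1)) (pow_ne_zero _ hy)) : Kˣ) : K) = y ^ 2 := by
  rw [phi_val]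
  show ch (hG chevG2 K 8 ((y ^ (3 * 3 ^ m + 1)) ^ 3 ^ m) * hG chevG2 K 10 (y ^ (3 * 3 ^ m + 1))) 6 = y ^ 2
  rw [ch_hJ _ _ (pow_ne_zero _ (pow_ne_zero _ hy)) (pow_ne_zero _ hy)]
  have hq : y ^ (3 ^ (2 * m + 1)) = y := pow_card_eq hK y
  have e1 : ((y ^ (3 * 3 ^ m + 1)) ^ 3 ^ m) ^ 3 = y ^ 2 * y ^ (3 * 3 ^ m + 1) := by
    have : ((y ^ (3 * 3 ^ m + 1)) ^ 3 ^ m) ^ 3 = (y ^ (3 ^ (2 * m + 1))) ^ 3 * y ^ (3 * 3 ^ m) := by
      rw [← pow_mul, ← pow_mul, ← pow_mul, ← pow_add]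
      congr 1
      ring
    rw [this, hq]
    ring
  rw [e1, mul_assoc, mul_inv_cancel₀ (pow_ne_zero _ hy), mul_one]

omit [Fintype K] in
theorem phi_tJ [CharP K 3] : ((phi K m (tJ K m) : Kˣ) : K) = -1 := by
  rw [phi_val]
  exact ch_hInv

theorem phi_surjective (hK : Fintype.card K = 3 ^ (2 * m + 1)) : Function.Surjective (phi K m) := by
  have := charP_three hK
  intro c
  obtain ⟨k, hk⟩ := exists_four_mul m
  have hk1 : 1 ≤ k := by
    rcases k with _ | k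
    · omega
    · omega
  have hc : (c : K) ≠ 0 := c.ne_zero
  have hq : (c : K) ^ (3 ^ (2 * m + 1)) = c := pow_card_eq hK _
  have h1 : ((c : K) ^ (2 * k - 1)) ^ 2 = 1 ^ 2 := by
    have e : (c : K) ^ (3 ^ (2 * m + 1)) = ((c : K) ^ (2 * k - 1)) ^ 2 * c := by
      rw [← pow_mul, ← pow_succ]
      congr 1
      omega
    rw [e] at hq
    have : ((c : K) ^ (2 * k - 1)) ^ 2 * c = 1 * c := by rw [hq, one_mul]
    rw [one_pow]
    exact mul_right_cancel₀ hc this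
  have h2 : (c : K) ^ (2 * k) = (c : K) ^ (2 * k - 1) * c := by
    rw [← pow_succ]
    congr 1
    omega
  set y : K := (c : K) ^ k with hy
  have hy0 : y ≠ 0 := pow_ne_zero _ hc
  have hy2 : y ^ 2 = (c : K) ^ (2 * k) := by rw [hy, ← pow_mul, mul_comm]
  rcases sq_eq_sq_iff_eq_or_eq_neg.mp h1 with h | h
  · refine ⟨tE K m (y ^ (3 * 3 ^ m + 1)) (pow_ne_zero _ hy0), ?_⟩
    apply Units.ext
    rw [phi_tE hK y hy0, hy2, h2, h, one_mul]
  · refine ⟨tJ K m * tE K m (y ^ (3 * 3 ^ m + 1)) (pow_ne_zero _ hy0), ?_⟩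
    apply Units.ext
    rw [map_mul, Units.val_mul, phi_tE hK y hy0, phi_tJ, hy2, h2, h]
    ring

/-- `H¹ ≃* Kˣ` -/
noncomputable def torusEquiv (hK : Fintype.card K = 3 ^ (2 * m + 1)) : ↥(T1 K m) ≃* Kˣ :=
  MulEquiv.ofBijective (phi K m) ⟨phi_injective hK, phi_surjective hK⟩

theorem torusEquiv_apply (hK : Fintype.card K = 3 ^ (2 * m + 1)) (g : ↥(T1 K m)) :
    ((torusEquiv hK g : Kˣ) : K) = ch g.1 6 := rfl

/-- `|H¹| = q - 1` -/
theorem card_T1 (hK : Fintype.card K = 3 ^ (2 * m + 1)) : Nat.card ↥(T1 K m) = 3 ^ (2 * m + 1) - 1 := by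
  rw [Nat.card_congr (torusEquiv hK).toEquiv, Nat.card_units, Nat.card_eq_fintype_card, hK]

/-- `H¹` is cyclic -/
theorem isCyclic_T1 (hK : Fintype.card K = 3 ^ (2 * m + 1)) : IsCyclic ↥(T1 K m) :=
  isCyclic_of_surjective (torusEquiv hK).symm (torusEquiv hK).symm.surjective

end Main

end Cfsg.Agent.Helper6.Ree
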