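import Cfsg.Agent.Helper6.Quad2
import Cfsg.Agent.Helper6.Ree15
import Cfsg.Agent.S0199
import Cfsg.Agent.S1073

/-!
Helper6: the Ree groups `²G₂(3^(2m+1))`, `m ≥ 1`, have no faithful quadratic module in characteristic 3.
-/

set_option autoImplicit false

namespace Cfsg.Agent.Helper6.Quad

open Matrix Cfsg.Agent.Helper40.SL2Hom Cfsg.Lie

section Ree
variable {K : Type*} [Field K] [Fintype K] {m : ℕ}

theorem orderOf_W_three : orderOf (W : Matrix.SpecialLinearGroup (Fin 2) (ZMod 3)) = 4 := by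
  have h1 : ¬ (W : Matrix.SpecialLinearGroup (Fin 2) (ZMod 3)) ^ 2 ^ 1 = 1 := by
    intro h
    rw [pow_one, pow_two] at h
    have h6 := congrArg (fun z : Matrix.SpecialLinearGroup (Fin 2) (ZMod 3) =>
      (z : Matrix (Fin 2) (Fin 2) (ZMod 3)) 0 0) h
    simp only [W_sq_val] at h6
    revert h6
    simp
    decide
  have h2 : (W : Matrix.SpecialLinearGroup (Fin 2) (ZMod 3)) ^ 2 ^ (1 + 1) = 1 := by
    have e : (2 : ℕ) ^ (1 + 1) = 2 * 2 := by norm_num
    rw [e, pow_mul, pow_two, pow_two]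
    apply Matrix.SpecialLinearGroup.ext
    intro i j
    rw [Matrix.SpecialLinearGroup.coe_mul, W_sq_val, Matrix.SpecialLinearGroup.coe_one, ← map_mul]
    simp
  have := orderOf_eq_prime_pow h1 h2
  rw [this]; norm_num

/-- a quadratically acting element of `²G₂(q)` on a faithful module of characteristic 3 is trivial -/
theorem no_quad_ree_aux (hm : 1 ≤ m) (hK : Fintype.card K = 3 ^ (2 * m + 1))
    {V : Type*} [CommGroup V] [Finite V] (hV : ∀ v : V, v ^ 3 = 1)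
    (θ : ↥(twistedG2 K (3 ^ m)) →* MulAut V)
    (hθ : Function.Injective θ) (x : ↥(twistedG2 K (3 ^ m))) (hx : QuadM (θ x)) : x = 1 := by
  haveI : Fact (Nat.Prime 3) := ⟨Nat.prime_three⟩
  by_contra hx1
  have hxp : x ^ 3 = 1 := hθ (by rw [map_pow, hx.pow_eq_one hV, map_one])
  obtain ⟨hsimple, -⟩ := Cfsg.Agent.S1073.result hm hK
  -- a 2-element
  obtain ⟨s, hs1, hs2⟩ : ∃ s : ↥(twistedG2 K (3 ^ m)), s ≠ 1 ∧ s * s = 1 := by
    let S : Sylow 2 ↥(twistedG2 K (3 ^ m)) := default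
    obtain ⟨hS8, hS2⟩ := Cfsg.Agent.Helper6.Ree.sylow_two_ree hK S
    have hnt : Nontrivial S := by
      rw [← Finite.one_lt_card_iff_nontrivial, hS8]; norm_num
    obtain ⟨s, hs⟩ := exists_ne (1 : S)
    exact ⟨s.1, fun h => hs (Subtype.ext h), hS2 s.1 s.2⟩
  have hZp : IsPGroup 3 (Subgroup.zpowers x) := by
    rintro ⟨z, hz⟩
    obtain ⟨k, rfl⟩ := Subgroup.mem_zpowers_iff.1 hz
    refine ⟨1, Subtype.ext ?_⟩
    show (x ^ k) ^ (3 ^ 1) = 1
    rw [pow_one, ← zpow_natCast, ← _root_.zpow_mul, mul_comm, _root_.zpow_mul, zpow_natCast, hxp, _root_.one_zpow]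
  -- Baer–Suzuki
  have hex : ∃ g : ↥(twistedG2 K (3 ^ m)), ¬ IsPGroup 3 ↥(Subgroup.zpowers x ⊔
      (Subgroup.zpowers x).map (MulAut.conj g).toMonoidHom) := by
    by_contra hcon
    push Not at hcon
    obtain ⟨N, hN1, hN2, hN3⟩ := Cfsg.Agent.S0199.result (Subgroup.zpowers x) hZp hcon
    rcases hN1.eq_bot_or_eq_top with h | h
    · rw [h] at hN3
      exact hx1 (Subgroup.mem_bot.1 (hN3 (Subgroup.mem_zpowers x)))
    · rw [h] at hN2
      obtain ⟨k, hk⟩ := hN2 ⟨s, Subgroup.mem_top s⟩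
      have h3 : s ^ (3 ^ k) = 1 := by
        have := congrArg Subtype.val hk
        simpa using this
      have h2 : s ^ 2 = 1 := by rw [pow_two, hs2]
      have hcop : Nat.Coprime (3 ^ k) 2 := by
        apply Nat.Coprime.pow_left
        norm_num
      have h4 : orderOf s ∣ 1 := by
        rw [← Nat.Coprime.gcd_eq_one hcop]
        exact Nat.dvd_gcd (orderOf_dvd_of_pow_eq_one h3) (orderOf_dvd_of_pow_eq_one h2)
      exact hs1 (orderOf_eq_one_iff.mp (Nat.dvd_one.mp h4))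
  obtain ⟨g, hg⟩ := hex
  set y : ↥(twistedG2 K (3 ^ m)) := g * x * g⁻¹ with hy_def
  have hy : QuadM (θ y) := by
    rw [hy_def, map_mul, map_mul, map_inv]
    exact hx.conj _
  have hcl : Subgroup.closure ({x, y} : Set ↥(twistedG2 K (3 ^ m))) =
      Subgroup.zpowers x ⊔ (Subgroup.zpowers x).map (MulAut.conj g).toMonoidHom := by
    rw [MonoidHom.map_zpowers, Set.insert_eq, Subgroup.closure_union, Subgroup.zpowers_eq_closure,
      Subgroup.zpowers_eq_closure]
    rfl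
  have hnp : ¬ IsPGroup 3 (Subgroup.closure ({x, y} : Set ↥(twistedG2 K (3 ^ m)))) := by
    rw [hcl]; exact hg
  obtain ⟨Γ', π, hπ⟩ := exists_surj_SL2 (p := 3) (by norm_num) hV θ hθ x y hx hy hnp
  obtain ⟨γ, hγ⟩ := hπ (W : Matrix.SpecialLinearGroup (Fin 2) (ZMod 3))
  have h4 : 4 ∣ orderOf γ := by
    rw [← orderOf_W_three, ← hγ]
    exact orderOf_map_dvd π γ
  have hpos : 0 < orderOf γ := orderOf_pos γ
  obtain ⟨n, hn⟩ := h4
  have hn0 : n ≠ 0 := by
    rintro rfl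
    omega
  have ho : orderOf (γ ^ n) = 4 := by
    rw [orderOf_pow_of_dvd hn0 ⟨4, by rw [hn, mul_comm]⟩, hn, Nat.mul_div_cancel _ (Nat.pos_of_ne_zero hn0)]
  set z : ↥(twistedG2 K (3 ^ m)) := (((γ ^ n : Γ') : ↥(Subgroup.closure ({x, y} :
    Set ↥(twistedG2 K (3 ^ m))))) : ↥(twistedG2 K (3 ^ m))) with hz_def
  have hoz : orderOf z = 4 := by
    rw [hz_def, Subgroup.orderOf_coe, Subgroup.orderOf_coe, ho]
  have hZ2 : IsPGroup 2 (Subgroup.zpowers z) := by
    apply IsPGroup.of_card (n := 2)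
    rw [Nat.card_zpowers, hoz]
    norm_num
  haveI : Fact (Nat.Prime 2) := ⟨Nat.prime_two⟩
  obtain ⟨S, hS⟩ := hZ2.exists_le_sylow
  have hzz := (Cfsg.Agent.Helper6.Ree.sylow_two_ree hK S).2 z (hS (Subgroup.mem_zpowers z))
  have : orderOf z ∣ 2 := orderOf_dvd_of_pow_eq_one (by rw [pow_two, hzz])
  rw [hoz] at this
  omega

/-- the same for any group isomorphic to `²G₂(q)` -/
theorem no_quad_ree (hm : 1 ≤ m) (hK : Fintype.card K = 3 ^ (2 * m + 1))
    {X : Type*} [Group X] (e : X ≃* ↥(twistedG2 K (3 ^ m)))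
    {V : Type*} [CommGroup V] [Finite V] (hV : ∀ v : V, v ^ 3 = 1) (θ : X →* MulAut V)
    (hθ : Function.Injective θ) (x : X) (hx : QuadM (θ x)) : x = 1 := by
  have h := no_quad_ree_aux hm hK hV (θ.comp e.symm.toMonoidHom)
    (hθ.comp e.symm.injective) (e x) (by
      show QuadM (θ (e.symm (e x)))
      rw [MulEquiv.symm_apply_apply]; exact hx)
  rw [← map_one e] at h
  exact e.injective h

end Ree

end Cfsg.Agent.Helper6.Quad
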