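import Cfsg.Agent.Helper6.Quad3
import Cfsg.Agent.Helper6.Quad4
import Cfsg.Prelude.Def_LocalEven

/-!
Helper6: no quadratic action in characteristic `p` for `PSL₂(pⁿ)` (`p` odd) and for the Ree groups (`p = 3`).
-/

set_option autoImplicit false

namespace Cfsg.Agent.Helper6.Quad

open scoped IsMulCommutative commutatorElement
open Cfsg.Agent.Helper97.QuadLin

theorem charP_of_card {F : Type*} [Field F] [Fintype F] {p n : ℕ} [Fact p.Prime]
    (h : Fintype.card F = p ^ n) : CharP F p := by
  obtain ⟨r, hr⟩ := CharP.exists F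
  have := hr
  obtain ⟨k, hrp, hk⟩ := FiniteField.card F r
  have h1 : r ∣ p ^ n := by
    rw [← h, hk]
    exact dvd_pow_self r k.ne_zero
  have h2 : r ∣ p := hrp.dvd_of_dvd_pow h1
  have h3 : r = p := (Nat.prime_dvd_prime_iff_eq hrp Fact.out).mp h2
  rw [← h3]
  exact hr

theorem no_quad_main {G : Type*} [Group G] [Finite G] {p : ℕ} [Fact p.Prime] (V H : Subgroup G)
    (hV : Cfsg.IsElementaryAbelian p V) (hHV : H ≤ Subgroup.normalizer (V : Set G))
    [hn : ((Subgroup.centralizer (V : Set G)).subgroupOf H).Normal]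
    (hq : (∃ (F : Type) (_ : Field F) (_ : Fintype F) (n : ℕ), Fintype.card F = p ^ n ∧
        Odd (Fintype.card F) ∧
        Nonempty (↥H ⧸ (Subgroup.centralizer (V : Set G)).subgroupOf H ≃*
          Matrix.ProjectiveSpecialLinearGroup (Fin 2) F)) ∨
      (p = 3 ∧ Cfsg.Lie.IsoRee (↥H ⧸ (Subgroup.centralizer (V : Set G)).subgroupOf H)))
    (A : Subgroup G) (hA : A ≤ H) (hquad : ⁅⁅V, A⁆, A⁆ = ⊥) : ⁅V, A⁆ = ⊥ := by
  haveI : IsMulCommutative V := hV.1
  let θ : H →* MulAut V := V.normalizerMonoidHom.comp (Subgroup.inclusion hHV)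
  have hθa : ∀ (h : H) (v : V), ((θ h v : V) : G) = (h : G) * v * (h : G)⁻¹ := fun _ _ => rfl
  have hker : ∀ h : H, θ h = 1 ↔ h ∈ (Subgroup.centralizer (V : Set G)).subgroupOf H := by
    intro h
    rw [Subgroup.mem_subgroupOf, Subgroup.mem_centralizer_iff]
    constructor
    · intro hh v hv
      have := congrArg (fun f : MulAut V => ((f ⟨v, hv⟩ : V) : G)) hh
      simp only [hθa, MulAut.one_apply] at this
      calc v * (h : G) = ((h : G) * v * (h : G)⁻¹) * h := by rw [this]
        _ = h * v := by group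
    · intro hh
      apply MulEquiv.ext
      intro v
      apply Subtype.ext
      rw [hθa, MulAut.one_apply, ← hh v v.2]
      group
  let θq : H ⧸ (Subgroup.centralizer (V : Set G)).subgroupOf H →* MulAut V :=
    QuotientGroup.lift _ θ (fun h hh => MonoidHom.mem_ker.2 ((hker h).2 hh))
  have hθq : Function.Injective θq := by
    rw [injective_iff_map_eq_one]
    intro z hz
    obtain ⟨h, rfl⟩ := QuotientGroup.mk_surjective z
    have hz' : θ h = 1 := hz
    exact (QuotientGroup.eq_one_iff h).2 ((hker h).1 hz')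
  have hVp : ∀ v : V, v ^ p = 1 := fun v => Subtype.ext (hV.2 v v.2)
  have key : ∀ x : H ⧸ (Subgroup.centralizer (V : Set G)).subgroupOf H, QuadM (θq x) → x = 1 := by
    intro x hx
    rcases hq with ⟨F, iF, iFt, n, hcard, hodd, ⟨e⟩⟩ | ⟨hp3, K, iK, iKt, m, hm, hK, ⟨e⟩⟩
    · have hp : p ≠ 2 := by
        rintro rfl
        rcases n with _ | n
        · have := Fintype.one_lt_card (α := F)
          omega
        · rw [hcard, pow_succ] at hodd
          rw [Nat.odd_iff] at hodd
          omega
      haveI : CharP F p := charP_of_card hcard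
      exact no_quad_psl2 hp e hVp θq hθq x hx
    · subst hp3
      exact no_quad_ree hm hK e hVp θq hθq x hx
  have hAC : A ≤ Subgroup.centralizer (V : Set G) := by
    intro a ha
    have haH := hA ha
    have hqa : ⁅⁅V, Subgroup.zpowers a⁆, Subgroup.zpowers a⁆ = ⊥ := by
      rw [eq_bot_iff, ← hquad]
      have hz : Subgroup.zpowers a ≤ A := Subgroup.zpowers_le.2 ha
      exact Subgroup.commutator_mono (Subgroup.commutator_mono le_rfl hz) hz
    have hQ : QuadM (θq (QuotientGroup.mk ⟨a, haH⟩)) := by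
      intro v
      show θ ⟨a, haH⟩ (θ ⟨a, haH⟩ v / v) = θ ⟨a, haH⟩ v / v
      apply Subtype.ext
      rw [hθa, Subgroup.coe_div, hθa, div_eq_mul_inv]
      exact conj_comm_eq_of_quadratic V a hqa v v.2
    have := key _ hQ
    rw [QuotientGroup.eq_one_iff, Subgroup.mem_subgroupOf] at this
    exact this
  rw [Subgroup.commutator_eq_bot_iff_le_centralizer, Subgroup.le_centralizer_iff]
  exact hAC

end Cfsg.Agent.Helper6.Quad
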