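import Cfsg.Agent.Helper18.ChevDiag
import Cfsg.Agent.Helper18.Conj
import Cfsg.Prelude.Def_LieTwisted

/-!
Helper6: reduction modulo 3 in helper18's kernel calculus, and the involution of the torus of `²G₂` as a product of
four Ree words with parameters in the prime field.
-/

set_option autoImplicit false

namespace Cfsg.Agent.Helper6.Ree

open Cfsg Cfsg.Lie Cfsg.Agent.Helper18

/-- reduce the coefficients of a polynomial modulo 3 -/
def pmod3 (p : Poly) : Poly := p.foldr (fun m acc => pinsert (m.1 % 3) m.2 acc) []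

/-- reduce the entries of a sparse vector modulo 3 -/
def vmod3 (v : SVec) : SVec := v.foldr (fun ip acc => vinsert ip.1 (pmod3 ip.2) acc) []

section Eval
variable {F : Type*} [Field F] [CharP F 3] (x y z : F)

theorem intCast_mod3 (c : ℤ) : ((c % 3 : ℤ) : F) = (c : F) := by
  have h := Int.emod_add_mul_ediv c 3
  have h3 : ((3 : ℤ) : F) = 0 := by
    have := CharP.cast_eq_zero F 3
    exact_mod_cast this
  calc ((c % 3 : ℤ) : F) = ((c % 3 : ℤ) : F) + ((3 : ℤ) : F) * ((c / 3 : ℤ) : F) := by rw [h3, zero_mul, add_zero]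
    _ = ((c % 3 + 3 * (c / 3) : ℤ) : F) := by push_cast; ring
    _ = (c : F) := by rw [h]

theorem peval_pmod3 (p : Poly) : peval x y z (pmod3 p) = peval x y z p := by
  induction p with
  | nil => rfl
  | cons m p ih =>
    have : pmod3 (m :: p) = pinsert (m.1 % 3) m.2 (pmod3 p) := rfl
    rw [this, peval_pinsert, ih, peval_cons, intCast_mod3]

theorem vec_vmod3 (v : SVec) (k : ℕ) : vec x y z (vmod3 v) k = vec x y z v k := by
  induction v with
  | nil => rfl
  | cons e v ih =>
    have : vmod3 (e :: v) = vinsert e.1 (pmod3 e.2) (vmod3 v) := rfl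
    rw [this, vec_vinsert, ih, vec_cons, peval_pmod3]

theorem vecD_vmod3 (D : ChevalleyDatum) (v : SVec) : vecD x y z D (vmod3 v) = vecD x y z D v := by
  funext i
  exact vec_vmod3 x y z v _

end Eval

/-- the four Ree words `U(0,0,1) V(0,0,1) U(1,1,1) V(-1,1,-1)` with constant parameters -/
def invWordP : List (ℕ × Poly) :=
  [(7, pconst 0), (6, pconst 0), (8, pconst 0), (9, pconst 1), (10, pconst 0), (11, pconst 1),
   (4, pconst 0), (5, pconst 0), (3, pconst 0), (2, pconst (-1)), (1, pconst 0), (0, pconst (-1)),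
   (7, pconst 1), (6, pconst 1), (8, pconst 2), (9, pconst 2), (10, pconst 1), (11, pconst 1),
   (4, pconst 1), (5, pconst 1), (3, pconst (-2)), (2, pconst 2), (1, pconst (-1)), (0, pconst 1)]

/-- the expected sign (`1` or `2 = -1`) at the coordinate with code `j` -/
def sgn (j : ℕ) : ℤ := if wt chevG2 8 j % 2 = 0 then 1 else 2

/-- column `j` of the product is `± e_j` modulo 3 -/
def checkInvCol (j : ℕ) : Bool :=
  decide (vmod3 (applyWord chevG2 invWordP [(j, pconst 1)]) = [(j, pconst (sgn j))])

/-- all columns -/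
def checkInv : Bool := (List.range 14).all fun j => checkInvCol j

set_option maxRecDepth 100000 in
theorem checkInv_true : checkInv = true := by decide +kernel

end Cfsg.Agent.Helper6.Ree
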