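import Cfsg.Agent.Helper6.Ree9
import Cfsg.Agent.Helper18.Ree.Order

/-!
Helper6: the centraliser in `²G₂(q)` of the involution `J = h_{a+b}(-1)` is `⟨J⟩ · L`, `L` the image of `SL₂(K)`.
-/

set_option autoImplicit false
set_option maxRecDepth 100000

namespace Cfsg.Agent.Helper6.Ree

open Cfsg Cfsg.Lie Cfsg.Agent.Helper18 Cfsg.Agent.Helper18.Ree Cfsg.Agent.Helper19.Twist
open Cfsg.Agent.Helper40.SL2Hom

section Basic
variable {K : Type*} [Field K]

/-- the involution of the torus -/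
noncomputable def Jg (K : Type*) [Field K] : GL chevG2.Idx K := hG chevG2 K 8 (-1)

theorem Jg_memH : Jg K ∈ chevG2.diagonalSubgroup K :=
  hG_mem chevG2 hG2 8 (by decide) _ (neg_ne_zero.mpr one_ne_zero)

theorem ch_Jg (s : ℕ) (hs : s < 12) : ch (Jg K) s = (-1 : K) ^ pairing' chevG2 8 s := by
  unfold ch Jg
  exact rootEntry_hG chevG2 hG2 8 s (by decide) hs (-1 : K) (neg_ne_zero.mpr one_ne_zero)

theorem Jg_comm_xGL (r : ℕ) (hr : r < 12) (he : Even (pairing' chevG2 8 r)) (t : K) :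
    Commute (Jg K) (xGL chevG2 K r t) := by
  have h1 := ch_conj (Jg K) Jg_memH r hr t
  rw [ch_Jg r hr, he.neg_one_zpow, one_mul] at h1
  exact h1

theorem even_8 : Even (pairing' chevG2 8 8) := by decide
theorem even_10 : Even (pairing' chevG2 8 10) := by decide
theorem even_3 : Even (pairing' chevG2 8 3) := by decide
theorem even_1 : Even (pairing' chevG2 8 1) := by decide

end Basic

section Comm
variable {K : Type*} [Field K] [CharP K 3]

theorem Jg_comm_xT (m : ℕ) (t : K) : Commute (Jg K) (xT K m t) := by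
  rw [xT_apply]
  exact (Jg_comm_xGL 8 (by decide) even_8 _).mul_right (Jg_comm_xGL 10 (by decide) even_10 _)

theorem Jg_comm_yT (m : ℕ) (t : K) : Commute (Jg K) (yT K m t) := by
  rw [yT_apply]
  exact (Jg_comm_xGL 3 (by decide) even_3 _).mul_right (Jg_comm_xGL 1 (by decide) even_1 _)

/-- `J` centralises the image of `SL₂(K)` -/
theorem Jg_comm_psi (m : ℕ) (g : Matrix.SpecialLinearGroup (Fin 2) K) : Commute (Jg K) (psiGL K m g) := by
  have h1 : psiGL K m g ∈ (psiGL K m).range := ⟨g, rfl⟩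
  unfold psiGL at h1
  rw [(relT (K := K) m).range_hom] at h1
  have h2 : Subgroup.closure (Set.range (xT K m) ∪ Set.range (yT K m)) ≤ Subgroup.centralizer {Jg K} := by
    rw [Subgroup.closure_le]
    rintro _ (⟨t, rfl⟩ | ⟨t, rfl⟩)
    · intro j hj
      rw [Set.mem_singleton_iff.mp hj]
      exact (Jg_comm_xT m t).eq
    · intro j hj
      rw [Set.mem_singleton_iff.mp hj]
      exact (Jg_comm_yT m t).eq
  exact (Subgroup.mem_centralizer_iff.mp (h2 h1) (Jg K) rfl)

theorem Jg_mem_twisted (m : ℕ) : Jg K ∈ twistedG2 K (3 ^ m) := hInv_mem (odd_three_pow m)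

theorem Jg_mem_T1 (m : ℕ) : Jg K ∈ T1 K m := ⟨Jg_memH, Jg_mem_twisted m⟩

omit [CharP K 3] in
theorem ch_Jg_6 : ch (Jg K) 6 = -1 := ch_hInv

end Comm

section Words
variable {K : Type*} [Field K] [Fintype K] {m : ℕ}

/-- conjugating a Ree word by a commuting element of `H¹` -/
theorem conj_word_eq (hK : Fintype.card K = 3 ^ (2 * m + 1)) [CharP K 3] (h : GL chevG2.Idx K) (hh : h ∈ T1 K m)
    (t u v : K)
    (hcomm : h * (((posSys (K := K)).word (3 ^ m) t u v : ↥(chevG2.group K)) : GL chevG2.Idx K) =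
      (((posSys (K := K)).word (3 ^ m) t u v : ↥(chevG2.group K)) : GL chevG2.Idx K) * h) :
    ch h 6 * t = t ∧ ch h 10 * u = u ∧ ch h 11 * v = v := by
  obtain ⟨σ, hσ'⟩ := exists_sigma hK
  have hσ : SigmaSpec m σ := hσ'
  obtain ⟨hmem, -⟩ := mem_FixS.mp (twistedG2_le_FixS hK hσ hh.2)
  obtain ⟨H, hH⟩ : ∃ H : ↥(chevG2.group K), H = ⟨h, hmem⟩ := ⟨_, rfl⟩
  have hconj : ∀ r < 12, ∀ a : K, H * XG r a = XG r (ch h r * a) * H :=
    fun r hr a => by rw [hH]; exact Subtype.ext (ch_conj h hh.1 r hr a)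
  have hW : H * (posSys (K := K)).word (3 ^ m) t u v =
      (posSys (K := K)).Xa (ch h 7 * t ^ 3 ^ m) * (posSys (K := K)).Xb (ch h 6 * t) *
        (posSys (K := K)).hh (ch h 8 * (t ^ (3 ^ m + 1) + u ^ 3 ^ m)) (ch h 9 * (t ^ (2 * 3 ^ m + 1) + v ^ 3 ^ m))
          (ch h 10 * u) (ch h 11 * v) * H := by
    unfold Sys.word Sys.hh
    have e := conj_mul (conj_mul (conj_mul (conj_mul (conj_mul (hconj 7 (by decide) (t ^ 3 ^ m))
      (hconj 6 (by decide) t)) (hconj 8 (by decide) (t ^ (3 ^ m + 1) + u ^ 3 ^ m)))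
      (hconj 9 (by decide) (t ^ (2 * 3 ^ m + 1) + v ^ 3 ^ m))) (hconj 10 (by decide) u)) (hconj 11 (by decide) v)
    rw [show (posSys (K := K)).Xa = XG 7 from rfl, show (posSys (K := K)).Xb = XG 6 from rfl,
      show (posSys (K := K)).Xab = XG 8 from rfl, show (posSys (K := K)).Xaab = XG 9 from rfl,
      show (posSys (K := K)).Xaaab = XG 10 from rfl, show (posSys (K := K)).Xaaabb = XG 11 from rfl, e]
    simp only [mul_assoc]
  have hcomm' : H * (posSys (K := K)).word (3 ^ m) t u v = (posSys (K := K)).word (3 ^ m) t u v * H := by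
    rw [hH]
    exact Subtype.ext hcomm
  rw [hW, (posSys (K := K)).word_eq] at hcomm'
  obtain ⟨-, e6, -, -, e10, e11⟩ :=
    word_like_injective (posSys (K := K)) posSys_uniq _ _ _ _ _ _ _ _ _ _ _ _ (mul_right_cancel hcomm')
  exact ⟨e6, e10, e11⟩

omit [Fintype K] in
theorem two_ne_zero_K [CharP K 3] : (2 : K) ≠ 0 := by
  rw [two_eq_neg_one]
  exact neg_ne_zero.mpr one_ne_zero

/-- the centraliser of `J` in `U¹` consists of the `x̃(s)` -/
theorem centralizer_U_Jg (hK : Fintype.card K = 3 ^ (2 * m + 1)) [CharP K 3] (u : GL chevG2.Idx K)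
    (hu : u ∈ chevG2.posUnipotent K ⊓ twistedG2 K (3 ^ m)) (hc : Jg K * u = u * Jg K) :
    ∃ s : K, u = xT K m s := by
  obtain ⟨σ, hσ'⟩ := exists_sigma hK
  have hσ : SigmaSpec m σ := hσ'
  obtain ⟨t, s, v, hg⟩ := fixed_posUnipotent hK hσ u hu.1 (twistedG2_le_FixS hK hσ hu.2)
  rw [hg] at hc
  obtain ⟨e6, -, e11⟩ := conj_word_eq hK (Jg K) (Jg_mem_T1 m) t s v hc
  have h7 : ch (Jg K) 7 = -1 := by
    rw [ch_sigma hK (Jg K) (Jg_mem_T1 m), ch_Jg_6, (odd_three_pow m).neg_one_pow]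
  have h11 : ch (Jg K) 11 = -1 := by
    rw [ch_11 (Jg K) Jg_memH, h7, ch_Jg_6]
    norm_num
  have t0 : t = 0 := by
    rw [ch_Jg_6] at e6
    have : (2 : K) * t = 0 := by linear_combination -e6
    rcases mul_eq_zero.mp this with h | h
    · exact absurd h two_ne_zero_K
    · exact h
  have v0 : v = 0 := by
    rw [h11] at e11
    have : (2 : K) * v = 0 := by linear_combination -e11
    rcases mul_eq_zero.mp this with h | h
    · exact absurd h two_ne_zero_K
    · exact h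
  refine ⟨s, ?_⟩
  rw [hg, t0, v0, xT_apply]
  have hθ : 3 ^ m ≠ 0 := pow_ne_zero m (by norm_num)
  unfold Sys.word
  simp only [zero_pow hθ, ne_eq, Nat.add_eq_zero_iff, one_ne_zero, and_false, not_false_eq_true, zero_pow,
    add_zero, zero_add]
  show ((XG 7 0 * XG 6 0 * XG 8 (s ^ 3 ^ m) * XG 9 0 * XG 10 s * XG 11 0 : ↥(chevG2.group K)) :
    GL chevG2.Idx K) = _
  simp only [XG_zero, mul_one, one_mul]
  rfl

end Words

end Cfsg.Agent.Helper6.Ree
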