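import Cfsg.Agent.Helper6.Ree10

/-!
Helper6: every element of `²G₂(q)` commuting with `J = h_{a+b}(-1)` is `J^ε l` with `l` in the image `L` of `SL₂(K)`.
-/

set_option autoImplicit false
set_option maxRecDepth 100000

namespace Cfsg.Agent.Helper6.Ree

open Cfsg Cfsg.Lie Cfsg.Agent.Helper18 Cfsg.Agent.Helper18.Ree Cfsg.Agent.Helper19.Twist
open Cfsg.Agent.Helper40.SL2Hom

section Torus
variable {K : Type*} [Field K] [Fintype K] {m : ℕ}

/-- every non-zero element is `± y²` -/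
theorem exists_sq_or_neg_sq (hK : Fintype.card K = 3 ^ (2 * m + 1)) (c : K) (hc : c ≠ 0) :
    ∃ y : K, y ≠ 0 ∧ (c = y ^ 2 ∨ c = -y ^ 2) := by
  obtain ⟨k, hk⟩ := exists_four_mul m
  have hk1 : 1 ≤ k := by
    rcases k with _ | k
    · omega
    · omega
  have hq : c ^ (3 ^ (2 * m + 1)) = c := pow_card_eq hK _
  have h1 : (c ^ (2 * k - 1)) ^ 2 = 1 ^ 2 := by
    have e : c ^ (3 ^ (2 * m + 1)) = (c ^ (2 * k - 1)) ^ 2 * c := by
      rw [← pow_mul, ← pow_succ]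
      congr 1
      omega
    rw [e] at hq
    have : (c ^ (2 * k - 1)) ^ 2 * c = 1 * c := by rw [hq, one_mul]
    rw [one_pow]
    exact mul_right_cancel₀ hc this
  have h2 : c ^ (2 * k) = c ^ (2 * k - 1) * c := by
    rw [← pow_succ]
    congr 1
    omega
  refine ⟨c ^ k, pow_ne_zero _ hc, ?_⟩
  have hy2 : (c ^ k) ^ 2 = c ^ (2 * k) := by rw [← pow_mul, mul_comm]
  rcases sq_eq_sq_iff_eq_or_eq_neg.mp h1 with h | h
  · left
    rw [hy2, h2, h, one_mul]
  · right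
    rw [hy2, h2, h]
    ring

/-- the elements of `H¹` are `h̃(s)` or `J h̃(s)` -/
theorem T1_cases (hK : Fintype.card K = 3 ^ (2 * m + 1)) [CharP K 3] (g : GL chevG2.Idx K) (hg : g ∈ T1 K m) :
    ∃ s : K, s ≠ 0 ∧ (g = hG chevG2 K 8 (s ^ 3 ^ m) * hG chevG2 K 10 s ∨
      g = Jg K * (hG chevG2 K 8 (s ^ 3 ^ m) * hG chevG2 K 10 s)) := by
  obtain ⟨y, hy0, hy⟩ := exists_sq_or_neg_sq hK (ch g 6) (ch_ne_zero g hg.1 6)
  refine ⟨y ^ (3 * 3 ^ m + 1), pow_ne_zero _ hy0, ?_⟩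
  have e1 := phi_tE hK y hy0
  rcases hy with h | h
  · left
    have : (⟨g, hg⟩ : ↥(T1 K m)) = tE K m (y ^ (3 * 3 ^ m + 1)) (pow_ne_zero _ hy0) := by
      apply phi_injective hK
      apply Units.ext
      rw [e1, phi_val]
      exact h
    exact congrArg Subtype.val this
  · right
    have : (⟨g, hg⟩ : ↥(T1 K m)) = tJ K m * tE K m (y ^ (3 * 3 ^ m + 1)) (pow_ne_zero _ hy0) := by
      apply phi_injective hK
      apply Units.ext
      rw [map_mul, Units.val_mul, e1, phi_tJ, phi_val]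
      rw [h]
      ring
    exact congrArg Subtype.val this

end Torus

section Weyl
variable {K : Type*} [Field K]

/-- the representative `n' = n_{a+b}(1) n_{3a+b}(1)` of `w₀` -/
noncomputable def nP (K : Type*) [Field K] : GL chevG2.Idx K := nG chevG2 K 8 1 * nG chevG2 K 10 1

theorem nG_mem_monomial (r : ℕ) (hr : r < 12) (t : K) (ht : t ≠ 0) : nG chevG2 K r t ∈ chevG2.monomialSubgroup K :=
  Cfsg.Agent.S1043.nWordGL_mem chevG2 _ (triOK_of_mem chevG2 hG2) r hr t ht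

theorem nP_mem_monomial : nP K ∈ chevG2.monomialSubgroup K :=
  mul_mem (nG_mem_monomial 8 (by decide) 1 one_ne_zero) (nG_mem_monomial 10 (by decide) 1 one_ne_zero)

theorem yT_neg_one_ne_one [CharP K 3] (m : ℕ) : yT K m (-1) ≠ 1 := by
  intro h
  rw [yT_apply] at h
  have h1 : xGL chevG2 K 3 ((-1 : K) ^ 3 ^ m) = (xGL chevG2 K 1 (-1 : K))⁻¹ := eq_inv_of_mul_eq_one_left h
  rw [xGL_inv' chevG2 hG2, (odd_three_pow m).neg_one_pow] at h1
  have := Cfsg.Agent.Helper19.Twist.xGL_root_inj chevG2 _ (triOK_of_mem chevG2 hG2) rootInjOK_G2 3 1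
    (by decide) (by decide) (-1 : K) _ (neg_ne_zero.mpr one_ne_zero) h1
  omega

theorem yT_mem_neg [CharP K 3] (m : ℕ) (t : K) : yT K m t ∈ chevG2.negUnipotent K := by
  rw [yT_apply]
  exact mul_mem (xGL_mem_negUnipotent 3 (by decide) _) (xGL_mem_negUnipotent 1 (by decide) _)

theorem xT_mem_pos [CharP K 3] (m : ℕ) (t : K) : xT K m t ∈ chevG2.posUnipotent K := by
  rw [xT_apply]
  exact mul_mem (Cfsg.Agent.Helper18.Ree.xGL_mem_posUnipotent 8 (by omega) _)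
    (Cfsg.Agent.Helper18.Ree.xGL_mem_posUnipotent 10 (by omega) _)

theorem nP_eq_psi [CharP K 3] (m : ℕ) : nP K = psiGL K m W := (psiGL_W m).symm

/-- `n' ∉ B` -/
theorem nP_not_mem_borel [CharP K 3] : nP K ∉ chevG2.borelSubgroup K := by
  intro hB
  have hc := (relT (K := K) 0).conj 1 1 one_ne_zero
  rw [wT_eq, one_pow] at hc
  have e : -((1 : K)⁻¹ * (1 : K)⁻¹ * 1) = -1 := by norm_num
  rw [e] at hc
  have h1 : yT K 0 (-1) ∈ chevG2.borelSubgroup K ⊓ chevG2.negUnipotent K := by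
    refine Subgroup.mem_inf.mpr ⟨?_, yT_mem_neg 0 _⟩
    rw [← hc]
    exact mul_mem (mul_mem hB (posUnipotent_le_borel chevG2 hG2 (xT_mem_pos 0 1))) (inv_mem hB)
  rw [borel_inf_neg, Subgroup.mem_bot] at h1
  exact yT_neg_one_ne_one 0 h1

end Weyl

end Cfsg.Agent.Helper6.Ree
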