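import Cfsg.Agent.Helper6.Ree11

/-!
Helper6: `C_{²G₂(q)}(J) = ⟨J⟩ L`.
-/

set_option autoImplicit false
set_option maxRecDepth 100000

namespace Cfsg.Agent.Helper6.Ree

open Cfsg Cfsg.Lie Cfsg.Agent.Helper18 Cfsg.Agent.Helper18.Ree Cfsg.Agent.Helper19.Twist
open Cfsg.Agent.Helper40.SL2Hom

section Range
variable {K : Type*} [Field K] [CharP K 3]

theorem xT_mem_range (m : ℕ) (t : K) : xT K m t ∈ (psiGL K m).range := ⟨U t, psiGL_U m t⟩

theorem yT_mem_range (m : ℕ) (t : K) : yT K m t ∈ (psiGL K m).range := ⟨L t, psiGL_L m t⟩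

theorem wT_mem_range (m : ℕ) (t : K) : w (xT K m) (yT K m) t ∈ (psiGL K m).range :=
  mul_mem (mul_mem (xT_mem_range m _) (yT_mem_range m _)) (xT_mem_range m _)

theorem hT_mem_range (m : ℕ) (t : K) : hG chevG2 K 8 (t ^ 3 ^ m) * hG chevG2 K 10 t ∈ (psiGL K m).range := by
  rw [← hT_eq]
  exact mul_mem (wT_mem_range m _) (inv_mem (wT_mem_range m _))

theorem nP_mem_range (m : ℕ) : nP K ∈ (psiGL K m).range := ⟨W, (nP_eq_psi m).symm⟩

theorem Jg_comm_range (m : ℕ) (l : GL chevG2.Idx K) (hl : l ∈ (psiGL K m).range) : Jg K * l = l * Jg K := by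
  obtain ⟨g, rfl⟩ := hl
  exact (Jg_comm_psi m g).eq

end Range

section Decomp
variable {K : Type*} [Field K] [Fintype K] {m : ℕ}

/-- the Borel part of the centraliser -/
theorem centralizer_borel (hK : Fintype.card K = 3 ^ (2 * m + 1)) [CharP K 3]
    {σ : ↥(chevG2.group K) ≃* ↥(chevG2.group K)} (hσ : SigmaSpec m σ) (b : GL chevG2.Idx K)
    (hb : b ∈ chevG2.borelSubgroup K ⊓ twistedG2 K (3 ^ m)) (hc : Jg K * b = b * Jg K) :
    ∃ l ∈ (psiGL K m).range, b = l ∨ b = Jg K * l := by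
  obtain ⟨u, hu, h, hh, rfl⟩ := borel_twisted_decomp hK hσ b hb
  -- `J` commutes with `h`
  have hJh : Jg K * h = h * Jg K := by
    have e : (⟨Jg K, Jg_mem_T1 m⟩ : ↥(T1 K m)) * ⟨h, hh⟩ = ⟨h, hh⟩ * ⟨Jg K, Jg_mem_T1 m⟩ := by
      apply phi_injective hK
      rw [map_mul, map_mul, mul_comm]
    exact congrArg Subtype.val e
  have hJu : Jg K * u = u * Jg K := by
    have : Jg K * u * h = u * Jg K * h := by
      calc Jg K * u * h = Jg K * (u * h) := by group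
        _ = u * h * Jg K := hc
        _ = u * (h * Jg K) := by group
        _ = u * (Jg K * h) := by rw [hJh]
        _ = u * Jg K * h := by group
    exact mul_right_cancel this
  obtain ⟨s, rfl⟩ := centralizer_U_Jg hK u hu hJu
  obtain ⟨s', -, hs' | hs'⟩ := T1_cases hK h hh
  · exact ⟨xT K m s * h, mul_mem (xT_mem_range m s) (hs' ▸ hT_mem_range m s'), Or.inl rfl⟩
  · refine ⟨xT K m s * (hG chevG2 K 8 (s' ^ 3 ^ m) * hG chevG2 K 10 s'),
      mul_mem (xT_mem_range m s) (hT_mem_range m s'), Or.inr ?_⟩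
    rw [hs', ← mul_assoc, ← mul_assoc, ← hJu]
    group

/-- every element of `²G₂(q)` commuting with `J` lies in `L ∪ J L` -/
theorem centralizer_decomp (hK : Fintype.card K = 3 ^ (2 * m + 1)) [CharP K 3] (g : GL chevG2.Idx K)
    (hg : g ∈ twistedG2 K (3 ^ m)) (hc : Jg K * g = g * Jg K) :
    ∃ l ∈ (psiGL K m).range, g = l ∨ g = Jg K * l := by
  obtain ⟨σ, hσ'⟩ := exists_sigma hK
  have hσ : SigmaSpec m σ := hσ'
  have hHB := diagonal_le_borel (F := K) chevG2 hG2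
  have hUB := posUnipotent_le_borel (F := K) chevG2 hG2
  rcases G1_cases hK hσ g hg with hB | ⟨u₂, hu₂, n₁, hn₁, hθ₁, u₁, hu₁, e⟩
  · exact centralizer_borel hK hσ g ⟨hB, hg⟩ hc
  · -- the representative `n'`
    have hnPG : nP K ∈ twistedG2 K (3 ^ m) := by
      rw [nP_eq_psi m]
      exact psiGL_mem m W
    have hθP : thetaG2 (⟨nP K, nP_mem_monomial⟩ : ↥(chevG2.monomialSubgroup K)) = w0G2 := by
      rcases theta_of_mem hK hσ ⟨nP K, nP_mem_monomial⟩ hnPG with h | h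
      · exfalso
        exact nP_not_mem_borel (hHB ((thetaG2_eq_one_iff _).mp h))
      · exact h
    have hy : (n₁ : GL chevG2.Idx K) * (nP K)⁻¹ ∈ chevG2.diagonalSubgroup K := by
      apply mem_diag_of_theta _ (mul_mem n₁.2 (inv_mem nP_mem_monomial))
      rw [theta_mul' _ _ n₁.2 (inv_mem nP_mem_monomial), theta_inv' _ nP_mem_monomial]
      show thetaG2 n₁ * (thetaG2 _)⁻¹ = 1
      rw [hθ₁, hθP, mul_inv_cancel]
    set b : GL chevG2.Idx K := u₂ * ((n₁ : GL chevG2.Idx K) * (nP K)⁻¹) with hbdef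
    have hbB : b ∈ chevG2.borelSubgroup K := mul_mem (hUB hu₂.1) (hHB hy)
    have hbG : b ∈ twistedG2 K (3 ^ m) := mul_mem hu₂.2 (mul_mem hn₁ (inv_mem hnPG))
    have eg : g = b * nP K * u₁ := by
      rw [e, hbdef]
      group
    have hJB : Jg K ∈ chevG2.borelSubgroup K := hHB Jg_memH
    have hJn : Jg K * nP K = nP K * Jg K := Jg_comm_range m _ (nP_mem_range m)
    have hb' : Jg K * b * (Jg K)⁻¹ ∈ chevG2.borelSubgroup K := mul_mem (mul_mem hJB hbB) (inv_mem hJB)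
    have hu' : Jg K * u₁ * (Jg K)⁻¹ ∈ chevG2.posUnipotent K :=
      (Subgroup.mem_normalizer_iff.mp (diagonalSubgroup_le_normalizer_posUnipotent chevG2 hG2 Jg_memH) u₁).mp hu₁.1
    have e2 : Jg K * b * (Jg K)⁻¹ * nP K * (Jg K * u₁ * (Jg K)⁻¹) = b * nP K * u₁ := by
      have hJn' : (Jg K)⁻¹ * nP K = nP K * (Jg K)⁻¹ := by
        have := hJn
        calc (Jg K)⁻¹ * nP K = (Jg K)⁻¹ * (nP K * Jg K) * (Jg K)⁻¹ := by group
          _ = (Jg K)⁻¹ * (Jg K * nP K) * (Jg K)⁻¹ := by rw [this]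
          _ = nP K * (Jg K)⁻¹ := by group
      calc Jg K * b * (Jg K)⁻¹ * nP K * (Jg K * u₁ * (Jg K)⁻¹)
          = Jg K * b * ((Jg K)⁻¹ * nP K) * (Jg K * u₁ * (Jg K)⁻¹) := by group
        _ = Jg K * b * (nP K * (Jg K)⁻¹) * (Jg K * u₁ * (Jg K)⁻¹) := by rw [hJn']
        _ = Jg K * (b * nP K * u₁) * (Jg K)⁻¹ := by group
        _ = Jg K * g * (Jg K)⁻¹ := by rw [← eg]
        _ = g * Jg K * (Jg K)⁻¹ := by rw [hc]
        _ = b * nP K * u₁ := by rw [mul_inv_cancel_right, eg]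
    obtain ⟨e3, e4⟩ := bigcell_unique (⟨nP K, nP_mem_monomial⟩ : ↥(chevG2.monomialSubgroup K)) hθP hb' hbB hu'
      hu₁.1 e2
    have hcb : Jg K * b = b * Jg K := by
      calc Jg K * b = Jg K * b * (Jg K)⁻¹ * Jg K := by group
        _ = b * Jg K := by rw [e3]
    have hcu : Jg K * u₁ = u₁ * Jg K := by
      calc Jg K * u₁ = Jg K * u₁ * (Jg K)⁻¹ * Jg K := by group
        _ = u₁ * Jg K := by rw [e4]
    obtain ⟨s, hs⟩ := centralizer_U_Jg hK u₁ hu₁ hcu
    obtain ⟨l, hl, hbl | hbl⟩ := centralizer_borel hK hσ b ⟨hbB, hbG⟩ hcb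
    · refine ⟨l * nP K * xT K m s, mul_mem (mul_mem hl (nP_mem_range m)) (xT_mem_range m s), Or.inl ?_⟩
      rw [eg, hbl, hs]
    · refine ⟨l * nP K * xT K m s, mul_mem (mul_mem hl (nP_mem_range m)) (xT_mem_range m s), Or.inr ?_⟩
      rw [eg, hbl, hs]
      group

end Decomp

end Cfsg.Agent.Helper6.Ree
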