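import Cfsg.Agent.Helper6.Ree12

/-!
Helper6: the elements of `SL₂(K)` mapped into `H` by `ψ`; the kernel of `ψ` is `{±1}` and `J ∉ L`.
-/

set_option autoImplicit false
set_option maxRecDepth 100000

namespace Cfsg.Agent.Helper6.Ree

open Cfsg Cfsg.Lie Cfsg.Agent.Helper18 Cfsg.Agent.Helper18.Ree Cfsg.Agent.Helper19.Twist
open Cfsg.Agent.Helper40.SL2Hom

section Ker
variable {K : Type*} [Field K] [CharP K 3]

theorem hT_memH (m : ℕ) (t : K) (ht : t ≠ 0) :
    hG chevG2 K 8 (t ^ 3 ^ m) * hG chevG2 K 10 t ∈ chevG2.diagonalSubgroup K :=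
  mul_mem (hG_mem chevG2 hG2 8 (by decide) _ (pow_ne_zero _ ht)) (hG_mem chevG2 hG2 10 (by decide) _ ht)

theorem xT_eq_one (m : ℕ) (s : K) (h : xT K m s = 1) : s = 0 := by
  by_contra hs
  rw [xT_apply] at h
  have h1 : xGL chevG2 K 8 (s ^ 3 ^ m) = (xGL chevG2 K 10 s)⁻¹ := eq_inv_of_mul_eq_one_left h
  rw [xGL_inv' chevG2 hG2] at h1
  have := Cfsg.Agent.Helper19.Twist.xGL_root_inj chevG2 _ (triOK_of_mem chevG2 hG2) rootInjOK_G2 8 10
    (by decide) (by decide) (s ^ 3 ^ m) _ (pow_ne_zero _ hs) h1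
  omega

/-- an element of `SL₂(K)` mapped into `H` is diagonal -/
theorem diag_of_psi_memH (m : ℕ) (g : Matrix.SpecialLinearGroup (Fin 2) K)
    (hg : psiGL K m g ∈ chevG2.diagonalSubgroup K) :
    g 1 0 = 0 ∧ g 0 1 = 0 ∧ g 0 0 ≠ 0 ∧
      psiGL K m g = hG chevG2 K 8 (g 0 0 ^ 3 ^ m) * hG chevG2 K 10 (g 0 0) := by
  have hHB := diagonal_le_borel (F := K) chevG2 hG2
  have hUB := posUnipotent_le_borel (F := K) chevG2 hG2
  have hdet := sl2_det g
  rw [psiGL_apply] at hg ⊢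
  unfold Cfsg.Agent.Helper40.SL2Hom.phi at hg ⊢
  by_cases hc : g 1 0 = 0
  · rw [if_pos hc] at hg ⊢
    have ha : g 0 0 ≠ 0 := by
      intro h0
      rw [h0, hc] at hdet
      simp at hdet
    rw [hT_eq] at hg ⊢
    have h1 : xT K m (g 0 0 * g 0 1) ∈ chevG2.posUnipotent K ⊓ chevG2.diagonalSubgroup K := by
      refine Subgroup.mem_inf.mpr ⟨xT_mem_pos m _, ?_⟩
      have : xT K m (g 0 0 * g 0 1) = xT K m (g 0 0 * g 0 1) *
          (hG chevG2 K 8 (g 0 0 ^ 3 ^ m) * hG chevG2 K 10 (g 0 0)) *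
          (hG chevG2 K 8 (g 0 0 ^ 3 ^ m) * hG chevG2 K 10 (g 0 0))⁻¹ := by group
      rw [this]
      exact mul_mem hg (inv_mem (hT_memH m _ ha))
    rw [pos_inf_diag, Subgroup.mem_bot] at h1
    have h2 := xT_eq_one m _ h1
    have hb : g 0 1 = 0 := by
      rcases mul_eq_zero.mp h2 with h | h
      · exact absurd h ha
      · exact h
    refine ⟨hc, hb, ha, ?_⟩
    rw [h1, one_mul]
  · exfalso
    rw [if_neg hc, hT_eq, wT_eq, one_pow] at hg
    have hc' : -(g 1 0)⁻¹ ≠ 0 := neg_ne_zero.mpr (inv_ne_zero hc)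
    apply nP_not_mem_borel (K := K)
    have : nP K = (hG chevG2 K 8 ((-(g 1 0)⁻¹) ^ 3 ^ m) * hG chevG2 K 10 (-(g 1 0)⁻¹))⁻¹ *
        (xT K m (g 0 0 / g 1 0))⁻¹ *
        (xT K m (g 0 0 / g 1 0) * (hG chevG2 K 8 ((-(g 1 0)⁻¹) ^ 3 ^ m) * hG chevG2 K 10 (-(g 1 0)⁻¹)) *
          (nG chevG2 K 8 1 * nG chevG2 K 10 1) * xT K m (g 1 1 / g 1 0)) *
        (xT K m (g 1 1 / g 1 0))⁻¹ := by
      unfold nP
      group
    rw [this]
    exact mul_mem (mul_mem (mul_mem (inv_mem (hHB (hT_memH m _ hc'))) (inv_mem (hUB (xT_mem_pos m _))))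
      (hHB hg)) (inv_mem (hUB (xT_mem_pos m _)))

end Ker

section Tor
variable {K : Type*} [Field K] [Fintype K] {m : ℕ}

/-- `h̃(s) = 1` only for `s = ±1` -/
theorem hT_eq_one (hK : Fintype.card K = 3 ^ (2 * m + 1)) (s : K) (hs : s ≠ 0)
    (h : hG chevG2 K 8 (s ^ 3 ^ m) * hG chevG2 K 10 s = 1) : s = 1 ∨ s = -1 := by
  have h1 := ch_hJ (s ^ 3 ^ m) s (pow_ne_zero _ hs) hs
  rw [h, ch_one] at h1
  have h2 : (s ^ 3 ^ m) ^ 3 = s := by
    have := congrArg (· * s) h1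
    simp only [one_mul, mul_assoc, inv_mul_cancel₀ hs, mul_one] at this
    exact this.symm
  have hq : s ^ (3 ^ (2 * m + 1)) = s := pow_card_eq hK s
  have h3 : s ^ 3 ^ m = s := by
    have e : ((s ^ 3 ^ m) ^ 3) ^ 3 ^ m = s ^ (3 ^ (2 * m + 1)) := by
      rw [← pow_mul, ← pow_mul]
      congr 1
      ring
    rw [h2, hq] at e
    exact e
  rw [h3] at h2
  have h4 : s * (s ^ 2 - 1) = 0 := by linear_combination h2
  rcases mul_eq_zero.mp h4 with h5 | h5
  · exact absurd h5 hs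
  · have : (s - 1) * (s + 1) = 0 := by linear_combination h5
    rcases mul_eq_zero.mp this with h6 | h6
    · left; linear_combination h6
    · right; linear_combination h6

/-- `h̃(s) ≠ J` -/
theorem hT_ne_Jg (hK : Fintype.card K = 3 ^ (2 * m + 1)) (s : K) (hs : s ≠ 0)
    (h : hG chevG2 K 8 (s ^ 3 ^ m) * hG chevG2 K 10 s = Jg K) : False := by
  have := charP_three hK
  have h1 := ch_hJ (s ^ 3 ^ m) s (pow_ne_zero _ hs) hs
  rw [h, ch_Jg_6] at h1
  have h2 : (s ^ 3 ^ m) ^ 3 = -s := by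
    have := congrArg (· * s) h1
    simp only [mul_assoc, inv_mul_cancel₀ hs, mul_one] at this
    rw [← this]
    ring
  have hq : s ^ (3 ^ (2 * m + 1)) = s := pow_card_eq hK s
  have h3 : s = -(s ^ 3 ^ m) := by
    have e : ((s ^ 3 ^ m) ^ 3) ^ 3 ^ m = s ^ (3 ^ (2 * m + 1)) := by
      rw [← pow_mul, ← pow_mul]
      congr 1
      ring
    rw [h2, hq, (odd_three_pow m).neg_pow] at e
    exact e.symm
  have h3' : s ^ 3 ^ m = -s := by linear_combination h3
  rw [h3'] at h2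
  have h4 : s * (s ^ 2 - 1) = 0 := by linear_combination -h2
  have h5 : s = 1 ∨ s = -1 := by
    rcases mul_eq_zero.mp h4 with h5 | h5
    · exact absurd h5 hs
    · have : (s - 1) * (s + 1) = 0 := by linear_combination h5
      rcases mul_eq_zero.mp this with h6 | h6
      · left; linear_combination h6
      · right; linear_combination h6
  have h6 : s ^ 3 ^ m = s := by
    rcases h5 with rfl | rfl
    · rw [one_pow]
    · rw [(odd_three_pow m).neg_one_pow]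
  rw [h6] at h3'
  have h7 : (2 : K) * s = 0 := by linear_combination h3'
  rcases mul_eq_zero.mp h7 with h8 | h8
  · exact two_ne_zero_K h8
  · exact hs h8

end Tor

end Cfsg.Agent.Helper6.Ree
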