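import Cfsg.Agent.Helper6.Ree13

/-!
Helper6: `C_{G¹}(J) ≃* Z₂ × PSL₂(K)` for the small Ree group.
-/

set_option autoImplicit false
set_option maxRecDepth 100000

namespace Cfsg.Agent.Helper6.Ree

open Cfsg Cfsg.Lie Cfsg.Agent.Helper18 Cfsg.Agent.Helper18.Ree Cfsg.Agent.Helper19.Twist

section Gen
variable {G : Type*} [Group G]

theorem zmod2_cases (z : ZMod 2) : z = 0 ∨ z = 1 := by
  revert z
  decide

/-- the homomorphism `Z₂ → G` picking an involution -/
noncomputable def zeta2 (a : G) (ha : a * a = 1) : Multiplicative (ZMod 2) →* G where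
  toFun z := if Multiplicative.toAdd z = 0 then 1 else a
  map_one' := by simp
  map_mul' := by
    intro x y
    have h11 : (1 : ZMod 2) + 1 = 0 := by decide
    rcases zmod2_cases (Multiplicative.toAdd x) with h1 | h1 <;>
      rcases zmod2_cases (Multiplicative.toAdd y) with h2 | h2 <;>
      simp [toAdd_mul, h1, h2, ha, h11]

theorem zeta2_apply (a : G) (ha : a * a = 1) (z : Multiplicative (ZMod 2)) :
    zeta2 a ha z = if Multiplicative.toAdd z = 0 then 1 else a := rfl

theorem mult_zmod2_cases (z : Multiplicative (ZMod 2)) : z = 1 ∨ z = Multiplicative.ofAdd 1 := by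
  rcases zmod2_cases (Multiplicative.toAdd z) with h | h
  · left
    exact Multiplicative.toAdd.injective h
  · right
    exact Multiplicative.toAdd.injective h

theorem zeta2_ofAdd_one (a : G) (ha : a * a = 1) : zeta2 a ha (Multiplicative.ofAdd 1) = a := by
  rw [zeta2_apply]
  simp

theorem zeta2_cases (a : G) (ha : a * a = 1) (z : Multiplicative (ZMod 2)) :
    zeta2 a ha z = 1 ∨ zeta2 a ha z = a := by
  rcases mult_zmod2_cases z with rfl | rfl
  · left; exact map_one _
  · right; exact zeta2_ofAdd_one a ha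

end Gen

section Ker
variable {K : Type*} [Field K] [Fintype K] {m : ℕ}

/-- `h̃(±1) = 1` -/
theorem hT_of_sq_eq_one (hK : Fintype.card K = 3 ^ (2 * m + 1)) (r : K) (hr : r ^ 2 = 1) :
    hG chevG2 K 8 (r ^ 3 ^ m) * hG chevG2 K 10 r = 1 := by
  have hr0 : r ≠ 0 := by
    rintro rfl
    simp at hr
  have h := phi_injective hK (a₁ := tE K m r hr0) (a₂ := 1) (by
    apply Units.ext
    rw [phi_val, map_one]
    show ch (hG chevG2 K 8 (r ^ 3 ^ m) * hG chevG2 K 10 r) 6 = 1
    rw [ch_hJ _ _ (pow_ne_zero _ hr0) hr0]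
    have h1 : r ^ 3 ^ m = r := by
      have : (r - 1) * (r + 1) = 0 := by linear_combination hr
      rcases mul_eq_zero.mp this with h | h
      · have : r = 1 := by linear_combination h
        rw [this, one_pow]
      · have : r = -1 := by linear_combination h
        rw [this, (odd_three_pow m).neg_one_pow]
    rw [h1]
    have : r ^ 3 = r := by linear_combination r * hr
    rw [this, mul_inv_cancel₀ hr0])
  exact congrArg Subtype.val h

/-- `ψ` as a homomorphism into `G¹` -/
noncomputable def psiG (K : Type*) [Field K] [CharP K 3] (m : ℕ) :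
    Matrix.SpecialLinearGroup (Fin 2) K →* ↥(twistedG2 K (3 ^ m)) :=
  (psiGL K m).codRestrict _ (psiGL_mem m)

omit [Fintype K] in
theorem psiG_val [CharP K 3] (g : Matrix.SpecialLinearGroup (Fin 2) K) :
    ((psiG K m g : ↥(twistedG2 K (3 ^ m))) : GL chevG2.Idx K) = psiGL K m g := rfl

omit [Fintype K] in
theorem xT_zero [CharP K 3] (m : ℕ) : xT K m 0 = 1 := by
  rw [xT_apply, zero_pow (pow_ne_zero _ (by norm_num)), xGL_zero', one_mul, xGL_zero']

theorem center_le_ker (hK : Fintype.card K = 3 ^ (2 * m + 1)) [CharP K 3] :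
    Subgroup.center (Matrix.SpecialLinearGroup (Fin 2) K) ≤ (psiG K m).ker := by
  intro g hg
  rw [Matrix.SpecialLinearGroup.mem_center_iff] at hg
  obtain ⟨r, hr, hg⟩ := hg
  rw [Fintype.card_fin] at hr
  rw [MonoidHom.mem_ker]
  apply Subtype.ext
  rw [psiG_val, psiGL_apply]
  have e00 : (g : Matrix (Fin 2) (Fin 2) K) 0 0 = r := by rw [← hg]; simp
  have e01 : (g : Matrix (Fin 2) (Fin 2) K) 0 1 = 0 := by rw [← hg]; simp
  have e10 : (g : Matrix (Fin 2) (Fin 2) K) 1 0 = 0 := by rw [← hg]; simp
  rw [e00, e01, e10]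
  unfold Cfsg.Agent.Helper40.SL2Hom.phi
  rw [if_pos rfl, mul_zero, xT_zero, one_mul, hT_eq, hT_of_sq_eq_one hK r hr]
  rfl

theorem ker_le_center (hK : Fintype.card K = 3 ^ (2 * m + 1)) [CharP K 3] :
    (psiG K m).ker ≤ Subgroup.center (Matrix.SpecialLinearGroup (Fin 2) K) := by
  intro g hg
  rw [MonoidHom.mem_ker] at hg
  have hg' : psiGL K m g = 1 := by
    have := congrArg Subtype.val hg
    rwa [psiG_val] at this
  obtain ⟨h10, h01, h00, he⟩ := diag_of_psi_memH m g (by rw [hg']; exact one_mem _)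
  rw [hg'] at he
  have hs := hT_eq_one hK _ h00 he.symm
  have hdet := Cfsg.Agent.Helper40.SL2Hom.sl2_det g
  rw [h10, h01] at hdet
  rw [Matrix.SpecialLinearGroup.mem_center_iff]
  refine ⟨(g : Matrix (Fin 2) (Fin 2) K) 0 0, ?_, ?_⟩
  · rw [Fintype.card_fin]
    rcases hs with h | h <;> rw [h] <;> ring
  · have h11 : (g : Matrix (Fin 2) (Fin 2) K) 1 1 = (g : Matrix (Fin 2) (Fin 2) K) 0 0 := by
      rcases hs with h | h
      · rw [h] at hdet ⊢
        linear_combination hdet
      · rw [h] at hdet ⊢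
        linear_combination -hdet
    ext i j
    fin_cases i <;> fin_cases j <;> simp [h10, h01, h11]

/-- `ψ̄ : PSL₂(K) → G¹` -/
noncomputable def psiBar (hK : Fintype.card K = 3 ^ (2 * m + 1)) [CharP K 3] :
    Matrix.ProjectiveSpecialLinearGroup (Fin 2) K →* ↥(twistedG2 K (3 ^ m)) :=
  QuotientGroup.lift _ (psiG K m) (center_le_ker hK)

theorem psiBar_mk (hK : Fintype.card K = 3 ^ (2 * m + 1)) [CharP K 3] (g : Matrix.SpecialLinearGroup (Fin 2) K) :
    psiBar hK (QuotientGroup.mk g) = psiG K m g := rfl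

theorem psiBar_injective (hK : Fintype.card K = 3 ^ (2 * m + 1)) [CharP K 3] :
    Function.Injective (psiBar hK) := by
  rw [injective_iff_map_eq_one]
  intro x
  induction x using QuotientGroup.induction_on with
  | H g =>
    intro h
    rw [psiBar_mk] at h
    exact (QuotientGroup.eq_one_iff g).mpr (ker_le_center hK h)

end Ker

section Iso
variable {K : Type*} [Field K] [Fintype K] {m : ℕ}

/-- the unique involution of `H¹` is `J` -/
theorem involution_eq_Jg (hK : Fintype.card K = 3 ^ (2 * m + 1)) [CharP K 3] (a : GL chevG2.Idx K)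
    (ha : a ∈ T1 K m) (ha1 : a ≠ 1) (ha2 : a * a = 1) : a = Jg K := by
  have h2 : phi K m ⟨a, ha⟩ * phi K m ⟨a, ha⟩ = 1 := by
    rw [← map_mul]
    have : (⟨a, ha⟩ : ↥(T1 K m)) * ⟨a, ha⟩ = 1 := Subtype.ext ha2
    rw [this, map_one]
  have h3 : ((phi K m ⟨a, ha⟩ : Kˣ) : K) ^ 2 = 1 := by
    rw [sq, ← Units.val_mul, h2, Units.val_one]
  have h4 : (((phi K m ⟨a, ha⟩ : Kˣ) : K) - 1) * (((phi K m ⟨a, ha⟩ : Kˣ) : K) + 1) = 0 := by
    linear_combination h3
  rcases mul_eq_zero.mp h4 with h | h
  · exfalso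
    apply ha1
    have : phi K m ⟨a, ha⟩ = phi K m 1 := by
      apply Units.ext
      rw [map_one, Units.val_one]
      linear_combination h
    exact congrArg Subtype.val (phi_injective hK this)
  · have : phi K m ⟨a, ha⟩ = phi K m (tJ K m) := by
      apply Units.ext
      rw [phi_tJ]
      linear_combination h
    exact congrArg Subtype.val (phi_injective hK this)

/-- `Z₂ × PSL₂(K) → G¹` -/
noncomputable def centF (hK : Fintype.card K = 3 ^ (2 * m + 1)) [CharP K 3] (a : ↥(twistedG2 K (3 ^ m)))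
    (ha : (a : GL chevG2.Idx K) = Jg K) (ha2 : a * a = 1) :
    Multiplicative (ZMod 2) × Matrix.ProjectiveSpecialLinearGroup (Fin 2) K →* ↥(twistedG2 K (3 ^ m)) :=
  MonoidHom.noncommCoprod (zeta2 a ha2) (psiBar hK) (by
    intro z x
    induction x using QuotientGroup.induction_on with
    | H g =>
      rcases zeta2_cases a ha2 z with h | h
      · rw [h]
        exact Commute.one_left _
      · rw [h, psiBar_mk]
        apply Subtype.ext
        show (a : GL chevG2.Idx K) * psiGL K m g = psiGL K m g * a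
        rw [ha]
        exact Jg_comm_psi m g)

theorem centF_apply (hK : Fintype.card K = 3 ^ (2 * m + 1)) [CharP K 3] (a : ↥(twistedG2 K (3 ^ m)))
    (ha : (a : GL chevG2.Idx K) = Jg K) (ha2 : a * a = 1) (z : Multiplicative (ZMod 2))
    (x : Matrix.ProjectiveSpecialLinearGroup (Fin 2) K) :
    centF hK a ha ha2 (z, x) = zeta2 a ha2 z * psiBar hK x := rfl

theorem centF_injective (hK : Fintype.card K = 3 ^ (2 * m + 1)) [CharP K 3] (a : ↥(twistedG2 K (3 ^ m)))
    (ha : (a : GL chevG2.Idx K) = Jg K) (ha2 : a * a = 1) : Function.Injective (centF hK a ha ha2) := by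
  rw [injective_iff_map_eq_one]
  rintro ⟨z, x⟩ h
  rw [centF_apply] at h
  rcases mult_zmod2_cases z with rfl | rfl
  · rw [map_one, one_mul] at h
    have := psiBar_injective hK (a₁ := x) (a₂ := 1) (by rw [h, map_one])
    rw [this]
    rfl
  · exfalso
    rw [zeta2_ofAdd_one] at h
    induction x using QuotientGroup.induction_on with
    | H g =>
      rw [psiBar_mk] at h
      have h1 : Jg K * psiGL K m g = 1 := by
        have := congrArg Subtype.val h
        rwa [Subgroup.coe_mul, ha, psiG_val] at this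
      have hJ2 : Jg K * Jg K = 1 := by
        rw [← ha]
        exact congrArg Subtype.val ha2
      have h2 : psiGL K m g = Jg K := by
        calc psiGL K m g = (Jg K * Jg K) * psiGL K m g := by rw [hJ2, one_mul]
          _ = Jg K * (Jg K * psiGL K m g) := mul_assoc _ _ _
          _ = Jg K := by rw [h1, mul_one]
      obtain ⟨_, _, h00, he⟩ := diag_of_psi_memH m g (by rw [h2]; exact Jg_memH)
      exact hT_ne_Jg hK _ h00 (he.symm.trans h2)

theorem centF_range (hK : Fintype.card K = 3 ^ (2 * m + 1)) [CharP K 3] (a : ↥(twistedG2 K (3 ^ m)))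
    (ha : (a : GL chevG2.Idx K) = Jg K) (ha2 : a * a = 1) :
    (centF hK a ha ha2).range = Subgroup.centralizer {a} := by
  apply le_antisymm
  · rintro _ ⟨⟨z, x⟩, rfl⟩
    rw [Subgroup.mem_centralizer_singleton_iff, centF_apply]
    have h1 : Commute (zeta2 a ha2 z) a := by
      rcases zeta2_cases a ha2 z with h | h
      · rw [h]
        exact Commute.one_left _
      · have : Commute a a := Commute.refl a
        exact h.symm ▸ this
    have h2 : Commute (psiBar hK x) a := by
      induction x using QuotientGroup.induction_on with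
      | H g =>
        rw [psiBar_mk]
        apply Subtype.ext
        show psiGL K m g * (a : GL chevG2.Idx K) = a * psiGL K m g
        rw [ha]
        exact (Jg_comm_psi m g).symm
    exact (h1.mul_left h2)
  · intro g hg
    rw [Subgroup.mem_centralizer_singleton_iff] at hg
    have hg' : Jg K * (g : GL chevG2.Idx K) = g * Jg K := by
      rw [← ha]
      exact (congrArg Subtype.val hg).symm
    obtain ⟨l, ⟨g0, rfl⟩, h | h⟩ := centralizer_decomp hK g.1 g.2 hg'
    · refine ⟨(1, QuotientGroup.mk g0), Subtype.ext ?_⟩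
      rw [centF_apply, map_one, one_mul, psiBar_mk, psiG_val, h]
    · refine ⟨(Multiplicative.ofAdd 1, QuotientGroup.mk g0), Subtype.ext ?_⟩
      rw [centF_apply, zeta2_ofAdd_one, psiBar_mk, Subgroup.coe_mul, psiG_val, h, ha]

/-- `C_{G¹}(J) ≃* Z₂ × PSL₂(K)` -/
theorem centralizer_iso (hK : Fintype.card K = 3 ^ (2 * m + 1)) (a : ↥(twistedG2 K (3 ^ m)))
    (haH : (a : GL chevG2.Idx K) ∈ chevG2.diagonalSubgroup K) (ha1 : a ≠ 1) (ha2 : a * a = 1) :
    Nonempty (↥(Subgroup.centralizer {a}) ≃*
      Multiplicative (ZMod 2) × Matrix.ProjectiveSpecialLinearGroup (Fin 2) K) := by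
  have := charP_three hK
  have ha : (a : GL chevG2.Idx K) = Jg K :=
    involution_eq_Jg hK a.1 ⟨haH, a.2⟩ (fun h => ha1 (Subtype.ext h)) (congrArg Subtype.val ha2)
  exact ⟨((MonoidHom.ofInjective (centF_injective hK a ha ha2)).trans
    (MulEquiv.subgroupCongr (centF_range hK a ha ha2))).symm⟩

end Iso

end Cfsg.Agent.Helper6.Ree
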