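import Cfsg.Agent.Helper6.Ree15
import Cfsg.Agent.Helper41.ReeUC

/-!
Helper6: the group law of `U¹` and the action of `H¹` on it, in the coordinates of the Ree words.
-/

set_option autoImplicit false
set_option maxRecDepth 100000

namespace Cfsg.Agent.Helper6.Ree

open Cfsg Cfsg.Lie Cfsg.Agent.Helper18 Cfsg.Agent.Helper18.Ree Cfsg.Agent.Helper19.Twist
open Cfsg.Agent.Helper41.ReeU

section Law
variable {K : Type*} [Field K] [Fintype K] [CharP K 3] {m : ℕ}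

/-- the group law of `U¹` in Ree coordinates -/
theorem wordGLU_mul (hK : Fintype.card K = 3 ^ (2 * m + 1)) (t u v t' u' v' : K) :
    wordGLU (3 ^ m) t u v * wordGLU (3 ^ m) t' u' v' =
      wordGLU (3 ^ m) (t + t') (u + u' - t * t' ^ (3 * 3 ^ m))
        (v + v' - t' * u + t * t' ^ (3 * 3 ^ m + 1) - t ^ 2 * t' ^ (3 * 3 ^ m)) := by
  have hmem : wordGLU (3 ^ m) t u v * wordGLU (3 ^ m) t' u' v' ∈
      chevG2.posUnipotent K ⊓ twistedG2 K (3 ^ m) :=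
    mul_mem ((mem_U1_iff hK _).mpr ⟨t, u, v, rfl⟩) ((mem_U1_iff hK _).mpr ⟨t', u', v', rfl⟩)
  obtain ⟨t'', u'', v'', h⟩ := (mem_U1_iff hK _).mp hmem
  rw [h]
  unfold wordGLU at h
  have h' : (posSysX (K := K)).word (3 ^ m) t u v * (posSysX (K := K)).word (3 ^ m) t' u' v' =
      (posSysX (K := K)).word (3 ^ m) t'' u'' v'' := Subtype.ext h
  rw [Sys.word_eq, Sys.word_eq, Sys.word_eq, SysX.nf_mul] at h'
  obtain ⟨-, e2, -, -, e5, e6⟩ :=
    word_like_injective (posSysX (K := K)).toSys posSys_uniq _ _ _ _ _ _ _ _ _ _ _ _ h'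
  have e5' : u'' = u + u' - t * t' ^ (3 * 3 ^ m) := by
    rw [← e5, ← pow_mul, mul_comm (3 ^ m) 3]
    ring
  have e6' : v'' = v + v' - t' * u + t * t' ^ (3 * 3 ^ m + 1) - t ^ 2 * t' ^ (3 * 3 ^ m) := by
    rw [← e6, ← pow_mul, mul_comm (3 ^ m) 3]
    ring
  rw [← e2, e5', e6']

/-- moving a torus element through a Ree word -/
theorem torus_mul_word (hK : Fintype.card K = 3 ^ (2 * m + 1)) (h : GL chevG2.Idx K) (hh : h ∈ T1 K m)
    (t u v : K) :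
    h * wordGLU (3 ^ m) t u v * h⁻¹ =
      wordGLU (3 ^ m) (ch h 6 * t) (ch h 6 ^ (3 * 3 ^ m + 1) * u) (ch h 6 ^ (3 * 3 ^ m + 2) * v) := by
  obtain ⟨σ, hσ'⟩ := exists_sigma hK
  have hσ : SigmaSpec m σ := hσ'
  obtain ⟨hmem, -⟩ := mem_FixS.mp (twistedG2_le_FixS hK hσ hh.2)
  obtain ⟨H, hH⟩ : ∃ H : ↥(chevG2.group K), H = ⟨h, hmem⟩ := ⟨_, rfl⟩
  have hconj : ∀ r < 12, ∀ a : K, H * XG r a = XG r (ch h r * a) * H :=
    fun r hr a => by rw [hH]; exact Subtype.ext (ch_conj h hh.1 r hr a)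
  have hW : H * (posSys (K := K)).word (3 ^ m) t u v =
      (posSys (K := K)).Xa (ch h 7 * t ^ 3 ^ m) * (posSys (K := K)).Xb (ch h 6 * t) *
        (posSys (K := K)).hh (ch h 8 * (t ^ (3 ^ m + 1) + u ^ 3 ^ m)) (ch h 9 * (t ^ (2 * 3 ^ m + 1) + v ^ 3 ^ m))
          (ch h 10 * u) (ch h 11 * v) * H := by
    unfold Sys.word Sys.hh
    have e := Cfsg.Agent.Helper6.Ree.conj_mul (Cfsg.Agent.Helper6.Ree.conj_mul
      (Cfsg.Agent.Helper6.Ree.conj_mul (Cfsg.Agent.Helper6.Ree.conj_mul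
      (Cfsg.Agent.Helper6.Ree.conj_mul (hconj 7 (by decide) (t ^ 3 ^ m))
      (hconj 6 (by decide) t)) (hconj 8 (by decide) (t ^ (3 ^ m + 1) + u ^ 3 ^ m)))
      (hconj 9 (by decide) (t ^ (2 * 3 ^ m + 1) + v ^ 3 ^ m))) (hconj 10 (by decide) u)) (hconj 11 (by decide) v)
    rw [show (posSys (K := K)).Xa = XG 7 from rfl, show (posSys (K := K)).Xb = XG 6 from rfl,
      show (posSys (K := K)).Xab = XG 8 from rfl, show (posSys (K := K)).Xaab = XG 9 from rfl,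
      show (posSys (K := K)).Xaaab = XG 10 from rfl, show (posSys (K := K)).Xaaabb = XG 11 from rfl, e]
    simp only [mul_assoc]
  -- the conjugate is a Ree word
  have hmemU : h * wordGLU (3 ^ m) t u v * h⁻¹ ∈ chevG2.posUnipotent K ⊓ twistedG2 K (3 ^ m) := by
    obtain ⟨hw1, hw2⟩ := Subgroup.mem_inf.mp ((mem_U1_iff hK (wordGLU (3 ^ m) t u v)).mpr ⟨t, u, v, rfl⟩)
    obtain ⟨hh1, hh2⟩ := Subgroup.mem_inf.mp hh
    refine Subgroup.mem_inf.mpr ⟨?_, mul_mem (mul_mem hh2 hw2) (inv_mem hh2)⟩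
    have hn := diagonalSubgroup_le_normalizer_posUnipotent (F := K) chevG2 hG2 hh1
    exact (Subgroup.mem_normalizer_iff.mp hn _).mp hw1
  obtain ⟨t'', u'', v'', h2⟩ := (mem_U1_iff hK _).mp hmemU
  rw [h2]
  have h3 : H * (posSys (K := K)).word (3 ^ m) t u v = (posSys (K := K)).word (3 ^ m) t'' u'' v'' * H := by
    apply Subtype.ext
    rw [hH]
    have : h * wordGLU (3 ^ m) t u v = wordGLU (3 ^ m) t'' u'' v'' * h := by
      rw [← h2]
      group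
    exact this
  rw [hW, (posSys (K := K)).word_eq] at h3
  obtain ⟨-, e6, -, -, e10, e11⟩ :=
    word_like_injective (posSys (K := K)) posSys_uniq _ _ _ _ _ _ _ _ _ _ _ _ (mul_right_cancel h3)
  have h7 : ch h 7 = ch h 6 ^ 3 ^ m := ch_sigma hK h hh
  have h10 : ch h 10 = ch h 6 ^ (3 * 3 ^ m + 1) := by
    rw [ch_10 h hh.1, h7, ← pow_mul, pow_succ, mul_comm (3 ^ m) 3]
  have h11 : ch h 11 = ch h 6 ^ (3 * 3 ^ m + 2) := by
    rw [ch_11 h hh.1, h7, ← pow_mul, pow_add, mul_comm (3 ^ m) 3]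
  rw [← e6, ← e10, ← e11, h10, h11]

end Law

end Cfsg.Agent.Helper6.Ree
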