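import Cfsg.Agent.Helper6.Ree16

/-!
Helper6: the elements `gU t u v`, `gT λ`, `gN` of `²G₂(q)` and their relations.
-/

set_option autoImplicit false
set_option maxRecDepth 100000

namespace Cfsg.Agent.Helper6.Ree

open Cfsg Cfsg.Lie Cfsg.Agent.Helper18 Cfsg.Agent.Helper18.Ree Cfsg.Agent.Helper19.Twist
open Cfsg.Agent.Helper41.ReeU

section Inv
variable {K : Type*} [Field K] [CharP K 3]

/-- the diagonal matrix `diag(s, s⁻¹)` -/
def Dk (s : K) (hs : s ≠ 0) : Matrix.SpecialLinearGroup (Fin 2) K :=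
  ⟨!![s, 0; 0, s⁻¹], by simp [Matrix.det_fin_two, hs]⟩

omit [CharP K 3] in
theorem Dk_coe (s : K) (hs : s ≠ 0) :
    ((Dk s hs : Matrix.SpecialLinearGroup (Fin 2) K) : Matrix (Fin 2) (Fin 2) K) = !![s, 0; 0, s⁻¹] := rfl

theorem psiGL_Dk (m : ℕ) (s : K) (hs : s ≠ 0) :
    psiGL K m (Dk s hs) = hG chevG2 K 8 (s ^ 3 ^ m) * hG chevG2 K 10 s := by
  rw [psiGL_apply, Dk_coe]
  simp only [Matrix.of_apply, Matrix.cons_val', Matrix.cons_val_zero, Matrix.cons_val_one,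
    Matrix.cons_val_fin_one]
  unfold Cfsg.Agent.Helper40.SL2Hom.phi
  rw [if_pos rfl, mul_zero, hT_eq]
  have : xT K m 0 = 1 := by
    rw [xT_apply, zero_pow (pow_ne_zero _ (by norm_num)), xGL_zero', one_mul, xGL_zero']
  rw [this, one_mul]

omit [CharP K 3] in
theorem W_mul_Dk (s : K) (hs : s ≠ 0) :
    Cfsg.Agent.Helper40.SL2Hom.W * Dk s hs = Dk s⁻¹ (inv_ne_zero hs) * Cfsg.Agent.Helper40.SL2Hom.W := by
  apply Subtype.ext
  simp only [Matrix.SpecialLinearGroup.coe_mul, Cfsg.Agent.Helper40.SL2Hom.W_coe, Dk_coe]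
  ext i j
  fin_cases i <;> fin_cases j <;> simp [Matrix.mul_apply, Fin.sum_univ_two]

/-- `n h̃(s) = h̃(s⁻¹) n` -/
theorem nP_mul_hT (m : ℕ) (s : K) (hs : s ≠ 0) :
    nP K * (hG chevG2 K 8 (s ^ 3 ^ m) * hG chevG2 K 10 s) =
      (hG chevG2 K 8 (s⁻¹ ^ 3 ^ m) * hG chevG2 K 10 s⁻¹) * nP K := by
  rw [nP_eq_psi m, ← psiGL_Dk m s hs, ← psiGL_Dk m s⁻¹ (inv_ne_zero hs), ← map_mul, ← map_mul, W_mul_Dk]

omit [CharP K 3] in
theorem Dk_mul_inv (s : K) (hs : s ≠ 0) : Dk s hs * Dk s⁻¹ (inv_ne_zero hs) = 1 := by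
  apply Subtype.ext
  simp only [Matrix.SpecialLinearGroup.coe_mul, Dk_coe, Matrix.SpecialLinearGroup.coe_one]
  ext i j
  fin_cases i <;> fin_cases j <;> simp [Matrix.mul_apply, Fin.sum_univ_two, hs]

theorem hT_mul_inv (m : ℕ) (s : K) (hs : s ≠ 0) :
    (hG chevG2 K 8 (s ^ 3 ^ m) * hG chevG2 K 10 s) * (hG chevG2 K 8 (s⁻¹ ^ 3 ^ m) * hG chevG2 K 10 s⁻¹) = 1 := by
  rw [← psiGL_Dk m s hs, ← psiGL_Dk m s⁻¹ (inv_ne_zero hs), ← map_mul, Dk_mul_inv, map_one]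

end Inv

section Elts
variable {K : Type*} [Field K] [Fintype K] {m : ℕ}

theorem Jg_mul_self (hK : Fintype.card K = 3 ^ (2 * m + 1)) : Jg K * Jg K = 1 := by
  have := charP_three hK
  have h := phi_injective hK (a₁ := tJ K m * tJ K m) (a₂ := 1) (by
    apply Units.ext
    rw [map_mul, Units.val_mul, phi_tJ, map_one]
    simp)
  have h' := congrArg Subtype.val h
  exact h'

/-- the Weyl element inverts `H¹` -/
theorem nP_mul_torus (hK : Fintype.card K = 3 ^ (2 * m + 1)) [CharP K 3] (h : GL chevG2.Idx K)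
    (hh : h ∈ T1 K m) : nP K * h = h⁻¹ * nP K := by
  obtain ⟨s, hs, rfl | rfl⟩ := T1_cases hK h hh
  · rw [nP_mul_hT m s hs]
    congr 1
    exact (inv_eq_of_mul_eq_one_right (hT_mul_inv m s hs)).symm
  · have hJn : nP K * Jg K = Jg K * nP K := by
      rw [nP_eq_psi m]
      exact (Jg_comm_psi m _).eq.symm
    have hJi : (Jg K)⁻¹ = Jg K := inv_eq_of_mul_eq_one_right (Jg_mul_self hK)
    have hi : (hG chevG2 K 8 (s ^ 3 ^ m) * hG chevG2 K 10 s)⁻¹ =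
        hG chevG2 K 8 (s⁻¹ ^ 3 ^ m) * hG chevG2 K 10 s⁻¹ := inv_eq_of_mul_eq_one_right (hT_mul_inv m s hs)
    have hJh : Jg K * (hG chevG2 K 8 (s⁻¹ ^ 3 ^ m) * hG chevG2 K 10 s⁻¹) =
        (hG chevG2 K 8 (s⁻¹ ^ 3 ^ m) * hG chevG2 K 10 s⁻¹) * Jg K := by
      rw [← psiGL_Dk m s⁻¹ (inv_ne_zero hs)]
      exact (Jg_comm_psi m _).eq
    rw [mul_inv_rev, hJi, hi, ← mul_assoc, hJn, mul_assoc, nP_mul_hT m s hs, ← mul_assoc, hJh]

end Elts

end Cfsg.Agent.Helper6.Ree
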