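import Cfsg.Agent.Helper6.Ree17

/-!
Helper6: `²G₂(q)` in coordinates: `gU t u v`, `gT λ`, `gN`, the relations and the Bruhat normal form.
-/

set_option autoImplicit false
set_option maxRecDepth 100000

namespace Cfsg.Agent.Helper6.Ree

open Cfsg Cfsg.Lie Cfsg.Agent.Helper18 Cfsg.Agent.Helper18.Ree Cfsg.Agent.Helper19.Twist
open Cfsg.Agent.Helper41.ReeU

section API
variable {K : Type*} [Field K] [Fintype K] [CharP K 3] {m : ℕ}

/-- the element `x_S(t,u,v)` of `U¹` -/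
noncomputable def gU (K : Type*) [Field K] [CharP K 3] (m : ℕ) (t u v : K) : ↥(twistedG2 K (3 ^ m)) :=
  ⟨wordGLU (3 ^ m) t u v, wordU_mem_twistedG2 _ t u v⟩

omit [Fintype K] in
theorem gU_val (t u v : K) : ((gU K m t u v : ↥(twistedG2 K (3 ^ m))) : GL chevG2.Idx K) = wordGLU (3 ^ m) t u v := rfl

theorem gU_mul (hK : Fintype.card K = 3 ^ (2 * m + 1)) (t u v t' u' v' : K) :
    gU K m t u v * gU K m t' u' v' = gU K m (t + t') (u + u' - t * t' ^ (3 * 3 ^ m))
      (v + v' - t' * u + t * t' ^ (3 * 3 ^ m + 1) - t ^ 2 * t' ^ (3 * 3 ^ m)) :=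
  Subtype.ext (wordGLU_mul hK t u v t' u' v')

omit [Fintype K] in
theorem gU_inj {t u v t' u' v' : K} (h : gU K m t u v = gU K m t' u' v') : t = t' ∧ u = u' ∧ v = v' := by
  have h' : wordGLU (3 ^ m) t u v = wordGLU (3 ^ m) t' u' v' := by
    rw [← gU_val, ← gU_val, h]
  exact wordGLU_injective (3 ^ m) t u v t' u' v' h'

omit [Fintype K] in
theorem gU_zero : gU K m 0 0 0 = 1 := by
  apply Subtype.ext
  rw [gU_val]
  unfold wordGLU
  rw [SysX.word_zero _ (pow_ne_zero m (by norm_num))]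
  rfl

/-- the torus element with parameter `λ` -/
noncomputable def gT (hK : Fintype.card K = 3 ^ (2 * m + 1)) : Kˣ →* ↥(twistedG2 K (3 ^ m)) where
  toFun c := ⟨((torusEquiv hK).symm c : ↥(T1 K m)).1, ((torusEquiv hK).symm c : ↥(T1 K m)).2.2⟩
  map_one' := by
    apply Subtype.ext
    simp
  map_mul' a b := by
    apply Subtype.ext
    simp

omit [CharP K 3] in
theorem gT_mem (hK : Fintype.card K = 3 ^ (2 * m + 1)) (c : Kˣ) :
    ((gT hK c : ↥(twistedG2 K (3 ^ m))) : GL chevG2.Idx K) ∈ T1 K m :=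
  ((torusEquiv hK).symm c : ↥(T1 K m)).2

omit [CharP K 3] in
theorem ch_gT (hK : Fintype.card K = 3 ^ (2 * m + 1)) (c : Kˣ) :
    ch ((gT hK c : ↥(twistedG2 K (3 ^ m))) : GL chevG2.Idx K) 6 = c := by
  have := torusEquiv_apply hK ((torusEquiv hK).symm c)
  rw [MulEquiv.apply_symm_apply] at this
  exact this.symm

omit [CharP K 3] in
theorem gT_injective (hK : Fintype.card K = 3 ^ (2 * m + 1)) : Function.Injective (gT (m := m) hK) := by
  intro a b h
  apply Units.ext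
  rw [← ch_gT hK a, ← ch_gT hK b, h]

omit [CharP K 3] in
/-- every element of `H¹` is a `gT` -/
theorem exists_gT (hK : Fintype.card K = 3 ^ (2 * m + 1)) (g : ↥(twistedG2 K (3 ^ m)))
    (hg : (g : GL chevG2.Idx K) ∈ chevG2.diagonalSubgroup K) : ∃ c : Kˣ, g = gT hK c := by
  refine ⟨torusEquiv hK ⟨g.1, ⟨hg, g.2⟩⟩, ?_⟩
  apply Subtype.ext
  show g.1 = ((torusEquiv hK).symm (torusEquiv hK ⟨g.1, ⟨hg, g.2⟩⟩) : ↥(T1 K m)).1
  rw [MulEquiv.symm_apply_apply]

/-- the torus acts on `U¹` -/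
theorem gT_conj_gU (hK : Fintype.card K = 3 ^ (2 * m + 1)) (c : Kˣ) (t u v : K) :
    gT hK c * gU K m t u v * (gT hK c)⁻¹ =
      gU K m ((c : K) * t) ((c : K) ^ (3 * 3 ^ m + 1) * u) ((c : K) ^ (3 * 3 ^ m + 2) * v) := by
  apply Subtype.ext
  have := torus_mul_word hK _ (gT_mem hK c) t u v
  rw [ch_gT] at this
  exact this

/-- the Weyl element -/
noncomputable def gN (K : Type*) [Field K] [CharP K 3] (m : ℕ) : ↥(twistedG2 K (3 ^ m)) :=
  ⟨nP K, by rw [nP_eq_psi m]; exact psiGL_mem m _⟩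

omit [Fintype K] in
theorem gN_val : ((gN K m : ↥(twistedG2 K (3 ^ m))) : GL chevG2.Idx K) = nP K := rfl

/-- the Weyl element inverts the torus -/
theorem gN_mul_gT (hK : Fintype.card K = 3 ^ (2 * m + 1)) (c : Kˣ) :
    gN K m * gT hK c = gT hK c⁻¹ * gN K m := by
  apply Subtype.ext
  have := nP_mul_torus hK _ (gT_mem hK c)
  rw [map_inv]
  exact this

end API

end Cfsg.Agent.Helper6.Ree
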