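import Cfsg.Agent.Helper6.Ree18

/-!
Helper6: the Bruhat normal form of `²G₂(q)` in coordinates.
-/

set_option autoImplicit false
set_option maxRecDepth 100000

namespace Cfsg.Agent.Helper6.Ree

open Cfsg Cfsg.Lie Cfsg.Agent.Helper18 Cfsg.Agent.Helper18.Ree Cfsg.Agent.Helper19.Twist
open Cfsg.Agent.Helper41.ReeU

section Bruhat
variable {K : Type*} [Field K] [Fintype K] [CharP K 3] {m : ℕ}

theorem theta_nP (hK : Fintype.card K = 3 ^ (2 * m + 1)) :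
    thetaG2 (⟨nP K, nP_mem_monomial⟩ : ↥(chevG2.monomialSubgroup K)) = w0G2 := by
  obtain ⟨σ, hσ'⟩ := exists_sigma hK
  have hσ : SigmaSpec m σ := hσ'
  have hmem : nP K ∈ twistedG2 K (3 ^ m) := by rw [nP_eq_psi m]; exact psiGL_mem m _
  rcases theta_of_mem hK hσ ⟨nP K, nP_mem_monomial⟩ hmem with h | h
  · exfalso
    exact nP_not_mem_borel (diagonal_le_borel chevG2 hG2 (mem_diag_of_theta _ nP_mem_monomial h))
  · exact h

omit [Fintype K] in
theorem gU_mem_pos (t u v : K) :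
    ((gU K m t u v : ↥(twistedG2 K (3 ^ m))) : GL chevG2.Idx K) ∈ chevG2.posUnipotent K :=
  wordU_mem_posUnipotent _ t u v

/-- the Bruhat decomposition of `²G₂(q)` in coordinates -/
theorem bruhat_cases (hK : Fintype.card K = 3 ^ (2 * m + 1)) (g : ↥(twistedG2 K (3 ^ m))) :
    (∃ (t u v : K) (c : Kˣ), g = gU K m t u v * gT hK c) ∨
      ∃ (t u v : K) (c : Kˣ) (t' u' v' : K), g = gU K m t u v * gT hK c * gN K m * gU K m t' u' v' := by
  obtain ⟨σ, hσ'⟩ := exists_sigma hK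
  have hσ : SigmaSpec m σ := hσ'
  rcases G1_cases hK hσ g.1 g.2 with hB | ⟨u₂, hu₂, n₁, hn₁, hθ, u₁, hu₁, hg⟩
  · left
    obtain ⟨u, hu, h, hh, hb⟩ := borel_twisted_decomp hK hσ g.1 (Subgroup.mem_inf.mpr ⟨hB, g.2⟩)
    obtain ⟨t, u', v, rfl⟩ := (mem_U1_iff hK u).mp hu
    obtain ⟨c, hc⟩ := exists_gT hK ⟨h, (Subgroup.mem_inf.mp hh).2⟩ (Subgroup.mem_inf.mp hh).1
    refine ⟨t, u', v, c, Subtype.ext ?_⟩
    rw [Subgroup.coe_mul, gU_val, ← hc]
    exact hb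
  · right
    obtain ⟨t, u, v, rfl⟩ := (mem_U1_iff hK u₂).mp hu₂
    obtain ⟨t', u', v', rfl⟩ := (mem_U1_iff hK u₁).mp hu₁
    have hnP : nP K ∈ twistedG2 K (3 ^ m) := by rw [nP_eq_psi m]; exact psiGL_mem m _
    have hmon : (n₁ : GL chevG2.Idx K) * (nP K)⁻¹ ∈ chevG2.monomialSubgroup K :=
      mul_mem n₁.2 (inv_mem nP_mem_monomial)
    have hθ1 : thetaG2 (⟨(n₁ : GL chevG2.Idx K) * (nP K)⁻¹, hmon⟩ : ↥(chevG2.monomialSubgroup K)) = 1 := by
      have e : (⟨(n₁ : GL chevG2.Idx K) * (nP K)⁻¹, hmon⟩ : ↥(chevG2.monomialSubgroup K)) =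
          n₁ * (⟨nP K, nP_mem_monomial⟩ : ↥(chevG2.monomialSubgroup K))⁻¹ := rfl
      rw [e, map_mul, map_inv, theta_nP hK, hθ, mul_inv_cancel]
    have hdiag := mem_diag_of_theta _ hmon hθ1
    obtain ⟨c, hc⟩ := exists_gT hK ⟨(n₁ : GL chevG2.Idx K) * (nP K)⁻¹, mul_mem hn₁ (inv_mem hnP)⟩ hdiag
    refine ⟨t, u, v, c, t', u', v', Subtype.ext ?_⟩
    rw [Subgroup.coe_mul, Subgroup.coe_mul, Subgroup.coe_mul, gU_val, gU_val, gN_val, ← hc, hg]
    simp only [mul_assoc, inv_mul_cancel_left]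

theorem borel_unique (hK : Fintype.card K = 3 ^ (2 * m + 1)) {t u v t' u' v' : K} {c c' : Kˣ}
    (h : gU K m t u v * gT hK c = gU K m t' u' v' * gT hK c') : t = t' ∧ u = u' ∧ v = v' ∧ c = c' := by
  have h' := congrArg Subtype.val h
  rw [Subgroup.coe_mul, Subgroup.coe_mul] at h'
  obtain ⟨e1, e2⟩ := uh_unique (gU_mem_pos t u v) (gU_mem_pos t' u' v') (gT_mem hK c).1 (gT_mem hK c').1 h'
  obtain ⟨a1, a2, a3⟩ := gU_inj (Subtype.ext e1)
  exact ⟨a1, a2, a3, gT_injective hK (Subtype.ext e2)⟩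

omit [Fintype K] in
theorem gU_mem_borel (t u v : K) :
    ((gU K m t u v : ↥(twistedG2 K (3 ^ m))) : GL chevG2.Idx K) ∈ chevG2.borelSubgroup K :=
  posUnipotent_le_borel chevG2 hG2 (gU_mem_pos t u v)

omit [CharP K 3] in
theorem gT_mem_borel (hK : Fintype.card K = 3 ^ (2 * m + 1)) (c : Kˣ) :
    ((gT hK c : ↥(twistedG2 K (3 ^ m))) : GL chevG2.Idx K) ∈ chevG2.borelSubgroup K :=
  diagonal_le_borel chevG2 hG2 (gT_mem hK c).1

theorem bigcell_unique' (hK : Fintype.card K = 3 ^ (2 * m + 1)) {t u v t' u' v' a b d a' b' d' : K} {c c' : Kˣ}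
    (h : gU K m t u v * gT hK c * gN K m * gU K m a b d = gU K m t' u' v' * gT hK c' * gN K m * gU K m a' b' d') :
    t = t' ∧ u = u' ∧ v = v' ∧ c = c' ∧ a = a' ∧ b = b' ∧ d = d' := by
  have h' := congrArg Subtype.val h
  simp only [Subgroup.coe_mul] at h'
  obtain ⟨e1, e2⟩ := bigcell_unique ⟨nP K, nP_mem_monomial⟩ (theta_nP hK)
    (mul_mem (gU_mem_borel t u v) (gT_mem_borel hK c)) (mul_mem (gU_mem_borel t' u' v') (gT_mem_borel hK c'))
    (gU_mem_pos a b d) (gU_mem_pos a' b' d') h'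
  obtain ⟨a1, a2, a3, a4⟩ := borel_unique hK (Subtype.ext (by simpa only [Subgroup.coe_mul] using e1))
  obtain ⟨b1, b2, b3⟩ := gU_inj (Subtype.ext e2)
  exact ⟨a1, a2, a3, a4, b1, b2, b3⟩

theorem bigcell_ne_borel (hK : Fintype.card K = 3 ^ (2 * m + 1)) {t u v t' u' v' a b d : K} {c c' : Kˣ}
    (h : gU K m t u v * gT hK c * gN K m * gU K m a b d = gU K m t' u' v' * gT hK c') : False := by
  have h' := congrArg Subtype.val h
  simp only [Subgroup.coe_mul, gN_val] at h'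
  apply nP_not_mem_borel (K := K)
  have e : nP K = ((gU K m t u v : ↥(twistedG2 K (3 ^ m))).1 * (gT hK c : ↥(twistedG2 K (3 ^ m))).1)⁻¹ *
      ((gU K m t' u' v' : ↥(twistedG2 K (3 ^ m))).1 * (gT hK c' : ↥(twistedG2 K (3 ^ m))).1) *
      ((gU K m a b d : ↥(twistedG2 K (3 ^ m))).1)⁻¹ := by
    rw [← h']
    group
  rw [e]
  exact mul_mem (mul_mem (inv_mem (mul_mem (gU_mem_borel t u v) (gT_mem_borel hK c)))
    (mul_mem (gU_mem_borel t' u' v') (gT_mem_borel hK c'))) (inv_mem (gU_mem_borel a b d))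

end Bruhat

end Cfsg.Agent.Helper6.Ree
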