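import Cfsg.Agent.Helper6.Ree1
import Cfsg.Agent.Helper18.HProd

/-!
Helper6: the involution `h_{a+b}(-1)` of the torus of `G₂` (characteristic 3) is the product of the four Ree words
`U(0,0,1) V(0,0,1) U(1,1,1) V(-1,1,-1)` (soundness of the kernel check of `Ree1`).
-/

set_option autoImplicit false

namespace Cfsg.Agent.Helper6.Ree

open Cfsg Cfsg.Lie Cfsg.Agent.Helper18

section Sound
variable {K : Type*} [Field K] [CharP K 3]

/-- the word over `K` -/
def invWordK (K : Type*) [Field K] : List (ℕ × K) :=
  [(7, 0), (6, 0), (8, 0), (9, 1), (10, 0), (11, 1),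
   (4, 0), (5, 0), (3, 0), (2, -1), (1, 0), (0, -1),
   (7, 1), (6, 1), (8, 2), (9, 2), (10, 1), (11, 1),
   (4, 1), (5, 1), (3, -2), (2, 2), (1, -1), (0, 1)]

omit [CharP K 3] in
theorem invWordP_eval (x y z : K) : (invWordP.map fun e => (e.1, peval x y z e.2)) = invWordK K := by
  simp [invWordP, invWordK]

theorem invWord_mulVec_single (j : chevG2.Idx) :
    (chevG2.wordMat K (invWordK K)).mulVec (Pi.single j 1) = Pi.single j ((sgn (code chevG2 j) : ℤ) : K) := by
  have hj : checkInvCol (code chevG2 j) = true := by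
    have h := checkInv_true
    unfold checkInv at h
    rw [List.all_eq_true] at h
    exact h _ (List.mem_range.mpr (code_lt chevG2 j))
  unfold checkInvCol at hj
  have h' := of_decide_eq_true hj
  have h1 := applyWord_spec (0 : K) 0 0 chevG2 invWordP [(code chevG2 j, pconst 1)]
  rw [invWordP_eval, vecD_single, peval_pconst] at h1
  rw [← vecD_vmod3, h', vecD_single, peval_pconst] at h1
  simpa using h1.symm

theorem two_eq_neg_one : (2 : K) = -1 := by
  have h3 : ((3 : ℕ) : K) = 0 := CharP.cast_eq_zero K 3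
  have : (2 : K) + 1 = 0 := by
    have e : ((3 : ℕ) : K) = 2 + 1 := by norm_num
    rw [← e, h3]
  linear_combination this

theorem sgn_cast (j : ℕ) : ((sgn j : ℤ) : K) = (-1 : K) ^ wt chevG2 8 j := by
  unfold sgn
  split_ifs with h
  · have he : Even (wt chevG2 8 j) := Int.even_iff.mpr h
    rw [he.neg_one_zpow]
    simp
  · have ho : Odd (wt chevG2 8 j) := Int.odd_iff.mpr (by omega)
    rw [ho.neg_one_zpow]
    push_cast
    exact two_eq_neg_one

omit [CharP K 3] in
theorem neg_one_ne_zero' : (-1 : K) ≠ 0 := neg_ne_zero.mpr one_ne_zero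

/-- the product of the four Ree words is `h_{a+b}(-1)` -/
theorem invWord_eq_hMat : chevG2.wordMat K (invWordK K) = chevG2.hMat K 8 (-1) := by
  have hD : chevG2 ∈ allData := by simp [allData]
  rw [diagAll_of_mem chevG2 hD 8 (by decide) (-1 : K) neg_one_ne_zero']
  apply matrix_ext_mulVec
  intro j
  rw [invWord_mulVec_single, Matrix.mulVec_single_one, sgn_cast]
  funext i
  by_cases hij : j = i
  · subst hij; simp
  · have hji : ¬ i = j := fun e => hij e.symm
    simp [hji]

end Sound

end Cfsg.Agent.Helper6.Ree
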