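import Cfsg.Agent.Helper6.Ree19

/-!
Helper6: field automorphisms acting on `²G₂(q)`.
-/

set_option autoImplicit false
set_option maxRecDepth 100000

namespace Cfsg.Agent.Helper6.Ree

open Cfsg Cfsg.Lie Cfsg.Agent.Helper18 Cfsg.Agent.Helper18.Ree Cfsg.Agent.Helper19.Twist
open Cfsg.Agent.Helper41.ReeU

section FieldGL
variable {K : Type*} [Field K]

/-- apply a ring homomorphism to the parameters of a word -/
def wmap (σ : K →+* K) (w : List (ℕ × K)) : List (ℕ × K) := w.map fun p => (p.1, σ p.2)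

theorem wordMat_map (σ : K →+* K) (w : List (ℕ × K)) :
    (chevG2.wordMat K w).map σ = chevG2.wordMat K (wmap σ w) := by
  unfold ChevalleyDatum.wordMat wmap
  rw [← RingHom.mapMatrix_apply, map_list_prod, List.map_map, List.map_map]
  congr 1
  apply List.map_congr_left
  intro p _
  simp only [Function.comp_apply, RingHom.mapMatrix_apply]
  exact x_map' chevG2 σ p.1 p.2

theorem reeWordU_map (σ : K →+* K) (e : ℕ) (t u v : K) :
    wmap σ (reeWordU e t u v) = reeWordU e (σ t) (σ u) (σ v) := by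
  simp [wmap, reeWordU, map_pow, map_add]

theorem reeWordV_map (σ : K →+* K) (e : ℕ) (t u v : K) :
    wmap σ (reeWordV e t u v) = reeWordV e (σ t) (σ u) (σ v) := by
  simp [wmap, reeWordV, reeWordU, ChevalleyDatum.negWord, map_pow, map_add, map_neg]

/-- entrywise ring homomorphisms preserve `²G₂` -/
theorem map_mem_twistedG2 (σ : K →+* K) (e : ℕ) {g : GL chevG2.Idx K} (hg : g ∈ twistedG2 K e) :
    Matrix.GeneralLinearGroup.map σ g ∈ twistedG2 K e := by
  have hle : twistedG2 K e ≤ (twistedG2 K e).comap (Matrix.GeneralLinearGroup.map σ) := by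
    unfold twistedG2 ChevalleyDatum.genSubgroup
    rw [Subgroup.closure_le]
    rintro g ⟨w, hw, hg⟩
    rw [SetLike.mem_coe, Subgroup.mem_comap]
    apply Subgroup.subset_closure
    refine ⟨wmap σ w, ?_, ?_⟩
    · obtain ⟨t, u, v, rfl | rfl⟩ := hw
      · exact ⟨σ t, σ u, σ v, Or.inl (reeWordU_map σ e t u v)⟩
      · exact ⟨σ t, σ u, σ v, Or.inr (reeWordV_map σ e t u v)⟩
    · rw [← wordMat_map, ← hg]
      ext i j
      rw [Matrix.GeneralLinearGroup.map_apply, Matrix.map_apply]
  exact hle hg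

theorem map_xGL (σ : K →+* K) (r : ℕ) (t : K) :
    Matrix.GeneralLinearGroup.map σ (xGL chevG2 K r t) = xGL chevG2 K r (σ t) := by
  apply Units.ext
  ext i j
  rw [Matrix.GeneralLinearGroup.map_apply, xGL_val chevG2 _ (triOK_of_mem chevG2 hG2),
    xGL_val chevG2 _ (triOK_of_mem chevG2 hG2), ← x_map' chevG2 σ r t, Matrix.map_apply]

theorem map_nG (σ : K →+* K) (r : ℕ) (t : K) :
    Matrix.GeneralLinearGroup.map σ (nG chevG2 K r t) = nG chevG2 K r (σ t) := by
  rw [nG_eq, nG_eq, map_mul, map_mul, map_xGL, map_xGL, map_neg, map_inv₀]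

theorem map_hG (σ : K →+* K) (r : ℕ) (t : K) :
    Matrix.GeneralLinearGroup.map σ (hG chevG2 K r t) = hG chevG2 K r (σ t) := by
  rw [hG_eq, hG_eq, map_mul, map_nG, map_nG, map_neg, map_one]

theorem map_nP (σ : K →+* K) : Matrix.GeneralLinearGroup.map σ (nP K) = nP K := by
  unfold nP
  rw [map_mul, map_nG, map_nG, map_one]

theorem map_Jg (σ : K →+* K) : Matrix.GeneralLinearGroup.map σ (Jg K) = Jg K := by
  unfold Jg
  rw [map_hG, map_neg, map_one]

theorem ch_map (σ : K →+* K) (g : GL chevG2.Idx K) (s : ℕ) (hs : s < 12) :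
    ch (Matrix.GeneralLinearGroup.map σ g) s = σ (ch g s) := by
  unfold ch rootEntry
  have : s < chevG2.nroots := hs
  rw [dif_pos this, dif_pos this, Matrix.GeneralLinearGroup.map_apply]

end FieldGL

section FieldAut
variable {K : Type*} [Field K] [Fintype K] [CharP K 3] {m : ℕ}

omit [Fintype K] in
theorem map_wordGLU (σ : K →+* K) (θ : ℕ) (t u v : K) :
    Matrix.GeneralLinearGroup.map σ (wordGLU θ t u v) = wordGLU θ (σ t) (σ u) (σ v) := by
  apply Units.ext
  have e1 : ((wordGLU θ t u v : GL chevG2.Idx K) : Matrix chevG2.Idx chevG2.Idx K) =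
      chevG2.wordMat K (reeWordU θ t u v) := wordU_val θ t u v
  have e2 : ((wordGLU θ (σ t) (σ u) (σ v) : GL chevG2.Idx K) : Matrix chevG2.Idx chevG2.Idx K) =
      chevG2.wordMat K (reeWordU θ (σ t) (σ u) (σ v)) := wordU_val θ (σ t) (σ u) (σ v)
  rw [e2, ← reeWordU_map, ← wordMat_map, ← e1]
  ext i j
  rw [Matrix.GeneralLinearGroup.map_apply, Matrix.map_apply]

theorem map_mem_T1 (hK : Fintype.card K = 3 ^ (2 * m + 1)) (σ : K →+* K) {h : GL chevG2.Idx K}
    (hh : h ∈ T1 K m) : Matrix.GeneralLinearGroup.map σ h ∈ T1 K m := by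
  obtain ⟨s, hs, rfl | rfl⟩ := T1_cases hK h hh
  · rw [map_mul, map_hG, map_hG, map_pow]
    exact (tE K m (σ s) ((map_ne_zero σ).mpr hs)).2
  · rw [map_mul, map_Jg, map_mul, map_hG, map_hG, map_pow]
    exact mul_mem (Jg_mem_T1 m) (tE K m (σ s) ((map_ne_zero σ).mpr hs)).2

/-- the automorphism of `²G₂(q)` induced by a field automorphism -/
noncomputable def reeFieldAut (K : Type*) [Field K] (m : ℕ) (σ : K ≃+* K) : MulAut ↥(twistedG2 K (3 ^ m)) where
  toFun g := ⟨Matrix.GeneralLinearGroup.map (σ : K →+* K) g.1, map_mem_twistedG2 _ _ g.2⟩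
  invFun g := ⟨Matrix.GeneralLinearGroup.map (σ.symm : K →+* K) g.1, map_mem_twistedG2 _ _ g.2⟩
  left_inv g := by
    apply Subtype.ext
    apply Units.ext
    ext i j
    simp [Matrix.GeneralLinearGroup.map_apply]
  right_inv g := by
    apply Subtype.ext
    apply Units.ext
    ext i j
    simp [Matrix.GeneralLinearGroup.map_apply]
  map_mul' a b := by
    apply Subtype.ext
    simp

omit [Fintype K] [CharP K 3] in
theorem reeFieldAut_val (σ : K ≃+* K) (g : ↥(twistedG2 K (3 ^ m))) :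
    ((reeFieldAut K m σ g : ↥(twistedG2 K (3 ^ m))) : GL chevG2.Idx K) =
      Matrix.GeneralLinearGroup.map (σ : K →+* K) g.1 := rfl

/-- field automorphisms act as a group -/
noncomputable def reeFieldHom (K : Type*) [Field K] (m : ℕ) : (K ≃+* K) →* MulAut ↥(twistedG2 K (3 ^ m)) where
  toFun := reeFieldAut K m
  map_one' := by
    ext g i j
    rw [reeFieldAut_val, Matrix.GeneralLinearGroup.map_apply]
    rfl
  map_mul' σ τ := by
    ext g i j
    rw [MulAut.mul_apply, reeFieldAut_val, reeFieldAut_val, reeFieldAut_val, Matrix.GeneralLinearGroup.map_apply,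
      Matrix.GeneralLinearGroup.map_apply, Matrix.GeneralLinearGroup.map_apply]
    rfl

omit [Fintype K] in
theorem reeFieldAut_gU (σ : K ≃+* K) (t u v : K) :
    reeFieldAut K m σ (gU K m t u v) = gU K m (σ t) (σ u) (σ v) :=
  Subtype.ext (map_wordGLU (σ : K →+* K) (3 ^ m) t u v)

omit [Fintype K] in
theorem reeFieldAut_gN (σ : K ≃+* K) : reeFieldAut K m σ (gN K m) = gN K m :=
  Subtype.ext (map_nP (σ : K →+* K))

theorem reeFieldAut_gT (hK : Fintype.card K = 3 ^ (2 * m + 1)) (σ : K ≃+* K) (c : Kˣ) :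
    reeFieldAut K m σ (gT hK c) = gT hK (Units.map (σ : K →* K) c) := by
  apply Subtype.ext
  apply ch6_injOn hK _ _ (map_mem_T1 hK _ (gT_mem hK c)) (gT_mem hK _)
  rw [ch_map _ _ 6 (by decide), ch_gT, ch_gT]
  rfl

end FieldAut

end Cfsg.Agent.Helper6.Ree
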