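import Cfsg.Agent.Helper6.Ree20

/-!
Helper6: arithmetic in the field with `3^(2m+1)` elements used for the Ree group.
-/

set_option autoImplicit false
set_option maxRecDepth 100000

namespace Cfsg.Agent.Helper6.Ree

open Cfsg Cfsg.Lie Cfsg.Agent.Helper18 Cfsg.Agent.Helper18.Ree

section Num
variable {K : Type*} [Field K] [Fintype K] {m : ℕ}

omit [Fintype K] in
theorem pow3t_add [CharP K 3] (m : ℕ) (x y : K) :
    (x + y) ^ (3 * 3 ^ m) = x ^ (3 * 3 ^ m) + y ^ (3 * 3 ^ m) := by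
  have e : 3 * 3 ^ m = 3 ^ (m + 1) := by ring
  rw [e]
  exact add_pow_char_pow x y 3 (m + 1)

omit [Fintype K] in
theorem pow3t_neg (m : ℕ) (x : K) : (-x) ^ (3 * 3 ^ m) = -(x ^ (3 * 3 ^ m)) := by
  have e : 3 * 3 ^ m = 3 ^ (m + 1) := by ring
  rw [e]
  exact (odd_three_pow (m + 1)).neg_pow x

theorem nat_id1 (m : ℕ) : (3 * 3 ^ m + 2) * (3 * 3 ^ m - 2) + 4 = 3 * 3 ^ (2 * m + 1) := by
  have h1 : 1 ≤ 3 ^ m := Nat.one_le_pow _ _ (by norm_num)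
  obtain ⟨b, hb⟩ : ∃ b, 3 * 3 ^ m = b + 2 := ⟨3 * 3 ^ m - 2, by omega⟩
  have e : 3 * 3 ^ (2 * m + 1) = (3 * 3 ^ m) ^ 2 := by ring
  rw [e, hb]
  have : b + 2 - 2 = b := by omega
  rw [this]
  ring

theorem nat_id2 (m : ℕ) : (3 * 3 ^ m - 1) * (3 * 3 ^ m + 1) + 1 = 3 * 3 ^ (2 * m + 1) := by
  have h1 : 1 ≤ 3 ^ m := Nat.one_le_pow _ _ (by norm_num)
  obtain ⟨b, hb⟩ : ∃ b, 3 * 3 ^ m = b + 1 := ⟨3 * 3 ^ m - 1, by omega⟩
  have e : 3 * 3 ^ (2 * m + 1) = (3 * 3 ^ m) ^ 2 := by ring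
  rw [e, hb]
  have : b + 1 - 1 = b := by omega
  rw [this]
  ring

theorem pow_three_q (hK : Fintype.card K = 3 ^ (2 * m + 1)) (x : K) : x ^ (3 * 3 ^ (2 * m + 1)) = x ^ 3 := by
  rw [mul_comm, pow_mul, pow_card_eq hK]

/-- `z ↦ z^(3θ+2)` is inverted by a power map -/
theorem pow_e2_inv (hK : Fintype.card K = 3 ^ (2 * m + 1)) (z : K) (hz : z ≠ 0) :
    (z ^ (3 * 3 ^ m + 2)) ^ (3 * 3 ^ m - 2) * z = 1 := by
  have h1 : (z ^ (3 * 3 ^ m + 2)) ^ (3 * 3 ^ m - 2) * z ^ 4 = z ^ 3 := by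
    rw [← pow_mul, ← pow_add, nat_id1, pow_three_q hK]
  have h2 : ((z ^ (3 * 3 ^ m + 2)) ^ (3 * 3 ^ m - 2) * z) * z ^ 3 = 1 * z ^ 3 := by
    rw [one_mul]
    generalize (z ^ (3 * 3 ^ m + 2)) ^ (3 * 3 ^ m - 2) = A at h1 ⊢
    calc A * z * z ^ 3 = A * z ^ 4 := by ring
      _ = z ^ 3 := h1
  exact mul_right_cancel₀ (pow_ne_zero 3 hz) h2

theorem pow_e2_injective (hK : Fintype.card K = 3 ^ (2 * m + 1)) :
    Function.Injective (fun x : K => x ^ (3 * 3 ^ m + 2)) := by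
  intro x y h
  simp only at h
  by_cases hx : x = 0
  · rw [hx, zero_pow (by omega)] at h
    rw [hx]
    exact (pow_eq_zero_iff (by omega)).mp h.symm |>.symm
  · have hy : y ≠ 0 := by
      rintro rfl
      rw [zero_pow (by omega)] at h
      exact hx ((pow_eq_zero_iff (by omega)).mp h)
    have e1 := pow_e2_inv hK x hx
    have e2 := pow_e2_inv hK y hy
    rw [h] at e1
    have : (y ^ (3 * 3 ^ m + 2)) ^ (3 * 3 ^ m - 2) ≠ 0 := pow_ne_zero _ (pow_ne_zero _ hy)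
    exact mul_left_cancel₀ this (e1.trans e2.symm)

theorem pow_e2_surjective (hK : Fintype.card K = 3 ^ (2 * m + 1)) :
    Function.Surjective (fun x : K => x ^ (3 * 3 ^ m + 2)) :=
  Finite.injective_iff_surjective.mp (pow_e2_injective hK)

/-- every non-zero square is a `(3θ+1)`-th power -/
theorem sq_eq_pow (hK : Fintype.card K = 3 ^ (2 * m + 1)) (s : K) (hs : s ≠ 0) :
    (s ^ (3 * 3 ^ m - 1)) ^ (3 * 3 ^ m + 1) = s ^ 2 := by
  have h1 : (s ^ (3 * 3 ^ m - 1)) ^ (3 * 3 ^ m + 1) * s = s ^ 2 * s := by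
    rw [← pow_mul, ← pow_succ, nat_id2, pow_three_q hK]
    ring
  exact mul_right_cancel₀ hs h1

/-- for `m ≥ 1` the map `t ↦ t^(3θ)` is not the identity -/
theorem exists_pow3t_ne (hm : 1 ≤ m) (hK : Fintype.card K = 3 ^ (2 * m + 1)) : ∃ t : K, t ^ (3 * 3 ^ m) ≠ t := by
  classical
  by_contra hcon
  push Not at hcon
  obtain ⟨g, hg⟩ := IsCyclic.exists_generator (α := Kˣ)
  have hord : orderOf g = Nat.card Kˣ := orderOf_eq_card_of_forall_mem_zpowers hg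
  rw [Nat.card_units, Nat.card_eq_fintype_card, hK] at hord
  have h1 : g ^ (3 * 3 ^ m - 1) = 1 := by
    apply Units.ext
    rw [Units.val_pow_eq_pow_val, Units.val_one]
    have h2 := hcon (g : K)
    have h3 : (g : K) ^ (3 * 3 ^ m - 1) * g = 1 * g := by
      rw [← pow_succ, one_mul]
      have : 3 * 3 ^ m - 1 + 1 = 3 * 3 ^ m := by
        have : 1 ≤ 3 ^ m := Nat.one_le_pow _ _ (by norm_num)
        omega
      rw [this, h2]
    exact mul_right_cancel₀ g.ne_zero h3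
  have h4 := orderOf_dvd_of_pow_eq_one h1
  rw [hord] at h4
  have h5 : 3 ^ (2 * m + 1) - 1 ≤ 3 * 3 ^ m - 1 := by
    apply Nat.le_of_dvd _ h4
    have : 1 ≤ 3 ^ m := Nat.one_le_pow _ _ (by norm_num)
    omega
  have h6 : 3 ^ (2 * m + 1) = 3 * 3 ^ m * 3 ^ m := by ring
  have h7 : 3 ≤ 3 ^ m := by
    calc 3 = 3 ^ 1 := by norm_num
      _ ≤ 3 ^ m := Nat.pow_le_pow_right (by norm_num) hm
  have h8 : 3 * 3 ^ m * 3 ≤ 3 * 3 ^ m * 3 ^ m := Nat.mul_le_mul_left _ h7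
  have h9 : 1 ≤ 3 ^ m := Nat.one_le_pow _ _ (by norm_num)
  omega

end Num

end Cfsg.Agent.Helper6.Ree
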