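import Cfsg.Agent.Helper6.Ree21

/-!
Helper6: computations in `U¹` of `²G₂(q)`: splitting, the elementary abelian part, cubes, commutators.
-/

set_option autoImplicit false
set_option maxRecDepth 100000

namespace Cfsg.Agent.Helper6.Ree

open Cfsg Cfsg.Lie Cfsg.Agent.Helper18 Cfsg.Agent.Helper18.Ree

section UAlg
variable {K : Type*} [Field K] [Fintype K] [CharP K 3] {m : ℕ}

omit [Fintype K] [CharP K 3] in
theorem zero_pow3t (m : ℕ) : (0 : K) ^ (3 * 3 ^ m) = 0 :=
  zero_pow (by positivity)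

omit [Fintype K] in
theorem three_eq_zero : (3 : K) = 0 := by
  have := CharP.cast_eq_zero K 3
  exact_mod_cast this

theorem gU_split (hK : Fintype.card K = 3 ^ (2 * m + 1)) (t u v : K) :
    gU K m t u v = gU K m t 0 0 * gU K m 0 u v := by
  rw [gU_mul hK, zero_pow3t, pow_succ, zero_pow3t]
  congr 1 <;> ring

theorem gU_abelian (hK : Fintype.card K = 3 ^ (2 * m + 1)) (u v u' v' : K) :
    gU K m 0 u v * gU K m 0 u' v' = gU K m 0 (u + u') (v + v') := by
  rw [gU_mul hK, zero_pow3t, pow_succ, zero_pow3t]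
  congr 1 <;> ring

theorem gU_central (hK : Fintype.card K = 3 ^ (2 * m + 1)) (t u v w : K) :
    gU K m t u v * gU K m 0 0 w = gU K m t u (v + w) := by
  rw [gU_mul hK, zero_pow3t, pow_succ, zero_pow3t]
  congr 1 <;> ring

theorem gU_cube (hK : Fintype.card K = 3 ^ (2 * m + 1)) (t u v : K) :
    gU K m t u v ^ 3 = gU K m 0 0 (-(t ^ (3 * 3 ^ m + 2))) := by
  have h3 := three_eq_zero (K := K)
  rw [pow_succ, pow_two, gU_mul hK, gU_mul hK]
  congr 1
  · linear_combination t * h3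
  · linear_combination (u - t ^ (3 * 3 ^ m + 1)) * h3
  · linear_combination (v - t * u) * h3

theorem gU_cube_eq_one (hK : Fintype.card K = 3 ^ (2 * m + 1)) (t u v : K) (h : gU K m t u v ^ 3 = 1) : t = 0 := by
  rw [gU_cube hK, ← gU_zero] at h
  obtain ⟨-, -, h3⟩ := gU_inj h
  have : t ^ (3 * 3 ^ m + 2) = 0 := neg_eq_zero.mp h3
  exact pow_eq_zero_iff (by omega) |>.mp this

/-- the commutator formula modulo the centre -/
theorem gU_comm (hK : Fintype.card K = 3 ^ (2 * m + 1)) (t u v t' u' v' : K) :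
    ∃ d : K, gU K m t u v * gU K m t' u' v' =
      gU K m t' u' v' * gU K m t u v * gU K m 0 (t' * t ^ (3 * 3 ^ m) - t * t' ^ (3 * 3 ^ m)) d := by
  refine ⟨(v + v' - t' * u + t * t' ^ (3 * 3 ^ m + 1) - t ^ 2 * t' ^ (3 * 3 ^ m)) -
    (v' + v - t * u' + t' * t ^ (3 * 3 ^ m + 1) - t' ^ 2 * t ^ (3 * 3 ^ m)), ?_⟩
  rw [gU_mul hK, gU_mul hK, gU_mul hK, zero_pow3t, pow_succ (0 : K), zero_pow3t]
  congr 1 <;> ring

end UAlg

end Cfsg.Agent.Helper6.Ree
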