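import Cfsg.Agent.Helper6.Ree22

/-!
Helper6: automorphisms of `²G₂(q)` stabilising `U¹` and `H¹`: extracting the field automorphism.
-/

set_option autoImplicit false
set_option maxRecDepth 100000

namespace Cfsg.Agent.Helper6.Ree

open Cfsg Cfsg.Lie Cfsg.Agent.Helper18 Cfsg.Agent.Helper18.Ree

section Shape
variable {K : Type*} [Field K] [Fintype K] [CharP K 3] {m : ℕ}

omit [CharP K 3] in
/-- a normalised additive map compatible with a map of the units is a field automorphism -/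
theorem ringEquiv_of_shape (g₁ : K → K) (τ : Kˣ → Kˣ)
    (hadd : ∀ a c : K, g₁ (a + c) = g₁ a + g₁ c)
    (hmul : ∀ (t : Kˣ) (a : K), g₁ ((t : K) * a) = (τ t : K) * g₁ a)
    (hone : g₁ 1 = 1) :
    ∃ σ : K ≃+* K, (∀ a : K, σ a = g₁ a) ∧ (∀ t : Kˣ, σ (t : K) = (τ t : K)) := by
  have h0 : g₁ 0 = 0 := by
    have := hadd 0 0
    rw [add_zero] at this
    exact left_eq_add.1 this
  have hτ : ∀ t : Kˣ, g₁ (t : K) = (τ t : K) := by
    intro t
    have := hmul t 1
    rwa [mul_one, hone, mul_one] at this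
  let f : K →+* K :=
    { toFun := g₁
      map_one' := hone
      map_mul' := by
        intro a b
        by_cases ha : a = 0
        · rw [ha, zero_mul, h0, zero_mul]
        · have := hmul (Units.mk0 a ha) b
          rw [Units.val_mk0] at this
          rw [this, ← hτ, Units.val_mk0]
      map_zero' := h0
      map_add' := hadd }
  have hinj : Function.Injective f := f.injective
  have hbij : Function.Bijective f := ⟨hinj, Finite.injective_iff_surjective.1 hinj⟩
  refine ⟨RingEquiv.ofBijective f hbij, fun a => rfl, fun t => ?_⟩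
  exact hτ t

/-- the shape of an automorphism stabilising `U¹` and `H¹` -/
theorem aut_shape (hK : Fintype.card K = 3 ^ (2 * m + 1)) (α : MulAut ↥(twistedG2 K (3 ^ m)))
    (hU : ∀ t u v : K, ∃ t' u' v' : K, α (gU K m t u v) = gU K m t' u' v')
    (hT : ∀ c : Kˣ, ∃ c' : Kˣ, α (gT hK c) = gT hK c') :
    ∃ (g₁ : K → K) (τ : Kˣ → Kˣ),
      (∀ t u v : K, ∃ u' v' : K, α (gU K m t u v) = gU K m (g₁ t) u' v') ∧
      (∀ c : Kˣ, α (gT hK c) = gT hK (τ c)) ∧
      (∀ a b : K, g₁ (a + b) = g₁ a + g₁ b) ∧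
      (∀ (c : Kˣ) (a : K), g₁ ((c : K) * a) = (τ c : K) * g₁ a) ∧
      g₁ 1 ≠ 0 := by
  choose f1 f2 f3 hf using hU
  choose τ hτ using hT
  have h0 : ∀ u v, f1 0 u v = 0 := by
    intro u v
    apply gU_cube_eq_one hK (f1 0 u v) (f2 0 u v) (f3 0 u v)
    rw [← hf, ← map_pow, gU_cube hK, zero_pow (by omega), neg_zero, gU_zero, map_one]
  have hg : ∀ t u v, f1 t u v = f1 t 0 0 := by
    intro t u v
    have := congrArg α (gU_split hK t u v)
    rw [map_mul, hf, hf, hf, h0, gU_mul hK] at this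
    obtain ⟨e, -, -⟩ := gU_inj this
    rw [e, add_zero]
  refine ⟨fun t => f1 t 0 0, τ, ?_, hτ, ?_, ?_, ?_⟩
  · intro t u v
    exact ⟨f2 t u v, f3 t u v, by rw [hf, hg]⟩
  · intro a b
    have := congrArg α (gU_mul hK a 0 0 b 0 0)
    rw [map_mul, hf, hf, hf, gU_mul hK] at this
    obtain ⟨e, -, -⟩ := gU_inj this
    rw [hg (a + b) _ _] at e
    exact e.symm
  · intro c a
    have := congrArg α (gT_conj_gU hK c a 0 0)
    rw [map_mul, map_mul, map_inv, hτ, hf, gT_conj_gU hK, hf] at this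
    obtain ⟨e, -, -⟩ := gU_inj this
    rw [hg ((c : K) * a) _ _] at e
    exact e.symm
  · intro h1
    have h2 : α (gU K m 1 0 0) ^ 3 = 1 := by
      rw [hf, gU_cube hK]
      simp only at h1
      rw [h1, zero_pow (by omega), neg_zero, gU_zero]
    rw [← map_pow, map_eq_one_iff α (MulEquiv.injective α)] at h2
    exact one_ne_zero (gU_cube_eq_one hK 1 0 0 h2)

omit [Fintype K] [CharP K 3] in
theorem reeFieldAut_inv (σ : K ≃+* K) : (reeFieldAut K m σ)⁻¹ = reeFieldAut K m σ.symm := by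
  have h1 : reeFieldAut K m σ = reeFieldHom K m σ := rfl
  have h2 : reeFieldAut K m σ.symm = reeFieldHom K m σ.symm := rfl
  rw [h1, h2, ← map_inv]
  rfl

/-- after a torus conjugation and a field automorphism, the automorphism is the identity on the torus and on
`U¹` modulo its Frattini subgroup -/
theorem exists_field_normalize (hK : Fintype.card K = 3 ^ (2 * m + 1)) (α : MulAut ↥(twistedG2 K (3 ^ m)))
    (hU : ∀ t u v : K, ∃ t' u' v' : K, α (gU K m t u v) = gU K m t' u' v')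
    (hT : ∀ c : Kˣ, ∃ c' : Kˣ, α (gT hK c) = gT hK c') :
    ∃ (c : Kˣ) (σ : K ≃+* K),
      (∀ t u v : K, ∃ u' v' : K,
        ((reeFieldAut K m σ)⁻¹ * (MulAut.conj (gT hK c) * α)) (gU K m t u v) = gU K m t u' v') ∧
      (∀ d : Kˣ, ((reeFieldAut K m σ)⁻¹ * (MulAut.conj (gT hK c) * α)) (gT hK d) = gT hK d) := by
  obtain ⟨g₁, τ, h1, h2, h3, h4, h5⟩ := aut_shape hK α hU hT
  obtain ⟨c, hc⟩ : ∃ c : Kˣ, c = (Units.mk0 (g₁ 1) h5)⁻¹ := ⟨_, rfl⟩
  have hc1 : (c : K) * g₁ 1 = 1 := by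
    rw [hc, Units.val_inv_eq_inv_val, Units.val_mk0, inv_mul_cancel₀ h5]
  obtain ⟨σ, hσ1, hσ2⟩ := ringEquiv_of_shape (fun a => (c : K) * g₁ a) τ
    (fun a b => by rw [h3, mul_add])
    (fun t a => by rw [h4]; ring) hc1
  refine ⟨c, σ, ?_, ?_⟩
  · intro t u v
    obtain ⟨u', v', e⟩ := h1 t u v
    refine ⟨σ.symm ((c : K) ^ (3 * 3 ^ m + 1) * u'), σ.symm ((c : K) ^ (3 * 3 ^ m + 2) * v'), ?_⟩
    rw [reeFieldAut_inv, MulAut.mul_apply, MulAut.mul_apply, e, MulAut.conj_apply, gT_conj_gU hK,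
      reeFieldAut_gU]
    congr 1
    rw [← hσ1 t, RingEquiv.symm_apply_apply]
  · intro d
    rw [reeFieldAut_inv, MulAut.mul_apply, MulAut.mul_apply, h2, MulAut.conj_apply, ← map_mul, ← map_inv,
      ← map_mul, mul_comm c, mul_inv_cancel_right, reeFieldAut_gT hK]
    congr 1
    apply Units.ext
    show σ.symm ((τ d : Kˣ) : K) = d
    rw [← hσ2 d, RingEquiv.symm_apply_apply]

end Shape

end Cfsg.Agent.Helper6.Ree
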