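import Cfsg.Agent.Helper6.Ree23

/-!
Helper6: rigidity of automorphisms of `²G₂(q)` on `U¹`.
-/

set_option autoImplicit false
set_option maxRecDepth 100000

namespace Cfsg.Agent.Helper6.Ree

open Cfsg Cfsg.Lie Cfsg.Agent.Helper18 Cfsg.Agent.Helper18.Ree

section Rigid
variable {K : Type*} [Field K] [Fintype K] [CharP K 3] {m : ℕ}

omit [Fintype K] [CharP K 3] in
theorem neg_one_pow_e1 (m : ℕ) : (-1 : K) ^ (3 * 3 ^ m + 1) = 1 := by
  have e : 3 * 3 ^ m = 3 ^ (m + 1) := by ring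
  rw [e]
  exact (Odd.add_odd (odd_three_pow (m + 1)) odd_one).neg_one_pow

omit [Fintype K] [CharP K 3] in
theorem neg_one_pow_e2 (m : ℕ) : (-1 : K) ^ (3 * 3 ^ m + 2) = -1 := by
  rw [pow_succ, neg_one_pow_e1]
  ring

/-- central elements are fixed -/
theorem aut_fix_center (hK : Fintype.card K = 3 ^ (2 * m + 1)) (α : MulAut ↥(twistedG2 K (3 ^ m)))
    (hU1 : ∀ t u v : K, ∃ u' v' : K, α (gU K m t u v) = gU K m t u' v') (w : K) :
    α (gU K m 0 0 w) = gU K m 0 0 w := by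
  obtain ⟨t, ht⟩ := pow_e2_surjective hK (-w)
  simp only at ht
  obtain ⟨u', v', e⟩ := hU1 t 0 0
  have : gU K m 0 0 w = gU K m t 0 0 ^ 3 := by rw [gU_cube hK, ht, neg_neg]
  rw [this, map_pow, e, gU_cube hK, gU_cube hK]

/-- the elementary abelian part is fixed pointwise -/
theorem aut_fix_abelian (hm : 1 ≤ m) (hK : Fintype.card K = 3 ^ (2 * m + 1)) (α : MulAut ↥(twistedG2 K (3 ^ m)))
    (hU1 : ∀ t u v : K, ∃ u' v' : K, α (gU K m t u v) = gU K m t u' v')
    (hT1 : ∀ d : Kˣ, α (gT hK d) = gT hK d) (u v : K) :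
    α (gU K m 0 u v) = gU K m 0 u v := by
  have R1 := aut_fix_center hK α hU1
  choose b c hbc using fun u => hU1 0 u 0
  have b_add : ∀ x y, b (x + y) = b x + b y ∧ c (x + y) = c x + c y := by
    intro x y
    have := congrArg α (gU_abelian hK x 0 y 0)
    rw [map_mul, hbc, hbc, add_zero, hbc, gU_abelian hK] at this
    obtain ⟨-, e1, e2⟩ := gU_inj this
    exact ⟨e1.symm, e2.symm⟩
  have b_eq : ∀ (d : Kˣ) x, b ((d : K) ^ (3 * 3 ^ m + 1) * x) = (d : K) ^ (3 * 3 ^ m + 1) * b x ∧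
      c ((d : K) ^ (3 * 3 ^ m + 1) * x) = (d : K) ^ (3 * 3 ^ m + 2) * c x := by
    intro d x
    have := congrArg α (gT_conj_gU hK d 0 x 0)
    rw [map_mul, map_mul, map_inv, hT1, hbc, gT_conj_gU hK, mul_zero, mul_zero, hbc] at this
    obtain ⟨-, e1, e2⟩ := gU_inj this
    exact ⟨e1.symm, e2.symm⟩
  have c_zero : ∀ x, c x = 0 := by
    intro x
    have := (b_eq (-1) x).2
    rw [Units.val_neg, Units.val_one, neg_one_pow_e1, neg_one_pow_e2, one_mul] at this
    have h2 : (2 : K) * c x = 0 := by linear_combination this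
    rcases mul_eq_zero.mp h2 with h | h
    · exact absurd h two_ne_zero_K
    · exact h
  have b_zero : b 0 = 0 := by
    have := (b_add 0 0).1
    rw [add_zero] at this
    exact left_eq_add.mp this
  have b_neg : ∀ x, b (-x) = -b x := by
    intro x
    have := (b_add x (-x)).1
    rw [add_neg_cancel, b_zero] at this
    exact (neg_eq_of_add_eq_zero_right this.symm).symm
  have b_sq : ∀ s : K, s ≠ 0 → ∀ x, b (s ^ 2 * x) = s ^ 2 * b x := by
    intro s hs x
    have := (b_eq (Units.mk0 (s ^ (3 * 3 ^ m - 1)) (pow_ne_zero _ hs)) x).1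
    rw [Units.val_mk0, sq_eq_pow hK s hs] at this
    exact this
  have b_lin : ∀ k : K, k ≠ 0 → ∀ x, b (k * x) = k * b x := by
    intro k hk x
    obtain ⟨s, hs, h | h⟩ := exists_sq_or_neg_sq hK k hk
    · rw [h, b_sq s hs]
    · rw [h, neg_mul, b_neg, b_sq s hs, neg_mul]
  obtain ⟨t₀, ht₀⟩ := exists_pow3t_ne hm hK
  obtain ⟨c₀, hc₀⟩ : ∃ c₀ : K, c₀ = 1 * t₀ ^ (3 * 3 ^ m) - t₀ * 1 ^ (3 * 3 ^ m) := ⟨_, rfl⟩
  have hc₀ne : c₀ ≠ 0 := by
    rw [hc₀, one_mul, one_pow, mul_one]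
    exact sub_ne_zero.mpr ht₀
  have hbc₀ : b c₀ = c₀ := by
    obtain ⟨d, hd⟩ := gU_comm hK t₀ 0 0 1 0 0
    rw [← hc₀] at hd
    obtain ⟨p, q, hx⟩ := hU1 t₀ 0 0
    obtain ⟨p', q', hy⟩ := hU1 1 0 0
    obtain ⟨d', hd'⟩ := gU_comm hK t₀ p q 1 p' q'
    rw [← hc₀] at hd'
    have h1 := congrArg α hd
    rw [map_mul, map_mul, map_mul, hx, hy, hd'] at h1
    have h2 : α (gU K m 0 c₀ d) = gU K m 0 c₀ d' := (mul_left_cancel h1).symm
    have h3 : gU K m 0 c₀ d = gU K m 0 c₀ 0 * gU K m 0 0 d := by rw [gU_central hK, zero_add]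
    rw [h3, map_mul, hbc, R1, gU_central hK] at h2
    exact (gU_inj h2).2.1
  have b_id : ∀ x, b x = x := by
    intro x
    by_cases hx : x = 0
    · rw [hx, b_zero]
    · have : x = (x / c₀) * c₀ := by field_simp
      rw [this, b_lin _ (div_ne_zero hx hc₀ne), hbc₀]
  have h3 : gU K m 0 u v = gU K m 0 u 0 * gU K m 0 0 v := by rw [gU_central hK, zero_add]
  rw [h3, map_mul, hbc, R1, b_id, c_zero]

/-- an automorphism that is the identity on `H¹` and on `U¹` modulo its Frattini subgroup is the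
identity on `U¹` -/
theorem aut_trivial_on_U (hm : 1 ≤ m) (hK : Fintype.card K = 3 ^ (2 * m + 1)) (α : MulAut ↥(twistedG2 K (3 ^ m)))
    (hU1 : ∀ t u v : K, ∃ u' v' : K, α (gU K m t u v) = gU K m t u' v')
    (hT1 : ∀ d : Kˣ, α (gT hK d) = gT hK d) (t u v : K) :
    α (gU K m t u v) = gU K m t u v := by
  have R2 := aut_fix_abelian hm hK α hU1 hT1
  have h3 := three_eq_zero (K := K)
  choose e z hez using fun t => hU1 t 0 0
  have e0 : e 0 = 0 ∧ z 0 = 0 := by
    have := hez 0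
    rw [gU_zero, map_one, ← gU_zero] at this
    obtain ⟨-, e1, e2⟩ := gU_inj this
    exact ⟨e1.symm, e2.symm⟩
  have even : ∀ t, e (-1 * t) = e t ∧ z (-1 * t) = -z t := by
    intro t
    have := congrArg α (gT_conj_gU hK (-1) t 0 0)
    rw [map_mul, map_mul, map_inv, hT1, hez, gT_conj_gU hK, mul_zero, mul_zero, hez] at this
    rw [Units.val_neg, Units.val_one, neg_one_pow_e1, neg_one_pow_e2] at this
    obtain ⟨-, e1, e2⟩ := gU_inj this
    rw [one_mul] at e1
    rw [neg_one_mul] at e2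
    exact ⟨e1.symm, e2.symm⟩
  have prod : ∀ t t', e (t + t') = e t + e t' ∧ z (t + t') = z t + z t' - t' * e t := by
    intro t t'
    have hsplit := gU_split hK (t + t') (0 + 0 - t * t' ^ (3 * 3 ^ m))
      (0 + 0 - t' * 0 + t * t' ^ (3 * 3 ^ m + 1) - t ^ 2 * t' ^ (3 * 3 ^ m))
    have := congrArg α (gU_mul hK t 0 0 t' 0 0)
    rw [map_mul, hez, hez, gU_mul hK, hsplit, map_mul, hez, R2, gU_mul hK, zero_pow3t,
      pow_succ (0 : K), zero_pow3t] at this
    obtain ⟨-, e1, e2⟩ := gU_inj this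
    constructor
    · linear_combination -e1
    · linear_combination -e2
  have e_zero : ∀ t, e t = 0 := by
    intro t
    have h1 := (prod t (-1 * t)).1
    rw [(even t).1] at h1
    have h2 : t + -1 * t = 0 := by ring
    rw [h2, e0.1] at h1
    have h4 : (2 : K) * e t = 0 := by linear_combination -h1
    rcases mul_eq_zero.mp h4 with h | h
    · exact absurd h two_ne_zero_K
    · exact h
  have z_add : ∀ t t', z (t + t') = z t + z t' := by
    intro t t'
    have := (prod t t').2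
    rw [e_zero, mul_zero, sub_zero] at this
    exact this
  have z_eq : ∀ (d : Kˣ) (a : K), z ((d : K) * a) = (d : K) ^ (3 * 3 ^ m + 2) * z a := by
    intro d a
    have := congrArg α (gT_conj_gU hK d a 0 0)
    rw [map_mul, map_mul, map_inv, hT1, hez, gT_conj_gU hK, mul_zero, mul_zero, hez] at this
    exact (gU_inj this).2.2.symm
  have z_one : z 1 = 0 := by
    by_contra hz1
    obtain ⟨t₀, ht₀⟩ := exists_pow3t_ne hm hK
    have ht0 : t₀ ≠ 0 := by
      rintro rfl
      exact ht₀ (zero_pow3t m)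
    have ht1 : t₀ + 1 ≠ 0 := by
      intro h
      have : t₀ = -1 := by linear_combination h
      apply ht₀
      rw [this, pow3t_neg, one_pow]
    have h1 := z_eq (Units.mk0 t₀ ht0) 1
    have h2 := z_eq (Units.mk0 (t₀ + 1) ht1) 1
    rw [Units.val_mk0, mul_one] at h1 h2
    have h4 := z_add t₀ 1
    rw [h1, h2] at h4
    have h5 : (t₀ + 1) ^ (3 * 3 ^ m + 2) = t₀ ^ (3 * 3 ^ m + 2) + 1 := by
      have : ((t₀ + 1) ^ (3 * 3 ^ m + 2) - (t₀ ^ (3 * 3 ^ m + 2) + 1)) * z 1 = 0 := by linear_combination h4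
      rcases mul_eq_zero.mp this with h | h
      · exact sub_eq_zero.mp h
      · exact absurd h hz1
    rw [pow_add, pow3t_add, one_pow] at h5
    have h6 : (1 - t₀) * (t₀ ^ (3 * 3 ^ m) - t₀) = 0 := by
      linear_combination h5 - (t₀ * t₀ ^ (3 * 3 ^ m) + t₀) * h3
    rcases mul_eq_zero.mp h6 with h | h
    · apply ht₀
      have : t₀ = 1 := by linear_combination -h
      rw [this, one_pow]
    · exact ht₀ (sub_eq_zero.mp h)
  have z_zero : ∀ t, z t = 0 := by
    intro t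
    by_cases ht : t = 0
    · rw [ht, e0.2]
    · have := z_eq (Units.mk0 t ht) 1
      rw [Units.val_mk0, mul_one, z_one, mul_zero] at this
      exact this
  rw [gU_split hK, map_mul, hez, R2, e_zero, z_zero]

end Rigid

end Cfsg.Agent.Helper6.Ree
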