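import Cfsg.Agent.Helper6.Ree24

/-!
Helper6: an automorphism of `²G₂(q)` that is the identity on `B¹` is the identity.
-/

set_option autoImplicit false
set_option maxRecDepth 100000

namespace Cfsg.Agent.Helper6.Ree

open Cfsg Cfsg.Lie Cfsg.Agent.Helper18 Cfsg.Agent.Helper18.Ree

section Rel
variable {K : Type*} [Field K] [Fintype K] [CharP K 3] {m : ℕ}

theorem gN_mul_self (hK : Fintype.card K = 3 ^ (2 * m + 1)) : gN K m * gN K m = 1 := by
  apply Subtype.ext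
  rw [Subgroup.coe_mul, gN_val, nP_eq_psi m, ← map_mul]
  have hW : Cfsg.Agent.Helper40.SL2Hom.W = Wk K := Subtype.ext rfl
  have h1 : psiG K m (Wk K * Wk K) = 1 := center_le_ker hK WW_mem_center
  rw [hW]
  exact congrArg Subtype.val h1

theorem gN_inv (hK : Fintype.card K = 3 ^ (2 * m + 1)) : (gN K m)⁻¹ = gN K m :=
  inv_eq_of_mul_eq_one_right (gN_mul_self hK)

/-- `T(c) U(x) = U(c·x) T(c)` -/
theorem gT_mul_gU (hK : Fintype.card K = 3 ^ (2 * m + 1)) (c : Kˣ) (t u v : K) :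
    gT hK c * gU K m t u v =
      gU K m ((c : K) * t) ((c : K) ^ (3 * 3 ^ m + 1) * u) ((c : K) ^ (3 * 3 ^ m + 2) * v) * gT hK c := by
  rw [← gT_conj_gU hK]
  group

/-- `T(c) N = N T(c⁻¹)` -/
theorem gT_mul_gN (hK : Fintype.card K = 3 ^ (2 * m + 1)) (c : Kˣ) :
    gT hK c * gN K m = gN K m * gT hK c⁻¹ := by
  rw [gN_mul_gT hK, inv_inv]

/-- `U(x) T(c) = T(c) U(c⁻¹·x)` -/
theorem gU_mul_gT (hK : Fintype.card K = 3 ^ (2 * m + 1)) (c : Kˣ) (t u v : K) :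
    gU K m t u v * gT hK c =
      gT hK c * gU K m (((c⁻¹ : Kˣ) : K) * t) (((c⁻¹ : Kˣ) : K) ^ (3 * 3 ^ m + 1) * u)
        (((c⁻¹ : Kˣ) : K) ^ (3 * 3 ^ m + 2) * v) := by
  rw [gT_mul_gU hK]
  congr 2
  · rw [Units.mul_inv_cancel_left]
  · rw [← mul_assoc, ← mul_pow, Units.mul_inv, one_pow, one_mul]
  · rw [← mul_assoc, ← mul_pow, Units.mul_inv, one_pow, one_mul]

theorem nf1 (hK : Fintype.card K = 3 ^ (2 * m + 1)) (c d : Kˣ) (t u v : K) :
    (gU K m t u v * gT hK d) * gT hK c = gU K m t u v * gT hK (d * c) := by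
  rw [mul_assoc, ← map_mul]

theorem nf2 (hK : Fintype.card K = 3 ^ (2 * m + 1)) (c d : Kˣ) (t u v : K) :
    gT hK c * (gU K m t u v * gT hK d) =
      gU K m ((c : K) * t) ((c : K) ^ (3 * 3 ^ m + 1) * u) ((c : K) ^ (3 * 3 ^ m + 2) * v) * gT hK (c * d) := by
  rw [← mul_assoc, gT_mul_gU hK, mul_assoc, ← map_mul]

theorem nf3 (hK : Fintype.card K = 3 ^ (2 * m + 1)) (c d : Kˣ) (t u v a b e : K) :
    (gU K m t u v * gT hK d * gN K m * gU K m a b e) * gT hK c =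
      gU K m t u v * gT hK (d * c⁻¹) * gN K m *
        gU K m (((c⁻¹ : Kˣ) : K) * a) (((c⁻¹ : Kˣ) : K) ^ (3 * 3 ^ m + 1) * b)
          (((c⁻¹ : Kˣ) : K) ^ (3 * 3 ^ m + 2) * e) := by
  calc gU K m t u v * gT hK d * gN K m * gU K m a b e * gT hK c
      = gU K m t u v * gT hK d * gN K m * (gU K m a b e * gT hK c) := by rw [mul_assoc]
    _ = gU K m t u v * gT hK d * gN K m * (gT hK c * gU K m (((c⁻¹ : Kˣ) : K) * a)
          (((c⁻¹ : Kˣ) : K) ^ (3 * 3 ^ m + 1) * b) (((c⁻¹ : Kˣ) : K) ^ (3 * 3 ^ m + 2) * e)) := by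
        rw [gU_mul_gT hK c a b e]
    _ = gU K m t u v * gT hK d * (gN K m * gT hK c) * gU K m (((c⁻¹ : Kˣ) : K) * a)
          (((c⁻¹ : Kˣ) : K) ^ (3 * 3 ^ m + 1) * b) (((c⁻¹ : Kˣ) : K) ^ (3 * 3 ^ m + 2) * e) := by
        simp only [mul_assoc]
    _ = gU K m t u v * (gT hK d * gT hK c⁻¹) * gN K m * gU K m (((c⁻¹ : Kˣ) : K) * a)
          (((c⁻¹ : Kˣ) : K) ^ (3 * 3 ^ m + 1) * b) (((c⁻¹ : Kˣ) : K) ^ (3 * 3 ^ m + 2) * e) := by
        rw [gN_mul_gT hK c]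
        simp only [mul_assoc]
    _ = _ := by rw [← map_mul]

theorem nf4 (hK : Fintype.card K = 3 ^ (2 * m + 1)) (c d : Kˣ) (t u v a b e : K) :
    gT hK c * (gU K m t u v * gT hK d * gN K m * gU K m a b e) =
      gU K m ((c : K) * t) ((c : K) ^ (3 * 3 ^ m + 1) * u) ((c : K) ^ (3 * 3 ^ m + 2) * v) * gT hK (c * d) *
        gN K m * gU K m a b e := by
  rw [← mul_assoc, ← mul_assoc, ← mul_assoc, gT_mul_gU hK, mul_assoc (gU K m _ _ _), ← map_mul]

end Rel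

section Cent
variable {K : Type*} [Field K] [Fintype K] [CharP K 3] {m : ℕ}

omit [Fintype K] [CharP K 3] in
theorem t0_facts (t₀ : K) (ht₀ : t₀ ^ (3 * 3 ^ m) ≠ t₀) : t₀ ≠ 0 ∧ t₀ ^ 2 ≠ 1 := by
  constructor
  · rintro rfl
    exact ht₀ (zero_pow3t m)
  · intro h
    have : (t₀ - 1) * (t₀ + 1) = 0 := by linear_combination h
    rcases mul_eq_zero.mp this with h1 | h1
    · apply ht₀
      have : t₀ = 1 := by linear_combination h1
      rw [this, one_pow]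
    · apply ht₀
      have : t₀ = -1 := by linear_combination h1
      rw [this, pow3t_neg, one_pow]

/-- the centraliser of `H¹` in `²G₂(q)` is `H¹` (for `q > 3`) -/
theorem centralizer_torus (hm : 1 ≤ m) (hK : Fintype.card K = 3 ^ (2 * m + 1)) (y : ↥(twistedG2 K (3 ^ m)))
    (hy : ∀ c : Kˣ, y * gT hK c = gT hK c * y) : ∃ d : Kˣ, y = gT hK d := by
  obtain ⟨t₀, ht₀⟩ := exists_pow3t_ne hm hK
  obtain ⟨ht0, ht2⟩ := t0_facts t₀ ht₀
  rcases bruhat_cases hK y with ⟨a₁, a₂, a₃, d, rfl⟩ | ⟨a₁, a₂, a₃, d, b₁, b₂, b₃, rfl⟩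
  · refine ⟨d, ?_⟩
    have h1 := hy (-1)
    rw [nf1 hK, nf2 hK] at h1
    obtain ⟨e1, -, e3, -⟩ := borel_unique hK h1
    rw [Units.val_neg, Units.val_one] at e1 e3
    rw [neg_one_pow_e2] at e3
    have ha1 : a₁ = 0 := by
      have : (2 : K) * a₁ = 0 := by linear_combination e1
      rcases mul_eq_zero.mp this with h | h
      · exact absurd h two_ne_zero_K
      · exact h
    have ha3 : a₃ = 0 := by
      have : (2 : K) * a₃ = 0 := by linear_combination e3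
      rcases mul_eq_zero.mp this with h | h
      · exact absurd h two_ne_zero_K
      · exact h
    have h2 := hy (Units.mk0 (t₀ ^ (3 * 3 ^ m - 1)) (pow_ne_zero _ ht0))
    rw [nf1 hK, nf2 hK] at h2
    obtain ⟨-, e2, -, -⟩ := borel_unique hK h2
    rw [Units.val_mk0, sq_eq_pow hK t₀ ht0] at e2
    have ha2 : a₂ = 0 := by
      have : (t₀ ^ 2 - 1) * a₂ = 0 := by linear_combination -e2
      rcases mul_eq_zero.mp this with h | h
      · exact absurd (sub_eq_zero.mp h) ht2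
      · exact h
    rw [ha1, ha2, ha3, gU_zero, one_mul]
  · exfalso
    have h1 := hy (Units.mk0 t₀ ht0)
    rw [nf3 hK, nf4 hK] at h1
    obtain ⟨-, -, -, e4, -, -, -⟩ := bigcell_unique' hK h1
    have h2 : (Units.mk0 t₀ ht0)⁻¹ = Units.mk0 t₀ ht0 := by
      have := congrArg (fun x => d⁻¹ * x) e4
      simp only [inv_mul_cancel_left] at this
      rw [this, mul_comm, mul_inv_cancel_right]
    have h3 : (Units.mk0 t₀ ht0) * (Units.mk0 t₀ ht0) = 1 := by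
      nth_rewrite 1 [← h2]
      exact inv_mul_cancel _
    have h4 := congrArg Units.val h3
    rw [Units.val_mul, Units.val_mk0, Units.val_one] at h4
    apply ht2
    rw [sq]
    exact h4

end Cent

end Cfsg.Agent.Helper6.Ree
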