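import Cfsg.Agent.Helper6.Ree25

/-!
Helper6: an automorphism of `²G₂(q)` that is the identity on `B¹` is the identity.
-/

set_option autoImplicit false
set_option maxRecDepth 100000

namespace Cfsg.Agent.Helper6.Ree

open Cfsg Cfsg.Lie Cfsg.Agent.Helper18 Cfsg.Agent.Helper18.Ree

section Final
variable {K : Type*} [Field K] [Fintype K] [CharP K 3] {m : ℕ}

/-- conjugating `N U(x) N` by a torus element -/
theorem conj_NUN (hK : Fintype.card K = 3 ^ (2 * m + 1)) (c : Kˣ) (t u v : K) :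
    gT hK c * (gN K m * gU K m t u v * gN K m) * (gT hK c)⁻¹ =
      gN K m * gU K m (((c⁻¹ : Kˣ) : K) * t) (((c⁻¹ : Kˣ) : K) ^ (3 * 3 ^ m + 1) * u)
        (((c⁻¹ : Kˣ) : K) ^ (3 * 3 ^ m + 2) * v) * gN K m := by
  have h1 : gT hK c * gN K m = gN K m * gT hK c⁻¹ := gT_mul_gN hK c
  have h2 : gN K m * (gT hK c)⁻¹ = (gT hK c⁻¹)⁻¹ * gN K m := by
    rw [← map_inv, gN_mul_gT hK, ← map_inv]
  calc gT hK c * (gN K m * gU K m t u v * gN K m) * (gT hK c)⁻¹
      = (gT hK c * gN K m) * gU K m t u v * (gN K m * (gT hK c)⁻¹) := by simp only [mul_assoc]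
    _ = gN K m * (gT hK c⁻¹ * gU K m t u v * (gT hK c⁻¹)⁻¹) * gN K m := by
        rw [h1, h2]
        simp only [mul_assoc]
    _ = _ := by rw [gT_conj_gU hK]

/-- an automorphism fixing `U¹` and `H¹` pointwise fixes the Weyl element -/
theorem aut_fix_gN (hm : 1 ≤ m) (hK : Fintype.card K = 3 ^ (2 * m + 1)) (α : MulAut ↥(twistedG2 K (3 ^ m)))
    (hU : ∀ t u v : K, α (gU K m t u v) = gU K m t u v) (hT : ∀ d : Kˣ, α (gT hK d) = gT hK d) :
    α (gN K m) = gN K m := by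
  have hNN := gN_mul_self (m := m) hK
  have hy : ∀ c : Kˣ, (gN K m * α (gN K m)) * gT hK c = gT hK c * (gN K m * α (gN K m)) := by
    intro c
    have h1 := congrArg α (gN_mul_gT hK c)
    rw [map_mul, map_mul, hT, hT] at h1
    have h2 : gN K m * gT hK c⁻¹ = gT hK c * gN K m := by rw [gN_mul_gT hK, inv_inv]
    rw [mul_assoc, h1, ← mul_assoc, h2, mul_assoc]
  obtain ⟨d, hd⟩ := centralizer_torus hm hK _ hy
  have hn' : α (gN K m) = gN K m * gT hK d := by
    rw [← hd, ← mul_assoc, hNN, one_mul]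
  -- the Bruhat form of `N u N`
  rcases bruhat_cases hK (gN K m * gU K m 1 0 0 * gN K m) with ⟨a₁, a₂, a₃, e, h⟩ | ⟨a₁, a₂, a₃, e, b₁, b₂, b₃, h⟩
  · exfalso
    have h1 : gU K m 0 0 0 * gT hK 1 * gN K m * gU K m 1 0 0 = gU K m a₁ a₂ a₃ * gT hK e * gN K m * gU K m 0 0 0 := by
      rw [gU_zero, map_one, one_mul, one_mul, mul_one, ← h]
      simp only [mul_assoc]
      rw [hNN, mul_one]
    obtain ⟨-, -, -, -, e5, -, -⟩ := bigcell_unique' hK h1
    exact one_ne_zero e5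
  · -- apply `α`
    have h1 := congrArg α h
    rw [map_mul, map_mul, map_mul, map_mul, map_mul, hU, hU, hU, hT, hn'] at h1
    have h2 : gN K m * gT hK d * gU K m 1 0 0 * (gN K m * gT hK d) =
        gN K m * gU K m (d : K) 0 0 * gN K m := by
      have e1 : gT hK d * gU K m 1 0 0 = gU K m (d : K) 0 0 * gT hK d := by
        rw [gT_mul_gU hK, mul_one, mul_zero, mul_zero]
      have e2 : gT hK d * (gN K m * gT hK d) = gN K m := by
        rw [← mul_assoc, gT_mul_gN hK, mul_assoc, ← map_mul, inv_mul_cancel, map_one, mul_one]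
      calc gN K m * gT hK d * gU K m 1 0 0 * (gN K m * gT hK d)
          = gN K m * (gT hK d * gU K m 1 0 0) * (gN K m * gT hK d) := by simp only [mul_assoc]
        _ = gN K m * gU K m (d : K) 0 0 * (gT hK d * (gN K m * gT hK d)) := by
            rw [e1]
            simp only [mul_assoc]
        _ = _ := by rw [e2]
    have h3 : gU K m a₁ a₂ a₃ * gT hK e * (gN K m * gT hK d) * gU K m b₁ b₂ b₃ =
        gU K m a₁ a₂ a₃ * gT hK (e * d⁻¹) * gN K m * gU K m b₁ b₂ b₃ := by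
      rw [gN_mul_gT hK, ← mul_assoc, mul_assoc (gU K m a₁ a₂ a₃), ← map_mul]
    rw [h2, h3] at h1
    -- conjugate by `T(d⁻¹)`
    have h4 := conj_NUN hK d⁻¹ 1 0 0
    rw [h, inv_inv, mul_one, mul_zero, mul_zero, nf4 hK, ← map_inv, nf3 hK, inv_inv] at h4
    rw [← h4] at h1
    obtain ⟨-, -, -, e4, -, -, -⟩ := bigcell_unique' hK h1
    have hd1 : d = 1 := inv_eq_one.mp (mul_eq_right.mp (mul_right_cancel e4))
    rw [hn', hd1, map_one, mul_one]

end Final

end Cfsg.Agent.Helper6.Ree
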