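import Cfsg.Agent.Helper6.Ree26
import Cfsg.Agent.Helper9.ReeTI

/-!
Helper6: automorphisms of `²G₂(q)`: rigidity (an automorphism fixing `U¹` and `H¹` pointwise is trivial),
and normalisation of an arbitrary automorphism by an inner one so that it stabilises `U¹` and `H¹`.
-/

set_option autoImplicit false
set_option maxRecDepth 100000

namespace Cfsg.Agent.Helper6.Ree

open Cfsg Cfsg.Lie Cfsg.Agent.Helper18 Cfsg.Agent.Helper18.Ree
open Cfsg.Agent.Helper41.ReeU
open scoped Pointwise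

section Generic

theorem sylow_smul_mem_iff {G : Type*} [Group G] {p : ℕ} (P : Sylow p G) (k x : G) :
    x ∈ (k • P : Sylow p G) ↔ k⁻¹ * x * k ∈ P := by
  rw [Sylow.smul_def]
  show x ∈ MulAut.conj k • (P : Subgroup G) ↔ _
  rw [Subgroup.mem_pointwise_smul_iff_inv_smul_mem]
  simp [MulAut.smul_def]
  exact Iff.rfl

/-- Frobenius-type conjugation: if `d` normalises the finite subgroup `Q` and centralises no
non-trivial element of it, then every element of `Q d` is `Q`-conjugate to `d`. -/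
theorem conj_of_fpf {G : Type*} [Group G] (Q : Subgroup G) [Finite Q] (d : G)
    (hd : ∀ v ∈ Q, d * v * d⁻¹ ∈ Q) (hc : ∀ v ∈ Q, v * d = d * v → v = 1) (u : G)
    (hu : u ∈ Q) : ∃ v ∈ Q, v * (u * d) * v⁻¹ = d := by
  let ψ : Q → Q := fun v => ⟨(v : G)⁻¹ * (d * v * d⁻¹), Q.mul_mem (Q.inv_mem v.2) (hd v v.2)⟩
  have hinj : Function.Injective ψ := by
    intro v v' h
    have h1 : (v : G)⁻¹ * (d * v * d⁻¹) = (v' : G)⁻¹ * (d * v' * d⁻¹) := congrArg Subtype.val h
    have h1' : (v : G)⁻¹ * d * v = (v' : G)⁻¹ * d * v' := by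
      have := congrArg (· * d) h1
      simpa [mul_assoc] using this
    have h2 : ((v' : G) * (v : G)⁻¹) * d = d * ((v' : G) * (v : G)⁻¹) := by
      calc (v' : G) * (v : G)⁻¹ * d = v' * ((v : G)⁻¹ * d * v) * (v : G)⁻¹ := by group
        _ = v' * ((v' : G)⁻¹ * d * v') * (v : G)⁻¹ := by rw [h1']
        _ = d * ((v' : G) * (v : G)⁻¹) := by group
    have h3 := hc _ (Q.mul_mem v'.2 (Q.inv_mem v.2)) h2
    apply Subtype.ext
    have : (v' : G) = v := by
      calc (v' : G) = (v' * (v : G)⁻¹) * v := by group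
        _ = v := by rw [h3, one_mul]
    exact this.symm
  have hsurj := Finite.injective_iff_surjective.1 hinj
  obtain ⟨v, hv⟩ := hsurj ⟨u, hu⟩
  refine ⟨v, v.2, ?_⟩
  have h1 : (v : G)⁻¹ * (d * v * d⁻¹) = u := congrArg Subtype.val hv
  rw [← h1]
  group

end Generic

section Rigid2
variable {K : Type*} [Field K] [Fintype K] [CharP K 3] {m : ℕ}

/-- an automorphism fixing `U¹` and `H¹` pointwise is trivial -/
theorem aut_eq_one (hm : 1 ≤ m) (hK : Fintype.card K = 3 ^ (2 * m + 1)) (α : MulAut ↥(twistedG2 K (3 ^ m)))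
    (hU : ∀ t u v : K, α (gU K m t u v) = gU K m t u v) (hT : ∀ d : Kˣ, α (gT hK d) = gT hK d) :
    α = 1 := by
  have hN := aut_fix_gN hm hK α hU hT
  apply MulEquiv.ext
  intro g
  rw [MulAut.one_apply]
  rcases bruhat_cases hK g with ⟨t, u, v, c, rfl⟩ | ⟨t, u, v, c, t', u', v', rfl⟩
  · rw [map_mul, hU, hT]
  · rw [map_mul, map_mul, map_mul, hU, hT, hN, hU]

/-- an automorphism stabilising `U¹` and `H¹` is a torus conjugation times a field automorphism -/
theorem aut_decomp (hm : 1 ≤ m) (hK : Fintype.card K = 3 ^ (2 * m + 1)) (α : MulAut ↥(twistedG2 K (3 ^ m)))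
    (hU : ∀ t u v : K, ∃ t' u' v' : K, α (gU K m t u v) = gU K m t' u' v')
    (hT : ∀ c : Kˣ, ∃ c' : Kˣ, α (gT hK c) = gT hK c') :
    ∃ (c : Kˣ) (σ : K ≃+* K), MulAut.conj (gT hK c) * α = reeFieldAut K m σ := by
  obtain ⟨c, σ, h1, h2⟩ := exists_field_normalize hK α hU hT
  have h3 := aut_trivial_on_U hm hK _ h1 h2
  have h4 := aut_eq_one hm hK _ h3 h2
  refine ⟨c, σ, ?_⟩
  have := congrArg (fun x => reeFieldAut K m σ * x) h4
  simpa [mul_assoc] using this

end Rigid2

end Cfsg.Agent.Helper6.Ree
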