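import Cfsg.Agent.Helper6.Ree27

/-!
Helper6: every automorphism of `²G₂(q)` can be composed with an inner automorphism so that it stabilises
`U¹` and `H¹`.
-/

set_option autoImplicit false
set_option maxRecDepth 100000

namespace Cfsg.Agent.Helper6.Ree

open Cfsg Cfsg.Lie Cfsg.Agent.Helper18 Cfsg.Agent.Helper18.Ree
open Cfsg.Agent.Helper41.ReeU Cfsg.Agent.Helper9.ReeTI
open scoped Pointwise

section Norm
variable {K : Type*} [Field K] [Fintype K] [CharP K 3] {m : ℕ}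

theorem mem_U1_iff_gU (hK : Fintype.card K = 3 ^ (2 * m + 1)) (x : ↥(twistedG2 K (3 ^ m))) :
    x ∈ U1 K m ↔ ∃ t u v : K, x = gU K m t u v := by
  rw [mem_U1]
  constructor
  · intro h
    obtain ⟨t, u, v, e⟩ := (mem_U1_iff hK x.1).mp (Subgroup.mem_inf.mpr ⟨h, x.2⟩)
    exact ⟨t, u, v, Subtype.ext e⟩
  · rintro ⟨t, u, v, rfl⟩
    exact gU_mem_pos t u v

/-- every automorphism maps `U¹` to a conjugate of itself -/
theorem exists_conj_U1 (hK : Fintype.card K = 3 ^ (2 * m + 1)) (α : MulAut ↥(twistedG2 K (3 ^ m))) :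
    ∃ k : ↥(twistedG2 K (3 ^ m)), ∀ t u v : K, ∃ t' u' v' : K,
      α (gU K m t u v) = k * gU K m t' u' v' * k⁻¹ := by
  haveI : Fact (Nat.Prime 3) := ⟨Nat.prime_three⟩
  obtain ⟨P₀, hP₀⟩ := exists_sylow_eq_U1 (m := m) hK
  have hmap : IsPGroup 3 ((U1 K m).map α.toMonoidHom) := (U1_isPGroup hK).map _
  obtain ⟨P', hP'⟩ := hmap.exists_le_sylow
  obtain ⟨k, hk⟩ := MulAction.exists_smul_eq ↥(twistedG2 K (3 ^ m)) P₀ P'
  refine ⟨k, fun t u v => ?_⟩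
  have h1 : α (gU K m t u v) ∈ (k • P₀ : Sylow 3 ↥(twistedG2 K (3 ^ m))) := by
    rw [hk]
    apply hP'
    exact ⟨gU K m t u v, (mem_U1_iff_gU hK _).2 ⟨t, u, v, rfl⟩, rfl⟩
  rw [sylow_smul_mem_iff] at h1
  have h2 : k⁻¹ * α (gU K m t u v) * k ∈ U1 K m := by
    rw [← hP₀]; exact h1
  obtain ⟨t', u', v', h3⟩ := (mem_U1_iff_gU hK _).1 h2
  refine ⟨t', u', v', ?_⟩
  rw [← h3]
  group

/-- elements of `B¹` are `U¹ H¹` -/
theorem borel_form (hK : Fintype.card K = 3 ^ (2 * m + 1)) (g : ↥(twistedG2 K (3 ^ m)))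
    (hB : (g : GL chevG2.Idx K) ∈ chevG2.borelSubgroup K) :
    ∃ (t u v : K) (c : Kˣ), g = gU K m t u v * gT hK c := by
  rcases bruhat_cases hK g with h | ⟨t, u, v, c, t', u', v', rfl⟩
  · exact h
  · exfalso
    apply nP_not_mem_borel (K := K)
    have e : nP K = ((gU K m t u v : ↥(twistedG2 K (3 ^ m))).1 * (gT hK c : ↥(twistedG2 K (3 ^ m))).1)⁻¹ *
        ((gU K m t u v * gT hK c * gN K m * gU K m t' u' v' : ↥(twistedG2 K (3 ^ m))) : GL chevG2.Idx K) *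
        ((gU K m t' u' v' : ↥(twistedG2 K (3 ^ m))).1)⁻¹ := by
      simp only [Subgroup.coe_mul, gN_val]
      group
    rw [e]
    exact mul_mem (mul_mem (inv_mem (mul_mem (gU_mem_borel t u v) (gT_mem_borel hK c))) hB)
      (inv_mem (gU_mem_borel t' u' v'))

theorem borel_pow (hK : Fintype.card K = 3 ^ (2 * m + 1)) (a b d : K) (μ : Kˣ) (n : ℕ) :
    ∃ a' b' d' : K, (gU K m a b d * gT hK μ) ^ n = gU K m a' b' d' * gT hK (μ ^ n) := by
  induction n with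
  | zero => exact ⟨0, 0, 0, by rw [pow_zero, pow_zero, map_one, gU_zero, one_mul]⟩
  | succ n ih =>
    obtain ⟨a', b', d', e⟩ := ih
    rw [pow_succ, e, mul_assoc, ← mul_assoc (gT hK (μ ^ n)), gT_mul_gU hK, mul_assoc, ← map_mul, ← pow_succ,
      ← mul_assoc, gU_mul hK]
    exact ⟨_, _, _, rfl⟩

theorem gU_pow_nine (hK : Fintype.card K = 3 ^ (2 * m + 1)) (t u v : K) : gU K m t u v ^ 9 = 1 := by
  have : (9 : ℕ) = 3 * 3 := rfl
  rw [this, pow_mul, gU_cube hK, gU_cube hK, zero_pow (by omega), neg_zero, gU_zero]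

/-- the torus part of the image of a generator of `H¹` is again a generator -/
theorem mu_pow_ne_one (hK : Fintype.card K = 3 ^ (2 * m + 1)) (β : MulAut ↥(twistedG2 K (3 ^ m))) (c₀ : Kˣ)
    (hc₀ : ∀ x : Kˣ, x ∈ Subgroup.zpowers c₀) {a b d : K} {μ : Kˣ}
    (hβ : β (gT hK c₀) = gU K m a b d * gT hK μ) (n : ℕ) (hn0 : 0 < n) (hn : n < 3 ^ (2 * m + 1) - 1) :
    μ ^ n ≠ 1 := by
  intro h
  obtain ⟨a', b', d', e⟩ := borel_pow hK a b d μ n
  rw [h, map_one, mul_one, ← hβ, ← map_pow, ← map_pow] at e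
  have h9 : β (gT hK (c₀ ^ (n * 9))) = 1 := by
    rw [pow_mul, map_pow, map_pow, e, gU_pow_nine hK]
  have h1 : c₀ ^ (n * 9) = 1 := by
    apply gT_injective hK
    rw [map_one]
    apply β.injective
    rw [h9, map_one]
  have hord : orderOf c₀ = 3 ^ (2 * m + 1) - 1 := by
    rw [orderOf_eq_card_of_forall_mem_zpowers hc₀, Nat.card_units, Nat.card_eq_fintype_card, hK]
  have hdvd : 3 ^ (2 * m + 1) - 1 ∣ n * 9 := by
    rw [← hord]; exact orderOf_dvd_of_pow_eq_one h1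
  have hcop : (3 ^ (2 * m + 1) - 1).Coprime 9 := by
    have := coprime_three_pow hK 2
    rw [hK] at this
    exact this
  have h2 := hcop.dvd_of_dvd_mul_right hdvd
  exact absurd (Nat.le_of_dvd hn0 h2) (by omega)

theorem exps_lt (hm : 1 ≤ m) : 3 * 3 ^ m + 2 < 3 ^ (2 * m + 1) - 1 := by
  have h3 : 3 ≤ 3 ^ m := by
    calc 3 = 3 ^ 1 := by norm_num
      _ ≤ 3 ^ m := Nat.pow_le_pow_right (by norm_num) hm
  have e : 3 ^ (2 * m + 1) = 3 * 3 ^ m * 3 ^ m := by ring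
  have : 3 * 3 ^ m * 3 ≤ 3 * 3 ^ m * 3 ^ m := Nat.mul_le_mul_left _ h3
  omega

/-- after an inner automorphism, an automorphism stabilises `U¹` and `H¹` -/
theorem exists_normalize (hm : 1 ≤ m) (hK : Fintype.card K = 3 ^ (2 * m + 1))
    (α : MulAut ↥(twistedG2 K (3 ^ m))) :
    ∃ k : ↥(twistedG2 K (3 ^ m)),
      (∀ t u v : K, ∃ t' u' v' : K, (MulAut.conj k * α) (gU K m t u v) = gU K m t' u' v') ∧
      (∀ c : Kˣ, ∃ c' : Kˣ, (MulAut.conj k * α) (gT hK c) = gT hK c') := by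
  obtain ⟨k₀, hk₀⟩ := exists_conj_U1 hK α
  set β : MulAut ↥(twistedG2 K (3 ^ m)) := MulAut.conj k₀⁻¹ * α with hβ
  have hβU : ∀ t u v : K, ∃ t' u' v' : K, β (gU K m t u v) = gU K m t' u' v' := by
    intro t u v
    obtain ⟨t', u', v', h⟩ := hk₀ t u v
    refine ⟨t', u', v', ?_⟩
    rw [hβ, MulAut.mul_apply, MulAut.conj_apply, h]
    group
  have hβB : ∀ c : Kˣ, ((β (gT hK c) : ↥(twistedG2 K (3 ^ m))) : GL chevG2.Idx K) ∈ chevG2.borelSubgroup K := by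
    intro c
    by_contra hB
    obtain ⟨t₁, u₁, v₁, h1⟩ := hβU 1 0 0
    obtain ⟨t₂, u₂, v₂, h2⟩ := hβU ((c : K) * 1) ((c : K) ^ (3 * 3 ^ m + 1) * 0) ((c : K) ^ (3 * 3 ^ m + 2) * 0)
    have h3 : β (gT hK c) * gU K m t₁ u₁ v₁ * (β (gT hK c))⁻¹ = gU K m t₂ u₂ v₂ := by
      rw [← h1, ← h2, ← gT_conj_gU hK, map_mul, map_mul, map_inv]
    have h4 := eq_one_of_conj hK (β (gT hK c)).1 (β (gT hK c)).2 hB (gU K m t₂ u₂ v₂).1 (gU K m t₁ u₁ v₁).1
      (gU_mem_pos _ _ _) (gU_mem_pos _ _ _) (by rw [← h3]; simp only [Subgroup.coe_mul, Subgroup.coe_inv])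
    have h5 : gU K m t₂ u₂ v₂ = 1 := Subtype.ext h4
    have h6 : gU K m t₁ u₁ v₁ = 1 := by
      have : gU K m t₁ u₁ v₁ =
          (β (gT hK c))⁻¹ * (β (gT hK c) * gU K m t₁ u₁ v₁ * (β (gT hK c))⁻¹) * β (gT hK c) := by group
      rw [this, h3, h5]
      group
    have h7 : gU K m 1 0 0 = 1 := β.injective (by rw [h1, h6, map_one])
    rw [← gU_zero] at h7
    exact one_ne_zero (gU_inj h7).1
  obtain ⟨c₀, hc₀⟩ := IsCyclic.exists_generator (α := Kˣ)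
  obtain ⟨a, b, d, μ, hμ⟩ := borel_form hK _ (hβB c₀)
  have hlt := exps_lt hm
  have hne : ∀ n : ℕ, 0 < n → n < 3 ^ (2 * m + 1) - 1 → (μ : K) ^ n ≠ 1 := by
    intro n hn0 hn h
    apply mu_pow_ne_one hK β c₀ hc₀ hμ n hn0 hn
    apply Units.ext
    rw [Units.val_pow_eq_pow_val, h, Units.val_one]
  have hzero : ∀ (n : ℕ) (x : K), 0 < n → n < 3 ^ (2 * m + 1) - 1 → (μ : K) ^ n * x = x → x = 0 := by
    intro n x hn0 hn hx
    have : ((μ : K) ^ n - 1) * x = 0 := by rw [sub_mul, one_mul, hx, sub_self]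
    rcases mul_eq_zero.1 this with h | h
    · exact absurd (sub_eq_zero.1 h) (hne n hn0 hn)
    · exact h
  obtain ⟨v, hvQ, hv⟩ := conj_of_fpf (U1 K m) (gT hK μ)
    (by
      intro v hv
      obtain ⟨t, u, w, rfl⟩ := (mem_U1_iff_gU hK _).1 hv
      rw [gT_conj_gU hK]
      exact (mem_U1_iff_gU hK _).2 ⟨_, _, _, rfl⟩)
    (by
      intro v hv hcomm
      obtain ⟨t, u, w, rfl⟩ := (mem_U1_iff_gU hK _).1 hv
      have h3 : gT hK μ * gU K m t u w * (gT hK μ)⁻¹ = gU K m t u w := by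
        rw [← hcomm]; group
      rw [gT_conj_gU hK] at h3
      obtain ⟨e1, e2, e3⟩ := gU_inj h3
      have z1 : t = 0 := hzero 1 t (by omega) (by omega) (by rw [pow_one]; exact e1)
      have z2 : u = 0 := hzero _ u (by omega) (by omega) e2
      have z3 : w = 0 := hzero _ w (by omega) (by omega) e3
      rw [z1, z2, z3, gU_zero])
    (gU K m a b d) ((mem_U1_iff_gU hK _).2 ⟨a, b, d, rfl⟩)
  refine ⟨v * k₀⁻¹, ?_, ?_⟩
  · intro t u w
    obtain ⟨t', u', w', h⟩ := hβU t u w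
    have h3 : (MulAut.conj (v * k₀⁻¹) * α) (gU K m t u w) = v * β (gU K m t u w) * v⁻¹ := by
      rw [hβ, map_mul, mul_assoc, MulAut.mul_apply, MulAut.conj_apply]
    rw [h3, h]
    have h4 : v * gU K m t' u' w' * v⁻¹ ∈ U1 K m :=
      (U1 K m).mul_mem ((U1 K m).mul_mem hvQ ((mem_U1_iff_gU hK _).2 ⟨t', u', w', rfl⟩))
        ((U1 K m).inv_mem hvQ)
    exact (mem_U1_iff_gU hK _).1 h4
  · intro c
    obtain ⟨n, hn⟩ := Subgroup.mem_zpowers_iff.1 (hc₀ c)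
    refine ⟨μ ^ n, ?_⟩
    have h3 : (MulAut.conj (v * k₀⁻¹) * α) (gT hK c₀) = gT hK μ := by
      rw [map_mul, mul_assoc, MulAut.mul_apply, MulAut.conj_apply, ← hβ, hμ]
      exact hv
    rw [← hn, map_zpow, map_zpow, h3, ← map_zpow]

end Norm

end Cfsg.Agent.Helper6.Ree
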