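import Cfsg.Agent.Helper6.Ree28
import Cfsg.Prelude.Def_KGroupFacts

/-!
Helper6: the outer automorphism group of `²G₂(3^(2m+1))`, `m ≥ 1`, has order `2m+1`.
-/

set_option autoImplicit false
set_option maxRecDepth 100000

namespace Cfsg.Agent.Helper6.Ree

open Cfsg Cfsg.Lie Cfsg.Agent.Helper18 Cfsg.Agent.Helper18.Ree
open Cfsg.Agent.Helper41.ReeU Cfsg.Agent.Helper9.ReeTI

section OutRee
variable {K : Type*} [Field K] [Fintype K] [CharP K 3] {m : ℕ}

/-- every automorphism of `²G₂(q)` is an inner automorphism times a field automorphism -/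
theorem aut_eq_conj_mul_field (hm : 1 ≤ m) (hK : Fintype.card K = 3 ^ (2 * m + 1))
    (α : MulAut ↥(twistedG2 K (3 ^ m))) :
    ∃ (g : ↥(twistedG2 K (3 ^ m))) (σ : K ≃+* K), α = MulAut.conj g * reeFieldAut K m σ := by
  obtain ⟨k, hkU, hkT⟩ := exists_normalize hm hK α
  obtain ⟨c, σ, h⟩ := aut_decomp hm hK (MulAut.conj k * α) hkU hkT
  refine ⟨(gT hK c * k)⁻¹, σ, ?_⟩
  rw [← h, map_inv, map_mul]
  group

/-- an element normalising `U¹` lies in `B¹ = U¹ H¹` -/
theorem normalizer_form (hK : Fintype.card K = 3 ^ (2 * m + 1)) (g : ↥(twistedG2 K (3 ^ m)))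
    (hg : ∀ t u v : K, ∃ t' u' v' : K, g * gU K m t u v * g⁻¹ = gU K m t' u' v') :
    ∃ (t u v : K) (c : Kˣ), g = gU K m t u v * gT hK c := by
  apply borel_form hK g
  apply mem_borel_of_normalizes hK g.1 g.2
  intro u hu
  obtain ⟨t, u', v, rfl⟩ := (mem_U1_iff hK u).mp hu
  obtain ⟨t', u'', v', e⟩ := hg t u' v
  have e' := congrArg Subtype.val e
  simp only [Subgroup.coe_mul, Subgroup.coe_inv, gU_val] at e'
  rw [e']
  exact gU_mem_pos t' u'' v'

/-- a field automorphism inducing an inner automorphism is trivial -/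
theorem field_aut_inner (hK : Fintype.card K = 3 ^ (2 * m + 1)) (σ : K ≃+* K)
    (g : ↥(twistedG2 K (3 ^ m))) (h : reeFieldAut K m σ = MulAut.conj g) : σ = 1 := by
  obtain ⟨a, b, d, s, rfl⟩ := normalizer_form hK g (by
    intro t u v
    refine ⟨σ t, σ u, σ v, ?_⟩
    rw [← reeFieldAut_gU, h, MulAut.conj_apply])
  have key : ∀ t : Kˣ, Units.map (σ : K →* K) t = t := by
    intro t
    have h1 : gU K m a b d * gT hK s * gT hK t * (gU K m a b d * gT hK s)⁻¹ =
        gT hK (Units.map (σ : K →* K) t) := by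
      rw [← reeFieldAut_gT hK, h, MulAut.conj_apply]
    have h3 : gU K m a b d * gT hK s * gT hK t =
        gT hK (Units.map (σ : K →* K) t) * (gU K m a b d * gT hK s) := by
      rw [← h1]; group
    rw [nf1 hK, nf2 hK] at h3
    obtain ⟨-, -, -, h5⟩ := borel_unique hK h3
    rw [mul_comm] at h5
    exact (mul_right_cancel h5).symm
  apply RingEquiv.ext
  intro x
  rw [RingAut.one_apply]
  by_cases hx : x = 0
  · rw [hx, map_zero]
  · have := congrArg (fun u : Kˣ => (u : K)) (key (Units.mk0 x hx))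
    simpa using this

/-- the number of automorphisms of a field with `3 ^ (2 m + 1)` elements -/
theorem card_ringAut3 (hK : Fintype.card K = 3 ^ (2 * m + 1)) :
    Nat.card (K ≃+* K) = 2 * m + 1 := by
  letI : Algebra (ZMod 3) K := ZMod.algebra K 3
  have e : (K ≃ₐ[ZMod 3] K) ≃ (K ≃+* K) :=
    { toFun := fun f => f.toRingEquiv
      invFun := fun f => AlgEquiv.ofRingEquiv (f := f) (fun x => by
        have h1 : (f : K →+* K).comp (algebraMap (ZMod 3) K) = algebraMap (ZMod 3) K :=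
          Subsingleton.elim _ _
        exact RingHom.congr_fun h1 x)
      left_inv := fun f => by ext x; rfl
      right_inv := fun f => by ext x; rfl }
  rw [← Nat.card_congr e]
  have hb := FiniteField.bijective_frobeniusAlgEquivOfAlgebraic_pow (ZMod 3) K
  rw [← Nat.card_congr (Equiv.ofBijective _ hb), Nat.card_fin]
  have h1 := Module.card_eq_pow_finrank (K := ZMod 3) (V := K)
  rw [hK, ZMod.card] at h1
  exact (Nat.pow_right_injective (a := 3) (by norm_num) h1).symm

/-- the order of the outer automorphism group of `²G₂(q)` -/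
theorem card_out_ree (hm : 1 ≤ m) (hK : Fintype.card K = 3 ^ (2 * m + 1)) :
    Nat.card (Cfsg.Out ↥(twistedG2 K (3 ^ m))) = 2 * m + 1 := by
  let Ψ : (K ≃+* K) →* Cfsg.Out ↥(twistedG2 K (3 ^ m)) :=
    (QuotientGroup.mk' (Cfsg.Inn ↥(twistedG2 K (3 ^ m)))).comp (reeFieldHom K m)
  have hinj : Function.Injective Ψ := by
    rw [injective_iff_map_eq_one]
    intro σ hσ
    have h1 : reeFieldHom K m σ ∈ Cfsg.Inn ↥(twistedG2 K (3 ^ m)) :=
      (QuotientGroup.eq_one_iff _).1 hσ
    obtain ⟨g, hg⟩ := h1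
    exact field_aut_inner hK σ g hg.symm
  have hsurj : Function.Surjective Ψ := by
    intro x
    obtain ⟨α, rfl⟩ := QuotientGroup.mk_surjective x
    obtain ⟨g, σ, rfl⟩ := aut_eq_conj_mul_field hm hK α
    refine ⟨σ, ?_⟩
    show (QuotientGroup.mk (reeFieldAut K m σ) : Cfsg.Out ↥(twistedG2 K (3 ^ m))) = _
    rw [QuotientGroup.mk_mul]
    have h1 : (QuotientGroup.mk (MulAut.conj g) : Cfsg.Out ↥(twistedG2 K (3 ^ m))) = 1 :=
      (QuotientGroup.eq_one_iff _).2 ⟨g, rfl⟩
    rw [h1, one_mul]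
  rw [← Nat.card_congr (Equiv.ofBijective Ψ ⟨hinj, hsurj⟩), card_ringAut3 hK]

end OutRee

end Cfsg.Agent.Helper6.Ree
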