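import Cfsg.Agent.Helper6.Ree2
import Cfsg.Agent.Helper18.Ree.Small
import Cfsg.Agent.Helper19.Twist.TorusLemmas

/-!
Helper6: the torus `H¹ = H ∩ ²G₂(q)`: characters of its elements, compatibility with the twist, and the elements
`h_{a+b}(s^θ) h_{3a+b}(s)` and `h_{a+b}(-1)` of `²G₂(q)`.
-/

set_option autoImplicit false
set_option maxRecDepth 100000

namespace Cfsg.Agent.Helper6.Ree

open Cfsg Cfsg.Lie Cfsg.Agent.Helper18 Cfsg.Agent.Helper18.Ree Cfsg.Agent.Helper19.Twist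

/-- the torus of `²G₂` -/
abbrev T1 (K : Type*) [Field K] (m : ℕ) : Subgroup (GL chevG2.Idx K) :=
  chevG2.diagonalSubgroup K ⊓ twistedG2 K (3 ^ m)

/-- coordinates of the roots of `G₂` in the simple roots `a` (index 7), `b` (index 6) -/
def coordG2 : ℕ → ℕ → ℤ := fun u i =>
  (([[-3, -2], [-3, -1], [-2, -1], [-1, -1], [-1, 0], [0, -1], [0, 1], [1, 0], [1, 1], [2, 1], [3, 1], [3, 2]] :
    List (List ℤ)).getD u []).getD i 0

theorem coordOK_G2 : coordOK chevG2 coordG2 = true := by decide +kernel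

section Char
variable {K : Type*} [Field K]

/-- the value of the root `s` on a diagonal element -/
def ch (g : GL chevG2.Idx K) (s : ℕ) : K := rootEntry chevG2 (g : Matrix chevG2.Idx chevG2.Idx K) s

theorem ch_conj (g : GL chevG2.Idx K) (hg : g ∈ chevG2.diagonalSubgroup K) (r : ℕ) (hr : r < 12) (t : K) :
    g * xGL chevG2 K r t = xGL chevG2 K r (ch g r * t) * g := by
  obtain ⟨χ, -, hd, hc⟩ := diagonalSubgroup_char chevG2 hG2 g hg
  have : ch g r = χ r := by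
    unfold ch
    rw [hd, rootEntry_diagonal chevG2 χ r hr]
  rw [this]
  exact hc r hr t

theorem ch_coord (g : GL chevG2.Idx K) (hg : g ∈ chevG2.diagonalSubgroup K) (u : ℕ) (hu : u < 12) :
    ch g u = ch g 7 ^ coordG2 u 0 * ch g 6 ^ coordG2 u 1 := by
  obtain ⟨χ, -, hd, hm⟩ := diag_char_mul chevG2 hG2 coordG2 coordOK_G2 g hg
  have e : ∀ s < 12, ch g s = χ s := by
    intro s hs
    unfold ch
    rw [hd, rootEntry_diagonal chevG2 χ s hs]
  rw [e u hu, e 7 (by decide), e 6 (by decide), hm u hu]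
  have : chevG2.rank = 2 := rfl
  rw [this, Finset.prod_range_succ, Finset.prod_range_one]
  rfl

theorem ch_ne_zero (g : GL chevG2.Idx K) (hg : g ∈ chevG2.diagonalSubgroup K) (u : ℕ) : ch g u ≠ 0 :=
  rootEntry_ne_zero chevG2 hG2 g hg u

theorem ch_mul (g g' : GL chevG2.Idx K) (hg : g ∈ chevG2.diagonalSubgroup K)
    (hg' : g' ∈ chevG2.diagonalSubgroup K) (u : ℕ) : ch (g * g') u = ch g u * ch g' u :=
  rootEntry_mul chevG2 hG2 g g' hg hg' u

theorem ch_one (u : ℕ) : ch (1 : GL chevG2.Idx K) u = 1 := by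
  unfold ch rootEntry
  split_ifs <;> simp

theorem ch_10 (g : GL chevG2.Idx K) (hg : g ∈ chevG2.diagonalSubgroup K) : ch g 10 = ch g 7 ^ 3 * ch g 6 := by
  rw [ch_coord g hg 10 (by decide)]
  have e1 : coordG2 10 0 = 3 := rfl
  have e2 : coordG2 10 1 = 1 := rfl
  rw [e1, e2, zpow_one]
  norm_cast

theorem ch_11 (g : GL chevG2.Idx K) (hg : g ∈ chevG2.diagonalSubgroup K) : ch g 11 = ch g 7 ^ 3 * ch g 6 ^ 2 := by
  rw [ch_coord g hg 11 (by decide)]
  have e1 : coordG2 11 0 = 3 := rfl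
  have e2 : coordG2 11 1 = 2 := rfl
  rw [e1, e2]
  norm_cast

theorem ch_8 (g : GL chevG2.Idx K) (hg : g ∈ chevG2.diagonalSubgroup K) : ch g 8 = ch g 7 * ch g 6 := by
  rw [ch_coord g hg 8 (by decide)]
  have e1 : coordG2 8 0 = 1 := rfl
  have e2 : coordG2 8 1 = 1 := rfl
  rw [e1, e2, zpow_one, zpow_one]

theorem ch_9 (g : GL chevG2.Idx K) (hg : g ∈ chevG2.diagonalSubgroup K) : ch g 9 = ch g 7 ^ 2 * ch g 6 := by
  rw [ch_coord g hg 9 (by decide)]
  have e1 : coordG2 9 0 = 2 := rfl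
  have e2 : coordG2 9 1 = 1 := rfl
  rw [e1, e2, zpow_one]
  norm_cast

/-- an element of `H` is determined by its values at the simple roots -/
theorem ch_ext (g g' : GL chevG2.Idx K) (hg : g ∈ chevG2.diagonalSubgroup K)
    (hg' : g' ∈ chevG2.diagonalSubgroup K) (h7 : ch g 7 = ch g' 7) (h6 : ch g 6 = ch g' 6) : g = g' := by
  apply diag_ext chevG2 hG2 coordG2 coordOK_G2 g g' hg hg'
  intro i hi
  have hi2 : i < 2 := hi
  interval_cases i
  · exact h7
  · exact h6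

end Char

section Sig
variable {K : Type*} [Field K] [Fintype K] {m : ℕ}

/-- compatibility with the twist: `χ(a) = χ(b)^θ` -/
theorem ch_sigma (hK : Fintype.card K = 3 ^ (2 * m + 1)) (g : GL chevG2.Idx K) (hg : g ∈ T1 K m) :
    ch g 7 = ch g 6 ^ 3 ^ m := by
  have := charP_three hK
  obtain ⟨σ, hσ'⟩ := exists_sigma hK
  have hσ : SigmaSpec m σ := hσ'
  obtain ⟨hmem, hfx⟩ := mem_FixS.mp (twistedG2_le_FixS hK hσ hg.2)
  have h1 : (⟨g, hmem⟩ : ↥(chevG2.group K)) * XG 6 1 = XG 6 (ch g 6 * 1) * ⟨g, hmem⟩ :=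
    Subtype.ext (ch_conj g hg.1 6 (by decide) 1)
  have h2 := congrArg σ h1
  rw [map_mul, map_mul, hfx, hσ.map_XG 6 (by decide), hσ.map_XG 6 (by decide), sexp_long m 6 rfl] at h2
  have hr : rho 6 = 7 := rfl
  rw [hr] at h2
  have h3 : (⟨g, hmem⟩ : ↥(chevG2.group K)) * XG 7 (1 ^ 3 ^ m) = XG 7 (ch g 7 * 1 ^ 3 ^ m) * ⟨g, hmem⟩ :=
    Subtype.ext (ch_conj g hg.1 7 (by decide) _)
  rw [h3] at h2
  have h4 : XG 7 (ch g 7 * 1 ^ 3 ^ m) = XG 7 ((ch g 6 * 1) ^ 3 ^ m) := mul_right_cancel h2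
  have h5 := congrArg (fun x : ↥(chevG2.group K) => ((x : GL chevG2.Idx K) : Matrix chevG2.Idx chevG2.Idx K)) h4
  simp only [XG_val] at h5
  have h6 := x_injective chevG2 hG2 7 (by decide) _ _ h5
  simpa using h6

/-- an element of `H¹` is determined by its value at `b` -/
theorem ch6_injOn (hK : Fintype.card K = 3 ^ (2 * m + 1)) (g g' : GL chevG2.Idx K) (hg : g ∈ T1 K m)
    (hg' : g' ∈ T1 K m) (h : ch g 6 = ch g' 6) : g = g' :=
  ch_ext g g' hg.1 hg'.1 (by rw [ch_sigma hK g hg, ch_sigma hK g' hg', h]) h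

end Sig

end Cfsg.Agent.Helper6.Ree
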