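import Cfsg.Agent.Helper6.Ree28

/-!
Helper6: `²G₂(3^(2m+1))`, `m ≥ 1`, is generated by a torus generator and `x · n`.
-/

set_option autoImplicit false
set_option maxRecDepth 100000

namespace Cfsg.Agent.Helper6.Ree

open Cfsg Cfsg.Lie Cfsg.Agent.Helper18 Cfsg.Agent.Helper18.Ree
open Cfsg.Agent.Helper41.ReeU Cfsg.Agent.Helper9.ReeTI

section TwoGen
variable {K : Type*} [Field K] [Fintype K] [CharP K 3] {m : ℕ}

/-- a subgroup containing the torus `H¹` and `x(1) n` is everything -/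
theorem eq_top_of_gens (hm : 1 ≤ m) (hK : Fintype.card K = 3 ^ (2 * m + 1)) (X : Subgroup ↥(twistedG2 K (3 ^ m)))
    (hT : ∀ c : Kˣ, gT hK c ∈ X) (hb : gU K m 1 0 0 * gN K m ∈ X) : X = ⊤ := by
  have h3 := three_eq_zero (K := K)
  -- Step 1: a non-trivial element of `U¹` with non-zero first coordinate
  have s1 : ∃ t₀ u₀ v₀ : K, t₀ ≠ 0 ∧ gU K m t₀ u₀ v₀ ∈ X := by
    have hy : (gU K m 1 0 0 * gN K m) * gT hK (-1) * (gU K m 1 0 0 * gN K m)⁻¹ * gT hK (-1) ∈ X :=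
      X.mul_mem (X.mul_mem (X.mul_mem hb (hT _)) (X.inv_mem hb)) (hT _)
    have e : (gU K m 1 0 0 * gN K m) * gT hK (-1) * (gU K m 1 0 0 * gN K m)⁻¹ * gT hK (-1) =
        gU K m 1 0 0 * (gT hK (-1) * gU K m 1 0 0 * (gT hK (-1))⁻¹)⁻¹ := by
      have h1 : gN K m * gT hK (-1) = gT hK (-1) * gN K m := by
        have := gN_mul_gT hK (m := m) (-1)
        rwa [inv_neg_one] at this
      have h2 : gT hK (-1) * gT hK (-1) = (1 : ↥(twistedG2 K (3 ^ m))) := by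
        rw [← map_mul, neg_one_mul, neg_neg, map_one]
      have h2' : (gT hK (-1) : ↥(twistedG2 K (3 ^ m)))⁻¹ = gT hK (-1) := inv_eq_of_mul_eq_one_right h2
      calc (gU K m 1 0 0 * gN K m) * gT hK (-1) * (gU K m 1 0 0 * gN K m)⁻¹ * gT hK (-1)
          = gU K m 1 0 0 * (gN K m * gT hK (-1)) * (gN K m)⁻¹ * (gU K m 1 0 0)⁻¹ * gT hK (-1) := by group
        _ = gU K m 1 0 0 * (gT hK (-1) * gN K m) * (gN K m)⁻¹ * (gU K m 1 0 0)⁻¹ * gT hK (-1) := by rw [h1]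
        _ = gU K m 1 0 0 * (gT hK (-1) * (gU K m 1 0 0)⁻¹ * gT hK (-1)) := by group
        _ = _ := by
          have h5 : (gT hK (-1) * gU K m 1 0 0 * (gT hK (-1))⁻¹)⁻¹ =
              gT hK (-1) * (gU K m 1 0 0)⁻¹ * gT hK (-1) := by
            rw [mul_inv_rev, mul_inv_rev, inv_inv, h2', mul_assoc]
          rw [h5]
    rw [e, gT_conj_gU hK] at hy
    have hmem : gU K m 1 0 0 * (gU K m (((-1 : Kˣ) : K) * 1) (((-1 : Kˣ) : K) ^ (3 * 3 ^ m + 1) * 0)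
        (((-1 : Kˣ) : K) ^ (3 * 3 ^ m + 2) * 0))⁻¹ ∈ U1 K m :=
      (U1 K m).mul_mem ((mem_U1_iff_gU hK _).2 ⟨_, _, _, rfl⟩)
        ((U1 K m).inv_mem ((mem_U1_iff_gU hK _).2 ⟨_, _, _, rfl⟩))
    obtain ⟨t₀, u₀, v₀, hy'⟩ := (mem_U1_iff_gU hK _).1 hmem
    refine ⟨t₀, u₀, v₀, ?_, by rw [← hy']; exact hy⟩
    have h4 : gU K m 1 0 0 = gU K m t₀ u₀ v₀ * gU K m (((-1 : Kˣ) : K) * 1)
        (((-1 : Kˣ) : K) ^ (3 * 3 ^ m + 1) * 0) (((-1 : Kˣ) : K) ^ (3 * 3 ^ m + 2) * 0) := by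
      rw [← hy']; group
    rw [gU_mul hK] at h4
    obtain ⟨e1, -, -⟩ := gU_inj h4
    rw [Units.val_neg, Units.val_one] at e1
    intro h0
    rw [h0] at e1
    have : (1 : K) = 0 := by linear_combination h3 - e1
    exact one_ne_zero this
  obtain ⟨t₀, u₀, v₀, ht₀, hw⟩ := s1
  -- every non-zero first coordinate occurs
  have p1 : ∀ t : K, t ≠ 0 → ∃ u v : K, gU K m t u v ∈ X := by
    intro t ht
    have hc : t / t₀ ≠ 0 := div_ne_zero ht ht₀
    have := X.mul_mem (X.mul_mem (hT (Units.mk0 _ hc)) hw) (X.inv_mem (hT (Units.mk0 _ hc)))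
    rw [gT_conj_gU hK, Units.val_mk0, div_mul_cancel₀ _ ht₀] at this
    exact ⟨_, _, this⟩
  -- the centre
  have p2 : ∀ w : K, gU K m 0 0 w ∈ X := by
    intro w
    obtain ⟨x, hx⟩ := pow_e2_surjective hK (-w)
    simp only at hx
    by_cases hx0 : x = 0
    · have hw0 : w = 0 := by
        rw [hx0, zero_pow (by omega)] at hx
        exact neg_eq_zero.mp hx.symm
      rw [hw0, gU_zero]; exact X.one_mem
    · obtain ⟨u, v, h⟩ := p1 x hx0
      have := X.pow_mem h 3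
      rw [gU_cube hK, hx, neg_neg] at this
      exact this
  -- the middle layer
  have m_neg : ∀ a : K, gU K m 0 a 0 ∈ X → gU K m 0 (-a) 0 ∈ X := by
    intro a ha
    have e : (gU K m 0 a 0)⁻¹ = gU K m 0 (-a) 0 := by
      apply inv_eq_of_mul_eq_one_right
      rw [gU_abelian hK, add_neg_cancel, add_zero, gU_zero]
    rw [← e]; exact X.inv_mem ha
  have m_sq : ∀ (s a : K), s ≠ 0 → gU K m 0 a 0 ∈ X → gU K m 0 (s ^ 2 * a) 0 ∈ X := by
    intro s a hs ha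
    have hc : s ^ (3 * 3 ^ m - 1) ≠ 0 := pow_ne_zero _ hs
    have := X.mul_mem (X.mul_mem (hT (Units.mk0 _ hc)) ha) (X.inv_mem (hT (Units.mk0 _ hc)))
    rw [gT_conj_gU hK, Units.val_mk0, sq_eq_pow hK s hs, mul_zero, mul_zero] at this
    exact this
  obtain ⟨t₁, ht₁⟩ := exists_pow3t_ne hm hK
  have ht₁0 : t₁ ≠ 0 := by
    rintro rfl
    exact ht₁ (zero_pow3t m)
  have hx₀ : gU K m 0 (t₁ ^ (3 * 3 ^ m) - t₁) 0 ∈ X := by
    obtain ⟨u, v, hg⟩ := p1 t₁ ht₁0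
    obtain ⟨u', v', hg'⟩ := p1 1 one_ne_zero
    obtain ⟨d, hd⟩ := gU_comm hK t₁ u v 1 u' v'
    have h1 : gU K m 0 (1 * t₁ ^ (3 * 3 ^ m) - t₁ * 1 ^ (3 * 3 ^ m)) d ∈ X := by
      have : gU K m 0 (1 * t₁ ^ (3 * 3 ^ m) - t₁ * 1 ^ (3 * 3 ^ m)) d =
          (gU K m 1 u' v' * gU K m t₁ u v)⁻¹ * (gU K m t₁ u v * gU K m 1 u' v') := by
        rw [hd]; group
      rw [this]
      exact X.mul_mem (X.inv_mem (X.mul_mem hg' hg)) (X.mul_mem hg hg')
    have h2 := X.mul_mem h1 (p2 (-d))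
    rw [gU_central hK, add_neg_cancel, one_mul, one_pow, mul_one] at h2
    exact h2
  have p3 : ∀ y : K, gU K m 0 y 0 ∈ X := by
    intro y
    have hx₀ne : t₁ ^ (3 * 3 ^ m) - t₁ ≠ 0 := sub_ne_zero.mpr ht₁
    by_cases hy : y = 0
    · rw [hy, gU_zero]; exact X.one_mem
    · obtain ⟨s, hs, h | h⟩ := exists_sq_or_neg_sq hK (y / (t₁ ^ (3 * 3 ^ m) - t₁)) (div_ne_zero hy hx₀ne)
      · have := m_sq s _ hs hx₀
        rwa [← h, div_mul_cancel₀ _ hx₀ne] at this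
      · have := m_neg _ (m_sq s _ hs hx₀)
        have e : -(s ^ 2 * (t₁ ^ (3 * 3 ^ m) - t₁)) = y := by
          rw [← neg_mul, ← h, div_mul_cancel₀ _ hx₀ne]
        rwa [e] at this
  -- all of `U¹`
  have p4 : ∀ u v : K, gU K m 0 u v ∈ X := by
    intro u v
    have := X.mul_mem (p3 u) (p2 v)
    rwa [gU_central hK, zero_add] at this
  have p5 : ∀ t u v : K, gU K m t u v ∈ X := by
    intro t u v
    by_cases ht : t = 0
    · rw [ht]; exact p4 u v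
    · obtain ⟨u', v', h⟩ := p1 t ht
      have := X.mul_mem h (p4 (u - u') (v - v'))
      rw [gU_mul hK, zero_pow3t, pow_succ (0 : K), zero_pow3t] at this
      have e : gU K m (t + 0) (u' + (u - u') - t * 0) (v' + (v - v') - 0 * u' + t * (0 * 0) - t ^ 2 * 0) =
          gU K m t u v := by
        congr 1 <;> ring
      rwa [e] at this
  have pN : gN K m ∈ X := by
    have : gN K m = (gU K m 1 0 0)⁻¹ * (gU K m 1 0 0 * gN K m) := by group
    rw [this]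
    exact X.mul_mem (X.inv_mem (p5 1 0 0)) hb
  rw [eq_top_iff]
  intro g _
  rcases bruhat_cases hK g with ⟨t, u, v, c, rfl⟩ | ⟨t, u, v, c, t', u', v', rfl⟩
  · exact X.mul_mem (p5 _ _ _) (hT c)
  · exact X.mul_mem (X.mul_mem (X.mul_mem (p5 _ _ _) (hT c)) pN) (p5 _ _ _)

/-- `²G₂(q)` is generated by two elements -/
theorem two_generated (hm : 1 ≤ m) (hK : Fintype.card K = 3 ^ (2 * m + 1)) :
    ∃ a b : ↥(twistedG2 K (3 ^ m)), Subgroup.closure ({a, b} : Set ↥(twistedG2 K (3 ^ m))) = ⊤ := by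
  obtain ⟨c₀, hc₀⟩ := IsCyclic.exists_generator (α := Kˣ)
  refine ⟨gT hK c₀, gU K m 1 0 0 * gN K m, ?_⟩
  apply eq_top_of_gens hm hK
  · intro c
    obtain ⟨n, hn⟩ := Subgroup.mem_zpowers_iff.1 (hc₀ c)
    rw [← hn, map_zpow]
    exact Subgroup.zpow_mem _ (Subgroup.subset_closure (Set.mem_insert _ _)) n
  · exact Subgroup.subset_closure (Set.mem_insert_of_mem _ (Set.mem_singleton _))

end TwoGen

end Cfsg.Agent.Helper6.Ree
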