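import Cfsg.Agent.Helper6.Ree3

/-!
Helper6: the elements `h_{a+b}(s^θ) h_{3a+b}(s)` and `h_{a+b}(-1)` lie in `²G₂(q)`; the isomorphism `H¹ ≃* Kˣ`.
-/

set_option autoImplicit false
set_option maxRecDepth 100000

namespace Cfsg.Agent.Helper6.Ree

open Cfsg Cfsg.Lie Cfsg.Agent.Helper18 Cfsg.Agent.Helper18.Ree Cfsg.Agent.Helper19.Twist

section Mem
variable {K : Type*} [Field K]

theorem wordGL_mem_twistedG2 (θ : ℕ) (w : List (ℕ × K)) (hw : w ∈ g2Words K θ) :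
    wordGL chevG2 K w ∈ twistedG2 K θ :=
  Subgroup.subset_closure ⟨w, hw, wordGL_val chevG2 _ (triOK_of_mem chevG2 hG2) w⟩

theorem xGL_zero' (r : ℕ) : xGL chevG2 K r 0 = 1 := by
  apply Units.ext
  rw [xGL_val _ _ (triOK_of_mem chevG2 hG2), Cfsg.Agent.Helper18.x_zero, Units.val_one]

theorem reeWordV_eq (θ : ℕ) (t u v : K) : reeWordV θ t u v =
    [(4, -(t ^ θ)), (5, -t), (3, -(t ^ (θ + 1) + u ^ θ)), (2, -(t ^ (2 * θ + 1) + v ^ θ)), (1, -u), (0, -v)] := rfl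

theorem reeWordU_eq (θ : ℕ) (t u v : K) : reeWordU θ t u v =
    [(7, t ^ θ), (6, t), (8, t ^ (θ + 1) + u ^ θ), (9, t ^ (2 * θ + 1) + v ^ θ), (10, u), (11, v)] := rfl

theorem xJp_mem {θ : ℕ} (hθ : θ ≠ 0) (u : K) :
    xGL chevG2 K 8 (u ^ θ) * xGL chevG2 K 10 u ∈ twistedG2 K θ := by
  have h : wordGL chevG2 K (reeWordU θ 0 u 0) ∈ twistedG2 K θ :=
    wordGL_mem_twistedG2 θ _ ⟨0, u, 0, Or.inl rfl⟩
  have e : wordGL chevG2 K (reeWordU θ 0 u 0) = xGL chevG2 K 8 (u ^ θ) * xGL chevG2 K 10 u := by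
    rw [reeWordU_eq]
    simp [wordGL, zero_pow hθ, xGL_zero']
  rw [← e]; exact h

theorem xJm_mem {θ : ℕ} (hθ : θ ≠ 0) (u : K) :
    xGL chevG2 K 3 (-(u ^ θ)) * xGL chevG2 K 1 (-u) ∈ twistedG2 K θ := by
  have h : wordGL chevG2 K (reeWordV θ 0 u 0) ∈ twistedG2 K θ :=
    wordGL_mem_twistedG2 θ _ ⟨0, u, 0, Or.inr rfl⟩
  have e : wordGL chevG2 K (reeWordV θ 0 u 0) = xGL chevG2 K 3 (-(u ^ θ)) * xGL chevG2 K 1 (-u) := by
    rw [reeWordV_eq]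
    simp [wordGL, zero_pow hθ, xGL_zero']
  rw [← e]; exact h

theorem orth_8_10 : orthOK chevG2 8 10 = true := by decide +kernel

/-- `n_{a+b}(s^θ) n_{3a+b}(s) ∈ G¹` -/
theorem nJ_mem {θ : ℕ} (hθ : θ ≠ 0) (s : K) :
    nG chevG2 K 8 (s ^ θ) * nG chevG2 K 10 s ∈ twistedG2 K θ := by
  have h1 := xJp_mem hθ s
  have h2 := xJm_mem hθ s⁻¹
  have h3 := mul_mem (mul_mem h1 h2) h1
  have e := nprod2 (K := K) chevG2 hG2 8 10 orth_8_10 (s ^ θ) s (-(s⁻¹ ^ θ)) (-s⁻¹)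
  have n1 : chevG2.neg 8 = 3 := rfl
  have n2 : chevG2.neg 10 = 1 := rfl
  rw [n1, n2] at e
  rw [e] at h3
  rw [nG_eq, nG_eq, n1, n2]
  rw [inv_pow] at h3
  exact h3

/-- `h_{a+b}(s^θ) h_{3a+b}(s) ∈ G¹` -/
theorem hJ_mem {θ : ℕ} (hθ : Odd θ) (s : K) :
    hG chevG2 K 8 (s ^ θ) * hG chevG2 K 10 s ∈ twistedG2 K θ := by
  have hθ0 : θ ≠ 0 := by
    rintro rfl
    exact absurd hθ (by decide)
  have h1 := nJ_mem hθ0 s
  have h2 := nJ_mem (K := K) hθ0 (-1)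
  rw [hθ.neg_one_pow] at h2
  have h3 := mul_mem h1 h2
  rw [hprod2 (K := K) chevG2 hG2 8 10 orth_8_10] at h3
  exact h3

theorem invWordK_eq [CharP K 3] {θ : ℕ} (hθ : Odd θ) :
    invWordK K = reeWordU θ 0 0 1 ++ reeWordV θ 0 0 1 ++ reeWordU θ 1 1 1 ++ reeWordV θ (-1) 1 (-1) := by
  have hθ0 : θ ≠ 0 := by
    rintro rfl
    exact absurd hθ (by decide)
  have he : Even (θ + 1) := hθ.add_odd odd_one
  have ho : Odd (2 * θ + 1) := ⟨θ, rfl⟩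
  rw [reeWordU_eq, reeWordU_eq, reeWordV_eq, reeWordV_eq]
  simp only [zero_pow hθ0, one_pow, hθ.neg_one_pow, he.neg_one_pow, ho.neg_one_pow, ne_eq,
    Nat.add_eq_zero_iff, one_ne_zero, and_false, not_false_eq_true, zero_pow, add_zero, zero_add, neg_zero,
    neg_neg, invWordK, List.cons_append, List.nil_append]
  norm_num

/-- the involution `h_{a+b}(-1)` lies in `G¹` -/
theorem hInv_mem [CharP K 3] {θ : ℕ} (hθ : Odd θ) : hG chevG2 K 8 (-1) ∈ twistedG2 K θ := by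
  have e : hG chevG2 K 8 (-1) = wordGL chevG2 K (invWordK K) := by
    apply Units.ext
    unfold hG
    rw [hWordGL_val chevG2 hG2, wordGL_val chevG2 _ (triOK_of_mem chevG2 hG2), invWord_eq_hMat]
  rw [e, invWordK_eq hθ, wordGL_append', wordGL_append', wordGL_append']
  exact mul_mem (mul_mem (mul_mem (wordGL_mem_twistedG2 θ _ ⟨0, 0, 1, Or.inl rfl⟩)
    (wordGL_mem_twistedG2 θ _ ⟨0, 0, 1, Or.inr rfl⟩)) (wordGL_mem_twistedG2 θ _ ⟨1, 1, 1, Or.inl rfl⟩))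
    (wordGL_mem_twistedG2 θ _ ⟨-1, 1, -1, Or.inr rfl⟩)

end Mem

end Cfsg.Agent.Helper6.Ree
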