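import Cfsg.Agent.Helper6.Ree5

/-!
Helper6: the elements of odd order of `H¹` (a subgroup of index 2) act fixed-point-freely on `U¹ = U ∩ ²G₂(q)`.
-/

set_option autoImplicit false
set_option maxRecDepth 100000

namespace Cfsg.Agent.Helper6.Ree

open Cfsg Cfsg.Lie Cfsg.Agent.Helper18 Cfsg.Agent.Helper18.Ree Cfsg.Agent.Helper19.Twist

section Cyc

/-- in a cyclic group of order `2n`, `n` odd, there are `n` elements of odd order -/
theorem card_odd_order {G : Type*} [CommGroup G] [Finite G] [IsCyclic G] {n : ℕ} (hn : Odd n)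
    (hG : Nat.card G = 2 * n) : Nat.card {g : G // Odd (orderOf g)} = n := by
  have key : ∀ g : G, Odd (orderOf g) ↔ g ∈ (powMonoidHom n : G →* G).ker := by
    intro g
    rw [MonoidHom.mem_ker, powMonoidHom_apply, ← orderOf_dvd_iff_pow_eq_one]
    constructor
    · intro ho
      have h1 : orderOf g ∣ 2 * n := hG ▸ orderOf_dvd_natCard g
      have h2 : Nat.Coprime (orderOf g) 2 := Nat.Coprime.symm (Nat.coprime_two_left.mpr ho)
      exact h2.dvd_of_dvd_mul_left h1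
    · intro hd
      exact Odd.of_dvd_nat hn hd
  have e : {g : G // Odd (orderOf g)} ≃ ↥(powMonoidHom n : G →* G).ker :=
    Equiv.subtypeEquivRight key
  rw [Nat.card_congr e, IsCyclic.card_powMonoidHom_ker, hG]
  exact Nat.gcd_eq_right ⟨2, by ring⟩

end Cyc

section Abs
variable {K : Type*} [Field K] {G : Type*} [Group G] (S : Sys K G)

theorem conj_mul {H A A' B B' : G} (hA : H * A = A' * H) (hB : H * B = B' * H) :
    H * (A * B) = A' * B' * H := by
  rw [← mul_assoc, hA, mul_assoc, hB, mul_assoc]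

theorem word_like_injective (hU : S.Uniq) (r s c d e f r' s' c' d' e' f' : K)
    (h : S.Xa r * S.Xb s * S.hh c d e f = S.Xa r' * S.Xb s' * S.hh c' d' e' f') :
    r = r' ∧ s = s' ∧ c = c' ∧ d = d' ∧ e = e' ∧ f = f' := by
  rw [S.ab_to_ba, S.ab_to_ba] at h
  obtain ⟨h1, h2, h3, h4, h5, h6⟩ := hU _ _ _ _ _ _ _ _ _ _ _ _ h
  subst h1 h2
  exact ⟨rfl, rfl, add_left_cancel h3, add_left_cancel h4, add_left_cancel h5, add_left_cancel h6⟩

end Abs

section NT
variable {K : Type*} [Field K]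

theorem nt10 {θ : ℕ} (c : K) (hc0 : c ≠ 0) (hq3 : (c ^ (3 * θ)) ^ (3 * θ) = c ^ 3) (h1 : c ^ (3 * θ) * c = 1) :
    c ^ 2 = 1 := by
  have e1 : c ^ (3 * θ) = c⁻¹ := eq_inv_of_mul_eq_one_left h1
  have e2 : (c⁻¹) ^ (3 * θ) = c ^ 3 := by rw [← e1]; exact hq3
  rw [inv_pow, e1, inv_inv] at e2
  have : c * c ^ 2 = c * 1 := by
    rw [mul_one]
    calc c * c ^ 2 = c ^ 3 := by ring
      _ = c := e2.symm
  exact mul_left_cancel₀ hc0 this

theorem nt11 {θ : ℕ} (c : K) (hc0 : c ≠ 0) (hq3 : (c ^ (3 * θ)) ^ (3 * θ) = c ^ 3)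
    (h1 : c ^ (3 * θ) * c ^ 2 = 1) : c ^ 2 = 1 := by
  have e1 : c ^ (3 * θ) = (c ^ 2)⁻¹ := eq_inv_of_mul_eq_one_left h1
  have e2 : ((c ^ 2)⁻¹) ^ (3 * θ) = c ^ 3 := by rw [← e1]; exact hq3
  rw [inv_pow, ← pow_mul, mul_comm 2 (3 * θ), pow_mul, e1, inv_pow, inv_inv] at e2
  have : c ^ 3 * c = c ^ 3 * 1 := by
    rw [mul_one]
    calc c ^ 3 * c = (c ^ 2) ^ 2 := by ring
      _ = c ^ 3 := e2
  have hc1 : c = 1 := mul_left_cancel₀ (pow_ne_zero 3 hc0) this
  rw [hc1, one_pow]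

end NT

section Fpf
variable {K : Type*} [Field K] [Fintype K] {m : ℕ}

omit [Fintype K] in
theorem XG_zero (r : ℕ) : XG r (0 : K) = 1 := Subtype.ext (xGL_zero' r)

omit [Fintype K] in
theorem word_zero [CharP K 3] {θ : ℕ} (hθ : θ ≠ 0) : (posSys (K := K)).word θ 0 0 0 = 1 := by
  unfold Sys.word
  simp only [zero_pow hθ, ne_eq, Nat.add_eq_zero_iff, one_ne_zero, and_false, not_false_eq_true, zero_pow,
    add_zero]
  show XG 7 0 * XG 6 0 * XG 8 0 * XG 9 0 * XG 10 0 * XG 11 0 = 1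
  simp only [XG_zero, mul_one]

/-- the centraliser in `U¹` of an element `h` of `H¹` with `χ_b(h)² ≠ 1` is trivial -/
theorem fpf_of_sq_ne_one (hK : Fintype.card K = 3 ^ (2 * m + 1)) (h : GL chevG2.Idx K) (hh : h ∈ T1 K m)
    (hc : ch h 6 ^ 2 ≠ 1) :
    (chevG2.posUnipotent K ⊓ twistedG2 K (3 ^ m)) ⊓ Subgroup.centralizer {h} = ⊥ := by
  haveI := charP_three hK
  obtain ⟨σ, hσ'⟩ := exists_sigma hK
  have hσ : SigmaSpec m σ := hσ'
  rw [Subgroup.eq_bot_iff_forall]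
  rintro g ⟨⟨hgU, hgG⟩, hgC⟩
  obtain ⟨t, u, v, hg⟩ := fixed_posUnipotent hK hσ g hgU (twistedG2_le_FixS hK hσ hgG)
  obtain ⟨hmem, -⟩ := mem_FixS.mp (twistedG2_le_FixS hK hσ hh.2)
  obtain ⟨H, hH⟩ : ∃ H : ↥(chevG2.group K), H = ⟨h, hmem⟩ := ⟨_, rfl⟩
  have hc0 : ch h 6 ≠ 0 := ch_ne_zero h hh.1 6
  have h7 : ch h 7 = ch h 6 ^ 3 ^ m := ch_sigma hK h hh
  have hq : ch h 6 ^ (3 ^ (2 * m + 1)) = ch h 6 := pow_card_eq hK _
  have hq3 : (ch h 6 ^ (3 * 3 ^ m)) ^ (3 * 3 ^ m) = ch h 6 ^ 3 := by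
    rw [← pow_mul]
    have : 3 * 3 ^ m * (3 * 3 ^ m) = 3 ^ (2 * m + 1) * 3 := by ring
    rw [this, pow_mul, hq]
  have hconj : ∀ r < 12, ∀ a : K, H * XG r a = XG r (ch h r * a) * H :=
    fun r hr a => by rw [hH]; exact Subtype.ext (ch_conj h hh.1 r hr a)
  -- the conjugate of the word
  have hW : H * (posSys (K := K)).word (3 ^ m) t u v =
      (posSys (K := K)).Xa (ch h 7 * t ^ 3 ^ m) * (posSys (K := K)).Xb (ch h 6 * t) *
        (posSys (K := K)).hh (ch h 8 * (t ^ (3 ^ m + 1) + u ^ 3 ^ m)) (ch h 9 * (t ^ (2 * 3 ^ m + 1) + v ^ 3 ^ m))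
          (ch h 10 * u) (ch h 11 * v) * H := by
    unfold Sys.word Sys.hh
    have e := conj_mul (conj_mul (conj_mul (conj_mul (conj_mul (hconj 7 (by decide) (t ^ 3 ^ m))
      (hconj 6 (by decide) t)) (hconj 8 (by decide) (t ^ (3 ^ m + 1) + u ^ 3 ^ m)))
      (hconj 9 (by decide) (t ^ (2 * 3 ^ m + 1) + v ^ 3 ^ m))) (hconj 10 (by decide) u)) (hconj 11 (by decide) v)
    rw [show (posSys (K := K)).Xa = XG 7 from rfl, show (posSys (K := K)).Xb = XG 6 from rfl,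
      show (posSys (K := K)).Xab = XG 8 from rfl, show (posSys (K := K)).Xaab = XG 9 from rfl,
      show (posSys (K := K)).Xaaab = XG 10 from rfl, show (posSys (K := K)).Xaaabb = XG 11 from rfl, e]
    simp only [mul_assoc]
  -- commuting
  have hcomm : H * (posSys (K := K)).word (3 ^ m) t u v = (posSys (K := K)).word (3 ^ m) t u v * H := by
    rw [hH]
    apply Subtype.ext
    have := Subgroup.mem_centralizer_iff.mp hgC h (Set.mem_singleton h)
    rw [hg] at this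
    exact this
  rw [hW, (posSys (K := K)).word_eq] at hcomm
  have hinj := word_like_injective (posSys (K := K)) posSys_uniq _ _ _ _ _ _ _ _ _ _ _ _ (mul_right_cancel hcomm)
  obtain ⟨-, e6, -, -, e10, e11⟩ := hinj
  -- the three characters are not 1
  have n6 : ch h 6 ≠ 1 := by
    intro h1
    apply hc
    rw [h1, one_pow]
  have n10 : ch h 10 ≠ 1 := by
    rw [ch_10 h hh.1, h7, ← pow_mul, mul_comm (3 ^ m) 3]
    intro h1
    exact hc (nt10 _ hc0 hq3 h1)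
  have n11 : ch h 11 ≠ 1 := by
    rw [ch_11 h hh.1, h7, ← pow_mul, mul_comm (3 ^ m) 3]
    intro h1
    exact hc (nt11 _ hc0 hq3 h1)
  have t0 : t = 0 := by
    by_contra ht
    exact n6 (mul_right_cancel₀ ht (by rw [e6, one_mul]))
  have u0 : u = 0 := by
    by_contra hu
    exact n10 (mul_right_cancel₀ hu (by rw [e10, one_mul]))
  have v0 : v = 0 := by
    by_contra hv
    exact n11 (mul_right_cancel₀ hv (by rw [e11, one_mul]))
  rw [hg, t0, u0, v0, word_zero (pow_ne_zero m (by norm_num))]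
  rfl

end Fpf

end Cfsg.Agent.Helper6.Ree
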