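import Cfsg.Agent.Helper6.Ree6

/-!
Helper6: the statements about the elements of odd order of `H¹ = H ∩ ²G₂(q)`.
-/

set_option autoImplicit false
set_option maxRecDepth 100000

namespace Cfsg.Agent.Helper6.Ree

open Cfsg Cfsg.Lie Cfsg.Agent.Helper18 Cfsg.Agent.Helper18.Ree Cfsg.Agent.Helper19.Twist

variable {K : Type*} [Field K] [Fintype K] {m : ℕ}

/-- `H¹` has `(q - 1)/2` elements of odd order -/
theorem card_odd_T1 (hK : Fintype.card K = 3 ^ (2 * m + 1)) :
    2 * Nat.card {h : ↥(T1 K m) // Odd (orderOf h)} = 3 ^ (2 * m + 1) - 1 := by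
  obtain ⟨k, hk⟩ := exists_four_mul m
  have hk1 : 1 ≤ k := by
    rcases k with _ | k
    · omega
    · omega
  have e : {h : ↥(T1 K m) // Odd (orderOf h)} ≃ {u : Kˣ // Odd (orderOf u)} :=
    Equiv.subtypeEquiv (torusEquiv hK).toEquiv (fun h => by
      rw [MulEquiv.toEquiv_eq_coe, MulEquiv.coe_toEquiv, MulEquiv.orderOf_eq])
  have hcard : Nat.card Kˣ = 2 * (2 * k - 1) := by
    rw [Nat.card_units, Nat.card_eq_fintype_card, hK]
    omega
  have hodd : Odd (2 * k - 1) := ⟨k - 1, by omega⟩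
  rw [Nat.card_congr e, card_odd_order hodd hcard]
  omega

/-- a non-identity element of odd order of `H¹` centralises no non-identity element of `U¹` -/
theorem fpf_T1 (hK : Fintype.card K = 3 ^ (2 * m + 1)) (h : GL chevG2.Idx K) (hh : h ∈ T1 K m) (h1 : h ≠ 1)
    (ho : Odd (orderOf h)) :
    (chevG2.posUnipotent K ⊓ twistedG2 K (3 ^ m)) ⊓ Subgroup.centralizer {h} = ⊥ := by
  apply fpf_of_sq_ne_one hK h hh
  intro hc
  apply h1
  have e1 : phi K m (⟨h, hh⟩ ^ 2) = 1 := by
    apply Units.ext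
    rw [map_pow, Units.val_pow_eq_pow_val, phi_val, Units.val_one]
    exact hc
  have e2 : (⟨h, hh⟩ : ↥(T1 K m)) ^ 2 = 1 := phi_injective hK (by rw [e1, map_one])
  have e3 : h ^ 2 = 1 := by
    have := congrArg Subtype.val e2
    simpa using this
  have e4 : orderOf h ∣ 2 := orderOf_dvd_of_pow_eq_one e3
  rcases (Nat.dvd_prime Nat.prime_two).mp e4 with h5 | h5
  · exact orderOf_eq_one_iff.mp h5
  · rw [h5] at ho
    exact absurd ho (by decide)

end Cfsg.Agent.Helper6.Ree
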