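import Cfsg.Agent.Helper40.SL2Hom

/-!
Helper6: the diagonal product of two commuting rank-one systems twisted by a field endomorphism is again a rank-one
system (for helper40's `SL2Hom.Rel`).
-/

set_option autoImplicit false

namespace Cfsg.Agent.Helper6.Ree

open Cfsg.Agent.Helper40.SL2Hom

variable {F : Type*} [Field F] {Γ : Type*} [Group Γ]

/-- two systems commute -/
structure CommSys (x₁ y₁ x₂ y₂ : F → Γ) : Prop where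
  xx : ∀ s t, Commute (x₁ s) (x₂ t)
  xy : ∀ s t, Commute (x₁ s) (y₂ t)
  yx : ∀ s t, Commute (y₁ s) (x₂ t)
  yy : ∀ s t, Commute (y₁ s) (y₂ t)

namespace CommSys

variable {x₁ y₁ x₂ y₂ : F → Γ} (C : CommSys x₁ y₁ x₂ y₂)
include C

theorem w_x (s t : F) : Commute (w x₁ y₁ s) (x₂ t) :=
  ((C.xx _ _).mul_left (C.yx _ _)).mul_left (C.xx _ _)

theorem w_y (s t : F) : Commute (w x₁ y₁ s) (y₂ t) :=
  ((C.xy _ _).mul_left (C.yy _ _)).mul_left (C.xy _ _)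

theorem x_w (s t : F) : Commute (x₁ s) (w x₂ y₂ t) :=
  ((C.xx _ _).mul_right (C.xy _ _)).mul_right (C.xx _ _)

theorem y_w (s t : F) : Commute (y₁ s) (w x₂ y₂ t) :=
  ((C.yx _ _).mul_right (C.yy _ _)).mul_right (C.yx _ _)

theorem w_w (s t : F) : Commute (w x₁ y₁ s) (w x₂ y₂ t) :=
  ((C.x_w _ _).mul_left (C.y_w _ _)).mul_left (C.x_w _ _)

theorem h_h (s t : F) : Commute (h x₁ y₁ s) (h x₂ y₂ t) :=
  ((C.w_w _ _).mul_right (C.w_w _ _).inv_right).mul_left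
    ((C.w_w _ _).inv_left.mul_right (C.w_w _ _).inv_left.inv_right)

end CommSys

/-- the diagonal families -/
def xP (x₁ x₂ : F → Γ) (τ : F →+* F) : F → Γ := fun t => x₁ (τ t) * x₂ t

theorem w_xP {x₁ y₁ x₂ y₂ : F → Γ} (C : CommSys x₁ y₁ x₂ y₂) (τ : F →+* F) (t : F) :
    w (xP x₁ x₂ τ) (xP y₁ y₂ τ) t = w x₁ y₁ (τ t) * w x₂ y₂ t := by
  unfold w xP
  rw [map_neg, map_inv₀]
  have c1 := C.xx (τ t) t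
  have c2 := C.yx (-(τ t)⁻¹) t
  have c3 := C.xy (τ t) (-t⁻¹)
  calc x₁ (τ t) * x₂ t * (y₁ (-(τ t)⁻¹) * y₂ (-t⁻¹)) * (x₁ (τ t) * x₂ t)
      = x₁ (τ t) * (x₂ t * y₁ (-(τ t)⁻¹)) * (y₂ (-t⁻¹) * x₁ (τ t)) * x₂ t := by group
    _ = x₁ (τ t) * (y₁ (-(τ t)⁻¹) * x₂ t) * (x₁ (τ t) * y₂ (-t⁻¹)) * x₂ t := by rw [c2.eq, c3.eq]
    _ = x₁ (τ t) * y₁ (-(τ t)⁻¹) * (x₂ t * x₁ (τ t)) * y₂ (-t⁻¹) * x₂ t := by group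
    _ = x₁ (τ t) * y₁ (-(τ t)⁻¹) * (x₁ (τ t) * x₂ t) * y₂ (-t⁻¹) * x₂ t := by rw [c1.eq]
    _ = _ := by group

theorem h_xP {x₁ y₁ x₂ y₂ : F → Γ} (C : CommSys x₁ y₁ x₂ y₂) (τ : F →+* F) (t : F) :
    h (xP x₁ x₂ τ) (xP y₁ y₂ τ) t = h x₁ y₁ (τ t) * h x₂ y₂ t := by
  unfold h
  rw [w_xP C, w_xP C, map_one, mul_inv_rev]
  have c1 := (C.w_w (τ t) 1).inv_right
  have c2 := (C.w_w 1 t).inv_left
  have c3 := (C.w_w 1 1).inv_left.inv_right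
  calc w x₁ y₁ (τ t) * w x₂ y₂ t * ((w x₂ y₂ 1)⁻¹ * (w x₁ y₁ 1)⁻¹)
      = w x₁ y₁ (τ t) * w x₂ y₂ t * ((w x₁ y₁ 1)⁻¹ * (w x₂ y₂ 1)⁻¹) := by rw [c3.eq]
    _ = w x₁ y₁ (τ t) * (w x₂ y₂ t * (w x₁ y₁ 1)⁻¹) * (w x₂ y₂ 1)⁻¹ := by group
    _ = w x₁ y₁ (τ t) * ((w x₁ y₁ 1)⁻¹ * w x₂ y₂ t) * (w x₂ y₂ 1)⁻¹ := by rw [c2.eq]
    _ = _ := by group

/-- the diagonal product of two commuting rank-one systems -/
theorem Rel_prod {x₁ y₁ x₂ y₂ : F → Γ} (R₁ : Rel x₁ y₁) (R₂ : Rel x₂ y₂) (C : CommSys x₁ y₁ x₂ y₂)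
    (τ : F →+* F) : Rel (xP x₁ x₂ τ) (xP y₁ y₂ τ) where
  x_add := fun s t => by
    unfold xP
    rw [map_add, R₁.x_add, R₂.x_add]
    have c := C.xx (τ t) s
    calc x₁ (τ s) * x₁ (τ t) * (x₂ s * x₂ t) = x₁ (τ s) * (x₁ (τ t) * x₂ s) * x₂ t := by group
      _ = x₁ (τ s) * (x₂ s * x₁ (τ t)) * x₂ t := by rw [c.eq]
      _ = _ := by group
  y_add := fun s t => by
    unfold xP
    rw [map_add, R₁.y_add, R₂.y_add]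
    have c := C.yy (τ t) s
    calc y₁ (τ s) * y₁ (τ t) * (y₂ s * y₂ t) = y₁ (τ s) * (y₁ (τ t) * y₂ s) * y₂ t := by group
      _ = y₁ (τ s) * (y₂ s * y₁ (τ t)) * y₂ t := by rw [c.eq]
      _ = _ := by group
  conj := fun t u ht => by
    have hτt : τ t ≠ 0 := (map_ne_zero τ).mpr ht
    rw [w_xP C]
    have e1 := R₁.conj (τ t) (τ u) hτt
    have e2 := R₂.conj t u ht
    have c1 := C.x_w (τ u) t
    have c2 : Commute (w x₁ y₁ (τ t))⁻¹ (w x₂ y₂ t * x₂ u * (w x₂ y₂ t)⁻¹) :=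
      (((C.w_w (τ t) t).mul_right (C.w_x (τ t) u)).mul_right (C.w_w (τ t) t).inv_right).inv_left
    have e3 : xP y₁ y₂ τ (-(t⁻¹ * t⁻¹ * u)) = y₁ (-((τ t)⁻¹ * (τ t)⁻¹ * τ u)) * y₂ (-(t⁻¹ * t⁻¹ * u)) := by
      unfold xP
      rw [map_neg, map_mul, map_mul, map_inv₀]
    rw [e3, ← e1, ← e2]
    unfold xP
    rw [mul_inv_rev]
    calc w x₁ y₁ (τ t) * w x₂ y₂ t * (x₁ (τ u) * x₂ u) * ((w x₂ y₂ t)⁻¹ * (w x₁ y₁ (τ t))⁻¹)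
        = w x₁ y₁ (τ t) * (w x₂ y₂ t * x₁ (τ u)) * x₂ u * (w x₂ y₂ t)⁻¹ * (w x₁ y₁ (τ t))⁻¹ := by group
      _ = w x₁ y₁ (τ t) * (x₁ (τ u) * w x₂ y₂ t) * x₂ u * (w x₂ y₂ t)⁻¹ * (w x₁ y₁ (τ t))⁻¹ := by rw [c1.eq]
      _ = w x₁ y₁ (τ t) * x₁ (τ u) * ((w x₂ y₂ t * x₂ u * (w x₂ y₂ t)⁻¹) * (w x₁ y₁ (τ t))⁻¹) := by group
      _ = w x₁ y₁ (τ t) * x₁ (τ u) * ((w x₁ y₁ (τ t))⁻¹ * (w x₂ y₂ t * x₂ u * (w x₂ y₂ t)⁻¹)) := by rw [c2.eq]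
      _ = _ := by group
  h_mul := fun s t hs ht => by
    have hτs : τ s ≠ 0 := (map_ne_zero τ).mpr hs
    have hτt : τ t ≠ 0 := (map_ne_zero τ).mpr ht
    rw [h_xP C, h_xP C, h_xP C, map_mul, R₁.h_mul _ _ hτs hτt, R₂.h_mul _ _ hs ht]
    have c := C.h_h (τ t) s
    calc h x₁ y₁ (τ s) * h x₁ y₁ (τ t) * (h x₂ y₂ s * h x₂ y₂ t)
        = h x₁ y₁ (τ s) * (h x₁ y₁ (τ t) * h x₂ y₂ s) * h x₂ y₂ t := by group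
      _ = h x₁ y₁ (τ s) * (h x₂ y₂ s * h x₁ y₁ (τ t)) * h x₂ y₂ t := by rw [c.eq]
      _ = _ := by group

end Cfsg.Agent.Helper6.Ree
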