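import Cfsg.Agent.Helper6.Ree8
import Cfsg.Agent.Helper6.Ree7
import Cfsg.Agent.Helper40.SL2Chev

/-!
Helper6: the homomorphism `SL₂(K) → ²G₂(q)` attached to the orthogonal `σ`-stable pair of roots `a+b`, `3a+b`.
-/

set_option autoImplicit false
set_option maxRecDepth 100000

namespace Cfsg.Agent.Helper6.Ree

open Cfsg Cfsg.Lie Cfsg.Agent.Helper18 Cfsg.Agent.Helper18.Ree Cfsg.Agent.Helper19.Twist
open Cfsg.Agent.Helper40.SL2Hom

section Inst
variable {K : Type*} [Field K]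

theorem xGL40_eq (r : ℕ) :
    Cfsg.Agent.Helper40.ChevAdd.xGL chevG2 Cfsg.Agent.Helper40.ChevAdd.addOK_G2 K r = xGL chevG2 K r := by
  funext t
  apply Units.ext
  rw [Cfsg.Agent.Helper40.ChevAdd.coe_xGL, xGL_val _ _ (triOK_of_mem chevG2 hG2)]

/-- the rank-one relations for the root `r` of `G₂`, for helper18's root elements -/
theorem rel18 (r : ℕ) (hr : r < 12) : Cfsg.Agent.Helper40.SL2Hom.Rel (xGL chevG2 K r) (xGL chevG2 K (chevG2.neg r)) := by
  have := Cfsg.Agent.Helper40.SL2Chev.rel (F := K) chevG2 Cfsg.Agent.Helper40.ChevAdd.addOK_G2 hG2 r hr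
  rwa [xGL40_eq, xGL40_eq] at this

theorem commSys_8_10 : CommSys (xGL chevG2 K 8) (xGL chevG2 K 3) (xGL chevG2 K 10) (xGL chevG2 K 1) where
  xx := fun s t => x_commute_x chevG2 hG2 8 10 orth_8_10 s t
  xy := fun s t => x_commute_xn chevG2 hG2 8 10 orth_8_10 s t
  yx := fun s t => xn_commute_x chevG2 hG2 8 10 orth_8_10 s t
  yy := fun s t => xn_commute_xn chevG2 hG2 8 10 orth_8_10 s t

theorem w_eq_nG (r : ℕ) (t : K) : w (xGL chevG2 K r) (xGL chevG2 K (chevG2.neg r)) t = nG chevG2 K r t :=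
  (nG_eq chevG2 r t).symm

theorem h_eq_hG (r : ℕ) (hr : r < 12) (t : K) :
    h (xGL chevG2 K r) (xGL chevG2 K (chevG2.neg r)) t = hG chevG2 K r t := by
  unfold h
  rw [w_eq_nG, w_eq_nG, hG_eq]
  congr 1
  exact nWordGL_one_inv chevG2 hG2 r hr

end Inst

section Psi
variable {K : Type*} [Field K] [CharP K 3]

instance : Fact (Nat.Prime 3) := ⟨Nat.prime_three⟩

/-- the field endomorphism `t ↦ t^(3^m)` -/
noncomputable def tau (K : Type*) [Field K] [CharP K 3] (m : ℕ) : K →+* K := iterateFrobenius K 3 m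

theorem tau_apply (m : ℕ) (t : K) : tau K m t = t ^ 3 ^ m := iterateFrobenius_def 3 m t

/-- `x̃(t) = x_{a+b}(t^θ) x_{3a+b}(t)` -/
noncomputable def xT (K : Type*) [Field K] [CharP K 3] (m : ℕ) : K → GL chevG2.Idx K :=
  xP (xGL chevG2 K 8) (xGL chevG2 K 10) (tau K m)

/-- `ỹ(t) = x_{-a-b}(t^θ) x_{-3a-b}(t)` -/
noncomputable def yT (K : Type*) [Field K] [CharP K 3] (m : ℕ) : K → GL chevG2.Idx K :=
  xP (xGL chevG2 K 3) (xGL chevG2 K 1) (tau K m)

theorem xT_apply (m : ℕ) (t : K) : xT K m t = xGL chevG2 K 8 (t ^ 3 ^ m) * xGL chevG2 K 10 t := by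
  unfold xT xP
  rw [tau_apply]

theorem yT_apply (m : ℕ) (t : K) : yT K m t = xGL chevG2 K 3 (t ^ 3 ^ m) * xGL chevG2 K 1 t := by
  unfold yT xP
  rw [tau_apply]

theorem relT (m : ℕ) : Cfsg.Agent.Helper40.SL2Hom.Rel (xT K m) (yT K m) :=
  Rel_prod (rel18 8 (by decide)) (rel18 10 (by decide)) commSys_8_10 (tau K m)

theorem xT_mem (m : ℕ) (t : K) : xT K m t ∈ twistedG2 K (3 ^ m) := by
  rw [xT_apply]
  exact xJp_mem (pow_ne_zero m (by norm_num)) t

theorem yT_mem (m : ℕ) (t : K) : yT K m t ∈ twistedG2 K (3 ^ m) := by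
  rw [yT_apply]
  have := xJm_mem (K := K) (θ := 3 ^ m) (pow_ne_zero m (by norm_num)) (-t)
  rwa [(odd_three_pow m).neg_pow, neg_neg, neg_neg] at this

/-- `w̃(t) = n_{a+b}(t^θ) n_{3a+b}(t)` -/
theorem wT_eq (m : ℕ) (t : K) : w (xT K m) (yT K m) t = nG chevG2 K 8 (t ^ 3 ^ m) * nG chevG2 K 10 t := by
  unfold xT yT
  rw [w_xP commSys_8_10, tau_apply]
  exact congrArg₂ (· * ·) (w_eq_nG 8 _) (w_eq_nG 10 _)

/-- `h̃(t) = h_{a+b}(t^θ) h_{3a+b}(t)` -/
theorem hT_eq (m : ℕ) (t : K) : h (xT K m) (yT K m) t = hG chevG2 K 8 (t ^ 3 ^ m) * hG chevG2 K 10 t := by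
  unfold xT yT
  rw [h_xP commSys_8_10, tau_apply]
  exact congrArg₂ (· * ·) (h_eq_hG 8 (by decide) _) (h_eq_hG 10 (by decide) _)

/-- the homomorphism `SL₂(K) → GL₁₄(K)` -/
noncomputable def psiGL (K : Type*) [Field K] [CharP K 3] (m : ℕ) :
    Matrix.SpecialLinearGroup (Fin 2) K →* GL chevG2.Idx K := (relT (K := K) m).hom

theorem psiGL_mem (m : ℕ) (g : Matrix.SpecialLinearGroup (Fin 2) K) : psiGL K m g ∈ twistedG2 K (3 ^ m) := by
  have h1 : psiGL K m g ∈ (psiGL K m).range := ⟨g, rfl⟩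
  unfold psiGL at h1
  rw [(relT (K := K) m).range_hom] at h1
  revert h1
  apply (Subgroup.closure_le _).mpr
  rintro _ (⟨t, rfl⟩ | ⟨t, rfl⟩)
  · exact xT_mem m t
  · exact yT_mem m t

theorem psiGL_apply (m : ℕ) (g : Matrix.SpecialLinearGroup (Fin 2) K) :
    psiGL K m g = Cfsg.Agent.Helper40.SL2Hom.phi (xT K m) (yT K m) (g 0 0) (g 0 1) (g 1 0) (g 1 1) := rfl

theorem psiGL_U (m : ℕ) (t : K) : psiGL K m (U t) = xT K m t := (relT (K := K) m).hom_U t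

theorem psiGL_L (m : ℕ) (t : K) : psiGL K m (L t) = yT K m t := (relT (K := K) m).hom_L t

theorem psiGL_W (m : ℕ) : psiGL K m W = nG chevG2 K 8 1 * nG chevG2 K 10 1 := by
  have := (relT (K := K) m).phiFun_W
  have e : psiGL K m W = phiFun (xT K m) (yT K m) W := rfl
  rw [e, this, wT_eq, one_pow]

end Psi

end Cfsg.Agent.Helper6.Ree
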