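import Mathlib

/-!
# Group-theoretic glue for centralisers of cyclic subgroups (helper6, for S2359)
-/

set_option autoImplicit false

namespace Cfsg.Agent.Helper6.ReeC

/-- `p`-elements are conjugate into any subgroup of index prime to `p` -/
theorem exists_conj_mem_of_not_dvd_index {G : Type*} [Group G] [Finite G] {p : ℕ} [hp : Fact p.Prime]
    (C : Subgroup G) (hidx : ¬ p ∣ C.index) (a : G) (ha : ∃ k : ℕ, a ^ p ^ k = 1) :
    ∃ g : G, g * a * g⁻¹ ∈ C := by
  obtain ⟨Q⟩ : Nonempty (Sylow p ↥C) := inferInstance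
  set Q' : Subgroup G := (Q : Subgroup ↥C).map C.subtype with hQ'
  have hQ'p : IsPGroup p ↥Q' := Q.isPGroup'.map C.subtype
  have hQ'i : ¬ p ∣ Q'.index := by
    rw [hQ', Subgroup.index_map_subtype]
    intro h
    rcases (Nat.Prime.dvd_mul hp.out).mp h with h | h
    · exact Q.not_dvd_index h
    · exact hidx h
  have hSQ : ((hQ'p.toSylow hQ'i : Sylow p G) : Subgroup G) = Q' := IsPGroup.toSylow_coe hQ'p hQ'i
  have hza : IsPGroup p ↥(Subgroup.zpowers a) := by
    obtain ⟨k, hk⟩ := ha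
    obtain ⟨j, -, hj⟩ := (Nat.dvd_prime_pow hp.out).mp (orderOf_dvd_of_pow_eq_one hk)
    apply IsPGroup.of_card (n := j)
    rw [Nat.card_zpowers, hj]
  obtain ⟨P, hP⟩ := hza.exists_le_sylow
  obtain ⟨g, hg⟩ := MulAction.exists_smul_eq G P (hQ'p.toSylow hQ'i)
  refine ⟨g, ?_⟩
  have h1 : g * a * g⁻¹ ∈ ((g • P : Sylow p G) : Subgroup G) := by
    rw [Sylow.coe_subgroup_smul]
    exact Subgroup.smul_mem_pointwise_smul _ _ _ (hP (Subgroup.mem_zpowers a))
  rw [hg, hSQ, hQ'] at h1
  obtain ⟨x, -, hx⟩ := Subgroup.mem_map.mp h1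
  rw [← hx]
  exact x.2

/-- the centraliser of a subgroup of an abelian group `H`, computed from one element -/
theorem centralizer_eq_of_singleton {G : Type*} [Group G] (H A T : Subgroup G)
    (hHc : ∀ x ∈ H, ∀ y ∈ H, x * y = y * x) (hA : A ≤ H) (a : G) (haA : a ∈ A)
    (hT : Subgroup.centralizer {a} = T) (hTc : ∀ x ∈ T, ∀ y ∈ T, x * y = y * x) :
    Subgroup.centralizer (A : Set G) = T ∧ Subgroup.centralizer (H : Set G) = T := by
  have hHT : H ≤ T := by
    intro h hh
    rw [← hT, Subgroup.mem_centralizer_singleton_iff]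
    exact hHc h hh a (hA haA)
  have h1 : T ≤ Subgroup.centralizer (H : Set G) := by
    intro x hx
    rw [Subgroup.mem_centralizer_iff]
    intro h hh
    exact hTc h (hHT hh) x hx
  have h2 : Subgroup.centralizer (H : Set G) ≤ Subgroup.centralizer (A : Set G) :=
    Subgroup.centralizer_le hA
  have h3 : Subgroup.centralizer (A : Set G) ≤ T := by
    rw [← hT]
    apply Subgroup.centralizer_le
    intro x hx
    rw [Set.mem_singleton_iff] at hx
    rw [hx]
    exact haA
  exact ⟨le_antisymm h3 (h1.trans h2), le_antisymm (h2.trans h3) h1⟩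

/-- a non-trivial subgroup of a finite group has an element of prime order -/
theorem exists_prime_order_mem {G : Type*} [Group G] [Finite G] (A : Subgroup G) (hA : A ≠ ⊥) :
    ∃ a ∈ A, (orderOf a).Prime := by
  obtain ⟨⟨x, hxA⟩, hx⟩ := (Subgroup.ne_bot_iff_exists_ne_one (H := A)).mp hA
  have hx1 : x ≠ 1 := fun h => hx (Subtype.ext h)
  have hn : orderOf x ≠ 1 := fun h => hx1 (orderOf_eq_one_iff.mp h)
  refine ⟨x ^ (orderOf x / (orderOf x).minFac), A.pow_mem hxA _, ?_⟩
  rw [orderOf_pow_orderOf_div (orderOf_pos x).ne' (Nat.minFac_dvd _)]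
  exact Nat.minFac_prime hn

/-- centralisers of conjugate elements -/
theorem centralizer_conj {G : Type*} [Group G] (g a : G) :
    Subgroup.centralizer {g * a * g⁻¹} = (Subgroup.centralizer {a}).map (MulAut.conj g).toMonoidHom := by
  ext x
  rw [Subgroup.mem_centralizer_singleton_iff, Subgroup.mem_map]
  constructor
  · intro h
    refine ⟨g⁻¹ * x * g, ?_, ?_⟩
    · rw [Subgroup.mem_centralizer_singleton_iff]
      have : g⁻¹ * (x * (g * a * g⁻¹)) * g = g⁻¹ * (g * a * g⁻¹ * x) * g := by rw [h]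
      calc g⁻¹ * x * g * a = g⁻¹ * (x * (g * a * g⁻¹)) * g := by group
        _ = g⁻¹ * (g * a * g⁻¹ * x) * g := this
        _ = a * (g⁻¹ * x * g) := by group
    · simp only [MulEquiv.coe_toMonoidHom, MulAut.conj_apply]
      group
  · rintro ⟨y, hy, rfl⟩
    rw [Subgroup.mem_centralizer_singleton_iff] at hy
    simp only [MulEquiv.coe_toMonoidHom, MulAut.conj_apply]
    calc g * y * g⁻¹ * (g * a * g⁻¹) = g * (y * a) * g⁻¹ := by group
      _ = g * (a * y) * g⁻¹ := by rw [hy]
      _ = g * a * g⁻¹ * (g * y * g⁻¹) := by group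

end Cfsg.Agent.Helper6.ReeC
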