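import Cfsg.Agent.Helper6.Ree29
import Cfsg.Agent.Helper6.ReeC1

/-!
# The centraliser of a single torus element of `²G₂(q)` (helper6, for S2359)
-/

set_option autoImplicit false

namespace Cfsg.Agent.Helper6.ReeC

open Cfsg Cfsg.Lie Cfsg.Agent.Helper18 Cfsg.Agent.Helper18.Ree
open Cfsg.Agent.Helper41.ReeU Cfsg.Agent.Helper9.ReeTI Cfsg.Agent.Helper6.Ree

variable {K : Type*} [Field K] [Fintype K] [CharP K 3] {m : ℕ}

/-- `c ^ (3θ+1) = 1` forces `c² = 1` -/
theorem sq_eq_one_of_pow_e1 (hK : Fintype.card K = 3 ^ (2 * m + 1)) (c : Kˣ)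
    (h : (c : K) ^ (3 * 3 ^ m + 1) = 1) : (c : K) ^ 2 = 1 := by
  rw [← sq_eq_pow hK (c : K) c.ne_zero, ← pow_mul, mul_comm, pow_mul, h, one_pow]

/-- `c ^ (3θ+2) = 1` forces `c = 1` -/
theorem eq_one_of_pow_e2 (hK : Fintype.card K = 3 ^ (2 * m + 1)) (c : Kˣ)
    (h : (c : K) ^ (3 * 3 ^ m + 2) = 1) : (c : K) = 1 := by
  apply pow_e2_injective (m := m) hK
  simp only
  rw [h, one_pow]

/-- the centraliser of a torus element `h(c)` with `c² ≠ 1` is the torus -/
theorem centralizer_gT_single (hK : Fintype.card K = 3 ^ (2 * m + 1)) (c : Kˣ) (hc : (c : K) ^ 2 ≠ 1)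
    (y : ↥(twistedG2 K (3 ^ m))) (hy : y * gT hK c = gT hK c * y) : ∃ d : Kˣ, y = gT hK d := by
  have hc1 : (c : K) ≠ 1 := by
    intro h
    apply hc
    rw [h, one_pow]
  rcases bruhat_cases hK y with ⟨a₁, a₂, a₃, d, rfl⟩ | ⟨a₁, a₂, a₃, d, b₁, b₂, b₃, rfl⟩
  · refine ⟨d, ?_⟩
    rw [nf1 hK, nf2 hK] at hy
    obtain ⟨e1, e2, e3, -⟩ := borel_unique hK hy
    have ha1 : a₁ = 0 := by
      have : ((c : K) - 1) * a₁ = 0 := by linear_combination -e1
      rcases mul_eq_zero.mp this with h | h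
      · exact absurd (sub_eq_zero.mp h) hc1
      · exact h
    have ha2 : a₂ = 0 := by
      have : ((c : K) ^ (3 * 3 ^ m + 1) - 1) * a₂ = 0 := by linear_combination -e2
      rcases mul_eq_zero.mp this with h | h
      · exact absurd (sq_eq_one_of_pow_e1 hK c (sub_eq_zero.mp h)) hc
      · exact h
    have ha3 : a₃ = 0 := by
      have : ((c : K) ^ (3 * 3 ^ m + 2) - 1) * a₃ = 0 := by linear_combination -e3
      rcases mul_eq_zero.mp this with h | h
      · exact absurd (eq_one_of_pow_e2 hK c (sub_eq_zero.mp h)) hc1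
      · exact h
    rw [ha1, ha2, ha3, gU_zero, one_mul]
  · exfalso
    rw [nf3 hK, nf4 hK] at hy
    obtain ⟨-, -, -, e4, -, -, -⟩ := bigcell_unique' hK hy
    have h2 : c⁻¹ = c := by
      have := congrArg (fun x => d⁻¹ * x) e4
      simp only [inv_mul_cancel_left] at this
      rw [this, mul_comm, mul_inv_cancel_right]
    have h3 : c * c = 1 := by
      nth_rewrite 1 [← h2]
      exact inv_mul_cancel _
    have h4 := congrArg Units.val h3
    rw [Units.val_mul, Units.val_one] at h4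
    apply hc
    rw [sq]
    exact h4

end Cfsg.Agent.Helper6.ReeC
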