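import Cfsg.Agent.Helper6.ReeC2
import Cfsg.Agent.Helper18.Ree.SylowP3

/-!
# Centralisers of cyclic subgroups of order `(q-1)/2` of `²G₂(q)` (helper6, for S2359)
-/

set_option autoImplicit false

namespace Cfsg.Agent.Helper6.ReeC

open Cfsg Cfsg.Lie Cfsg.Agent.Helper18 Cfsg.Agent.Helper18.Ree
open Cfsg.Agent.Helper41.ReeU Cfsg.Agent.Helper9.ReeTI Cfsg.Agent.Helper6.Ree

theorem q_mod_eight (m : ℕ) : 3 ^ (2 * m + 1) % 8 = 3 := by
  rw [pow_succ, pow_mul, Nat.mul_mod, Nat.pow_mod]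
  norm_num

theorem arith_split (q : ℕ) (h8 : q % 8 = 3) (h27 : 27 ≤ q) :
    ¬ 2 ∣ (q - 1) / 2 ∧ q - 1 = (q - 1) / 2 * 2 ∧ 1 < (q - 1) / 2 := by
  omega

variable {K : Type*} [Field K] [Fintype K] [CharP K 3] {m : ℕ}

theorem card_gT_range (hK : Fintype.card K = 3 ^ (2 * m + 1)) :
    Nat.card ↥(gT (m := m) hK).range = 3 ^ (2 * m + 1) - 1 := by
  rw [← Nat.card_congr (MonoidHom.ofInjective (gT_injective (m := m) hK)).toEquiv, Nat.card_units,
    Nat.card_eq_fintype_card, hK]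

theorem isCyclic_gT_range (hK : Fintype.card K = 3 ^ (2 * m + 1)) :
    IsCyclic ↥(gT (m := m) hK).range :=
  (MonoidHom.ofInjective (gT_injective (m := m) hK)).isCyclic.mp inferInstance

theorem gT_range_comm (hK : Fintype.card K = 3 ^ (2 * m + 1)) :
    ∀ x ∈ (gT (m := m) hK).range, ∀ y ∈ (gT (m := m) hK).range, x * y = y * x := by
  rintro _ ⟨c, rfl⟩ _ ⟨d, rfl⟩
  rw [← map_mul, ← map_mul, mul_comm]

theorem centralizer_gT_eq_range (hK : Fintype.card K = 3 ^ (2 * m + 1)) (c : Kˣ) (hc : (c : K) ^ 2 ≠ 1) :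
    Subgroup.centralizer {gT (m := m) hK c} = (gT (m := m) hK).range := by
  ext y
  rw [Subgroup.mem_centralizer_singleton_iff]
  constructor
  · intro h
    obtain ⟨d, hd⟩ := centralizer_gT_single hK c hc y h
    exact ⟨d, hd.symm⟩
  · rintro ⟨d, rfl⟩
    rw [← map_mul, ← map_mul, mul_comm]

/-- the index of the torus -/
theorem index_gT_range (hK : Fintype.card K = 3 ^ (2 * m + 1)) {n : ℕ} (hn : 3 ^ (2 * m + 1) = n + 1) :
    (gT (m := m) hK).range.index = (n + 1) ^ 3 * ((n + 2) * ((n + 1) * n + 1)) := by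
  have hn0 : 0 < n := by
    have : 3 ^ 1 ≤ 3 ^ (2 * m + 1) := Nat.pow_le_pow_right (by norm_num) (by omega)
    omega
  have h1 := (gT (m := m) hK).range.card_mul_index
  rw [card_gT_range hK, card_ree_succ hK hn, hn, Nat.add_sub_cancel] at h1
  apply Nat.eq_of_mul_eq_mul_left hn0
  rw [h1]
  ring

/-- elements of odd prime order dividing `q - 1` have a cyclic centraliser of order `q - 1` -/
theorem centralizer_of_prime_order_split (hK : Fintype.card K = 3 ^ (2 * m + 1))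
    (a : ↥(twistedG2 K (3 ^ m))) {p : ℕ} (hp : p.Prime) (hp2 : p ≠ 2) (hpq : p ∣ 3 ^ (2 * m + 1) - 1)
    (ha : orderOf a = p) :
    ∃ T : Subgroup ↥(twistedG2 K (3 ^ m)), IsCyclic ↥T ∧ Nat.card ↥T = 3 ^ (2 * m + 1) - 1 ∧
      (∀ x ∈ T, ∀ y ∈ T, x * y = y * x) ∧ Subgroup.centralizer {a} = T := by
  haveI : Fact p.Prime := ⟨hp⟩
  obtain ⟨n, hn⟩ : ∃ n, 3 ^ (2 * m + 1) = n + 1 :=
    ⟨3 ^ (2 * m + 1) - 1, (Nat.sub_add_cancel (Nat.one_le_pow _ _ (by norm_num))).symm⟩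
  rw [hn, Nat.add_sub_cancel] at hpq
  have hidx : ¬ p ∣ (gT (m := m) hK).range.index := by
    rw [index_gT_range hK hn]
    intro h
    have h2 : ¬ p ∣ 2 := fun h => hp2 ((Nat.prime_dvd_prime_iff_eq hp Nat.prime_two).mp h)
    have h1 : ¬ p ∣ 1 := Nat.Prime.not_dvd_one hp
    rcases (Nat.Prime.dvd_mul hp).mp h with h | h
    · have := Nat.Prime.dvd_of_dvd_pow hp h
      exact h1 ((Nat.dvd_add_right hpq).mp this)
    · rcases (Nat.Prime.dvd_mul hp).mp h with h | h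
      · exact h2 ((Nat.dvd_add_right hpq).mp h)
      · exact h1 ((Nat.dvd_add_right (Dvd.dvd.mul_left hpq (n + 1))).mp h)
  obtain ⟨g, hg⟩ := exists_conj_mem_of_not_dvd_index (gT (m := m) hK).range hidx a
    ⟨1, by rw [pow_one, ← ha, pow_orderOf_eq_one]⟩
  obtain ⟨c, hc⟩ := hg
  have ha1 : a ≠ 1 := by
    intro h
    rw [h, orderOf_one] at ha
    exact hp.one_lt.ne ha
  have hcp : c ^ p = 1 := by
    apply gT_injective (m := m) hK
    rw [map_pow, hc, map_one, conj_pow, ← ha, pow_orderOf_eq_one]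
    group
  have hc2 : (c : K) ^ 2 ≠ 1 := by
    intro h
    have h' : c ^ 2 = 1 := Units.ext (by rw [Units.val_pow_eq_pow_val, h, Units.val_one])
    have h1 : orderOf c ∣ Nat.gcd p 2 := Nat.dvd_gcd (orderOf_dvd_of_pow_eq_one hcp) (orderOf_dvd_of_pow_eq_one h')
    have h2 : Nat.gcd p 2 = 1 := (Nat.coprime_primes hp Nat.prime_two).mpr hp2
    rw [h2, Nat.dvd_one, orderOf_eq_one_iff] at h1
    apply ha1
    rw [h1, map_one] at hc
    have : a = g⁻¹ * (g * a * g⁻¹) * g := by group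
    rw [this, ← hc]
    group
  have hC := centralizer_gT_eq_range hK c hc2
  rw [hc] at hC
  -- transport back by conjugation
  have hA : a = g⁻¹ * (g * a * g⁻¹) * g⁻¹⁻¹ := by group
  have hC2 : Subgroup.centralizer {a} = (gT (m := m) hK).range.map (MulAut.conj g⁻¹).toMonoidHom := by
    rw [← hC, ← centralizer_conj, ← hA]
  have e : ↥(gT (m := m) hK).range ≃* ↥((gT (m := m) hK).range.map (MulAut.conj g⁻¹).toMonoidHom) :=
    (gT (m := m) hK).range.equivMapOfInjective _ (MulAut.conj g⁻¹).injective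
  refine ⟨_, e.isCyclic.mp (isCyclic_gT_range hK), ?_, ?_, hC2⟩
  · rw [← Nat.card_congr e.toEquiv, card_gT_range hK]
  · rintro _ ⟨x, hx, rfl⟩ _ ⟨y, hy, rfl⟩
    rw [← map_mul, ← map_mul, gT_range_comm hK x hx y hy]

/-- **Part one**: cyclic subgroups of order `(q-1)/2` -/
theorem part_one (hm : 1 ≤ m) (hK : Fintype.card K = 3 ^ (2 * m + 1)) (H : Subgroup ↥(twistedG2 K (3 ^ m)))
    (hH : IsCyclic ↥H) (hcard : Nat.card ↥H = (3 ^ (2 * m + 1) - 1) / 2) :
    IsCyclic ↥(Subgroup.centralizer (H : Set ↥(twistedG2 K (3 ^ m)))) ∧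
      Nat.card ↥(Subgroup.centralizer (H : Set ↥(twistedG2 K (3 ^ m)))) = 3 ^ (2 * m + 1) - 1 ∧
      ∀ A : Subgroup ↥(twistedG2 K (3 ^ m)), A ≤ H → A ≠ ⊥ →
        Subgroup.centralizer (A : Set ↥(twistedG2 K (3 ^ m))) =
          Subgroup.centralizer (H : Set ↥(twistedG2 K (3 ^ m))) := by
  have hq27 : 3 ^ 3 ≤ 3 ^ (2 * m + 1) := Nat.pow_le_pow_right (by norm_num) (by omega)
  obtain ⟨hq1, hq2, hq3⟩ := arith_split _ (q_mod_eight m) hq27
  have hHc : ∀ x ∈ H, ∀ y ∈ H, x * y = y * x := by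
    intro x hx y hy
    letI := hH.commGroup
    exact congrArg Subtype.val (mul_comm (⟨x, hx⟩ : ↥H) ⟨y, hy⟩)
  have key : ∀ A : Subgroup ↥(twistedG2 K (3 ^ m)), A ≤ H → A ≠ ⊥ →
      ∃ T : Subgroup ↥(twistedG2 K (3 ^ m)), IsCyclic ↥T ∧ Nat.card ↥T = 3 ^ (2 * m + 1) - 1 ∧
        Subgroup.centralizer (A : Set ↥(twistedG2 K (3 ^ m))) = T ∧
        Subgroup.centralizer (H : Set ↥(twistedG2 K (3 ^ m))) = T := by
    intro A hA hA1
    obtain ⟨a, haA, hap⟩ := exists_prime_order_mem A hA1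
    have hdvd : orderOf a ∣ (3 ^ (2 * m + 1) - 1) / 2 := by
      rw [← hcard]
      exact Subgroup.orderOf_dvd_natCard H (hA haA)
    have hp2 : orderOf a ≠ 2 := by
      intro h
      rw [h] at hdvd
      exact hq1 hdvd
    have hpq : orderOf a ∣ 3 ^ (2 * m + 1) - 1 := by
      apply hdvd.trans
      exact ⟨2, hq2⟩
    obtain ⟨T, hTc, hTcard, hTcomm, hT⟩ := centralizer_of_prime_order_split hK a hap hp2 hpq rfl
    obtain ⟨h1, h2⟩ := centralizer_eq_of_singleton H A T hHc hA a haA hT hTcomm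
    exact ⟨T, hTc, hTcard, h1, h2⟩
  have hHne : H ≠ ⊥ := by
    intro h
    rw [h, Subgroup.card_bot] at hcard
    rw [← hcard] at hq3
    exact lt_irrefl _ hq3
  obtain ⟨T, hTc, hTcard, -, hT⟩ := key H le_rfl hHne
  refine ⟨by rw [hT]; exact hTc, by rw [hT]; exact hTcard, ?_⟩
  intro A hA hA1
  obtain ⟨T', -, -, h1, h2⟩ := key A hA hA1
  rw [h1, h2]

end Cfsg.Agent.Helper6.ReeC
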