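import Cfsg.Agent.Helper6.ReeC3
import Cfsg.Agent.S1157
import Cfsg.Agent.Helper11.ReeINV
import Cfsg.Agent.Helper80.ReePSL

/-!
# Involutions of `²G₂(q)`: one class, centraliser `Z₂ × PSL₂(q)` (helper6, for S2359)
-/

set_option autoImplicit false

namespace Cfsg.Agent.Helper6.ReeC

open Cfsg Cfsg.Lie Cfsg.Agent.Helper18 Cfsg.Agent.Helper18.Ree
open Cfsg.Agent.Helper41.ReeU Cfsg.Agent.Helper9.ReeTI Cfsg.Agent.Helper6.Ree

/-- centralisers correspond under an isomorphism -/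
theorem card_centralizer_mulEquiv {G H : Type*} [Group G] [Group H] (e : G ≃* H) (a : G) :
    Nat.card ↥(Subgroup.centralizer {e a}) = Nat.card ↥(Subgroup.centralizer {a}) := by
  apply Nat.card_congr
  refine (e.toEquiv.subtypeEquiv ?_).symm
  intro x
  show x ∈ Subgroup.centralizer {a} ↔ e x ∈ Subgroup.centralizer {e a}
  rw [Subgroup.mem_centralizer_singleton_iff, Subgroup.mem_centralizer_singleton_iff]
  rw [← map_mul, ← map_mul]
  exact e.injective.eq_iff.symm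

variable {K : Type*} [Field K] [Fintype K] [CharP K 3] {m : ℕ}

/-- the diagonal involution of `²G₂(q)` -/
noncomputable def jj (K : Type*) [Field K] [Fintype K] [CharP K 3] (m : ℕ) : ↥(twistedG2 K (3 ^ m)) :=
  ⟨Jg K, Jg_mem_twisted m⟩

theorem jj_mul_self (hK : Fintype.card K = 3 ^ (2 * m + 1)) : jj K m * jj K m = 1 :=
  Subtype.ext (Jg_mul_self (m := m) hK)

omit [Fintype K] in
theorem Jg_ne_one : Jg K ≠ 1 := by
  intro h
  have h1 := ch_Jg_6 (K := K)
  rw [h, ch_one] at h1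
  have : (2 : K) = 0 := by linear_combination h1
  exact two_ne_zero_K this

theorem jj_ne_one : jj K m ≠ 1 := by
  intro h
  exact Jg_ne_one (congrArg Subtype.val h)

theorem isPGroup_two_zpowers {G : Type*} [Group G] (x : G) (hx : x * x = 1) :
    IsPGroup 2 ↥(Subgroup.zpowers x) := by
  intro y
  refine ⟨1, ?_⟩
  obtain ⟨i, hi⟩ := Subgroup.mem_zpowers_iff.mp y.2
  apply Subtype.ext
  show (y : G) ^ 2 ^ 1 = 1
  rw [← hi, pow_one, ← zpow_natCast, ← zpow_mul, mul_comm, zpow_mul, zpow_natCast, sq, hx, one_zpow]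

/-- every `2`-element of `²G₂(q)` squares to one -/
theorem sq_eq_one_of_two_element (hK : Fintype.card K = 3 ^ (2 * m + 1)) (x : ↥(twistedG2 K (3 ^ m)))
    (k : ℕ) (hx : x ^ 2 ^ k = 1) : x * x = 1 := by
  haveI : Fact (Nat.Prime 2) := ⟨Nat.prime_two⟩
  have hz : IsPGroup 2 ↥(Subgroup.zpowers x) := by
    obtain ⟨j, -, hj⟩ := (Nat.dvd_prime_pow Nat.prime_two).mp (orderOf_dvd_of_pow_eq_one hx)
    apply IsPGroup.of_card (n := j)
    rw [Nat.card_zpowers, hj]
  obtain ⟨P, hP⟩ := hz.exists_le_sylow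
  exact (sylow_two_ree hK P).2 x (hP (Subgroup.mem_zpowers x))

/-- all involutions of `²G₂(q)` are conjugate -/
theorem involution_conj (hm : 1 ≤ m) (hK : Fintype.card K = 3 ^ (2 * m + 1)) (t : ↥(twistedG2 K (3 ^ m)))
    (ht1 : t ≠ 1) (ht2 : t * t = 1) : ∃ g : ↥(twistedG2 K (3 ^ m)), g * t * g⁻¹ = jj K m := by
  haveI : Fact (Nat.Prime 2) := ⟨Nat.prime_two⟩
  obtain ⟨P, hP⟩ := (isPGroup_two_zpowers t ht2).exists_le_sylow
  obtain ⟨Q, hQ⟩ := (isPGroup_two_zpowers (jj K m) (jj_mul_self hK)).exists_le_sylow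
  obtain ⟨g, hg⟩ := MulAction.exists_smul_eq ↥(twistedG2 K (3 ^ m)) P Q
  have h1 : g * t * g⁻¹ ∈ (Q : Subgroup ↥(twistedG2 K (3 ^ m))) := by
    rw [← hg, Sylow.coe_subgroup_smul]
    exact Subgroup.smul_mem_pointwise_smul _ _ _ (hP (Subgroup.mem_zpowers t))
  obtain ⟨hC, hN⟩ := Cfsg.Agent.S1157.result hm hK Q
  obtain ⟨h8, -⟩ := sylow_two_ree hK Q
  have hne : g * t * g⁻¹ ≠ 1 := by
    intro h
    apply ht1
    have : t = g⁻¹ * (g * t * g⁻¹) * g := by group
    rw [this, h]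
    group
  obtain ⟨h, hh⟩ := Cfsg.Agent.Helper11.ReeINV.conj_of_mem_sylow_eight
    (Q : Subgroup ↥(twistedG2 K (3 ^ m))) h8 hC.le hN (g * t * g⁻¹) (jj K m) h1
    (hQ (Subgroup.mem_zpowers _)) hne jj_ne_one
  refine ⟨h * g, ?_⟩
  rw [← hh]
  group

/-- the centraliser of every involution is `Z₂ × PSL₂(q)` -/
theorem involution_centralizer_iso (hm : 1 ≤ m) (hK : Fintype.card K = 3 ^ (2 * m + 1))
    (t : ↥(twistedG2 K (3 ^ m))) (ht1 : t ≠ 1) (ht2 : t * t = 1) :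
    Nonempty (↥(Subgroup.centralizer {t}) ≃*
      Multiplicative (ZMod 2) × Matrix.ProjectiveSpecialLinearGroup (Fin 2) K) := by
  obtain ⟨g, hg⟩ := involution_conj hm hK t ht1 ht2
  obtain ⟨e⟩ := centralizer_iso hK (jj K m) Jg_memH jj_ne_one (jj_mul_self hK)
  have h1 : Subgroup.centralizer {jj K m} =
      (Subgroup.centralizer {t}).map (MulAut.conj g).toMonoidHom := by
    rw [← hg, centralizer_conj]
  have e1 : ↥(Subgroup.centralizer {t}) ≃*
      ↥((Subgroup.centralizer {t}).map (MulAut.conj g).toMonoidHom) :=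
    (Subgroup.centralizer {t}).equivMapOfInjective _ (MulAut.conj g).injective
  exact ⟨(e1.trans (MulEquiv.subgroupCongr h1.symm)).trans e⟩

/-- for an involution `t` and an element `a` of prime order `s ∣ (q+1)/4` commuting with it,
`C(t) ∩ C(a)` is abelian of order `q + 1` -/
theorem inf_centralizer (hm : 1 ≤ m) (hK : Fintype.card K = 3 ^ (2 * m + 1))
    (t : ↥(twistedG2 K (3 ^ m))) (ht1 : t ≠ 1) (ht2 : t * t = 1) (a : ↥(twistedG2 K (3 ^ m)))
    {s : ℕ} (hs : s.Prime) (hs2 : s ≠ 2) (hsq : ¬ s ∣ 3 ^ (2 * m + 1)) (hsq1 : ¬ s ∣ 3 ^ (2 * m + 1) - 1)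
    (ha : orderOf a = s) (hat : a * t = t * a) :
    (∀ x ∈ Subgroup.centralizer {t} ⊓ Subgroup.centralizer {a},
      ∀ y ∈ Subgroup.centralizer {t} ⊓ Subgroup.centralizer {a}, x * y = y * x) ∧
      Nat.card ↥(Subgroup.centralizer {t} ⊓ Subgroup.centralizer {a}) = 3 ^ (2 * m + 1) + 1 := by
  obtain ⟨e⟩ := involution_centralizer_iso hm hK t ht1 ht2
  have haC : a ∈ Subgroup.centralizer {t} := Subgroup.mem_centralizer_singleton_iff.mpr hat
  set a' : ↥(Subgroup.centralizer {t}) := ⟨a, haC⟩ with ha'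
  have hord : orderOf (e a') = s := by
    rw [MulEquiv.orderOf_eq, ← ha, ← Subgroup.orderOf_coe]
  have hodd : Odd (Fintype.card K) := by
    rw [hK]
    exact Odd.pow (by decide)
  rw [← hK] at hsq hsq1
  obtain ⟨hc, hcard⟩ := Cfsg.Agent.Helper80.ReePSL.prod_psl2_centralizer hodd hs hs2 hsq hsq1 (e a') hord
  have hmem : ∀ x : ↥(Subgroup.centralizer {t}), (x : ↥(twistedG2 K (3 ^ m))) ∈ Subgroup.centralizer {a} →
      e x ∈ Subgroup.centralizer {e a'} := by
    intro x hx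
    rw [Subgroup.mem_centralizer_singleton_iff] at hx ⊢
    rw [← map_mul, ← map_mul]
    congr 1
    exact Subtype.ext hx
  constructor
  · intro x hx y hy
    have h1 := hc (e ⟨x, hx.1⟩) (hmem ⟨x, hx.1⟩ hx.2) (e ⟨y, hy.1⟩) (hmem ⟨y, hy.1⟩ hy.2)
    rw [← map_mul, ← map_mul] at h1
    exact congrArg Subtype.val (e.injective h1)
  · rw [← hK, ← hcard, card_centralizer_mulEquiv e a']
    apply Nat.card_congr
    refine ⟨fun x => ⟨⟨x.1, x.2.1⟩, ?_⟩, fun y => ⟨y.1.1, ⟨y.1.2, ?_⟩⟩, fun x => rfl, fun y => rfl⟩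
    · rw [Subgroup.mem_centralizer_singleton_iff]
      apply Subtype.ext
      exact Subgroup.mem_centralizer_singleton_iff.mp x.2.2
    · show (y.1.1 : ↥(twistedG2 K (3 ^ m))) ∈ Subgroup.centralizer {a}
      rw [Subgroup.mem_centralizer_singleton_iff]
      exact congrArg Subtype.val (Subgroup.mem_centralizer_singleton_iff.mp y.2)

end Cfsg.Agent.Helper6.ReeC
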