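import Cfsg.Agent.Helper6.ReeC4

/-!
# Centralisers of elements of prime order `s ∣ q + 1` in `²G₂(q)`: no `3`-elements, small
Sylow `2`-subgroups (helper6, for S2359)
-/

set_option autoImplicit false

namespace Cfsg.Agent.Helper6.ReeC

open Cfsg Cfsg.Lie Cfsg.Agent.Helper18 Cfsg.Agent.Helper18.Ree
open Cfsg.Agent.Helper41.ReeU Cfsg.Agent.Helper9.ReeTI Cfsg.Agent.Helper6.Ree

variable {K : Type*} [Field K] [Fintype K] [CharP K 3] {m : ℕ}

/-- an element of prime order `s ∤ q (q - 1)` commutes with no element of order three -/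
theorem eq_one_of_cube (hK : Fintype.card K = 3 ^ (2 * m + 1)) (a : ↥(twistedG2 K (3 ^ m))) {s : ℕ}
    (hs : s.Prime) (hsq : ¬ s ∣ 3 ^ (2 * m + 1)) (hsq1 : ¬ s ∣ 3 ^ (2 * m + 1) - 1) (ha : orderOf a = s)
    (x : ↥(twistedG2 K (3 ^ m))) (hxa : x * a = a * x) (hx3 : x ^ 3 = 1) : x = 1 := by
  by_contra hx1
  haveI : Fact (Nat.Prime 3) := ⟨Nat.prime_three⟩
  have hz : IsPGroup 3 ↥(Subgroup.zpowers x) := by
    obtain ⟨j, -, hj⟩ := (Nat.dvd_prime_pow Nat.prime_three).mp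
      (orderOf_dvd_of_pow_eq_one (n := 3 ^ 1) (by rw [pow_one]; exact hx3))
    apply IsPGroup.of_card (n := j)
    rw [Nat.card_zpowers, hj]
  obtain ⟨P, hP⟩ := hz.exists_le_sylow
  obtain ⟨P₀, hP₀⟩ := exists_sylow_eq_U1 hK
  obtain ⟨g, hg⟩ := MulAction.exists_smul_eq ↥(twistedG2 K (3 ^ m)) P₀ P
  -- conjugate into `U¹`
  set x' := g⁻¹ * x * g with hx'
  set a' := g⁻¹ * a * g with ha'
  have hx'P : x' ∈ P₀ := by
    rw [hx', ← sylow_smul_mem_iff, hg]
    exact hP (Subgroup.mem_zpowers x)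
  have hx'1 : x' ≠ 1 := by
    intro h
    apply hx1
    have : x = g * x' * g⁻¹ := by rw [hx']; group
    rw [this, h]
    group
  have hcomm : a'⁻¹ * x' * a' = x' := by
    have : a'⁻¹ * x' * a' = g⁻¹ * (a⁻¹ * (x * a)) * g := by rw [hx', ha']; group
    rw [this, hxa, inv_mul_cancel_left]
  have hfix : a' • P₀ = P₀ := by
    by_contra hne
    have h1 := sylow_inf_eq_bot hK (a' • P₀) P₀ hne
    have h2 : x' ∈ ((a' • P₀ : Sylow 3 ↥(twistedG2 K (3 ^ m))) : Subgroup ↥(twistedG2 K (3 ^ m))) ⊓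
        (P₀ : Subgroup ↥(twistedG2 K (3 ^ m))) := by
      refine ⟨?_, hx'P⟩
      show x' ∈ (a' • P₀ : Sylow 3 ↥(twistedG2 K (3 ^ m)))
      rw [sylow_smul_mem_iff, hcomm]
      exact hx'P
    rw [h1, Subgroup.mem_bot] at h2
    exact hx'1 h2
  have hB : (a' : GL chevG2.Idx K) ∈ chevG2.borelSubgroup K := by
    apply mem_borel_of_normalizes hK a'.1 a'.2
    intro u hu
    have hu1 : (⟨u, hu.2⟩ : ↥(twistedG2 K (3 ^ m))) ∈ U1 K m := (mem_U1 _).mpr hu.1
    have h3 : a' * ⟨u, hu.2⟩ * a'⁻¹ ∈ (a' • P₀ : Sylow 3 ↥(twistedG2 K (3 ^ m))) := by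
      rw [sylow_smul_mem_iff]
      have : a'⁻¹ * (a' * ⟨u, hu.2⟩ * a'⁻¹) * a' = ⟨u, hu.2⟩ := by group
      rw [this]
      show (⟨u, hu.2⟩ : ↥(twistedG2 K (3 ^ m))) ∈ (P₀ : Subgroup ↥(twistedG2 K (3 ^ m)))
      rw [hP₀]
      exact hu1
    rw [hfix] at h3
    have h4 : a' * ⟨u, hu.2⟩ * a'⁻¹ ∈ U1 K m := by
      rw [← hP₀]
      exact h3
    exact (mem_U1 _).mp h4
  have hord : orderOf a' = s := by
    rw [ha', ← ha]
    have : g⁻¹ * a * g = MulAut.conj g⁻¹ a := by rw [MulAut.conj_apply, inv_inv]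
    rw [this, MulEquiv.orderOf_eq]
  have hordGL : orderOf (a' : GL chevG2.Idx K) = s := by
    rw [Subgroup.orderOf_coe, hord]
  have hcop : (Fintype.card K - 1).Coprime (orderOf (a' : GL chevG2.Idx K)) := by
    rw [hordGL, hK]
    exact ((Nat.Prime.coprime_iff_not_dvd hs).mpr hsq1).symm
  have hU := mem_posUnipotent_of_coprime chevG2 hG2 (a' : GL chevG2.Idx K) hB hcop
  have hU1 : a' ∈ U1 K m := (mem_U1 _).mpr hU
  obtain ⟨k, hk⟩ := (U1_isPGroup hK) ⟨a', hU1⟩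
  have hk' : a' ^ 3 ^ k = 1 := by
    have := congrArg Subtype.val hk
    simpa using this
  have h5 : s ∣ 3 ^ k := by
    rw [← hord]
    exact orderOf_dvd_of_pow_eq_one hk'
  have h6 : s ∣ 3 := hs.dvd_of_dvd_pow h5
  exact hsq (h6.trans (dvd_pow_self 3 (by omega)))

/-- the centraliser of an element of odd prime order has order not divisible by `8` -/
theorem not_eight_dvd_card_centralizer (hm : 1 ≤ m) (hK : Fintype.card K = 3 ^ (2 * m + 1))
    (a : ↥(twistedG2 K (3 ^ m))) {s : ℕ} (hs : s.Prime) (hs2 : s ≠ 2) (ha : orderOf a = s) :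
    ¬ 8 ∣ Nat.card ↥(Subgroup.centralizer {a}) := by
  intro h8
  haveI : Fact (Nat.Prime 2) := ⟨Nat.prime_two⟩
  obtain ⟨R, hR⟩ := Sylow.exists_subgroup_card_pow_prime 2 (n := 3) (by norm_num; exact h8)
  set R' : Subgroup ↥(twistedG2 K (3 ^ m)) := R.map (Subgroup.centralizer {a}).subtype with hR'
  have hR'card : Nat.card ↥R' = 2 ^ 3 := by
    rw [← hR]
    exact (Nat.card_congr (R.equivMapOfInjective _ (Subgroup.centralizer {a}).subtype_injective).toEquiv).symm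
  have hR'p : IsPGroup 2 ↥R' := IsPGroup.of_card hR'card
  obtain ⟨S, hS⟩ := hR'p.exists_le_sylow
  obtain ⟨hS8, hS2⟩ := sylow_two_ree hK S
  have hRS : R' = (S : Subgroup ↥(twistedG2 K (3 ^ m))) := by
    apply Subgroup.eq_of_le_of_card_ge hS
    rw [hR'card]
    show Nat.card ↥(S : Subgroup ↥(twistedG2 K (3 ^ m))) ≤ 2 ^ 3
    rw [hS8]
    norm_num
  have haS : a ∈ Subgroup.centralizer ((S : Subgroup ↥(twistedG2 K (3 ^ m))) : Set ↥(twistedG2 K (3 ^ m))) := by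
    rw [Subgroup.mem_centralizer_iff]
    intro y hy
    rw [SetLike.mem_coe, ← hRS, hR'] at hy
    obtain ⟨z, -, rfl⟩ := Subgroup.mem_map.mp hy
    exact Subgroup.mem_centralizer_singleton_iff.mp z.2
  rw [(Cfsg.Agent.S1157.result hm hK S).1] at haS
  have h2 := hS2 a haS
  have h3 : s ∣ 2 := by
    rw [← ha]
    apply orderOf_dvd_of_pow_eq_one
    rw [sq]
    exact h2
  rcases (Nat.dvd_prime Nat.prime_two).mp h3 with h | h
  · exact hs.one_lt.ne' h
  · exact hs2 h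

end Cfsg.Agent.Helper6.ReeC
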