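import Cfsg.Agent.Helper6.ReeC5
import Cfsg.Agent.Helper11.ReeV4

/-!
# Centralisers of cyclic subgroups of order `(q+1)/4` of `²G₂(q)` (helper6, for S2359)
-/

set_option autoImplicit false

namespace Cfsg.Agent.Helper6.ReeC

open Cfsg Cfsg.Lie Cfsg.Agent.Helper18 Cfsg.Agent.Helper18.Ree
open Cfsg.Agent.Helper41.ReeU Cfsg.Agent.Helper9.ReeTI Cfsg.Agent.Helper6.Ree

theorem arith_quarter (q : ℕ) (h8 : q % 8 = 3) (h27 : 27 ≤ q) :
    ¬ 2 ∣ (q + 1) / 4 ∧ q + 1 = (q + 1) / 4 * 4 ∧ 1 < (q + 1) / 4 := by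
  omega

theorem q_mod_three (m : ℕ) : 3 ^ (2 * m + 1) % 3 = 0 := by
  rw [pow_succ]
  omega

variable {K : Type*} [Field K] [Fintype K] [CharP K 3] {m : ℕ}

theorem card_centralizer_jj (hK : Fintype.card K = 3 ^ (2 * m + 1)) {n : ℕ} (hn : 3 ^ (2 * m + 1) = n + 1) :
    Nat.card ↥(Subgroup.centralizer {jj K m}) = (n + 1) * n * (n + 2) := by
  obtain ⟨e⟩ := centralizer_iso hK (jj K m) Jg_memH jj_ne_one (jj_mul_self hK)
  rw [Nat.card_congr e.toEquiv, Nat.card_prod]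
  have h1 := Cfsg.Agent.Helper5.card_PSL2_mul (F := K)
  rw [Cfsg.Agent.Helper5.card_center_SL2_of_two_ne_zero (two_ne_zero_K (K := K)), hK, hn] at h1
  have h2 : Nat.card (Multiplicative (ZMod 2)) = 2 := by
    rw [Nat.card_eq_fintype_card]
    rfl
  rw [h2, mul_comm, h1]
  have e1 : (n + 1) ^ 2 - 1 = n * (n + 2) := by
    have : (n + 1) ^ 2 = n * (n + 2) + 1 := by ring
    omega
  rw [e1]
  ring

theorem index_centralizer_jj (hK : Fintype.card K = 3 ^ (2 * m + 1)) {n : ℕ} (hn : 3 ^ (2 * m + 1) = n + 1) :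
    (Subgroup.centralizer {jj K m}).index = (n + 1) ^ 2 * ((n + 1) * n + 1) := by
  have hn0 : 0 < n := by
    have : 3 ^ 1 ≤ 3 ^ (2 * m + 1) := Nat.pow_le_pow_right (by norm_num) (by omega)
    omega
  have h1 := (Subgroup.centralizer {jj K m}).card_mul_index
  rw [card_centralizer_jj hK hn, card_ree_succ hK hn] at h1
  have hpos : 0 < (n + 1) * n * (n + 2) := by positivity
  apply Nat.eq_of_mul_eq_mul_left hpos
  rw [h1]
  ring

/-- elements of prime order `s ∣ q + 1`, `s ≠ 2, 3`, have an abelian centraliser of order `q + 1` -/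
theorem centralizer_of_prime_order_quarter (hm : 1 ≤ m) (hK : Fintype.card K = 3 ^ (2 * m + 1))
    (a : ↥(twistedG2 K (3 ^ m))) {s : ℕ} (hs : s.Prime) (hs2 : s ≠ 2) (hs3 : s ≠ 3)
    (hsq : s ∣ 3 ^ (2 * m + 1) + 1) (ha : orderOf a = s) :
    (∀ x ∈ Subgroup.centralizer {a}, ∀ y ∈ Subgroup.centralizer {a}, x * y = y * x) ∧
      Nat.card ↥(Subgroup.centralizer {a}) = 3 ^ (2 * m + 1) + 1 := by
  haveI : Fact s.Prime := ⟨hs⟩
  obtain ⟨n, hn⟩ : ∃ n, 3 ^ (2 * m + 1) = n + 1 :=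
    ⟨3 ^ (2 * m + 1) - 1, (Nat.sub_add_cancel (Nat.one_le_pow _ _ (by norm_num))).symm⟩
  have hs2' : ¬ s ∣ 2 := fun h => hs2 ((Nat.prime_dvd_prime_iff_eq hs Nat.prime_two).mp h)
  have hs3' : ¬ s ∣ 3 := fun h => hs3 ((Nat.prime_dvd_prime_iff_eq hs Nat.prime_three).mp h)
  have hnq : ¬ s ∣ 3 ^ (2 * m + 1) := fun h => hs3' (hs.dvd_of_dvd_pow h)
  have hnq1 : ¬ s ∣ 3 ^ (2 * m + 1) - 1 := by
    intro h
    rw [hn] at hsq
    rw [hn, Nat.add_sub_cancel] at h
    exact hs2' ((Nat.dvd_add_right h).mp hsq)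
  -- an involution commuting with `a`
  have hidx : ¬ s ∣ (Subgroup.centralizer {jj K m}).index := by
    rw [index_centralizer_jj hK hn]
    intro h
    rw [hn] at hsq hnq
    rcases (Nat.Prime.dvd_mul hs).mp h with h | h
    · exact hnq (hs.dvd_of_dvd_pow h)
    · have h1 : ((n + 2 : ℕ) : ZMod s) = 0 := (ZMod.natCast_eq_zero_iff _ _).mpr hsq
      have h2 : (((n + 1) * n + 1 : ℕ) : ZMod s) = 0 := (ZMod.natCast_eq_zero_iff _ _).mpr h
      have h3 : ((3 : ℕ) : ZMod s) = 0 := by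
        push_cast at h1 h2 ⊢
        linear_combination h2 - (n - 1 : ZMod s) * h1
      exact hs3' ((ZMod.natCast_eq_zero_iff _ _).mp h3)
  obtain ⟨g, hg⟩ := exists_conj_mem_of_not_dvd_index (Subgroup.centralizer {jj K m}) hidx a
    ⟨1, by rw [pow_one, ← ha, pow_orderOf_eq_one]⟩
  rw [Subgroup.mem_centralizer_singleton_iff] at hg
  set t := g⁻¹ * jj K m * g with ht
  have ht1 : t ≠ 1 := by
    intro h
    apply jj_ne_one (K := K) (m := m)
    have : jj K m = g * t * g⁻¹ := by rw [ht]; group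
    rw [this, h]
    group
  have ht2 : t * t = 1 := by
    have : t * t = g⁻¹ * (jj K m * jj K m) * g := by rw [ht]; group
    rw [this, jj_mul_self hK]
    group
  have hat : a * t = t * a := by
    have h1 : a * t = g⁻¹ * (g * a * g⁻¹ * jj K m) * g := by rw [ht]; group
    have h2 : t * a = g⁻¹ * (jj K m * (g * a * g⁻¹)) * g := by rw [ht]; group
    rw [h1, h2, hg]
  -- the subgroups
  set D : Subgroup ↥(twistedG2 K (3 ^ m)) := Subgroup.centralizer {a} with hD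
  set T₀ : Subgroup ↥(twistedG2 K (3 ^ m)) := Subgroup.centralizer {t} ⊓ D with hT₀
  have hT₀c : ∀ x ∈ T₀, ∀ y ∈ T₀, x * y = y * x :=
    (inf_centralizer hm hK t ht1 ht2 a hs hs2 hnq hnq1 ha hat).1
  have hT₀card : Nat.card ↥T₀ = 3 ^ (2 * m + 1) + 1 :=
    (inf_centralizer hm hK t ht1 ht2 a hs hs2 hnq hnq1 ha hat).2
  -- a four-subgroup of `T₀`
  haveI : Fact (Nat.Prime 2) := ⟨Nat.prime_two⟩
  have hq27 : 3 ^ 3 ≤ 3 ^ (2 * m + 1) := Nat.pow_le_pow_right (by norm_num) (by omega)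
  obtain ⟨-, hq2, -⟩ := arith_quarter _ (q_mod_eight m) hq27
  obtain ⟨V', hV'⟩ := Sylow.exists_subgroup_card_pow_prime (G := ↥T₀) 2 (n := 2)
    (by rw [hT₀card, hq2]; exact Dvd.intro_left ((3 ^ (2 * m + 1) + 1) / 4) (by norm_num))
  set V₀ : Subgroup ↥(twistedG2 K (3 ^ m)) := V'.map T₀.subtype with hV₀
  have hV₀card : Nat.card ↥V₀ = 4 := by
    rw [← Nat.card_congr (V'.equivMapOfInjective _ T₀.subtype_injective).toEquiv, hV']
    norm_num
  have hV₀T : V₀ ≤ T₀ := by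
    rintro _ ⟨x, -, rfl⟩
    exact x.2
  have hT₀D : T₀ ≤ D := inf_le_right
  have hV₀2 : ∀ x ∈ V₀, x * x = 1 := by
    intro x hx
    apply sq_eq_one_of_two_element hK x 2
    have h1 : (⟨x, hx⟩ : ↥V₀) ^ Nat.card ↥V₀ = 1 := pow_card_eq_one'
    rw [hV₀card] at h1
    have h2 := congrArg Subtype.val h1
    simpa using h2
  -- apply the Klein four lemma inside `D`
  have key := Cfsg.Agent.Helper11.ReeV4.eq_top_of_klein_sylow (D := ↥D) (V₀.subgroupOf D) (T₀.subgroupOf D)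
    (by rw [Nat.card_congr (Subgroup.subgroupOfEquivOfLe (hV₀T.trans hT₀D)).toEquiv, hV₀card])
    (by
      intro x hx
      apply Subtype.ext
      exact hV₀2 x.1 (Subgroup.mem_subgroupOf.mp hx))
    (not_eight_dvd_card_centralizer hm hK a hs hs2 ha)
    (by
      intro x hx y hy
      apply Subtype.ext
      exact hT₀c x.1 (Subgroup.mem_subgroupOf.mp hx) y.1 (Subgroup.mem_subgroupOf.mp hy))
    (by
      intro t' ht' ht'1 d hd
      rw [Subgroup.mem_subgroupOf] at ht' ⊢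
      have ht'1G : (t' : ↥(twistedG2 K (3 ^ m))) ≠ 1 := fun h => ht'1 (Subtype.ext h)
      have ht'2 := hV₀2 t'.1 ht'
      have hat' : a * t' = t' * a := (Subgroup.mem_centralizer_singleton_iff.mp t'.2).symm
      have hcard' : Nat.card ↥(Subgroup.centralizer {(t' : ↥(twistedG2 K (3 ^ m)))} ⊓ D) =
          3 ^ (2 * m + 1) + 1 :=
        (inf_centralizer hm hK t'.1 ht'1G ht'2 a hs hs2 hnq hnq1 ha hat').2
      have hle : T₀ ≤ Subgroup.centralizer {(t' : ↥(twistedG2 K (3 ^ m)))} ⊓ D := by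
        intro x hx
        refine Subgroup.mem_inf.mpr ⟨?_, hT₀D hx⟩
        rw [Subgroup.mem_centralizer_singleton_iff]
        exact hT₀c x hx t'.1 (hV₀T ht')
      have heq : T₀ = Subgroup.centralizer {(t' : ↥(twistedG2 K (3 ^ m)))} ⊓ D := by
        apply Subgroup.eq_of_le_of_card_ge hle
        rw [hcard', hT₀card]
      rw [heq]
      refine Subgroup.mem_inf.mpr ⟨?_, d.2⟩
      rw [Subgroup.mem_centralizer_singleton_iff]
      exact congrArg Subtype.val hd)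
    (by
      intro x hx
      apply Subtype.ext
      apply eq_one_of_cube hK a hs hnq hnq1 ha x.1 (Subgroup.mem_centralizer_singleton_iff.mp x.2)
      have := congrArg Subtype.val hx
      simpa using this)
  have hDT : D = T₀ := by
    apply le_antisymm _ hT₀D
    intro x hx
    have : (⟨x, hx⟩ : ↥D) ∈ T₀.subgroupOf D := by rw [key]; exact Subgroup.mem_top _
    exact Subgroup.mem_subgroupOf.mp this
  rw [hDT]
  exact ⟨hT₀c, hT₀card⟩

end Cfsg.Agent.Helper6.ReeC
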