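import Cfsg.Agent.Helper6.ReeC6

/-!
# Cyclic subgroups of order `(q+1)/4` of `²G₂(q)` (helper6, for S2359)
-/

set_option autoImplicit false

namespace Cfsg.Agent.Helper6.ReeC

open Cfsg Cfsg.Lie Cfsg.Agent.Helper18 Cfsg.Agent.Helper18.Ree
open Cfsg.Agent.Helper41.ReeU Cfsg.Agent.Helper9.ReeTI Cfsg.Agent.Helper6.Ree

variable {K : Type*} [Field K] [Fintype K] [CharP K 3] {m : ℕ}

/-- **Part two**: cyclic subgroups of order `(q+1)/4` -/
theorem part_two (hm : 1 ≤ m) (hK : Fintype.card K = 3 ^ (2 * m + 1)) (H : Subgroup ↥(twistedG2 K (3 ^ m)))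
    (hH : IsCyclic ↥H) (hcard : Nat.card ↥H = (3 ^ (2 * m + 1) + 1) / 4) :
    IsMulCommutative ↥(Subgroup.centralizer (H : Set ↥(twistedG2 K (3 ^ m)))) ∧
      Nat.card ↥(Subgroup.centralizer (H : Set ↥(twistedG2 K (3 ^ m)))) = 3 ^ (2 * m + 1) + 1 ∧
      (∀ x ∈ Subgroup.centralizer (H : Set ↥(twistedG2 K (3 ^ m))), orderOf x ≠ 4) ∧
      ∀ A : Subgroup ↥(twistedG2 K (3 ^ m)), A ≤ H → A ≠ ⊥ →
        Subgroup.centralizer (A : Set ↥(twistedG2 K (3 ^ m))) =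
          Subgroup.centralizer (H : Set ↥(twistedG2 K (3 ^ m))) := by
  have hq27 : 3 ^ 3 ≤ 3 ^ (2 * m + 1) := Nat.pow_le_pow_right (by norm_num) (by omega)
  obtain ⟨hq1, hq2, hq3⟩ := arith_quarter _ (q_mod_eight m) hq27
  have hHc : ∀ x ∈ H, ∀ y ∈ H, x * y = y * x := by
    intro x hx y hy
    letI := hH.commGroup
    exact congrArg Subtype.val (mul_comm (⟨x, hx⟩ : ↥H) ⟨y, hy⟩)
  have key : ∀ A : Subgroup ↥(twistedG2 K (3 ^ m)), A ≤ H → A ≠ ⊥ →
      ∃ T : Subgroup ↥(twistedG2 K (3 ^ m)), (∀ x ∈ T, ∀ y ∈ T, x * y = y * x) ∧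
        Nat.card ↥T = 3 ^ (2 * m + 1) + 1 ∧
        Subgroup.centralizer (A : Set ↥(twistedG2 K (3 ^ m))) = T ∧
        Subgroup.centralizer (H : Set ↥(twistedG2 K (3 ^ m))) = T := by
    intro A hA hA1
    obtain ⟨a, haA, hap⟩ := exists_prime_order_mem A hA1
    have hdvd : orderOf a ∣ (3 ^ (2 * m + 1) + 1) / 4 := by
      rw [← hcard]
      exact Subgroup.orderOf_dvd_natCard H (hA haA)
    have hpq : orderOf a ∣ 3 ^ (2 * m + 1) + 1 := by
      apply hdvd.trans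
      exact ⟨4, hq2⟩
    have hp2 : orderOf a ≠ 2 := by
      intro h
      rw [h] at hdvd
      exact hq1 hdvd
    have hp3 : orderOf a ≠ 3 := by
      intro h
      rw [h] at hpq
      have := q_mod_three m
      omega
    obtain ⟨hTc, hTcard⟩ := centralizer_of_prime_order_quarter hm hK a hap hp2 hp3 hpq rfl
    obtain ⟨h1, h2⟩ := centralizer_eq_of_singleton H A _ hHc hA a haA rfl hTc
    exact ⟨_, hTc, hTcard, h1, h2⟩
  have hHne : H ≠ ⊥ := by
    intro h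
    rw [h, Subgroup.card_bot] at hcard
    rw [← hcard] at hq3
    exact lt_irrefl _ hq3
  obtain ⟨T, hTc, hTcard, -, hT⟩ := key H le_rfl hHne
  refine ⟨?_, by rw [hT]; exact hTcard, ?_, ?_⟩
  · rw [hT]
    exact ⟨⟨fun x y => Subtype.ext (hTc x.1 x.2 y.1 y.2)⟩⟩
  · intro x _ hx4
    have h1 : x ^ 2 ^ 2 = 1 := by
      have : (2 : ℕ) ^ 2 = 4 := by norm_num
      rw [this, ← hx4, pow_orderOf_eq_one]
    have h2 := sq_eq_one_of_two_element hK x 2 h1
    have h3 : orderOf x ∣ 2 := by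
      apply orderOf_dvd_of_pow_eq_one
      rw [sq]
      exact h2
    rw [hx4] at h3
    omega
  · intro A hA hA1
    obtain ⟨T', -, -, h1, h2⟩ := key A hA hA1
    rw [h1, h2]

end Cfsg.Agent.Helper6.ReeC
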