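import Cfsg.Agent.Helper6.ReeC7
import Cfsg.Agent.S1156
import Cfsg.Agent.Helper4.ReeExt
import Cfsg.Agent.Helper67.ReeGen

/-!
# Conjugacy of the cyclic subgroups of toral order of `²G₂(q)` (helper6, for S2358)
-/

set_option autoImplicit false

namespace Cfsg.Agent.Helper6.ReeD

open Cfsg Cfsg.Lie Cfsg.Agent.Helper18 Cfsg.Agent.Helper18.Ree
open Cfsg.Agent.Helper41.ReeU Cfsg.Agent.Helper9.ReeTI Cfsg.Agent.Helper6.Ree Cfsg.Agent.Helper6.ReeC
open Cfsg.Agent.Helper67.ReeGen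

/-- arithmetic of the four toral orders: every prime divisor is `≥ 5` and divides one of
`q - 1`, `q + 1`, `q³ + 1` -/
theorem arith_toral (m : ℕ) (hm : 1 ≤ m) (d : ℕ)
    (hd : d ∣ (3 ^ (2 * m + 1) - 1) / 2 ∨ d ∣ (3 ^ (2 * m + 1) + 1) / 4 ∨
      d ∣ 3 ^ (2 * m + 1) - 3 ^ (m + 1) + 1 ∨ d ∣ 3 ^ (2 * m + 1) + 3 ^ (m + 1) + 1)
    (p : ℕ) (hp : p.Prime) (hpd : p ∣ d) :
    p ≠ 2 ∧ p ≠ 3 ∧ (p ∣ 3 ^ (2 * m + 1) - 1 ∨ p ∣ 3 ^ (2 * m + 1) + 1 ∨ p ∣ (3 ^ (2 * m + 1)) ^ 3 + 1) := by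
  have hq27 : 3 ^ 3 ≤ 3 ^ (2 * m + 1) := Nat.pow_le_pow_right (by norm_num) (by omega)
  have hq8 := q_mod_eight m
  have hq3 := q_mod_three m
  have hs : 3 ^ (m + 1) * 3 ^ (m + 1) = 3 * 3 ^ (2 * m + 1) := by
    rw [← pow_add, ← pow_succ']
    congr 1
    omega
  have hs3 : 3 ^ (m + 1) % 3 = 0 := by
    rw [pow_succ]
    omega
  have hsodd : 3 ^ (m + 1) % 2 = 1 := by
    rw [Nat.pow_mod]
    norm_num
  have hslt : 3 ^ (m + 1) < 3 ^ (2 * m + 1) := Nat.pow_lt_pow_right (by norm_num) (by omega)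
  generalize 3 ^ (2 * m + 1) = q at *
  generalize 3 ^ (m + 1) = s at *
  have h2 : ∀ n : ℕ, p ∣ n → n % 2 = 1 → p ≠ 2 := by
    rintro n hn hn2 rfl
    omega
  have h3 : ∀ n : ℕ, p ∣ n → n % 3 ≠ 0 → p ≠ 3 := by
    rintro n hn hn3 rfl
    omega
  have hprod : (q - s + 1) * (q + s + 1) + q = q ^ 2 + 1 := by
    obtain ⟨k, rfl⟩ : ∃ k, q = s + k := ⟨q - s, by omega⟩
    rw [Nat.add_sub_cancel_left]
    nlinarith [hs]
  have hcube : (q ^ 2 + 1 - q) * (q + 1) = q ^ 3 + 1 := by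
    have : q ≤ q ^ 2 + 1 := by nlinarith
    obtain ⟨k, hk⟩ : ∃ k, q ^ 2 + 1 = q + k := ⟨q ^ 2 + 1 - q, by omega⟩
    rw [hk, Nat.add_sub_cancel_left]
    nlinarith [hk]
  have hdvd : (q - s + 1) * (q + s + 1) ∣ q ^ 3 + 1 := by
    have : (q - s + 1) * (q + s + 1) = q ^ 2 + 1 - q := by omega
    rw [this]
    exact Dvd.intro _ hcube
  rcases hd with hd | hd | hd | hd
  · have h1 : p ∣ (q - 1) / 2 := hpd.trans hd
    refine ⟨h2 _ h1 (by omega), h3 _ h1 (by omega), Or.inl (h1.trans ⟨2, by omega⟩)⟩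
  · have h1 : p ∣ (q + 1) / 4 := hpd.trans hd
    refine ⟨h2 _ h1 (by omega), h3 _ h1 (by omega), Or.inr (Or.inl (h1.trans ⟨4, by omega⟩))⟩
  · have h1 : p ∣ q - s + 1 := hpd.trans hd
    refine ⟨h2 _ h1 (by omega), h3 _ h1 (by omega), Or.inr (Or.inr ?_)⟩
    exact (h1.trans (Dvd.intro _ rfl)).trans hdvd
  · have h1 : p ∣ q + s + 1 := hpd.trans hd
    refine ⟨h2 _ h1 (by omega), h3 _ h1 (by omega), Or.inr (Or.inr ?_)⟩
    exact (h1.trans (Dvd.intro_left _ rfl)).trans hdvd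

variable {K : Type*} [Field K] [Fintype K] [CharP K 3] {m : ℕ}

/-- the centraliser of an element of prime order dividing `q³ + 1` (not `2`, `3`) is abelian -/
theorem centralizer_comm_of_coxeter (hK : Fintype.card K = 3 ^ (2 * m + 1))
    (x : ↥(twistedG2 K (3 ^ m))) {r : ℕ} (hr : r.Prime) (hr2 : r ≠ 2) (hr3 : r ≠ 3)
    (hrq : r ∣ (3 ^ (2 * m + 1)) ^ 3 + 1) (hx : orderOf x = r) :
    ∀ y ∈ Subgroup.centralizer {x}, ∀ z ∈ Subgroup.centralizer {x}, y * z = z * y := by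
  obtain ⟨K', _, _, ι, hK', hι⟩ := Cfsg.Agent.Helper4.ReeExt.exists_ree_extension (m := m) hK
  haveI := charP_three hK'
  have hq : (3 ^ (2 * m + 1)) ^ 3 = 3 ^ (2 * (3 * m + 1) + 1) := by
    rw [← pow_mul]
    congr 1
    ring
  rw [hq] at hrq
  have hord : orderOf (ι x) = r := by rw [orderOf_injective ι hι, hx]
  obtain ⟨hc, -⟩ := centralizer_of_prime_order_quarter (m := 3 * m + 1) (by omega) hK' (ι x) hr hr2 hr3 hrq hord
  intro y hy z hz
  apply hι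
  rw [map_mul, map_mul]
  apply hc
  · rw [Subgroup.mem_centralizer_singleton_iff] at hy ⊢
    rw [← map_mul, ← map_mul, hy]
  · rw [Subgroup.mem_centralizer_singleton_iff] at hz ⊢
    rw [← map_mul, ← map_mul, hz]

/-- in all toral cases the centraliser of an element of prime order is abelian -/
theorem centralizer_comm_of_toral (hm : 1 ≤ m) (hK : Fintype.card K = 3 ^ (2 * m + 1))
    (x : ↥(twistedG2 K (3 ^ m))) {r : ℕ} (hr : r.Prime) (hr2 : r ≠ 2) (hr3 : r ≠ 3)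
    (hrq : r ∣ 3 ^ (2 * m + 1) - 1 ∨ r ∣ 3 ^ (2 * m + 1) + 1 ∨ r ∣ (3 ^ (2 * m + 1)) ^ 3 + 1)
    (hx : orderOf x = r) :
    ∀ y ∈ Subgroup.centralizer {x}, ∀ z ∈ Subgroup.centralizer {x}, y * z = z * y := by
  rcases hrq with h | h | h
  · obtain ⟨T, -, -, hTc, hT⟩ := centralizer_of_prime_order_split hK x hr hr2 h hx
    rw [hT]
    exact hTc
  · exact (centralizer_of_prime_order_quarter hm hK x hr hr2 hr3 h hx).1
  · exact centralizer_comm_of_coxeter hK x hr hr2 hr3 h hx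

/-- **S2358**: cyclic subgroups of the same toral order are conjugate -/
theorem conj_of_card_eq (hm : 1 ≤ m) (hK : Fintype.card K = 3 ^ (2 * m + 1)) (d : ℕ)
    (hd : d ∣ (3 ^ (2 * m + 1) - 1) / 2 ∨ d ∣ (3 ^ (2 * m + 1) + 1) / 4 ∨
      d ∣ 3 ^ (2 * m + 1) - 3 ^ (m + 1) + 1 ∨ d ∣ 3 ^ (2 * m + 1) + 3 ^ (m + 1) + 1)
    (A B : Subgroup ↥(twistedG2 K (3 ^ m))) (hA : IsCyclic ↥A) (hB : IsCyclic ↥B)
    (hAd : Nat.card ↥A = d) (hBd : Nat.card ↥B = d) :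
    ∃ g : ↥(twistedG2 K (3 ^ m)), B = A.map (MulAut.conj g).toMonoidHom := by
  by_cases hd1 : d = 1
  · refine ⟨1, ?_⟩
    rw [hd1] at hAd hBd
    rw [Subgroup.card_eq_one.mp hAd, Subgroup.card_eq_one.mp hBd, Subgroup.map_bot]
  -- the cyclic Sylow subgroups
  have hsyl : ∀ p : ℕ, ∀ _ : Fact p.Prime, p ∣ d → ∀ P : Sylow p ↥(twistedG2 K (3 ^ m)),
      IsCyclic ↥(P : Subgroup ↥(twistedG2 K (3 ^ m))) := by
    intro p hp hpd P
    obtain ⟨h2, h3, -⟩ := arith_toral m hm d hd p hp.out hpd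
    have h5 : 3 < p := by
      have := hp.out.two_le
      omega
    exact Cfsg.Agent.S1156.result hm hK h5 P
  set r := d.minFac with hrdef
  have hr : r.Prime := Nat.minFac_prime hd1
  have hrd : r ∣ d := Nat.minFac_dvd d
  haveI : Fact r.Prime := ⟨hr⟩
  obtain ⟨hr2, hr3, hrq⟩ := arith_toral m hm d hd r hr hrd
  -- elements of order `r`
  obtain ⟨x', hx'⟩ := exists_prime_orderOf_dvd_card' (G := ↥A) r (by rw [hAd]; exact hrd)
  obtain ⟨y', hy'⟩ := exists_prime_orderOf_dvd_card' (G := ↥B) r (by rw [hBd]; exact hrd)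
  have hx : orderOf (x' : ↥(twistedG2 K (3 ^ m))) = r := by rw [Subgroup.orderOf_coe, hx']
  have hy : orderOf (y' : ↥(twistedG2 K (3 ^ m))) = r := by rw [Subgroup.orderOf_coe, hy']
  -- Sylow subgroups
  have hzx : IsPGroup r ↥(Subgroup.zpowers (x' : ↥(twistedG2 K (3 ^ m)))) :=
    IsPGroup.of_card (n := 1) (by rw [Nat.card_zpowers, hx, pow_one])
  have hzy : IsPGroup r ↥(Subgroup.zpowers (y' : ↥(twistedG2 K (3 ^ m)))) :=
    IsPGroup.of_card (n := 1) (by rw [Nat.card_zpowers, hy, pow_one])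
  obtain ⟨P, hP⟩ := hzx.exists_le_sylow
  obtain ⟨Q, hQ⟩ := hzy.exists_le_sylow
  obtain ⟨g, hg⟩ := MulAction.exists_smul_eq ↥(twistedG2 K (3 ^ m)) Q P
  set y'' : ↥(twistedG2 K (3 ^ m)) := g * y' * g⁻¹ with hy''
  have hy''P : y'' ∈ (P : Subgroup ↥(twistedG2 K (3 ^ m))) := by
    rw [← hg, Sylow.coe_subgroup_smul]
    exact Subgroup.smul_mem_pointwise_smul _ _ _ (hQ (Subgroup.mem_zpowers _))
  have hxP : (x' : ↥(twistedG2 K (3 ^ m))) ∈ (P : Subgroup ↥(twistedG2 K (3 ^ m))) :=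
    hP (Subgroup.mem_zpowers _)
  have hy''ord : orderOf y'' = r := by
    have : y'' = MulAut.conj g (y' : ↥(twistedG2 K (3 ^ m))) := by rw [MulAut.conj_apply]
    rw [this, MulEquiv.orderOf_eq, hy]
  have hPc := hsyl r ⟨hr⟩ hrd P
  -- `⟨x⟩ = ⟨y''⟩`
  have hzeq : Subgroup.zpowers (x' : ↥(twistedG2 K (3 ^ m))) = Subgroup.zpowers y'' := by
    apply eq_of_commute_of_card _ _ r inferInstance inferInstance
      (by rw [Nat.card_zpowers, hx]) (by rw [Nat.card_zpowers, hy''ord])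
    · intro a ha b hb
      letI := hPc.commGroup
      have ha' : a ∈ (P : Subgroup ↥(twistedG2 K (3 ^ m))) := (Subgroup.zpowers_le.mpr hxP) ha
      have hb' : b ∈ (P : Subgroup ↥(twistedG2 K (3 ^ m))) := (Subgroup.zpowers_le.mpr hy''P) hb
      exact congrArg Subtype.val (mul_comm (⟨a, ha'⟩ : ↥(P : Subgroup ↥(twistedG2 K (3 ^ m)))) ⟨b, hb'⟩)
    · intro p hp hpr P'
      have : p = r := (Nat.prime_dvd_prime_iff_eq hp.out hr).mp hpr
      subst this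
      exact hsyl _ hp hrd P'
  -- the common abelian centraliser
  have hM := centralizer_comm_of_toral hm hK (x' : ↥(twistedG2 K (3 ^ m))) hr hr2 hr3 hrq hx
  have hAc : ∀ a ∈ A, ∀ b ∈ A, a * b = b * a := by
    intro a ha b hb
    letI := hA.commGroup
    exact congrArg Subtype.val (mul_comm (⟨a, ha⟩ : ↥A) ⟨b, hb⟩)
  have hBc : ∀ a ∈ B, ∀ b ∈ B, a * b = b * a := by
    intro a ha b hb
    letI := hB.commGroup
    exact congrArg Subtype.val (mul_comm (⟨a, ha⟩ : ↥B) ⟨b, hb⟩)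
  have hAM : A ≤ Subgroup.centralizer {(x' : ↥(twistedG2 K (3 ^ m)))} := by
    intro a ha
    rw [Subgroup.mem_centralizer_singleton_iff]
    exact hAc a ha _ x'.2
  set B' : Subgroup ↥(twistedG2 K (3 ^ m)) := B.map (MulAut.conj g).toMonoidHom with hB'
  have hB'M : B' ≤ Subgroup.centralizer {(x' : ↥(twistedG2 K (3 ^ m)))} := by
    rintro _ ⟨b, hb, rfl⟩
    -- `g b g⁻¹` commutes with `y''`, hence with `x ∈ ⟨y''⟩`
    have h1 : (MulAut.conj g).toMonoidHom b * y'' = y'' * (MulAut.conj g).toMonoidHom b := by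
      simp only [MulEquiv.coe_toMonoidHom, MulAut.conj_apply, hy'']
      have := hBc b hb _ y'.2
      calc g * b * g⁻¹ * (g * ↑y' * g⁻¹) = g * (b * ↑y') * g⁻¹ := by group
        _ = g * (↑y' * b) * g⁻¹ := by rw [this]
        _ = g * ↑y' * g⁻¹ * (g * b * g⁻¹) := by group
    have h2 : (x' : ↥(twistedG2 K (3 ^ m))) ∈ Subgroup.zpowers y'' := by
      rw [← hzeq]
      exact Subgroup.mem_zpowers _
    obtain ⟨k, hk⟩ := Subgroup.mem_zpowers_iff.mp h2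
    rw [Subgroup.mem_centralizer_singleton_iff, ← hk]
    exact (Commute.zpow_right h1 k).eq
  have e : ↥B ≃* ↥B' := B.equivMapOfInjective _ (MulAut.conj g).injective
  have hAB' : A = B' := by
    apply eq_of_commute_of_card A B' d hA (e.isCyclic.mp hB) hAd
      (by rw [← Nat.card_congr e.toEquiv, hBd])
    · intro a ha b hb
      exact hM a (hAM ha) b (hB'M hb)
    · exact hsyl
  refine ⟨g⁻¹, ?_⟩
  rw [hAB', hB', Subgroup.map_map]
  have : (MulAut.conj g⁻¹).toMonoidHom.comp (MulAut.conj g).toMonoidHom =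
      MonoidHom.id ↥(twistedG2 K (3 ^ m)) := by
    apply MonoidHom.ext
    intro z
    show g⁻¹ * (g * z * g⁻¹) * g⁻¹⁻¹ = z
    group
  rw [this, Subgroup.map_id]

end Cfsg.Agent.Helper6.ReeD
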