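import Cfsg.Agent.Helper6.ReeE4

/-!
# Centralisers and normalisers of elements of prime order dividing `q² - q + 1` in `²G₂(q)` (helper6)
-/

set_option autoImplicit false
set_option linter.style.haveILetI false

namespace Cfsg.Agent.Helper6.ReeD

open Cfsg Cfsg.Lie Cfsg.Agent.Helper18 Cfsg.Agent.Helper18.Ree
open Cfsg.Agent.Helper41.ReeU Cfsg.Agent.Helper9.ReeTI Cfsg.Agent.Helper6.Ree Cfsg.Agent.Helper6.ReeC
open Cfsg.Agent.Helper6.ReeE

/-- index transport: if `f` maps `N` into the normaliser of `T`, with `N ∩ f⁻¹ T = M`, and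
`|N(T)| = k |T|`, then `|N|` divides `k |M|` -/
theorem card_dvd_of_map_normalizer {G H : Type*} [Group G] [Group H] [Finite G] [Finite H]
    (f : G →* H) (N M : Subgroup G) (hMN : M ≤ N) (T : Subgroup H) (k : ℕ)
    (hN : ∀ g ∈ N, f g ∈ Subgroup.normalizer (T : Set H))
    (hker : ∀ g ∈ N, f g ∈ T → g ∈ M) (hM : ∀ g ∈ M, f g ∈ T)
    (hcard : Nat.card ↥(Subgroup.normalizer (T : Set H)) = k * Nat.card ↥T) :
    Nat.card ↥N ∣ k * Nat.card ↥M := by
  set f' : ↥N →* ↥(Subgroup.normalizer (T : Set H)) :=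
    (f.comp N.subtype).codRestrict _ (fun g => hN g g.2) with hf'
  set H' : Subgroup ↥(Subgroup.normalizer (T : Set H)) :=
    T.subgroupOf (Subgroup.normalizer (T : Set H)) with hH'
  haveI : H'.Normal := Subgroup.normal_in_normalizer
  have hcomap : H'.comap f' = M.subgroupOf N := by
    ext g
    rw [Subgroup.mem_comap, hH', Subgroup.mem_subgroupOf, Subgroup.mem_subgroupOf]
    show f g ∈ T ↔ (g : G) ∈ M
    exact ⟨hker g g.2, hM g⟩
  have h1 : (M.subgroupOf N).index ∣ H'.index := by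
    rw [← hcomap, Subgroup.index_comap]
    exact Subgroup.relIndex_dvd_index_of_normal H' f'.range
  have hH'card : Nat.card ↥H' = Nat.card ↥T :=
    Nat.card_congr (Subgroup.subgroupOfEquivOfLe Subgroup.le_normalizer).toEquiv
  have hidx : H'.index = k := by
    have h2 := H'.card_mul_index
    rw [hH'card, hcard, mul_comm] at h2
    exact Nat.eq_of_mul_eq_mul_right Nat.card_pos h2
  rw [hidx] at h1
  have h3 := (M.subgroupOf N).card_mul_index
  rw [Nat.card_congr (Subgroup.subgroupOfEquivOfLe hMN).toEquiv] at h3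
  rw [← h3, mul_comm]
  exact Nat.mul_dvd_mul_right h1 _

/-- arithmetic of the prime divisors of `q² - q + 1` -/
theorem arith_coxeter (q : ℕ) (hq3 : q % 3 = 0) {l : ℕ} (hl : l.Prime) (h : l ∣ q ^ 2 - q + 1) :
    l ≠ 2 ∧ l ≠ 3 ∧ l ∣ q ^ 3 + 1 ∧ ¬ l ∣ q ∧ ¬ l ∣ q - 1 ∧ ¬ l ∣ q + 1 := by
  have hqq : q ≤ q ^ 2 := by nlinarith [Nat.zero_le q]
  have hZ : (l : ℤ) ∣ (q : ℤ) ^ 2 - q + 1 := by
    have := Int.natCast_dvd_natCast.mpr h
    rwa [Nat.cast_add, Nat.cast_sub hqq, Nat.cast_pow, Nat.cast_one] at this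
  obtain ⟨c, hc⟩ := hZ
  have hl1 : ¬ (l : ℤ) ∣ 1 := by
    intro h1
    have := Int.natCast_dvd_natCast.mp (by simpa using h1 : ((l : ℕ) : ℤ) ∣ ((1 : ℕ) : ℤ))
    exact hl.one_lt.ne' (Nat.dvd_one.mp this)
  have hl3 : l ≠ 3 := by
    rintro rfl
    obtain ⟨k, hk⟩ : ∃ k, q = 3 * k := ⟨q / 3, by omega⟩
    apply hl1
    refine ⟨c - 3 * (k : ℤ) ^ 2 + k, ?_⟩
    have hk' : (q : ℤ) = 3 * k := by exact_mod_cast hk
    rw [hk'] at hc
    push_cast at hc ⊢
    linarith
  have hnq : ¬ l ∣ q := by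
    intro ⟨d, hd⟩
    apply hl1
    refine ⟨c - d * ((q : ℤ) - 1), ?_⟩
    have hd' : (q : ℤ) = l * d := by exact_mod_cast hd
    have : (l : ℤ) * (c - d * ((q : ℤ) - 1)) = l * c - (l * d) * ((q : ℤ) - 1) := by ring
    rw [this, ← hc, ← hd']
    ring
  refine ⟨?_, hl3, ?_, hnq, ?_, ?_⟩
  · rintro rfl
    have h2 : Even (q * (q + 1)) := Nat.even_mul_succ_self q
    obtain ⟨e, he⟩ := h2
    apply hl1
    refine ⟨c - e + q, ?_⟩
    have he' : (q : ℤ) * (q + 1) = e + e := by exact_mod_cast he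
    push_cast at hc ⊢
    nlinarith
  · have : (l : ℤ) ∣ ((q ^ 3 + 1 : ℕ) : ℤ) := by
      refine ⟨c * ((q : ℤ) + 1), ?_⟩
      have : (l : ℤ) * (c * ((q : ℤ) + 1)) = (l * c) * ((q : ℤ) + 1) := by ring
      rw [this, ← hc]
      push_cast
      ring
    exact Int.natCast_dvd_natCast.mp this
  · intro ⟨d, hd⟩
    rcases Nat.eq_zero_or_pos q with rfl | hq0
    · exact hnq (dvd_zero l)
    apply hl1
    refine ⟨c - d * (q : ℤ), ?_⟩
    have hd' : (q : ℤ) - 1 = l * d := by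
      have := congrArg (Nat.cast : ℕ → ℤ) hd
      rwa [Nat.cast_sub hq0, Nat.cast_one, Nat.cast_mul] at this
    have : (l : ℤ) * (c - d * (q : ℤ)) = l * c - (l * d) * (q : ℤ) := by ring
    rw [this, ← hc, ← hd']
    ring
  · intro ⟨d, hd⟩
    have h3 : (l : ℤ) ∣ 3 := by
      refine ⟨c - d * ((q : ℤ) - 2), ?_⟩
      have hd' : (q : ℤ) + 1 = l * d := by exact_mod_cast hd
      have : (l : ℤ) * (c - d * ((q : ℤ) - 2)) = l * c - (l * d) * ((q : ℤ) - 2) := by ring
      rw [this, ← hc, ← hd']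
      ring
    have h3' : l ∣ 3 := Int.natCast_dvd_natCast.mp (by simpa using h3 : ((l : ℕ) : ℤ) ∣ ((3 : ℕ) : ℤ))
    exact hl3 ((Nat.prime_dvd_prime_iff_eq hl Nat.prime_three).mp h3')

/-- a conjugation that maps `T` onto itself normalises `T` -/
theorem mem_normalizer_of_map_eq {G : Type*} [Group G] (T : Subgroup G) (g : G)
    (hmap : T.map (MulAut.conj g).toMonoidHom = T) : g ∈ Subgroup.normalizer (T : Set G) := by
  rw [Subgroup.mem_normalizer_iff]
  intro x
  constructor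
  · intro hx
    rw [← hmap]
    exact ⟨x, hx, rfl⟩
  · intro hx
    rw [← hmap] at hx
    obtain ⟨y, hy, hyx⟩ := hx
    have hyx' : g * y * g⁻¹ = g * x * g⁻¹ := hyx
    have : y = x := mul_left_cancel (mul_right_cancel hyx')
    rw [← this]
    exact hy

variable {K : Type*} [Field K] [Fintype K] [CharP K 3] {m : ℕ}

section Coxeter

variable (hm : 1 ≤ m) (hK : Fintype.card K = 3 ^ (2 * m + 1)) (x : ↥(twistedG2 K (3 ^ m))) {l : ℕ}
  (hl : l.Prime) (hlq : l ∣ (3 ^ (2 * m + 1)) ^ 2 - 3 ^ (2 * m + 1) + 1) (hx : orderOf x = l)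

include hK hl hlq hx in
/-- `C(x)` is abelian -/
theorem coxeter_comm : ∀ y ∈ Subgroup.centralizer {x}, ∀ z ∈ Subgroup.centralizer {x},
    y * z = z * y := by
  obtain ⟨h2, h3, hq3, -⟩ := arith_coxeter _ (q_mod_three m) hl hlq
  exact centralizer_comm_of_coxeter hK x hl h2 h3 hq3 hx

include hm hK hl hlq hx in
/-- `C(x)` has no element of prime order dividing `q (q - 1) (q + 1)` -/
theorem coxeter_no_prime (y : ↥(twistedG2 K (3 ^ m))) (hy : y ∈ Subgroup.centralizer {x}) {p : ℕ}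
    (hp : p.Prime) (hyo : orderOf y = p) :
    ¬ p ∣ 3 ^ (2 * m + 1) ∧ ¬ p ∣ 3 ^ (2 * m + 1) - 1 ∧ ¬ p ∣ 3 ^ (2 * m + 1) + 1 := by
  obtain ⟨h2, h3, hq3, hnq, hnq1, hnq2⟩ := arith_coxeter _ (q_mod_three m) hl hlq
  obtain ⟨n, hn⟩ : ∃ n, 3 ^ (2 * m + 1) = n + 1 :=
    ⟨3 ^ (2 * m + 1) - 1, (Nat.sub_add_cancel (Nat.one_le_pow _ _ (by norm_num))).symm⟩
  have hyx : y * x = x * y := Subgroup.mem_centralizer_singleton_iff.mp hy
  have hxy : x ∈ Subgroup.centralizer {y} := Subgroup.mem_centralizer_singleton_iff.mpr hyx.symm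
  have hy1 : y ≠ 1 := by
    rintro rfl
    rw [orderOf_one] at hyo
    exact hp.one_lt.ne' hyo.symm
  -- the order of `x` divides `|C(y)|`
  have hldvd : l ∣ Nat.card ↥(Subgroup.centralizer {y}) := by
    have : orderOf (⟨x, hxy⟩ : ↥(Subgroup.centralizer {y})) ∣ Nat.card ↥(Subgroup.centralizer {y}) :=
      orderOf_dvd_natCard _
    rwa [← Subgroup.orderOf_coe, hx] at this
  -- `p ≠ 2`
  have hp2 : p ≠ 2 := by
    rintro rfl
    have hy2 : y * y = 1 := by rw [← pow_two, ← hyo, pow_orderOf_eq_one]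
    rw [card_centralizer_involution hm hK y hy1 hy2 hn] at hldvd
    rw [hn] at hnq hnq2
    rw [hn, Nat.add_sub_cancel] at hnq1
    rcases (Nat.Prime.dvd_mul hl).mp hldvd with h | h
    · rcases (Nat.Prime.dvd_mul hl).mp h with h | h
      · exact hnq h
      · exact hnq1 h
    · exact hnq2 h
  -- `p ∤ q`
  have hp3 : ¬ p ∣ 3 ^ (2 * m + 1) := by
    intro h
    have h3' : p = 3 := (Nat.prime_dvd_prime_iff_eq hp Nat.prime_three).mp (hp.dvd_of_dvd_pow h)
    subst h3'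
    apply hy1
    apply eq_one_of_cube hK x hl hnq hnq1 hx y hyx
    have h4 := pow_orderOf_eq_one y
    rw [hyo] at h4
    exact h4
  have hp3' : p ≠ 3 := by
    rintro rfl
    exact hp3 (dvd_pow_self 3 (by omega))
  refine ⟨hp3, ?_, ?_⟩
  · intro h
    obtain ⟨T, -, hTcard, -, hT⟩ := centralizer_of_prime_order_split hK y hp hp2 h hyo
    rw [hT, hTcard] at hldvd
    exact hnq1 hldvd
  · intro h
    obtain ⟨-, hTcard⟩ := centralizer_of_prime_order_quarter hm hK y hp hp2 hp3' h hyo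
    rw [hTcard] at hldvd
    exact hnq2 hldvd

include hm hK hl hlq hx in
/-- **(D1b)**: `|C(x)|` divides `q² - q + 1` -/
theorem coxeter_card_dvd :
    Nat.card ↥(Subgroup.centralizer {x}) ∣ (3 ^ (2 * m + 1)) ^ 2 - 3 ^ (2 * m + 1) + 1 := by
  obtain ⟨n, hn⟩ : ∃ n, 3 ^ (2 * m + 1) = n + 1 :=
    ⟨3 ^ (2 * m + 1) - 1, (Nat.sub_add_cancel (Nat.one_le_pow _ _ (by norm_num))).symm⟩
  have hG : Nat.card ↥(Subgroup.centralizer {x}) ∣ Nat.card ↥(twistedG2 K (3 ^ m)) :=
    Subgroup.card_subgroup_dvd_card _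
  rw [card_ree_succ hK hn] at hG
  have hcop : Nat.Coprime (Nat.card ↥(Subgroup.centralizer {x})) ((n + 1) ^ 3 * n * (n + 2)) := by
    apply Nat.coprime_of_dvd
    intro p hp hpd hpd'
    haveI : Fact p.Prime := ⟨hp⟩
    obtain ⟨y, hy⟩ := exists_prime_orderOf_dvd_card' (G := ↥(Subgroup.centralizer {x})) p hpd
    have hyo : orderOf (y : ↥(twistedG2 K (3 ^ m))) = p := by rw [Subgroup.orderOf_coe, hy]
    obtain ⟨h1, h2, h3⟩ := coxeter_no_prime hm hK x hl hlq hx (y : ↥(twistedG2 K (3 ^ m))) y.2 hp hyo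
    rw [hn] at h1 h3
    rw [hn, Nat.add_sub_cancel] at h2
    rcases (Nat.Prime.dvd_mul hp).mp hpd' with h | h
    · rcases (Nat.Prime.dvd_mul hp).mp h with h | h
      · exact h1 (hp.dvd_of_dvd_pow h)
      · exact h2 h
    · exact h3 h
  have h4 : (3 ^ (2 * m + 1)) ^ 2 - 3 ^ (2 * m + 1) + 1 = (n + 1) * n + 1 := by
    rw [hn]
    have : (n + 1) ^ 2 = (n + 1) * n + (n + 1) := by ring
    rw [this, Nat.add_sub_cancel]
  rw [h4]
  exact hcop.dvd_of_dvd_mul_left hG

include hm hK hl hlq hx in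
/-- **(D1a)**: `C(x)` is cyclic -/
theorem coxeter_isCyclic : IsCyclic ↥(Subgroup.centralizer {x}) := by
  apply isCyclic_of_comm_of_sylow _ (coxeter_comm hK x hl hlq hx)
  intro p hp hpd P
  obtain ⟨h2, h3, -⟩ := arith_coxeter _ (q_mod_three m) hp.out
    (hpd.trans (coxeter_card_dvd hm hK x hl hlq hx))
  have h5 : 3 < p := by
    have := hp.out.two_le
    omega
  exact Cfsg.Agent.S1156.result hm hK h5 P

include hm hK hl hlq hx in
/-- **(D1c)**: every non-trivial element of `C(x)` has centraliser `C(x)` -/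
theorem coxeter_centralizer_eq (y : ↥(twistedG2 K (3 ^ m))) (hy : y ∈ Subgroup.centralizer {x})
    (hy1 : y ≠ 1) : Subgroup.centralizer {y} = Subgroup.centralizer {x} := by
  have hMc := coxeter_comm hK x hl hlq hx
  have hyn : orderOf y ∣ (3 ^ (2 * m + 1)) ^ 2 - 3 ^ (2 * m + 1) + 1 := by
    refine dvd_trans ?_ (coxeter_card_dvd hm hK x hl hlq hx)
    have : orderOf (⟨y, hy⟩ : ↥(Subgroup.centralizer {x})) ∣ Nat.card ↥(Subgroup.centralizer {x}) :=
      orderOf_dvd_natCard _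
    rwa [← Subgroup.orderOf_coe] at this
  have hn0 : orderOf y ≠ 0 := (orderOf_pos y).ne'
  have hn1 : orderOf y ≠ 1 := fun h => hy1 (orderOf_eq_one_iff.mp h)
  have hp : (orderOf y).minFac.Prime := Nat.minFac_prime hn1
  have hpn : (orderOf y).minFac ∣ orderOf y := Nat.minFac_dvd _
  generalize (orderOf y).minFac = p at hp hpn
  set b := y ^ (orderOf y / p) with hb
  have hbo : orderOf b = p := orderOf_pow_orderOf_div hn0 hpn
  have hbM : b ∈ Subgroup.centralizer {x} := Subgroup.pow_mem _ hy _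
  have hCbc := coxeter_comm hK b hp (hpn.trans hyn) hbo
  have hxb : x ∈ Subgroup.centralizer {b} :=
    Subgroup.mem_centralizer_singleton_iff.mpr (Subgroup.mem_centralizer_singleton_iff.mp hbM).symm
  have hbb : b ∈ Subgroup.centralizer {b} := Subgroup.mem_centralizer_singleton_iff.mpr rfl
  apply le_antisymm
  · intro z hz
    have hzb : z ∈ Subgroup.centralizer {b} := by
      rw [Subgroup.mem_centralizer_singleton_iff] at hz ⊢
      rw [hb]
      exact ((Commute.pow_right (show Commute z y from hz) _)).eq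
    rw [Subgroup.mem_centralizer_singleton_iff]
    exact hCbc z hzb x hxb
  · intro z hz
    rw [Subgroup.mem_centralizer_singleton_iff]
    exact hMc z hz y hy

include hm hK hl hlq hx in
/-- **(D2)**: `|N(C(x))|` divides `6 |C(x)|` -/
theorem coxeter_card_normalizer_dvd :
    Nat.card ↥(Subgroup.normalizer ((Subgroup.centralizer {x} : Subgroup ↥(twistedG2 K (3 ^ m))) :
      Set ↥(twistedG2 K (3 ^ m)))) ∣ 6 * Nat.card ↥(Subgroup.centralizer {x}) := by
  obtain ⟨h2, h3, hq3, -⟩ := arith_coxeter _ (q_mod_three m) hl hlq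
  obtain ⟨K', _, _, ι, hK', hι⟩ := Cfsg.Agent.Helper4.ReeExt.exists_ree_extension (m := m) hK
  haveI := charP_three hK'
  have hq : (3 ^ (2 * m + 1)) ^ 3 = 3 ^ (2 * (3 * m + 1) + 1) := by
    rw [← pow_mul]
    congr 1
    ring
  rw [hq] at hq3
  have hord : orderOf (ι x) = l := by rw [orderOf_injective ι hι, hx]
  have hm' : 1 ≤ 3 * m + 1 := by omega
  obtain ⟨hTc, hTcard⟩ := centralizer_of_prime_order_quarter (m := 3 * m + 1) hm' hK' (ι x) hl h2 h3 hq3 hord
  have hNcard := card_normalizer_quarter (m := 3 * m + 1) hm' hK' (ι x) hl h2 h3 hq3 hord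
  apply card_dvd_of_map_normalizer ι _ _ Subgroup.le_normalizer (Subgroup.centralizer {ι x}) 6 ?_ ?_ ?_
    (by rw [hNcard, hTcard])
  · intro g hg
    have hxM : x ∈ Subgroup.centralizer {x} := Subgroup.mem_centralizer_singleton_iff.mpr rfl
    have hgx : g * x * g⁻¹ ∈ Subgroup.centralizer {x} := (Subgroup.mem_normalizer_iff.mp hg x).mp hxM
    have hb : ι (g * x * g⁻¹) ∈ Subgroup.centralizer {ι x} := by
      rw [Subgroup.mem_centralizer_singleton_iff] at hgx ⊢
      rw [← map_mul, ← map_mul, hgx]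
    have hbo : orderOf (ι (g * x * g⁻¹)) = l := by
      rw [orderOf_injective ι hι]
      have : g * x * g⁻¹ = MulAut.conj g x := by rw [MulAut.conj_apply]
      rw [this, MulEquiv.orderOf_eq, hx]
    have hCb := centralizer_eq_of_mem hm' hK' (ι x) hl h2 h3 hq3 hord _ hb hbo
    apply mem_normalizer_of_map_eq
    rw [← centralizer_conj, ← hCb]
    congr 2
    rw [map_mul, map_mul, map_inv]
  · intro g _ hg
    rw [Subgroup.mem_centralizer_singleton_iff] at hg ⊢
    apply hι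
    rw [map_mul, map_mul, hg]
  · intro g hg
    rw [Subgroup.mem_centralizer_singleton_iff] at hg ⊢
    rw [← map_mul, ← map_mul, hg]

end Coxeter

end Cfsg.Agent.Helper6.ReeD
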