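import Cfsg.Agent.Helper6.ReeC7

/-!
# The normaliser of the split torus `H¹` of `²G₂(q)` (helper6)
-/

set_option autoImplicit false

namespace Cfsg.Agent.Helper6.ReeE

open Cfsg Cfsg.Lie Cfsg.Agent.Helper18 Cfsg.Agent.Helper18.Ree
open Cfsg.Agent.Helper41.ReeU Cfsg.Agent.Helper9.ReeTI Cfsg.Agent.Helper6.Ree Cfsg.Agent.Helper6.ReeC

variable {K : Type*} [Field K] [Fintype K] [CharP K 3] {m : ℕ}

omit [Fintype K] [CharP K 3] in
theorem eq_zero_of_mul_eq {c a : K} (hc : c ≠ 1) (h : a = c * a) : a = 0 := by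
  have : (c - 1) * a = 0 := by linear_combination -h
  rcases mul_eq_zero.mp this with h1 | h1
  · exact absurd (sub_eq_zero.mp h1) hc
  · exact h1

/-- the three torus weights of `c` with `c² ≠ 1` are all `≠ 1` -/
theorem weights_ne_one (hK : Fintype.card K = 3 ^ (2 * m + 1)) (c : Kˣ) (hc : (c : K) ^ 2 ≠ 1) :
    (c : K) ≠ 1 ∧ (c : K) ^ (3 * 3 ^ m + 1) ≠ 1 ∧ (c : K) ^ (3 * 3 ^ m + 2) ≠ 1 := by
  have hc1 : (c : K) ≠ 1 := by
    intro h
    apply hc
    rw [h, one_pow]
  exact ⟨hc1, fun h => hc (sq_eq_one_of_pow_e1 hK c h), fun h => hc1 (eq_one_of_pow_e2 hK c h)⟩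

/-- an element conjugating a torus element `h(c)`, `c² ≠ 1`, into the torus lies in `H ∪ H n` -/
theorem normalizer_gT_cases (hK : Fintype.card K = 3 ^ (2 * m + 1)) (c c' : Kˣ) (hc : (c : K) ^ 2 ≠ 1)
    (g : ↥(twistedG2 K (3 ^ m))) (hg : g * gT hK c = gT hK c' * g) :
    (∃ d : Kˣ, g = gT hK d) ∨ ∃ d : Kˣ, g = gT hK d * gN K m := by
  obtain ⟨w1, w2, w3⟩ := weights_ne_one hK c hc
  rcases bruhat_cases hK g with ⟨a₁, a₂, a₃, d, rfl⟩ | ⟨a₁, a₂, a₃, d, b₁, b₂, b₃, rfl⟩
  · left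
    refine ⟨d, ?_⟩
    rw [nf1 hK, nf2 hK] at hg
    obtain ⟨e1, e2, e3, e4⟩ := borel_unique hK hg
    have hcc : c' = c := by
      have := congrArg (fun x => x * d⁻¹) e4
      simp only [mul_inv_cancel_right] at this
      rw [← this, mul_comm, inv_mul_cancel_left]
    rw [hcc] at e1 e2 e3
    rw [eq_zero_of_mul_eq w1 e1, eq_zero_of_mul_eq w2 e2, eq_zero_of_mul_eq w3 e3, gU_zero, one_mul]
  · right
    refine ⟨d, ?_⟩
    rw [nf3 hK, nf4 hK] at hg
    obtain ⟨e1, e2, e3, e4, e5, e6, e7⟩ := bigcell_unique' hK hg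
    have hcc : c' = c⁻¹ := by
      have := congrArg (fun x => x * d⁻¹) e4
      simp only [mul_inv_cancel_right] at this
      rw [← this, mul_comm d, mul_inv_cancel_right]
    have hci : ((c⁻¹ : Kˣ) : K) ^ 2 ≠ 1 := by
      intro h
      apply hc
      have h1 : (c⁻¹ : Kˣ) ^ 2 = 1 := Units.ext (by rw [Units.val_pow_eq_pow_val, h, Units.val_one])
      have h2 : c ^ 2 = 1 := by
        rw [inv_pow, inv_eq_one] at h1
        exact h1
      have := congrArg Units.val h2
      rwa [Units.val_pow_eq_pow_val, Units.val_one] at this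
    obtain ⟨v1, v2, v3⟩ := weights_ne_one hK c⁻¹ hci
    rw [hcc] at e1 e2 e3
    rw [eq_zero_of_mul_eq v1 e1, eq_zero_of_mul_eq v2 e2, eq_zero_of_mul_eq v3 e3,
      eq_zero_of_mul_eq v1 e5.symm, eq_zero_of_mul_eq v2 e6.symm, eq_zero_of_mul_eq v3 e7.symm,
      gU_zero, one_mul, mul_one]

/-- `n` inverts the torus -/
theorem gN_conj_gT (hK : Fintype.card K = 3 ^ (2 * m + 1)) (c : Kˣ) :
    gN K m * gT hK c * (gN K m)⁻¹ = gT hK c⁻¹ := by
  rw [gN_mul_gT hK, mul_assoc, mul_inv_cancel, mul_one]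

theorem gN_not_mem_range (hK : Fintype.card K = 3 ^ (2 * m + 1)) (d : Kˣ) :
    gT hK d * gN K m ∉ (gT (m := m) hK).range := by
  rintro ⟨d', hd'⟩
  apply bigcell_ne_borel hK (t := 0) (u := 0) (v := 0) (c := d) (a := 0) (b := 0) (d := 0)
    (t' := 0) (u' := 0) (v' := 0) (c' := d')
  rw [gU_zero, one_mul, mul_one, one_mul]
  exact hd'.symm

/-- membership in the normaliser of a subgroup of the torus containing an element with `c² ≠ 1` -/
theorem mem_normalizer_torus_sub (hK : Fintype.card K = 3 ^ (2 * m + 1))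
    (A : Subgroup ↥(twistedG2 K (3 ^ m))) (hA : A ≤ (gT (m := m) hK).range)
    (c : Kˣ) (hc : (c : K) ^ 2 ≠ 1) (hcA : gT hK c ∈ A) (g : ↥(twistedG2 K (3 ^ m))) :
    g ∈ Subgroup.normalizer (A : Set ↥(twistedG2 K (3 ^ m))) ↔
      (∃ d : Kˣ, g = gT hK d) ∨ ∃ d : Kˣ, g = gT hK d * gN K m := by
  constructor
  · intro hg
    have h1 : g * gT hK c * g⁻¹ ∈ A := (Subgroup.mem_normalizer_iff.mp hg _).mp hcA
    obtain ⟨c', hc'⟩ := hA h1
    apply normalizer_gT_cases hK c c' hc g
    rw [hc']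
    group
  · intro hg
    rw [Subgroup.mem_normalizer_iff]
    -- conjugation by `g` is the identity or inversion on the torus
    have key : ∀ x ∈ (gT (m := m) hK).range, g * x * g⁻¹ = x ∨ g * x * g⁻¹ = x⁻¹ := by
      rintro _ ⟨e, rfl⟩
      rcases hg with ⟨d, rfl⟩ | ⟨d, rfl⟩
      · left
        rw [← map_mul, ← map_inv, ← map_mul, mul_comm d e, mul_inv_cancel_right]
      · right
        have : gT hK d * gN K m * gT hK e * (gT hK d * gN K m)⁻¹ =
            gT hK d * (gN K m * gT hK e * (gN K m)⁻¹) * (gT hK d)⁻¹ := by group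
        rw [this, gN_conj_gT hK, ← map_mul, ← map_inv, ← map_mul, ← map_inv, mul_comm d,
          mul_inv_cancel_right]
    have key' : ∀ x ∈ (gT (m := m) hK).range, g⁻¹ * x * g = x ∨ g⁻¹ * x * g = x⁻¹ := by
      intro x hx
      rcases key x hx with h | h
      · left
        have : g⁻¹ * (g * x * g⁻¹) * g = x := by group
        rw [h] at this
        exact this
      · right
        have h2 : g⁻¹ * (g * x * g⁻¹) * g = x := by group
        rw [h] at h2
        have : g⁻¹ * x * g = (g⁻¹ * x⁻¹ * g)⁻¹ := by group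
        rw [this, h2]
    intro x
    constructor
    · intro hx
      rcases key x (hA hx) with h | h
      · rw [h]; exact hx
      · rw [h]; exact A.inv_mem hx
    · intro hx
      have hx' : g * x * g⁻¹ ∈ (gT (m := m) hK).range := hA hx
      rcases key' _ hx' with h | h
      · have : g⁻¹ * (g * x * g⁻¹) * g = x := by group
        rw [this] at h
        rw [h]
        exact hx
      · have : g⁻¹ * (g * x * g⁻¹) * g = x := by group
        rw [this] at h
        have h3 : x = ((g * x * g⁻¹)⁻¹)  := h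
        rw [h3]
        exact A.inv_mem hx

/-- all these normalisers coincide with that of the torus -/
theorem normalizer_torus_sub_eq (hK : Fintype.card K = 3 ^ (2 * m + 1))
    (A : Subgroup ↥(twistedG2 K (3 ^ m))) (hA : A ≤ (gT (m := m) hK).range)
    (c : Kˣ) (hc : (c : K) ^ 2 ≠ 1) (hcA : gT hK c ∈ A) :
    Subgroup.normalizer (A : Set ↥(twistedG2 K (3 ^ m))) =
      Subgroup.normalizer ((gT (m := m) hK).range : Set ↥(twistedG2 K (3 ^ m))) := by
  ext g
  rw [mem_normalizer_torus_sub hK A hA c hc hcA,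
    mem_normalizer_torus_sub hK _ le_rfl c hc ⟨c, rfl⟩]

end Cfsg.Agent.Helper6.ReeE
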