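import Cfsg.Agent.Helper6.ReeE1

/-!
# The cyclic Hall subgroup of order `(q-1)/2` of `²G₂(q)` and its normaliser (helper6)
-/

set_option autoImplicit false

namespace Cfsg.Agent.Helper6.ReeE

open Cfsg Cfsg.Lie Cfsg.Agent.Helper18 Cfsg.Agent.Helper18.Ree
open Cfsg.Agent.Helper41.ReeU Cfsg.Agent.Helper9.ReeTI Cfsg.Agent.Helper6.Ree Cfsg.Agent.Helper6.ReeC

variable {K : Type*} [Field K] [Fintype K] [CharP K 3] {m : ℕ}

/-- a generator of `Kˣ` -/
theorem exists_units_generator (hm : 1 ≤ m) (hK : Fintype.card K = 3 ^ (2 * m + 1)) :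
    ∃ ζ : Kˣ, orderOf ζ = 3 ^ (2 * m + 1) - 1 ∧ (ζ : K) ^ 2 ≠ 1 := by
  obtain ⟨ζ, hζ⟩ := IsCyclic.exists_generator (α := Kˣ)
  have hord : orderOf ζ = Nat.card Kˣ := orderOf_eq_card_of_forall_mem_zpowers hζ
  rw [Nat.card_units, Nat.card_eq_fintype_card, hK] at hord
  refine ⟨ζ, hord, ?_⟩
  intro h
  have h' : ζ ^ 2 = 1 := Units.ext (by rw [Units.val_pow_eq_pow_val, h, Units.val_one])
  have h1 := orderOf_dvd_of_pow_eq_one h'
  rw [hord] at h1
  have hq27 : 3 ^ 3 ≤ 3 ^ (2 * m + 1) := Nat.pow_le_pow_right (by norm_num) (by omega)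
  have := Nat.le_of_dvd (by norm_num) h1
  omega

/-- `|N(H¹)| = 2 (q - 1)` -/
theorem card_normalizer_torus (hm : 1 ≤ m) (hK : Fintype.card K = 3 ^ (2 * m + 1)) :
    Nat.card ↥(Subgroup.normalizer ((gT (m := m) hK).range : Set ↥(twistedG2 K (3 ^ m)))) =
      2 * (3 ^ (2 * m + 1) - 1) := by
  obtain ⟨ζ, -, hζ2⟩ := exists_units_generator hm hK
  have hmem := mem_normalizer_torus_sub hK (gT (m := m) hK).range le_rfl ζ hζ2 ⟨ζ, rfl⟩
  set N := Subgroup.normalizer ((gT (m := m) hK).range : Set ↥(twistedG2 K (3 ^ m))) with hN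
  have hnN : gN K m ∈ N := (hmem _).mpr (Or.inr ⟨1, by rw [map_one, one_mul]⟩)
  have hidx : ((gT (m := m) hK).range.subgroupOf N).index = 2 := by
    rw [Subgroup.index_eq_two_iff]
    refine ⟨⟨gN K m, hnN⟩, ?_⟩
    rintro ⟨b, hb⟩
    simp only [Subgroup.mem_subgroupOf, Subgroup.coe_mul]
    rcases (hmem b).mp hb with ⟨d, rfl⟩ | ⟨d, rfl⟩
    · right
      exact ⟨⟨d, rfl⟩, gN_not_mem_range hK d⟩
    · left
      refine ⟨?_, gN_not_mem_range hK d⟩
      rw [mul_assoc, gN_mul_self hK, mul_one]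
      exact ⟨d, rfl⟩
  have h1 := Subgroup.index_mul_card ((gT (m := m) hK).range.subgroupOf N)
  rw [hidx] at h1
  rw [← h1, ← card_gT_range hK]
  congr 1
  exact Nat.card_congr (Subgroup.subgroupOfEquivOfLe Subgroup.le_normalizer).toEquiv

/-- **S1158, first member**: a cyclic subgroup of order `(q-1)/2` with normaliser of order `2(q-1)` -/
theorem exists_split_hall (hm : 1 ≤ m) (hK : Fintype.card K = 3 ^ (2 * m + 1)) :
    ∃ A : Subgroup ↥(twistedG2 K (3 ^ m)), IsCyclic ↥A ∧ Nat.card ↥A = (3 ^ (2 * m + 1) - 1) / 2 ∧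
      Nat.card ↥(Subgroup.normalizer (A : Set ↥(twistedG2 K (3 ^ m)))) = 2 * (3 ^ (2 * m + 1) - 1) ∧
      ∀ A₀ : Subgroup ↥(twistedG2 K (3 ^ m)), A₀ ≤ A → A₀ ≠ ⊥ →
        Subgroup.normalizer (A₀ : Set ↥(twistedG2 K (3 ^ m))) =
          Subgroup.normalizer (A : Set ↥(twistedG2 K (3 ^ m))) := by
  obtain ⟨ζ, hζ, hζ2⟩ := exists_units_generator hm hK
  have hq27 : 3 ^ 3 ≤ 3 ^ (2 * m + 1) := Nat.pow_le_pow_right (by norm_num) (by omega)
  obtain ⟨hq1, hq2, hq3⟩ := arith_split _ (q_mod_eight m) hq27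
  set A : Subgroup ↥(twistedG2 K (3 ^ m)) := Subgroup.zpowers (gT hK (ζ ^ 2)) with hA
  have hAle : A ≤ (gT (m := m) hK).range := by
    rw [hA, Subgroup.zpowers_le]
    exact ⟨_, rfl⟩
  have hAcard : Nat.card ↥A = (3 ^ (2 * m + 1) - 1) / 2 := by
    rw [hA, Nat.card_zpowers, orderOf_injective (gT (m := m) hK) (gT_injective hK), orderOf_pow, hζ]
    have h2 : Nat.gcd (3 ^ (2 * m + 1) - 1) 2 = 2 := Nat.gcd_eq_right (Dvd.intro_left _ hq2.symm)
    rw [h2]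
  -- every non-trivial subgroup contains an element `h(c)` with `c² ≠ 1`
  have key : ∀ A₀ : Subgroup ↥(twistedG2 K (3 ^ m)), A₀ ≤ A → A₀ ≠ ⊥ →
      Subgroup.normalizer (A₀ : Set ↥(twistedG2 K (3 ^ m))) =
        Subgroup.normalizer ((gT (m := m) hK).range : Set ↥(twistedG2 K (3 ^ m))) := by
    intro A₀ hA₀ hne
    obtain ⟨⟨x, hxA⟩, hx⟩ := (Subgroup.ne_bot_iff_exists_ne_one (H := A₀)).mp hne
    have hx1 : x ≠ 1 := fun h => hx (Subtype.ext h)
    obtain ⟨c, rfl⟩ := hAle (hA₀ hxA)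
    have hc1 : c ≠ 1 := by
      rintro rfl
      exact hx1 (map_one _)
    have hcpow : c ^ ((3 ^ (2 * m + 1) - 1) / 2) = 1 := by
      apply gT_injective (m := m) hK
      rw [map_pow, map_one, ← hAcard]
      have : (⟨gT hK c, hA₀ hxA⟩ : ↥A) ^ Nat.card ↥A = 1 := pow_card_eq_one'
      exact congrArg Subtype.val this
    have hc2 : (c : K) ^ 2 ≠ 1 := by
      intro h
      have h' : c ^ 2 = 1 := Units.ext (by rw [Units.val_pow_eq_pow_val, h, Units.val_one])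
      have h1 : orderOf c ∣ Nat.gcd ((3 ^ (2 * m + 1) - 1) / 2) 2 :=
        Nat.dvd_gcd (orderOf_dvd_of_pow_eq_one hcpow) (orderOf_dvd_of_pow_eq_one h')
      have h2 : Nat.gcd ((3 ^ (2 * m + 1) - 1) / 2) 2 = 1 :=
        Nat.Coprime.symm ((Nat.Prime.coprime_iff_not_dvd Nat.prime_two).mpr hq1)
      rw [h2, Nat.dvd_one, orderOf_eq_one_iff] at h1
      exact hc1 h1
    exact normalizer_torus_sub_eq hK A₀ (hA₀.trans hAle) c hc2 hxA
  have hAne : A ≠ ⊥ := by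
    intro h
    rw [h, Subgroup.card_bot] at hAcard
    rw [← hAcard] at hq3
    exact lt_irrefl _ hq3
  refine ⟨A, by rw [hA]; infer_instance, hAcard, ?_, ?_⟩
  · rw [key A le_rfl hAne, card_normalizer_torus hm hK]
  · intro A₀ hA₀ hne
    rw [key A₀ hA₀ hne, key A le_rfl hAne]

end Cfsg.Agent.Helper6.ReeE
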