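import Cfsg.Agent.Helper6.ReeE2
import Cfsg.Agent.Helper6.ReeD1
import Cfsg.Agent.Helper60.ReeORB
import Cfsg.Agent.Helper60.ReePSLN
import Cfsg.Agent.Helper38.ReeInv3

/-!
# The normaliser of the torus of order `q + 1` of `²G₂(q)` (helper6)
-/

set_option autoImplicit false

namespace Cfsg.Agent.Helper6.ReeE

open Cfsg Cfsg.Lie Cfsg.Agent.Helper18 Cfsg.Agent.Helper18.Ree
open Cfsg.Agent.Helper41.ReeU Cfsg.Agent.Helper9.ReeTI Cfsg.Agent.Helper6.Ree Cfsg.Agent.Helper6.ReeC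

/-- normalisers correspond under an isomorphism -/
theorem card_normalizer_centralizer_mulEquiv {G H : Type*} [Group G] [Group H] (e : G ≃* H) (a : G) :
    Nat.card ↥(Subgroup.normalizer ((Subgroup.centralizer {e a} : Subgroup H) : Set H)) =
      Nat.card ↥(Subgroup.normalizer ((Subgroup.centralizer {a} : Subgroup G) : Set G)) := by
  have hc : ∀ x : G, x ∈ Subgroup.centralizer {a} ↔ e x ∈ Subgroup.centralizer {e a} := by
    intro x
    rw [Subgroup.mem_centralizer_singleton_iff, Subgroup.mem_centralizer_singleton_iff,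
      ← map_mul, ← map_mul]
    exact e.injective.eq_iff.symm
  apply Nat.card_congr
  refine (e.toEquiv.subtypeEquiv ?_).symm
  intro g
  show g ∈ Subgroup.normalizer _ ↔ e g ∈ Subgroup.normalizer _
  rw [Subgroup.mem_normalizer_iff, Subgroup.mem_normalizer_iff]
  constructor
  · intro h y
    obtain ⟨x, rfl⟩ := e.surjective y
    rw [← hc, h x, hc, map_mul, map_mul, map_inv]
  · intro h x
    rw [hc, h (e x), ← map_inv, ← map_mul, ← map_mul, ← hc]

variable {K : Type*} [Field K] [Fintype K] [CharP K 3] {m : ℕ}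

/-- the order of an involution centraliser -/
theorem card_centralizer_involution (hm : 1 ≤ m) (hK : Fintype.card K = 3 ^ (2 * m + 1))
    (t : ↥(twistedG2 K (3 ^ m))) (ht1 : t ≠ 1) (ht2 : t * t = 1) {n : ℕ} (hn : 3 ^ (2 * m + 1) = n + 1) :
    Nat.card ↥(Subgroup.centralizer {t}) = (n + 1) * n * (n + 2) := by
  obtain ⟨g, hg⟩ := involution_conj hm hK t ht1 ht2
  rw [← card_centralizer_jj hK hn, ← hg, centralizer_conj]
  exact Nat.card_congr ((Subgroup.centralizer {t}).equivMapOfInjective _ (MulAut.conj g).injective).toEquiv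

section Quarter

variable (hm : 1 ≤ m) (hK : Fintype.card K = 3 ^ (2 * m + 1)) (a : ↥(twistedG2 K (3 ^ m))) {s : ℕ}
  (hs : s.Prime) (hs2 : s ≠ 2) (hs3 : s ≠ 3) (hsq : s ∣ 3 ^ (2 * m + 1) + 1) (ha : orderOf a = s)

include hs hs2 hs3 hsq in
theorem not_dvd_facts : ¬ s ∣ 3 ^ (2 * m + 1) ∧ ¬ s ∣ 3 ^ (2 * m + 1) - 1 := by
  have hs2' : ¬ s ∣ 2 := fun h => hs2 ((Nat.prime_dvd_prime_iff_eq hs Nat.prime_two).mp h)
  have hs3' : ¬ s ∣ 3 := fun h => hs3 ((Nat.prime_dvd_prime_iff_eq hs Nat.prime_three).mp h)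
  refine ⟨fun h => hs3' (hs.dvd_of_dvd_pow h), ?_⟩
  intro h
  obtain ⟨n, hn⟩ : ∃ n, 3 ^ (2 * m + 1) = n + 1 :=
    ⟨3 ^ (2 * m + 1) - 1, (Nat.sub_add_cancel (Nat.one_le_pow _ _ (by norm_num))).symm⟩
  rw [hn] at hsq
  rw [hn, Nat.add_sub_cancel] at h
  exact hs2' ((Nat.dvd_add_right h).mp hsq)

include hm hK hs hs2 hs3 hsq ha in
/-- the centraliser of an element of order `s` inside `C(a)` is `C(a)` again -/
theorem centralizer_eq_of_mem (b : ↥(twistedG2 K (3 ^ m))) (hb : b ∈ Subgroup.centralizer {a})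
    (hbo : orderOf b = s) : Subgroup.centralizer {b} = Subgroup.centralizer {a} := by
  obtain ⟨hTc, hTcard⟩ := centralizer_of_prime_order_quarter hm hK a hs hs2 hs3 hsq ha
  obtain ⟨-, hTcard'⟩ := centralizer_of_prime_order_quarter hm hK b hs hs2 hs3 hsq hbo
  symm
  apply Subgroup.eq_of_le_of_card_ge
  · intro x hx
    rw [Subgroup.mem_centralizer_singleton_iff]
    exact hTc x hx b hb
  · rw [hTcard, hTcard']

include hm hK hs hs2 hs3 hsq ha in
/-- **transitivity**: `N(C(a))` permutes the involutions of `C(a)` transitively -/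
theorem exists_normalizer_conj (t₁ t₂ : ↥(twistedG2 K (3 ^ m)))
    (h₁ : t₁ ∈ Subgroup.centralizer {a}) (h₁1 : t₁ ≠ 1) (h₁2 : t₁ * t₁ = 1)
    (h₂ : t₂ ∈ Subgroup.centralizer {a}) (h₂1 : t₂ ≠ 1) (h₂2 : t₂ * t₂ = 1) :
    ∃ n ∈ Subgroup.normalizer ((Subgroup.centralizer {a} : Subgroup ↥(twistedG2 K (3 ^ m))) :
      Set ↥(twistedG2 K (3 ^ m))), n * t₁ * n⁻¹ = t₂ := by
  haveI : Fact s.Prime := ⟨hs⟩
  obtain ⟨hnq, hnq1⟩ := not_dvd_facts hs hs2 hs3 hsq
  obtain ⟨hTc, hTcard⟩ := centralizer_of_prime_order_quarter hm hK a hs hs2 hs3 hsq ha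
  obtain ⟨g₁, hg₁⟩ := involution_conj hm hK t₁ h₁1 h₁2
  obtain ⟨g₂, hg₂⟩ := involution_conj hm hK t₂ h₂1 h₂2
  set g := g₂⁻¹ * g₁ with hg
  have hgt : g * t₁ * g⁻¹ = t₂ := by
    have : g * t₁ * g⁻¹ = g₂⁻¹ * (g₁ * t₁ * g₁⁻¹) * g₂ := by rw [hg]; group
    rw [this, hg₁, ← hg₂]
    group
  set a'' := g * a * g⁻¹ with ha''
  have ha''o : orderOf a'' = s := by
    have : a'' = MulAut.conj g a := by rw [MulAut.conj_apply]
    rw [this, MulEquiv.orderOf_eq, ha]
  have ha''t : a'' ∈ Subgroup.centralizer {t₂} := by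
    rw [Subgroup.mem_centralizer_singleton_iff, ← hgt, ha'']
    have h := Subgroup.mem_centralizer_singleton_iff.mp h₁
    calc g * a * g⁻¹ * (g * t₁ * g⁻¹) = g * (a * t₁) * g⁻¹ := by group
      _ = g * (t₁ * a) * g⁻¹ := by rw [← h]
      _ = g * t₁ * g⁻¹ * (g * a * g⁻¹) := by group
  -- Sylow inside `C(t₂)`
  have hT₂ : Subgroup.centralizer {a} ≤ Subgroup.centralizer {t₂} := by
    intro x hx
    rw [Subgroup.mem_centralizer_singleton_iff]
    exact hTc x hx t₂ h₂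
  obtain ⟨n, hn⟩ : ∃ n, 3 ^ (2 * m + 1) = n + 1 :=
    ⟨3 ^ (2 * m + 1) - 1, (Nat.sub_add_cancel (Nat.one_le_pow _ _ (by norm_num))).symm⟩
  have hidx : ¬ s ∣ ((Subgroup.centralizer {a}).subgroupOf (Subgroup.centralizer {t₂})).index := by
    have h1 := ((Subgroup.centralizer {a}).subgroupOf (Subgroup.centralizer {t₂})).card_mul_index
    rw [Nat.card_congr (Subgroup.subgroupOfEquivOfLe hT₂).toEquiv, hTcard,
      card_centralizer_involution hm hK t₂ h₂1 h₂2 hn, hn] at h1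
    have h2 : ((Subgroup.centralizer {a}).subgroupOf (Subgroup.centralizer {t₂})).index = (n + 1) * n := by
      apply Nat.eq_of_mul_eq_mul_left (show 0 < n + 1 + 1 by omega)
      rw [h1]
      ring
    rw [h2]
    rw [hn] at hnq
    rw [hn, Nat.add_sub_cancel] at hnq1
    intro h
    rcases (Nat.Prime.dvd_mul hs).mp h with h | h
    · exact hnq h
    · exact hnq1 h
  obtain ⟨h, hh⟩ := exists_conj_mem_of_not_dvd_index _ hidx (⟨a'', ha''t⟩ : ↥(Subgroup.centralizer {t₂}))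
    ⟨1, by
      apply Subtype.ext
      rw [pow_one, Subgroup.coe_pow, Subgroup.coe_one]
      show a'' ^ s = 1
      rw [← ha''o, pow_orderOf_eq_one]⟩
  rw [Subgroup.mem_subgroupOf] at hh
  set b : ↥(twistedG2 K (3 ^ m)) := (h : ↥(twistedG2 K (3 ^ m))) * a'' * (h : ↥(twistedG2 K (3 ^ m)))⁻¹ with hb
  have hbT : b ∈ Subgroup.centralizer {a} := hh
  have hbo : orderOf b = s := by
    have : b = MulAut.conj (h : ↥(twistedG2 K (3 ^ m))) a'' := by rw [MulAut.conj_apply]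
    rw [this, MulEquiv.orderOf_eq, ha''o]
  have hCb := centralizer_eq_of_mem hm hK a hs hs2 hs3 hsq ha b hbT hbo
  refine ⟨(h : ↥(twistedG2 K (3 ^ m))) * g, ?_, ?_⟩
  · -- `n C(a) n⁻¹ = C(n a n⁻¹) = C(b) = C(a)`
    have hmap : (Subgroup.centralizer {a}).map (MulAut.conj ((h : ↥(twistedG2 K (3 ^ m))) * g)).toMonoidHom =
        Subgroup.centralizer {a} := by
      rw [← centralizer_conj]
      have : (h : ↥(twistedG2 K (3 ^ m))) * g * a * ((h : ↥(twistedG2 K (3 ^ m))) * g)⁻¹ = b := by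
        rw [hb, ha'']
        group
      rw [this, hCb]
    rw [Subgroup.mem_normalizer_iff]
    intro x
    constructor
    · intro hx
      rw [← hmap]
      exact ⟨x, hx, rfl⟩
    · intro hx
      rw [← hmap] at hx
      obtain ⟨y, hy, hyx⟩ := hx
      have hyx' : (h : ↥(twistedG2 K (3 ^ m))) * g * y * ((h : ↥(twistedG2 K (3 ^ m))) * g)⁻¹ =
          (h : ↥(twistedG2 K (3 ^ m))) * g * x * ((h : ↥(twistedG2 K (3 ^ m))) * g)⁻¹ := hyx
      have : y = x := mul_left_cancel (mul_right_cancel hyx')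
      rw [← this]
      exact hy
  · have hht : (h : ↥(twistedG2 K (3 ^ m))) * t₂ = t₂ * h := Subgroup.mem_centralizer_singleton_iff.mp h.2
    calc (h : ↥(twistedG2 K (3 ^ m))) * g * t₁ * ((h : ↥(twistedG2 K (3 ^ m))) * g)⁻¹
        = h * (g * t₁ * g⁻¹) * (h : ↥(twistedG2 K (3 ^ m)))⁻¹ := by group
      _ = h * t₂ * (h : ↥(twistedG2 K (3 ^ m)))⁻¹ := by rw [hgt]
      _ = t₂ := by rw [hht, mul_inv_cancel_right]

include hm hK hs hs2 hs3 hsq ha in
/-- the stabiliser of an involution of `C(a)` in `N(C(a))` has order `2 (q + 1)` -/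
theorem card_normalizer_inf_centralizer (t : ↥(twistedG2 K (3 ^ m)))
    (h₁ : t ∈ Subgroup.centralizer {a}) (h₁1 : t ≠ 1) (h₁2 : t * t = 1) :
    Nat.card ↥(Subgroup.normalizer ((Subgroup.centralizer {a} : Subgroup ↥(twistedG2 K (3 ^ m))) :
      Set ↥(twistedG2 K (3 ^ m))) ⊓ Subgroup.centralizer {t}) = 2 * (3 ^ (2 * m + 1) + 1) := by
  obtain ⟨hnq, hnq1⟩ := not_dvd_facts hs hs2 hs3 hsq
  obtain ⟨hTc, hTcard⟩ := centralizer_of_prime_order_quarter hm hK a hs hs2 hs3 hsq ha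
  obtain ⟨e⟩ := involution_centralizer_iso hm hK t h₁1 h₁2
  have hat : a * t = t * a := (Subgroup.mem_centralizer_singleton_iff.mp h₁).symm
  have haC : a ∈ Subgroup.centralizer {t} := Subgroup.mem_centralizer_singleton_iff.mpr hat
  set a' : ↥(Subgroup.centralizer {t}) := ⟨a, haC⟩ with ha'
  have hord : orderOf (e a') = s := by
    rw [MulEquiv.orderOf_eq, ← ha, ← Subgroup.orderOf_coe]
  have hodd : Odd (Fintype.card K) := by
    rw [hK]
    exact Odd.pow (by decide)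
  rw [← hK] at hnq hnq1
  have hN := Cfsg.Agent.Helper60.Ree.prod_psl2_normalizer hodd hs hs2 hnq hnq1 (e a') hord
  rw [card_normalizer_centralizer_mulEquiv e a', hK] at hN
  rw [← hN]
  have hT₂ : Subgroup.centralizer {a} ≤ Subgroup.centralizer {t} := by
    intro x hx
    rw [Subgroup.mem_centralizer_singleton_iff]
    exact hTc x hx t h₁
  have hcent : ∀ x : ↥(Subgroup.centralizer {t}), x ∈ Subgroup.centralizer {a'} ↔
      (x : ↥(twistedG2 K (3 ^ m))) ∈ Subgroup.centralizer {a} := by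
    intro x
    rw [Subgroup.mem_centralizer_singleton_iff, Subgroup.mem_centralizer_singleton_iff]
    constructor
    · intro h
      exact congrArg Subtype.val h
    · intro h
      exact Subtype.ext h
  apply Nat.card_congr
  refine ⟨fun x => ⟨⟨x.1, (Subgroup.mem_inf.mp x.2).2⟩, ?_⟩,
    fun y => ⟨y.1.1, Subgroup.mem_inf.mpr ⟨?_, y.1.2⟩⟩, fun x => rfl, fun y => rfl⟩
  · -- `x` normalises `C(a)` in `G`, so it normalises `C(a')` in `C(t)`
    have hx := (Subgroup.mem_inf.mp x.2).1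
    rw [Subgroup.mem_normalizer_iff] at hx ⊢
    intro z
    rw [hcent, hcent, hx (z : ↥(twistedG2 K (3 ^ m)))]
    rfl
  · have hy := y.2
    rw [Subgroup.mem_normalizer_iff] at hy ⊢
    intro z
    constructor
    · intro hz
      have := (hy ⟨z, hT₂ hz⟩).mp ((hcent _).mpr hz)
      exact (hcent _).mp this
    · intro hz
      have hzt : z ∈ Subgroup.centralizer {t} := by
        have h3 : (y.1 : ↥(twistedG2 K (3 ^ m)))⁻¹ * ((y.1 : ↥(twistedG2 K (3 ^ m))) * z * (y.1 : ↥(twistedG2 K (3 ^ m)))⁻¹) *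
            (y.1 : ↥(twistedG2 K (3 ^ m))) = z := by group
        rw [← h3]
        exact Subgroup.mul_mem _ (Subgroup.mul_mem _ (Subgroup.inv_mem _ y.1.2) (hT₂ hz)) y.1.2
      have := (hy ⟨z, hzt⟩).mpr ((hcent _).mpr hz)
      exact (hcent _).mp this

include hm hK hs hs2 hs3 hsq ha in
/-- `|N(C(a))| = 6 (q + 1)` -/
theorem card_normalizer_quarter :
    Nat.card ↥(Subgroup.normalizer ((Subgroup.centralizer {a} : Subgroup ↥(twistedG2 K (3 ^ m))) :
      Set ↥(twistedG2 K (3 ^ m)))) = 6 * (3 ^ (2 * m + 1) + 1) := by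
  obtain ⟨hTc, hTcard⟩ := centralizer_of_prime_order_quarter hm hK a hs hs2 hs3 hsq ha
  have hq27 : 3 ^ 3 ≤ 3 ^ (2 * m + 1) := Nat.pow_le_pow_right (by norm_num) (by omega)
  obtain ⟨hq1, hq2, -⟩ := arith_quarter _ (q_mod_eight m) hq27
  obtain ⟨S, hS3, hS⟩ := Cfsg.Agent.Helper38.ReeInv3.exists_three_involutions (Subgroup.centralizer {a}) hTc
    ((3 ^ (2 * m + 1) + 1) / 4) (Nat.odd_iff.mpr (by omega)) (by rw [hTcard]; exact hq2.trans (mul_comm _ _))
    (fun x _ hx => sq_eq_one_of_two_element hK x 2 (by rw [show (2 : ℕ) ^ 2 = 4 by norm_num]; exact hx))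
  obtain ⟨t, ht⟩ : ∃ t, t ∈ S := by
    apply Finset.card_pos.mp
    rw [hS3]
    norm_num
  obtain ⟨htT, ht1, ht2⟩ := (hS t).mp ht
  have key := Cfsg.Agent.Helper60.Ree.card_eq_mul_card_inf_centralizer
    (Subgroup.normalizer ((Subgroup.centralizer {a} : Subgroup ↥(twistedG2 K (3 ^ m))) :
      Set ↥(twistedG2 K (3 ^ m)))) t S
    (by
      intro g hg
      rw [hS]
      refine ⟨(Subgroup.mem_normalizer_iff.mp hg t).mp htT, ?_, ?_⟩
      · intro h
        apply ht1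
        have : t = g⁻¹ * (g * t * g⁻¹) * g := by group
        rw [this, h]
        group
      · have : g * t * g⁻¹ * (g * t * g⁻¹) = g * (t * t) * g⁻¹ := by group
        rw [this, ht2]
        group)
    (by
      intro s' hs'
      obtain ⟨h1, h2, h3⟩ := (hS s').mp hs'
      exact exists_normalizer_conj hm hK a hs hs2 hs3 hsq ha t s' htT ht1 ht2 h1 h2 h3)
  rw [key, hS3, card_normalizer_inf_centralizer hm hK a hs hs2 hs3 hsq ha t htT ht1 ht2]
  ring

end Quarter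

end Cfsg.Agent.Helper6.ReeE
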