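import Cfsg.Agent.Helper6.ReeE3
import Cfsg.Agent.S1156
import Cfsg.Agent.Helper67.ReeGen

/-!
# The cyclic Hall subgroup of order `(q + 1) / 4` of `²G₂(q)` and its normaliser (helper6)
-/

set_option autoImplicit false
set_option linter.style.haveILetI false

namespace Cfsg.Agent.Helper6.ReeE

open Cfsg Cfsg.Lie Cfsg.Agent.Helper18 Cfsg.Agent.Helper18.Ree
open Cfsg.Agent.Helper41.ReeU Cfsg.Agent.Helper9.ReeTI Cfsg.Agent.Helper6.Ree Cfsg.Agent.Helper6.ReeC

/-- a commutative subgroup whose relevant Sylow subgroups (in the big group) are cyclic is cyclic -/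
theorem isCyclic_of_comm_of_sylow {G : Type*} [Group G] [Finite G] (A : Subgroup G)
    (hc : ∀ x ∈ A, ∀ y ∈ A, x * y = y * x)
    (hsyl : ∀ p : ℕ, ∀ _ : Fact p.Prime, p ∣ Nat.card ↥A →
      ∀ P : Sylow p G, IsCyclic ↥(P : Subgroup G)) :
    IsCyclic ↥A := by
  have hZ : IsZGroup ↥A := by
    refine ⟨fun p hp P => ?_⟩
    haveI : Fact p.Prime := ⟨hp⟩
    by_cases hpd : p ∣ Nat.card ↥A
    · obtain ⟨Q, hQ⟩ := (P.2.map A.subtype).exists_le_sylow
      haveI : IsCyclic ↥(Q : Subgroup G) := hsyl p ⟨hp⟩ hpd Q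
      haveI : IsCyclic ↥((P : Subgroup ↥A).map A.subtype) := Subgroup.isCyclic_of_le hQ
      exact isCyclic_of_surjective
        ((P : Subgroup ↥A).equivMapOfInjective A.subtype A.subtype_injective).symm
        ((P : Subgroup ↥A).equivMapOfInjective A.subtype A.subtype_injective).symm.surjective
    · haveI : Subsingleton ↥(P : Subgroup ↥A) := by
        have h1 : Nat.card ↥(P : Subgroup ↥A) ∣ Nat.card ↥A := Subgroup.card_subgroup_dvd_card _
        obtain ⟨k, hk⟩ := IsPGroup.iff_card.mp P.2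
        rcases Nat.eq_zero_or_pos k with rfl | hk0
        · rw [pow_zero] at hk
          exact (Nat.card_eq_one_iff_unique.mp hk).1
        · exfalso
          apply hpd
          refine dvd_trans ?_ h1
          rw [hk]
          exact dvd_pow_self p hk0.ne'
      exact isCyclic_of_subsingleton
  letI : CommGroup ↥A :=
    { (inferInstance : Group ↥A) with mul_comm := fun x y => Subtype.ext (hc x x.2 y y.2) }
  exact IsCyclic.of_exponent_eq_card (IsZGroup.exponent_eq_card ↥A)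

/-- the normaliser of a subgroup normalises its centraliser -/
theorem normalizer_le_normalizer_centralizer {G : Type*} [Group G] (A : Subgroup G) :
    Subgroup.normalizer (A : Set G) ≤
      Subgroup.normalizer ((Subgroup.centralizer (A : Set G) : Subgroup G) : Set G) := by
  have key : ∀ g : G, g ∈ Subgroup.normalizer (A : Set G) → ∀ x : G,
      x ∈ Subgroup.centralizer (A : Set G) → g * x * g⁻¹ ∈ Subgroup.centralizer (A : Set G) := by
    intro g hg x hx
    rw [Subgroup.mem_centralizer_iff] at hx ⊢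
    intro y hy
    have hy' : g⁻¹ * y * g ∈ A := by
      have := (Subgroup.mem_normalizer_iff'.mp hg (g⁻¹ * y)).mpr
        (by rw [mul_inv_cancel_left]; exact hy)
      exact this
    have h1 := hx _ hy'
    calc y * (g * x * g⁻¹) = g * (g⁻¹ * y * g * x) * g⁻¹ := by group
      _ = g * (x * (g⁻¹ * y * g)) * g⁻¹ := by rw [h1]
      _ = g * x * g⁻¹ * y := by group
  intro g hg
  rw [Subgroup.mem_normalizer_iff]
  intro x
  constructor
  · exact key g hg x
  · intro hx
    have := key g⁻¹ (Subgroup.inv_mem _ hg) _ hx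
    have h2 : g⁻¹ * (g * x * g⁻¹) * g⁻¹⁻¹ = x := by group
    rw [h2] at this
    exact this

variable {K : Type*} [Field K] [Fintype K] [CharP K 3] {m : ℕ}

section Quarter

variable (hm : 1 ≤ m) (hK : Fintype.card K = 3 ^ (2 * m + 1)) (a : ↥(twistedG2 K (3 ^ m))) {s : ℕ}
  (hs : s.Prime) (hs2 : s ≠ 2) (hs3 : s ≠ 3) (hsq : s ∣ 3 ^ (2 * m + 1) + 1) (ha : orderOf a = s)

include hm hK hs hs2 hs3 hsq ha in
/-- the centraliser of an element of prime order `s' ∣ q + 1` inside `C(a)` is `C(a)` again -/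
theorem centralizer_eq_of_mem' {s' : ℕ} (hs' : s'.Prime) (hs'2 : s' ≠ 2) (hs'3 : s' ≠ 3)
    (hs'q : s' ∣ 3 ^ (2 * m + 1) + 1) (b : ↥(twistedG2 K (3 ^ m)))
    (hb : b ∈ Subgroup.centralizer {a}) (hbo : orderOf b = s') :
    Subgroup.centralizer {b} = Subgroup.centralizer {a} := by
  obtain ⟨hTc, hTcard⟩ := centralizer_of_prime_order_quarter hm hK a hs hs2 hs3 hsq ha
  obtain ⟨-, hTcard'⟩ := centralizer_of_prime_order_quarter hm hK b hs' hs'2 hs'3 hs'q hbo
  symm
  apply Subgroup.eq_of_le_of_card_ge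
  · intro x hx
    rw [Subgroup.mem_centralizer_singleton_iff]
    exact hTc x hx b hb
  · rw [hTcard, hTcard']

include hm hK hs hs2 hs3 hsq ha in
/-- **(N1), second half**: a non-involution of `C(a)` has the same centraliser -/
theorem centralizer_eq_of_sq_ne (y : ↥(twistedG2 K (3 ^ m)))
    (hy : y ∈ Subgroup.centralizer {a}) (hy2 : y * y ≠ 1) :
    Subgroup.centralizer {y} = Subgroup.centralizer {a} := by
  obtain ⟨hTc, hTcard⟩ := centralizer_of_prime_order_quarter hm hK a hs hs2 hs3 hsq ha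
  have hyn : orderOf y ∣ 3 ^ (2 * m + 1) + 1 := by
    rw [← hTcard]
    have : orderOf (⟨y, hy⟩ : ↥(Subgroup.centralizer {a})) ∣ Nat.card ↥(Subgroup.centralizer {a}) :=
      orderOf_dvd_natCard _
    rwa [← Subgroup.orderOf_coe] at this
  have hn0 : orderOf y ≠ 0 := (orderOf_pos y).ne'
  obtain ⟨s', hs', hs'n, hs'odd⟩ : ∃ p, p.Prime ∧ p ∣ orderOf y ∧ Odd p := by
    rcases Nat.eq_two_pow_or_exists_odd_prime_and_dvd (orderOf y) with ⟨k, hk⟩ | h
    · exfalso
      apply hy2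
      apply sq_eq_one_of_two_element hK y k
      rw [← hk, pow_orderOf_eq_one]
    · exact h
  have hs'2 : s' ≠ 2 := by
    rintro rfl
    exact absurd hs'odd (by decide)
  have hs'q : s' ∣ 3 ^ (2 * m + 1) + 1 := hs'n.trans hyn
  have hs'3 : s' ≠ 3 := by
    rintro rfl
    have := q_mod_three m
    omega
  set b := y ^ (orderOf y / s') with hb
  have hbo : orderOf b = s' := orderOf_pow_orderOf_div hn0 hs'n
  have hbT : b ∈ Subgroup.centralizer {a} := Subgroup.pow_mem _ hy _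
  have hCb := centralizer_eq_of_mem' hm hK a hs hs2 hs3 hsq ha hs' hs'2 hs'3 hs'q b hbT hbo
  apply le_antisymm
  · rw [← hCb]
    intro x hx
    rw [Subgroup.mem_centralizer_singleton_iff] at hx ⊢
    rw [hb]
    exact ((Commute.pow_right (show Commute x y from hx) _)).eq
  · intro x hx
    rw [Subgroup.mem_centralizer_singleton_iff]
    exact hTc x hx y hy

end Quarter

/-- arithmetic: a prime divisor of `(q + 1) / 4` is neither `2` nor `3` and divides `q + 1` -/
theorem arith_quarter_prime (m : ℕ) (hm : 1 ≤ m) {p : ℕ} (hp : p.Prime)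
    (hpo : p ∣ (3 ^ (2 * m + 1) + 1) / 4) : p ≠ 2 ∧ p ≠ 3 ∧ p ∣ 3 ^ (2 * m + 1) + 1 := by
  have hq27 : 3 ^ 3 ≤ 3 ^ (2 * m + 1) := Nat.pow_le_pow_right (by norm_num) (by omega)
  obtain ⟨hq1, hq2, hq3⟩ := arith_quarter _ (q_mod_eight m) hq27
  have hpq : p ∣ 3 ^ (2 * m + 1) + 1 := hpo.trans ⟨4, hq2⟩
  refine ⟨?_, ?_, hpq⟩
  · rintro rfl
    exact hq1 hpo
  · rintro rfl
    have := q_mod_three m
    omega

/-- **N1pack**: the cyclic Hall subgroup of order `(q + 1) / 4` -/
theorem exists_quarter_hall (hm : 1 ≤ m) (hK : Fintype.card K = 3 ^ (2 * m + 1)) :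
    ∃ A : Subgroup ↥(twistedG2 K (3 ^ m)), IsCyclic ↥A ∧ Nat.card ↥A = (3 ^ (2 * m + 1) + 1) / 4 ∧
      Nat.card ↥(Subgroup.normalizer (A : Set ↥(twistedG2 K (3 ^ m)))) = 6 * (3 ^ (2 * m + 1) + 1) ∧
      ∀ A₀ : Subgroup ↥(twistedG2 K (3 ^ m)), A₀ ≤ A → A₀ ≠ ⊥ →
        Subgroup.normalizer (A₀ : Set ↥(twistedG2 K (3 ^ m))) =
          Subgroup.normalizer (A : Set ↥(twistedG2 K (3 ^ m))) := by
  have hq27 : 3 ^ 3 ≤ 3 ^ (2 * m + 1) := Nat.pow_le_pow_right (by norm_num) (by omega)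
  obtain ⟨hq1, hq2, hq3⟩ := arith_quarter _ (q_mod_eight m) hq27
  -- a prime divisor `s` of `(q + 1) / 4` and an element of order `s`
  have hs : ((3 ^ (2 * m + 1) + 1) / 4).minFac.Prime := Nat.minFac_prime (by omega)
  have hso : ((3 ^ (2 * m + 1) + 1) / 4).minFac ∣ (3 ^ (2 * m + 1) + 1) / 4 := Nat.minFac_dvd _
  obtain ⟨hs2, hs3, hsq⟩ := arith_quarter_prime m hm hs hso
  generalize ((3 ^ (2 * m + 1) + 1) / 4).minFac = s at hs hso hs2 hs3 hsq
  haveI : Fact s.Prime := ⟨hs⟩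
  obtain ⟨n, hn⟩ : ∃ n, 3 ^ (2 * m + 1) = n + 1 :=
    ⟨3 ^ (2 * m + 1) - 1, (Nat.sub_add_cancel (Nat.one_le_pow _ _ (by norm_num))).symm⟩
  obtain ⟨a, ha⟩ := exists_prime_orderOf_dvd_card' (G := ↥(twistedG2 K (3 ^ m))) s (by
    rw [card_ree_succ hK hn]
    rw [hn] at hsq
    exact Dvd.dvd.mul_right (Dvd.dvd.mul_left hsq _) _)
  obtain ⟨hTc, hTcard⟩ := centralizer_of_prime_order_quarter hm hK a hs hs2 hs3 hsq ha
  -- the cyclic Sylow subgroups
  have hsyl : ∀ p : ℕ, ∀ _ : Fact p.Prime, p ∣ (3 ^ (2 * m + 1) + 1) / 4 →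
      ∀ P : Sylow p ↥(twistedG2 K (3 ^ m)), IsCyclic ↥(P : Subgroup ↥(twistedG2 K (3 ^ m))) := by
    intro p hp hpd P
    obtain ⟨h2, h3, -⟩ := arith_quarter_prime m hm hp.out hpd
    have h5 : 3 < p := by
      have := hp.out.two_le
      omega
    exact Cfsg.Agent.S1156.result hm hK h5 P
  -- a Hall complement of the Sylow 2-subgroup of `T = C(a)`
  obtain ⟨A, hAT, hAcard⟩ : ∃ A : Subgroup ↥(twistedG2 K (3 ^ m)), A ≤ Subgroup.centralizer {a} ∧
      Nat.card ↥A = (3 ^ (2 * m + 1) + 1) / 4 := by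
    letI : CommGroup ↥(Subgroup.centralizer {a}) :=
      { (inferInstance : Group ↥(Subgroup.centralizer {a})) with
        mul_comm := fun x y => Subtype.ext (hTc x x.2 y y.2) }
    let P : Sylow 2 ↥(Subgroup.centralizer {a}) := default
    have hPcard : Nat.card ↥(P : Subgroup ↥(Subgroup.centralizer {a})) = 4 := by
      rw [P.card_eq_multiplicity, hTcard, hq2, Nat.factorization_mul (by omega) (by norm_num),
        Finsupp.add_apply, Nat.factorization_eq_zero_of_not_dvd hq1, zero_add,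
        show (4 : ℕ) = 2 ^ 2 by norm_num, Nat.Prime.factorization_pow Nat.prime_two]
      simp
    have hcop : Nat.Coprime (Nat.card ↥(P : Subgroup ↥(Subgroup.centralizer {a})))
        (P : Subgroup ↥(Subgroup.centralizer {a})).index := P.card_coprime_index
    obtain ⟨H, hH⟩ := Subgroup.exists_right_complement'_of_coprime hcop
    refine ⟨H.map (Subgroup.centralizer {a}).subtype, Subgroup.map_subtype_le H, ?_⟩
    rw [Subgroup.card_map_of_injective (Subgroup.subtype_injective _)]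
    have h1 := hH.card_mul_card
    rw [hPcard, hTcard] at h1
    omega
  have hAc : ∀ x ∈ A, ∀ y ∈ A, x * y = y * x := fun x hx y hy => hTc x (hAT hx) y (hAT hy)
  have hAcyc : IsCyclic ↥A := isCyclic_of_comm_of_sylow A hAc (by rw [hAcard]; exact hsyl)
  -- the key: `N(A₀) = N(T)`
  have key : ∀ A₀ : Subgroup ↥(twistedG2 K (3 ^ m)), A₀ ≤ A → A₀ ≠ ⊥ →
      Subgroup.normalizer (A₀ : Set ↥(twistedG2 K (3 ^ m))) =
        Subgroup.normalizer ((Subgroup.centralizer {a} : Subgroup ↥(twistedG2 K (3 ^ m))) :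
          Set ↥(twistedG2 K (3 ^ m))) := by
    intro A₀ hA₀ hne
    have hdvd : Nat.card ↥A₀ ∣ (3 ^ (2 * m + 1) + 1) / 4 := by
      rw [← hAcard]
      exact Subgroup.card_dvd_of_le hA₀
    obtain ⟨b, hbA, hbp⟩ := exists_prime_order_mem A₀ hne
    have hbo : orderOf b ∣ (3 ^ (2 * m + 1) + 1) / 4 := by
      refine dvd_trans ?_ hdvd
      have : orderOf (⟨b, hbA⟩ : ↥A₀) ∣ Nat.card ↥A₀ := orderOf_dvd_natCard _
      rwa [← Subgroup.orderOf_coe] at this
    obtain ⟨hb2, hb3, hbq⟩ := arith_quarter_prime m hm hbp hbo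
    have hbT : b ∈ Subgroup.centralizer {a} := hAT (hA₀ hbA)
    have hCb := centralizer_eq_of_mem' hm hK a hs hs2 hs3 hsq ha hbp hb2 hb3 hbq b hbT rfl
    have hCA₀ := (centralizer_eq_of_singleton (Subgroup.centralizer {a}) A₀ (Subgroup.centralizer {a})
      hTc (hA₀.trans hAT) b hbA hCb hTc).1
    apply le_antisymm
    · rw [← hCA₀]
      exact normalizer_le_normalizer_centralizer A₀
    · intro g hg
      have hA₀cyc : IsCyclic ↥A₀ := Subgroup.isCyclic_of_le hA₀
      set A₀' : Subgroup ↥(twistedG2 K (3 ^ m)) := A₀.map (MulAut.conj g).toMonoidHom with hA₀'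
      have hA₀'T : A₀' ≤ Subgroup.centralizer {a} := by
        rintro _ ⟨x, hx, rfl⟩
        exact (Subgroup.mem_normalizer_iff.mp hg x).mp (hAT (hA₀ hx))
      have e : ↥A₀ ≃* ↥A₀' := A₀.equivMapOfInjective _ (MulAut.conj g).injective
      have heq : A₀ = A₀' := by
        apply Cfsg.Agent.Helper67.ReeGen.eq_of_commute_of_card A₀ A₀' (Nat.card ↥A₀) hA₀cyc
          (e.isCyclic.mp hA₀cyc) rfl (Nat.card_congr e.toEquiv).symm
        · intro x hx y hy
          exact hTc x (hAT (hA₀ hx)) y (hA₀'T hy)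
        · intro p hp hpd P
          exact hsyl p hp (hpd.trans hdvd) P
      rw [Subgroup.mem_normalizer_iff]
      intro x
      constructor
      · intro hx
        rw [heq]
        exact ⟨x, hx, rfl⟩
      · intro hx
        rw [heq] at hx
        obtain ⟨y, hy, hyx⟩ := hx
        have hyx' : g * y * g⁻¹ = g * x * g⁻¹ := hyx
        have : y = x := mul_left_cancel (mul_right_cancel hyx')
        rw [← this]
        exact hy
  have hAne : A ≠ ⊥ := by
    intro h
    rw [h, Subgroup.card_bot] at hAcard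
    omega
  refine ⟨A, hAcyc, hAcard, ?_, ?_⟩
  · rw [key A le_rfl hAne, card_normalizer_quarter hm hK a hs hs2 hs3 hsq ha]
  · intro A₀ hA₀ hne
    rw [key A₀ hA₀ hne, key A le_rfl hAne]

end Cfsg.Agent.Helper6.ReeE
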