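import Cfsg.Agent.Helper6.ReeD2

/-!
# Element orders of `²G₂(q)`: the Borel subgroup (helper6, for S1159)
-/

set_option autoImplicit false
set_option linter.style.haveILetI false

namespace Cfsg.Agent.Helper6.ReeF

open Cfsg Cfsg.Lie Cfsg.Agent.Helper18 Cfsg.Agent.Helper18.Ree
open Cfsg.Agent.Helper41.ReeU Cfsg.Agent.Helper9.ReeTI Cfsg.Agent.Helper6.Ree Cfsg.Agent.Helper6.ReeC
open Cfsg.Agent.Helper6.ReeE Cfsg.Agent.Helper6.ReeD

variable {K : Type*} [Field K] [Fintype K] [CharP K 3] {m : ℕ}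

/-- powers in the Borel subgroup -/
theorem borel_pow (hK : Fintype.card K = 3 ^ (2 * m + 1)) (t u v : K) (c : Kˣ) (k : ℕ) :
    ∃ t' u' v' : K, (gU K m t u v * gT hK c) ^ k = gU K m t' u' v' * gT hK (c ^ k) := by
  induction k with
  | zero => exact ⟨0, 0, 0, by rw [pow_zero, pow_zero, map_one, gU_zero, one_mul]⟩
  | succ k ih =>
    obtain ⟨t', u', v', h⟩ := ih
    have key : (gU K m t u v * gT hK c) ^ (k + 1) =
        gU K m t' u' v' * gU K m (↑(c ^ k) * t) (↑(c ^ k) ^ (3 * 3 ^ m + 1) * u)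
          (↑(c ^ k) ^ (3 * 3 ^ m + 2) * v) * gT hK (c ^ (k + 1)) := by
      rw [pow_succ, h, pow_succ c, map_mul]
      calc gU K m t' u' v' * gT hK (c ^ k) * (gU K m t u v * gT hK c)
          = gU K m t' u' v' * (gT hK (c ^ k) * gU K m t u v) * gT hK c := by group
        _ = gU K m t' u' v' * (gU K m (↑(c ^ k) * t) (↑(c ^ k) ^ (3 * 3 ^ m + 1) * u)
              (↑(c ^ k) ^ (3 * 3 ^ m + 2) * v) * gT hK (c ^ k)) * gT hK c := by rw [gT_mul_gU]
        _ = _ := by group
    rw [gU_mul hK] at key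
    exact ⟨_, _, _, key⟩

/-- an element of the Borel subgroup with torus part `1` has order dividing `9` -/
theorem borel_pow_nine (hK : Fintype.card K = 3 ^ (2 * m + 1)) (t u v : K) :
    (gU K m t u v * gT hK 1) ^ 9 = 1 := by
  rw [map_one, mul_one, gU_pow_nine hK]

/-- an element of the Borel subgroup with torus part `-1` has order dividing `6` -/
theorem borel_pow_six (hK : Fintype.card K = 3 ^ (2 * m + 1)) (t u v : K) (c : Kˣ) (hc : (c : K) = -1) :
    (gU K m t u v * gT hK c) ^ 6 = 1 := by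
  have hcc : c * c = 1 := by
    apply Units.ext
    rw [Units.val_mul, hc, Units.val_one]
    ring
  have h2 : (gU K m t u v * gT hK c) ^ 2 = gU K m 0 (u + u - t * (-t) ^ (3 * 3 ^ m))
      (v + (-v) - (-t) * u + t * (-t) ^ (3 * 3 ^ m + 1) - t ^ 2 * (-t) ^ (3 * 3 ^ m)) := by
    rw [pow_two]
    calc gU K m t u v * gT hK c * (gU K m t u v * gT hK c)
        = gU K m t u v * (gT hK c * gU K m t u v) * gT hK c := by group
      _ = gU K m t u v * (gU K m (↑c * t) (↑c ^ (3 * 3 ^ m + 1) * u)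
            (↑c ^ (3 * 3 ^ m + 2) * v) * gT hK c) * gT hK c := by rw [gT_mul_gU]
      _ = (gU K m t u v * gU K m (↑c * t) (↑c ^ (3 * 3 ^ m + 1) * u)
            (↑c ^ (3 * 3 ^ m + 2) * v)) * (gT hK c * gT hK c) := by group
      _ = _ := by
        rw [← map_mul, hcc, map_one, mul_one, gU_mul hK, hc, neg_one_pow_e1, neg_one_pow_e2]
        congr 1
        · ring
        · ring
        · ring
  rw [show 6 = 2 * 3 by norm_num, pow_mul, h2, gU_cube hK]
  rw [zero_pow (by omega), neg_zero, gU_zero]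

/-- a `3`-element is conjugate into `U¹` -/
theorem exists_conj_gU (hK : Fintype.card K = 3 ^ (2 * m + 1)) (x : ↥(twistedG2 K (3 ^ m))) (j : ℕ)
    (hx3 : x ^ 3 ^ j = 1) : ∃ (h : ↥(twistedG2 K (3 ^ m))) (t u v : K), h⁻¹ * x * h = gU K m t u v := by
  haveI : Fact (Nat.Prime 3) := ⟨Nat.prime_three⟩
  have hz : IsPGroup 3 ↥(Subgroup.zpowers x) := by
    obtain ⟨i, -, hi⟩ := (Nat.dvd_prime_pow Nat.prime_three).mp (orderOf_dvd_of_pow_eq_one hx3)
    apply IsPGroup.of_card (n := i)
    rw [Nat.card_zpowers, hi]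
  obtain ⟨P, hP⟩ := hz.exists_le_sylow
  obtain ⟨P₀, hP₀⟩ := exists_sylow_eq_U1 hK
  obtain ⟨h, hh⟩ := MulAction.exists_smul_eq ↥(twistedG2 K (3 ^ m)) P₀ P
  have hx'P : h⁻¹ * x * h ∈ P₀ := by
    rw [← sylow_smul_mem_iff, hh]
    exact hP (Subgroup.mem_zpowers x)
  have hx'U : h⁻¹ * x * h ∈ U1 K m := by
    rw [← hP₀]
    exact hx'P
  obtain ⟨t, u, v, htuv⟩ := (mem_U1_iff_gU hK _).mp hx'U
  exact ⟨h, t, u, v, htuv⟩

/-- an element commuting with a non-trivial `3`-element is conjugate into the Borel subgroup -/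
theorem exists_conj_borel (hK : Fintype.card K = 3 ^ (2 * m + 1)) (a x : ↥(twistedG2 K (3 ^ m)))
    (hx1 : x ≠ 1) (hx3 : x ^ 3 = 1) (hxa : x * a = a * x) :
    ∃ (g : ↥(twistedG2 K (3 ^ m))) (t u v : K) (c : Kˣ), g⁻¹ * a * g = gU K m t u v * gT hK c := by
  haveI : Fact (Nat.Prime 3) := ⟨Nat.prime_three⟩
  have hz : IsPGroup 3 ↥(Subgroup.zpowers x) := by
    obtain ⟨j, -, hj⟩ := (Nat.dvd_prime_pow Nat.prime_three).mp
      (orderOf_dvd_of_pow_eq_one (n := 3 ^ 1) (by rw [pow_one]; exact hx3))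
    apply IsPGroup.of_card (n := j)
    rw [Nat.card_zpowers, hj]
  obtain ⟨P, hP⟩ := hz.exists_le_sylow
  obtain ⟨P₀, hP₀⟩ := exists_sylow_eq_U1 hK
  obtain ⟨g, hg⟩ := MulAction.exists_smul_eq ↥(twistedG2 K (3 ^ m)) P₀ P
  set x' := g⁻¹ * x * g with hx'
  set a' := g⁻¹ * a * g with ha'
  have hx'P : x' ∈ P₀ := by
    rw [hx', ← sylow_smul_mem_iff, hg]
    exact hP (Subgroup.mem_zpowers x)
  have hx'1 : x' ≠ 1 := by
    intro h
    apply hx1
    have : x = g * x' * g⁻¹ := by rw [hx']; group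
    rw [this, h]
    group
  have hcomm : a'⁻¹ * x' * a' = x' := by
    have : a'⁻¹ * x' * a' = g⁻¹ * (a⁻¹ * (x * a)) * g := by rw [hx', ha']; group
    rw [this, hxa, inv_mul_cancel_left]
  have hfix : a' • P₀ = P₀ := by
    by_contra hne
    have h1 := sylow_inf_eq_bot hK (a' • P₀) P₀ hne
    have h2 : x' ∈ ((a' • P₀ : Sylow 3 ↥(twistedG2 K (3 ^ m))) : Subgroup ↥(twistedG2 K (3 ^ m))) ⊓
        (P₀ : Subgroup ↥(twistedG2 K (3 ^ m))) := by
      refine ⟨?_, hx'P⟩
      show x' ∈ (a' • P₀ : Sylow 3 ↥(twistedG2 K (3 ^ m)))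
      rw [sylow_smul_mem_iff, hcomm]
      exact hx'P
    rw [h1, Subgroup.mem_bot] at h2
    exact hx'1 h2
  have hB : (a' : GL chevG2.Idx K) ∈ chevG2.borelSubgroup K := by
    apply mem_borel_of_normalizes hK a'.1 a'.2
    intro u hu
    have hu1 : (⟨u, hu.2⟩ : ↥(twistedG2 K (3 ^ m))) ∈ U1 K m := (mem_U1 _).mpr hu.1
    have h3 : a' * ⟨u, hu.2⟩ * a'⁻¹ ∈ (a' • P₀ : Sylow 3 ↥(twistedG2 K (3 ^ m))) := by
      rw [sylow_smul_mem_iff]
      have : a'⁻¹ * (a' * ⟨u, hu.2⟩ * a'⁻¹) * a' = ⟨u, hu.2⟩ := by group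
      rw [this]
      show (⟨u, hu.2⟩ : ↥(twistedG2 K (3 ^ m))) ∈ (P₀ : Subgroup ↥(twistedG2 K (3 ^ m)))
      rw [hP₀]
      exact hu1
    rw [hfix] at h3
    have h4 : a' * ⟨u, hu.2⟩ * a'⁻¹ ∈ U1 K m := by
      rw [← hP₀]
      exact h3
    exact (mem_U1 _).mp h4
  obtain ⟨t, u, v, c, h⟩ := borel_form hK a' hB
  exact ⟨g, t, u, v, c, h⟩

/-- an element whose order has only the prime factors `2` and `3` has order dividing `6` or `9` -/
theorem order_two_three (hK : Fintype.card K = 3 ^ (2 * m + 1)) (g : ↥(twistedG2 K (3 ^ m)))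
    (h23 : ∀ p : ℕ, p.Prime → p ∣ orderOf g → p = 2 ∨ p = 3) : orderOf g ∣ 6 ∨ orderOf g ∣ 9 := by
  have hd0 : orderOf g ≠ 0 := (orderOf_pos g).ne'
  by_cases h3 : 3 ∣ orderOf g
  · set x := g ^ (orderOf g / 3) with hx
    have hxo : orderOf x = 3 := orderOf_pow_orderOf_div hd0 h3
    have hx1 : x ≠ 1 := by
      intro h
      rw [h, orderOf_one] at hxo
      omega
    have hx3 : x ^ 3 = 1 := by
      have h4 := pow_orderOf_eq_one x
      rw [hxo] at h4
      exact h4
    have hxg : x * g = g * x := by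
      rw [hx]
      exact ((Commute.refl g).pow_left _).eq
    obtain ⟨h, t, u, v, c, hconj⟩ := exists_conj_borel hK g x hx1 hx3 hxg
    have hord : orderOf (gU K m t u v * gT hK c) = orderOf g := by
      rw [← hconj]
      have : h⁻¹ * g * h = MulAut.conj h⁻¹ g := by rw [MulAut.conj_apply, inv_inv]
      rw [this, MulEquiv.orderOf_eq]
    rw [← hord] at h23 ⊢
    -- the torus part
    have hcd : c ^ orderOf (gU K m t u v * gT hK c) = 1 := by
      obtain ⟨t', u', v', hp⟩ := borel_pow hK t u v c (orderOf (gU K m t u v * gT hK c))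
      rw [pow_orderOf_eq_one] at hp
      have h1 : gU K m 0 0 0 * gT hK 1 = gU K m t' u' v' * gT hK (c ^ orderOf (gU K m t u v * gT hK c)) := by
        rw [← hp, gU_zero, map_one, one_mul]
      exact (borel_unique hK h1).2.2.2.symm
    have he1 : orderOf c ∣ orderOf (gU K m t u v * gT hK c) := orderOf_dvd_of_pow_eq_one hcd
    have he2 : orderOf c ∣ 3 ^ (2 * m + 1) - 1 := by
      have := orderOf_dvd_natCard c
      rwa [Nat.card_units, Nat.card_eq_fintype_card, hK] at this
    have hq8 := q_mod_eight m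
    have hq3 := q_mod_three m
    have hq1 : 1 ≤ 3 ^ (2 * m + 1) := Nat.one_le_pow _ _ (by norm_num)
    have hc2 : c ^ 2 = 1 := by
      have hpow : orderOf c = 2 ^ (orderOf c).primeFactorsList.length := by
        apply Nat.eq_prime_pow_of_unique_prime_dvd (orderOf_pos c).ne'
        intro p hp hpd
        rcases h23 p hp (hpd.trans he1) with h | h
        · exact h
        · exfalso
          rw [h] at hpd
          have := hpd.trans he2
          omega
      have hk : (orderOf c).primeFactorsList.length ≤ 1 := by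
        by_contra hk
        have h4 : 2 ^ 2 ∣ orderOf c := by
          rw [hpow]
          exact pow_dvd_pow 2 (by omega)
        have := h4.trans he2
        omega
      apply orderOf_dvd_iff_pow_eq_one.mp
      rw [hpow]
      exact pow_dvd_pow 2 hk |>.trans (by norm_num)
    have hcK : (c : K) * (c : K) = 1 := by
      have := congrArg Units.val hc2
      rwa [Units.val_pow_eq_pow_val, Units.val_one, pow_two] at this
    rcases mul_self_eq_one_iff.mp hcK with h | h
    · right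
      have hc1 : c = 1 := Units.ext h
      rw [hc1]
      exact orderOf_dvd_of_pow_eq_one (borel_pow_nine hK t u v)
    · left
      exact orderOf_dvd_of_pow_eq_one (borel_pow_six hK t u v c h)
  · left
    have hpow : orderOf g = 2 ^ (orderOf g).primeFactorsList.length := by
      apply Nat.eq_prime_pow_of_unique_prime_dvd hd0
      intro p hp hpd
      rcases h23 p hp hpd with h | h
      · exact h
      · exfalso
        rw [h] at hpd
        exact h3 hpd
    have h2 : g * g = 1 := by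
      apply sq_eq_one_of_two_element hK g (orderOf g).primeFactorsList.length
      rw [← hpow, pow_orderOf_eq_one]
    have : orderOf g ∣ 2 := orderOf_dvd_of_pow_eq_one (by rw [pow_two]; exact h2)
    exact this.trans (by norm_num)

end Cfsg.Agent.Helper6.ReeF
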