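import Cfsg.Agent.Helper6.ReeF1

/-!
# Element orders of `²G₂(q)`: the semisimple classes (helper6, for S1159)
-/

set_option autoImplicit false
set_option linter.style.haveILetI false

namespace Cfsg.Agent.Helper6.ReeF

open Cfsg Cfsg.Lie Cfsg.Agent.Helper18 Cfsg.Agent.Helper18.Ree
open Cfsg.Agent.Helper41.ReeU Cfsg.Agent.Helper9.ReeTI Cfsg.Agent.Helper6.Ree Cfsg.Agent.Helper6.ReeC
open Cfsg.Agent.Helper6.ReeE Cfsg.Agent.Helper6.ReeD

/-- `q² - q + 1 = (q - r + 1) (q + r + 1)` for `q = 3^(2m+1)`, `r = 3^(m+1)` -/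
theorem cox_factor (m : ℕ) : (3 ^ (2 * m + 1)) ^ 2 - 3 ^ (2 * m + 1) + 1 =
    (3 ^ (2 * m + 1) - 3 ^ (m + 1) + 1) * (3 ^ (2 * m + 1) + 3 ^ (m + 1) + 1) := by
  obtain ⟨b, hb⟩ : ∃ b, 3 ^ m = b + 1 := ⟨3 ^ m - 1, (Nat.sub_add_cancel (Nat.one_le_pow _ _ (by norm_num))).symm⟩
  have hq : 3 ^ (2 * m + 1) = 3 * (b + 1) * (b + 1) := by
    rw [pow_succ, two_mul, pow_add, hb]
    ring
  have hr : 3 ^ (m + 1) = 3 * (b + 1) := by
    rw [pow_succ, hb]
    ring
  rw [hq, hr]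
  have h1 : 3 * (b + 1) * (b + 1) - 3 * (b + 1) = 3 * b * b + 3 * b := by
    apply Nat.sub_eq_of_eq_add
    ring
  have h2 : (3 * (b + 1) * (b + 1)) ^ 2 - 3 * (b + 1) * (b + 1) =
      (3 * (b + 1) * (b + 1)) * (3 * b * b + 6 * b + 2) := by
    apply Nat.sub_eq_of_eq_add
    ring
  rw [h1, h2]
  ring

/-- `q² - q + 1` is prime to `6` -/
theorem cox_coprime_six (m : ℕ) : Nat.Coprime ((3 ^ (2 * m + 1)) ^ 2 - 3 ^ (2 * m + 1) + 1) 6 := by
  apply Nat.coprime_of_dvd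
  intro k hk hkd hk6
  obtain ⟨h2, h3, -⟩ := arith_coxeter _ (q_mod_three m) hk hkd
  have : k ∣ 2 * 3 := hk6
  rcases (Nat.Prime.dvd_mul hk).mp this with h | h
  · exact h2 ((Nat.prime_dvd_prime_iff_eq hk Nat.prime_two).mp h)
  · exact h3 ((Nat.prime_dvd_prime_iff_eq hk Nat.prime_three).mp h)

/-- the shape of one entry of the statement S1158 -/
def HasTorus (K : Type*) [Field K] [Fintype K] (m n : ℕ) : Prop :=
  ∃ A : Subgroup ↥(twistedG2 K (3 ^ m)), IsCyclic ↥A ∧ Nat.card ↥A = n ∧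
    Nat.card ↥(Subgroup.normalizer (A : Set ↥(twistedG2 K (3 ^ m)))) = 6 * n ∧
    ∀ A₀ : Subgroup ↥(twistedG2 K (3 ^ m)), A₀ ≤ A → A₀ ≠ ⊥ →
      Subgroup.normalizer (A₀ : Set ↥(twistedG2 K (3 ^ m))) =
        Subgroup.normalizer (A : Set ↥(twistedG2 K (3 ^ m)))

/-- the centraliser of an element normalises the cyclic group it generates -/
theorem centralizer_le_normalizer_zpowers {G : Type*} [Group G] (y : G) :
    Subgroup.centralizer {y} ≤ Subgroup.normalizer ((Subgroup.zpowers y : Subgroup G) : Set G) := by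
  intro x hx
  rw [Subgroup.mem_centralizer_singleton_iff] at hx
  have key : ∀ z ∈ Subgroup.zpowers y, x * z * x⁻¹ = z := by
    intro z hz
    obtain ⟨k, rfl⟩ := Subgroup.mem_zpowers_iff.mp hz
    have : Commute x (y ^ k) := Commute.zpow_right (show Commute x y from hx) k
    rw [this.eq, mul_inv_cancel_right]
  rw [Subgroup.mem_normalizer_iff]
  intro z
  constructor
  · intro hz
    rw [key z hz]
    exact hz
  · intro hz
    have h1 := key _ hz
    have h2 : z = x * z * x⁻¹ := by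
      have h3 : x⁻¹ * (x * (x * z * x⁻¹) * x⁻¹) * x = x⁻¹ * (x * z * x⁻¹) * x := by rw [h1]
      have h4 : x⁻¹ * (x * (x * z * x⁻¹) * x⁻¹) * x = x * z * x⁻¹ := by group
      have h5 : x⁻¹ * (x * z * x⁻¹) * x = z := by group
      rw [h4, h5] at h3
      exact h3.symm
    rw [h2]
    exact hz

variable {K : Type*} [Field K] [Fintype K] [CharP K 3] {m : ℕ}

/-- an element whose order is divisible by a prime divisor of the torus order `n = q ± r + 1`
has order dividing `n` -/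
theorem order_dvd_of_torus (hm : 1 ≤ m) (hK : Fintype.card K = 3 ^ (2 * m + 1)) {n : ℕ}
    (hn : n = 3 ^ (2 * m + 1) - 3 ^ (m + 1) + 1 ∨ n = 3 ^ (2 * m + 1) + 3 ^ (m + 1) + 1)
    (hT : HasTorus K m n) (g : ↥(twistedG2 K (3 ^ m))) {p : ℕ} (hp : p.Prime) (hpn : p ∣ n)
    (hpd : p ∣ orderOf g) : orderOf g ∣ n := by
  haveI : Fact p.Prime := ⟨hp⟩
  have hd0 : orderOf g ≠ 0 := (orderOf_pos g).ne'
  have hnQ : n ∣ (3 ^ (2 * m + 1)) ^ 2 - 3 ^ (2 * m + 1) + 1 := by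
    rw [cox_factor]
    rcases hn with h | h
    · rw [h]
      exact Dvd.intro _ rfl
    · rw [h]
      exact Dvd.intro_left _ rfl
  have hlq : p ∣ (3 ^ (2 * m + 1)) ^ 2 - 3 ^ (2 * m + 1) + 1 := hpn.trans hnQ
  set y := g ^ (orderOf g / p) with hy
  have hyo : orderOf y = p := orderOf_pow_orderOf_div hd0 hpd
  have hgy : g * y = y * g := by
    rw [hy]
    exact ((Commute.refl g).pow_right _).eq
  obtain ⟨A, hAc, hAn, hNA, hA₀⟩ := hT
  obtain ⟨b, hb⟩ := exists_prime_orderOf_dvd_card' (G := ↥A) p (by rw [hAn]; exact hpn)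
  have hbo : orderOf (b : ↥(twistedG2 K (3 ^ m))) = p := by rw [Subgroup.orderOf_coe, hb]
  have hpd' : p ∣ (3 ^ (2 * m + 1) - 1) / 2 ∨ p ∣ (3 ^ (2 * m + 1) + 1) / 4 ∨
      p ∣ 3 ^ (2 * m + 1) - 3 ^ (m + 1) + 1 ∨ p ∣ 3 ^ (2 * m + 1) + 3 ^ (m + 1) + 1 := by
    rcases hn with h | h
    · exact Or.inr (Or.inr (Or.inl (h ▸ hpn)))
    · exact Or.inr (Or.inr (Or.inr (h ▸ hpn)))
  obtain ⟨g₀, hg₀⟩ := conj_of_card_eq hm hK p hpd'
    (Subgroup.zpowers (b : ↥(twistedG2 K (3 ^ m)))) (Subgroup.zpowers y) inferInstance inferInstance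
    (by rw [Nat.card_zpowers, hbo]) (by rw [Nat.card_zpowers, hyo])
  have hy' : y ∈ (Subgroup.zpowers (b : ↥(twistedG2 K (3 ^ m)))).map (MulAut.conj g₀).toMonoidHom := by
    rw [← hg₀]
    exact Subgroup.mem_zpowers y
  obtain ⟨b', hb'z, hb'y⟩ := hy'
  have hb'y' : g₀ * b' * g₀⁻¹ = y := hb'y
  have hb'A : b' ∈ A := (Subgroup.zpowers_le.mpr b.2) hb'z
  have hb'o : orderOf b' = p := by
    rw [← hyo, ← hb'y']
    have : g₀ * b' * g₀⁻¹ = MulAut.conj g₀ b' := by rw [MulAut.conj_apply]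
    rw [this, MulEquiv.orderOf_eq]
  have hb'1 : b' ≠ 1 := by
    rintro rfl
    rw [orderOf_one] at hb'o
    exact hp.one_lt.ne' hb'o.symm
  set g' := g₀⁻¹ * g * g₀ with hg'
  have hg'o : orderOf g' = orderOf g := by
    have : g' = MulAut.conj g₀⁻¹ g := by rw [MulAut.conj_apply, inv_inv]
    rw [this, MulEquiv.orderOf_eq]
  have hg'b : g' ∈ Subgroup.centralizer {b'} := by
    rw [Subgroup.mem_centralizer_singleton_iff]
    have hb'eq : b' = g₀⁻¹ * y * g₀ := by rw [← hb'y']; group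
    rw [hb'eq, hg']
    calc g₀⁻¹ * g * g₀ * (g₀⁻¹ * y * g₀) = g₀⁻¹ * (g * y) * g₀ := by group
      _ = g₀⁻¹ * (y * g) * g₀ := by rw [hgy]
      _ = g₀⁻¹ * y * g₀ * (g₀⁻¹ * g * g₀) := by group
  have hne : Subgroup.zpowers b' ≠ ⊥ := by
    intro h
    exact hb'1 (Subgroup.zpowers_eq_bot.mp h)
  have hN := hA₀ (Subgroup.zpowers b') (Subgroup.zpowers_le.mpr hb'A) hne
  have hCN : Subgroup.centralizer {b'} ≤ Subgroup.normalizer (A : Set ↥(twistedG2 K (3 ^ m))) := by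
    rw [← hN]
    exact centralizer_le_normalizer_zpowers b'
  have h1 : Nat.card ↥(Subgroup.centralizer {b'}) ∣ 6 * n := by
    rw [← hNA]
    exact Subgroup.card_dvd_of_le hCN
  have h2 := coxeter_card_dvd hm hK b' hp hlq hb'o
  have hcop : Nat.Coprime (Nat.card ↥(Subgroup.centralizer {b'})) 6 :=
    Nat.Coprime.coprime_dvd_left h2 (cox_coprime_six m)
  have h3 : Nat.card ↥(Subgroup.centralizer {b'}) ∣ n := hcop.dvd_of_dvd_mul_left h1
  rw [← hg'o]
  refine dvd_trans ?_ h3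
  have : orderOf (⟨g', hg'b⟩ : ↥(Subgroup.centralizer {b'})) ∣ Nat.card ↥(Subgroup.centralizer {b'}) :=
    orderOf_dvd_natCard _
  rwa [← Subgroup.orderOf_coe] at this

/-- **S1159, forward direction** (given the two tori of S1158) -/
theorem order_cases (hm : 1 ≤ m) (hK : Fintype.card K = 3 ^ (2 * m + 1))
    (hminus : HasTorus K m (3 ^ (2 * m + 1) - 3 ^ (m + 1) + 1))
    (hplus : HasTorus K m (3 ^ (2 * m + 1) + 3 ^ (m + 1) + 1)) (g : ↥(twistedG2 K (3 ^ m))) :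
    orderOf g ∣ 6 ∨ orderOf g ∣ 9 ∨ orderOf g ∣ 3 ^ (2 * m + 1) - 1 ∨ orderOf g ∣ (3 ^ (2 * m + 1) + 1) / 2 ∨
      orderOf g ∣ 3 ^ (2 * m + 1) - 3 ^ (m + 1) + 1 ∨ orderOf g ∣ 3 ^ (2 * m + 1) + 3 ^ (m + 1) + 1 := by
  by_cases h23 : ∀ p : ℕ, p.Prime → p ∣ orderOf g → p = 2 ∨ p = 3
  · rcases order_two_three hK g h23 with h | h
    · exact Or.inl h
    · exact Or.inr (Or.inl h)
  · push Not at h23
    obtain ⟨p, hp, hpd, hp2, hp3⟩ := h23
    have hd0 : orderOf g ≠ 0 := (orderOf_pos g).ne'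
    obtain ⟨n, hn⟩ : ∃ n, 3 ^ (2 * m + 1) = n + 1 :=
      ⟨3 ^ (2 * m + 1) - 1, (Nat.sub_add_cancel (Nat.one_le_pow _ _ (by norm_num))).symm⟩
    set y := g ^ (orderOf g / p) with hy
    have hyo : orderOf y = p := orderOf_pow_orderOf_div hd0 hpd
    have hgy : g ∈ Subgroup.centralizer {y} := by
      rw [Subgroup.mem_centralizer_singleton_iff, hy]
      exact ((Commute.refl g).pow_right _).eq
    have hgC : orderOf g ∣ Nat.card ↥(Subgroup.centralizer {y}) := by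
      have : orderOf (⟨g, hgy⟩ : ↥(Subgroup.centralizer {y})) ∣ Nat.card ↥(Subgroup.centralizer {y}) :=
        orderOf_dvd_natCard _
      rwa [← Subgroup.orderOf_coe] at this
    have hpG : p ∣ Nat.card ↥(twistedG2 K (3 ^ m)) := hpd.trans (orderOf_dvd_natCard g)
    rw [card_ree_succ hK hn] at hpG
    rcases (Nat.Prime.dvd_mul hp).mp hpG with h | h
    · rcases (Nat.Prime.dvd_mul hp).mp h with h | h
      · rcases (Nat.Prime.dvd_mul hp).mp h with h | h
        · exfalso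
          rw [← hn] at h
          exact hp3 ((Nat.prime_dvd_prime_iff_eq hp Nat.prime_three).mp
            (hp.dvd_of_dvd_pow (hp.dvd_of_dvd_pow h)))
        · -- `p ∣ q - 1`
          have h' : p ∣ 3 ^ (2 * m + 1) - 1 := by rw [hn, Nat.add_sub_cancel]; exact h
          obtain ⟨T, -, hTcard, -, hT⟩ := centralizer_of_prime_order_split hK y hp hp2 h' hyo
          rw [hT, hTcard] at hgC
          exact Or.inr (Or.inr (Or.inl hgC))
      · -- `p ∣ q + 1`
        have h' : p ∣ 3 ^ (2 * m + 1) + 1 := by rw [hn]; exact h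
        obtain ⟨-, hTcard⟩ := centralizer_of_prime_order_quarter hm hK y hp hp2 hp3 h' hyo
        rw [hTcard] at hgC
        have hq27 : 3 ^ 3 ≤ 3 ^ (2 * m + 1) := Nat.pow_le_pow_right (by norm_num) (by omega)
        obtain ⟨-, hq2, -⟩ := arith_quarter _ (q_mod_eight m) hq27
        have hz : (g ^ ((3 ^ (2 * m + 1) + 1) / 4)) ^ 2 ^ 2 = 1 := by
          rw [← pow_mul, show (2 : ℕ) ^ 2 = 4 by norm_num, ← hq2]
          exact orderOf_dvd_iff_pow_eq_one.mp hgC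
        have hz2 := sq_eq_one_of_two_element hK _ 2 hz
        rw [← pow_two, ← pow_mul] at hz2
        have hq4 : (3 ^ (2 * m + 1) + 1) / 4 * 2 = (3 ^ (2 * m + 1) + 1) / 2 := by omega
        rw [hq4] at hz2
        exact Or.inr (Or.inr (Or.inr (Or.inl (orderOf_dvd_of_pow_eq_one hz2))))
    · -- `p ∣ q² - q + 1`
      have h' : p ∣ (3 ^ (2 * m + 1) - 3 ^ (m + 1) + 1) * (3 ^ (2 * m + 1) + 3 ^ (m + 1) + 1) := by
        rw [← cox_factor, hn]
        have : (n + 1) ^ 2 = (n + 1) * n + (n + 1) := by ring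
        rw [this, Nat.add_sub_cancel]
        exact h
      rcases (Nat.Prime.dvd_mul hp).mp h' with h'' | h''
      · exact Or.inr (Or.inr (Or.inr (Or.inr (Or.inl
          (order_dvd_of_torus hm hK (Or.inl rfl) hminus g hp h'' hpd)))))
      · exact Or.inr (Or.inr (Or.inr (Or.inr (Or.inr
          (order_dvd_of_torus hm hK (Or.inr rfl) hplus g hp h'' hpd)))))

end Cfsg.Agent.Helper6.ReeF
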