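import Cfsg.Agent.Helper6.ReeF2

/-!
# Element orders of `²G₂(q)`: existence, and the final statement (helper6, for S1159)
-/

set_option autoImplicit false
set_option linter.style.haveILetI false

namespace Cfsg.Agent.Helper6.ReeF

open Cfsg Cfsg.Lie Cfsg.Agent.Helper18 Cfsg.Agent.Helper18.Ree
open Cfsg.Agent.Helper41.ReeU Cfsg.Agent.Helper9.ReeTI Cfsg.Agent.Helper6.Ree Cfsg.Agent.Helper6.ReeC
open Cfsg.Agent.Helper6.ReeE Cfsg.Agent.Helper6.ReeD

/-- divisors of an element order are element orders -/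
theorem exists_order_of_dvd {G : Type*} [Group G] [Finite G] (g : G) (d : ℕ) (hd : d ∣ orderOf g) :
    ∃ x : G, orderOf x = d :=
  ⟨g ^ (orderOf g / d), orderOf_pow_orderOf_div (orderOf_pos g).ne' hd⟩

variable {K : Type*} [Field K] [Fintype K] [CharP K 3] {m : ℕ}

theorem exists_order_six (hK : Fintype.card K = 3 ^ (2 * m + 1)) :
    ∃ g : ↥(twistedG2 K (3 ^ m)), orderOf g = 6 := by
  have hc : ((-1 : Kˣ) : K) = -1 := by rw [Units.val_neg, Units.val_one]
  have h1 : orderOf (gT (m := m) hK (-1)) = 2 := by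
    rw [orderOf_injective (gT (m := m) hK) (gT_injective hK)]
    apply orderOf_eq_prime
    · rw [neg_one_sq]
    · intro h
      have := congrArg Units.val h
      rw [hc, Units.val_one] at this
      have h2 : (2 : K) = 0 := by
        have : (1 : K) + 1 = 0 := by nth_rewrite 1 [← this]; ring
        rw [← this]; norm_num
      exact two_ne_zero_K h2
  have h2 : orderOf (gU K m 0 1 0) = 3 := by
    haveI : Fact (Nat.Prime 3) := ⟨Nat.prime_three⟩
    apply orderOf_eq_prime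
    · rw [gU_cube hK, zero_pow (by omega), neg_zero, gU_zero]
    · intro h
      rw [← gU_zero (K := K) (m := m)] at h
      exact one_ne_zero (gU_inj h).2.1
  have hcomm : Commute (gT (m := m) hK (-1)) (gU K m 0 1 0) := by
    show gT (m := m) hK (-1) * gU K m 0 1 0 = gU K m 0 1 0 * gT (m := m) hK (-1)
    rw [gT_mul_gU, hc, neg_one_pow_e1, mul_zero, mul_one, mul_zero]
  refine ⟨gT (m := m) hK (-1) * gU K m 0 1 0, ?_⟩
  rw [hcomm.orderOf_mul_eq_mul_orderOf_of_coprime (by rw [h1, h2]; norm_num), h1, h2]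

theorem exists_order_nine (hK : Fintype.card K = 3 ^ (2 * m + 1)) :
    ∃ g : ↥(twistedG2 K (3 ^ m)), orderOf g = 9 := by
  refine ⟨gU K m 1 0 0, ?_⟩
  haveI : Fact (Nat.Prime 3) := ⟨Nat.prime_three⟩
  have := orderOf_eq_prime_pow (x := gU K m 1 0 0) (p := 3) (n := 1) ?_ ?_
  · rw [this]; norm_num
  · rw [pow_one, gU_cube hK, one_pow]
    intro h
    rw [← gU_zero (K := K) (m := m)] at h
    have := (gU_inj h).2.2
    exact one_ne_zero (neg_eq_zero.mp this)
  · rw [show 3 ^ (1 + 1) = 9 by norm_num, gU_pow_nine hK]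

theorem exists_order_split (hm : 1 ≤ m) (hK : Fintype.card K = 3 ^ (2 * m + 1)) :
    ∃ g : ↥(twistedG2 K (3 ^ m)), orderOf g = 3 ^ (2 * m + 1) - 1 := by
  obtain ⟨ζ, hζ, -⟩ := exists_units_generator hm hK
  exact ⟨gT hK ζ, by rw [orderOf_injective (gT (m := m) hK) (gT_injective hK), hζ]⟩

omit [CharP K 3] in
theorem exists_order_torus {n : ℕ} (hT : HasTorus K m n) :
    ∃ g : ↥(twistedG2 K (3 ^ m)), orderOf g = n := by
  obtain ⟨A, hAc, hAn, -, -⟩ := hT
  obtain ⟨g, hg⟩ := hAc.exists_generator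
  refine ⟨(g : ↥(twistedG2 K (3 ^ m))), ?_⟩
  rw [Subgroup.orderOf_coe, orderOf_eq_card_of_forall_mem_zpowers hg, hAn]

theorem exists_order_half (hm : 1 ≤ m) (hK : Fintype.card K = 3 ^ (2 * m + 1)) :
    ∃ g : ↥(twistedG2 K (3 ^ m)), orderOf g = (3 ^ (2 * m + 1) + 1) / 2 := by
  have hq27 : 3 ^ 3 ≤ 3 ^ (2 * m + 1) := Nat.pow_le_pow_right (by norm_num) (by omega)
  obtain ⟨hq1, hq2, hq3⟩ := arith_quarter _ (q_mod_eight m) hq27
  obtain ⟨A, hAc, hAn, -, -⟩ := exists_quarter_hall hm hK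
  obtain ⟨g₁, hg₁⟩ := hAc.exists_generator
  have hg₁o : orderOf (g₁ : ↥(twistedG2 K (3 ^ m))) = (3 ^ (2 * m + 1) + 1) / 4 := by
    rw [Subgroup.orderOf_coe, orderOf_eq_card_of_forall_mem_zpowers hg₁, hAn]
  have hs : ((3 ^ (2 * m + 1) + 1) / 4).minFac.Prime := Nat.minFac_prime (by omega)
  have hso : ((3 ^ (2 * m + 1) + 1) / 4).minFac ∣ (3 ^ (2 * m + 1) + 1) / 4 := Nat.minFac_dvd _
  obtain ⟨hs2, hs3, hsq⟩ := arith_quarter_prime m hm hs hso
  generalize ((3 ^ (2 * m + 1) + 1) / 4).minFac = s at hs hso hs2 hs3 hsq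
  set a := (g₁ : ↥(twistedG2 K (3 ^ m))) ^ (orderOf (g₁ : ↥(twistedG2 K (3 ^ m))) / s) with ha
  have hao : orderOf a = s :=
    orderOf_pow_orderOf_div (orderOf_pos _).ne' (by rw [hg₁o]; exact hso)
  obtain ⟨hTc, hTcard⟩ := centralizer_of_prime_order_quarter hm hK a hs hs2 hs3 hsq hao
  have hg₁T : (g₁ : ↥(twistedG2 K (3 ^ m))) ∈ Subgroup.centralizer {a} := by
    rw [Subgroup.mem_centralizer_singleton_iff, ha]
    exact ((Commute.refl _).pow_right _).eq
  haveI : Fact (Nat.Prime 2) := ⟨Nat.prime_two⟩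
  obtain ⟨t, ht⟩ := exists_prime_orderOf_dvd_card' (G := ↥(Subgroup.centralizer {a})) 2
    (by rw [hTcard]; omega)
  have hto : orderOf (t : ↥(twistedG2 K (3 ^ m))) = 2 := by rw [Subgroup.orderOf_coe, ht]
  have hcomm : Commute (t : ↥(twistedG2 K (3 ^ m))) (g₁ : ↥(twistedG2 K (3 ^ m))) :=
    hTc _ t.2 _ hg₁T
  refine ⟨(t : ↥(twistedG2 K (3 ^ m))) * (g₁ : ↥(twistedG2 K (3 ^ m))), ?_⟩
  rw [hcomm.orderOf_mul_eq_mul_orderOf_of_coprime, hto, hg₁o]
  · omega
  · rw [hto, hg₁o]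
    exact (Nat.Prime.coprime_iff_not_dvd Nat.prime_two).mpr hq1

/-- **S1159** (given the two tori of S1158) -/
theorem orders_iff (hm : 1 ≤ m) (hK : Fintype.card K = 3 ^ (2 * m + 1))
    (hminus : HasTorus K m (3 ^ (2 * m + 1) - 3 ^ (m + 1) + 1))
    (hplus : HasTorus K m (3 ^ (2 * m + 1) + 3 ^ (m + 1) + 1)) (d : ℕ) :
    (∃ g : ↥(twistedG2 K (3 ^ m)), orderOf g = d) ↔
      (d ∣ 6 ∨ d ∣ 9 ∨ d ∣ 3 ^ (2 * m + 1) - 1 ∨ d ∣ (3 ^ (2 * m + 1) + 1) / 2 ∨
        d ∣ 3 ^ (2 * m + 1) - 3 ^ (m + 1) + 1 ∨ d ∣ 3 ^ (2 * m + 1) + 3 ^ (m + 1) + 1) := by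
  constructor
  · rintro ⟨g, rfl⟩
    exact order_cases hm hK hminus hplus g
  · rintro (h | h | h | h | h | h)
    · obtain ⟨g, hg⟩ := exists_order_six (m := m) hK
      exact exists_order_of_dvd g d (by rw [hg]; exact h)
    · obtain ⟨g, hg⟩ := exists_order_nine (m := m) hK
      exact exists_order_of_dvd g d (by rw [hg]; exact h)
    · obtain ⟨g, hg⟩ := exists_order_split hm hK
      exact exists_order_of_dvd g d (by rw [hg]; exact h)
    · obtain ⟨g, hg⟩ := exists_order_half hm hK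
      exact exists_order_of_dvd g d (by rw [hg]; exact h)
    · obtain ⟨g, hg⟩ := exists_order_torus hminus
      exact exists_order_of_dvd g d (by rw [hg]; exact h)
    · obtain ⟨g, hg⟩ := exists_order_torus hplus
      exact exists_order_of_dvd g d (by rw [hg]; exact h)

end Cfsg.Agent.Helper6.ReeF
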