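import Mathlib
import Cfsg.Agent.Lib.Cores
import Cfsg.Agent.S0044

/-!
# Solvable groups: a normal `p`-subgroup for an odd prime, or `O₂` is self-centralising (helper6)
-/

set_option autoImplicit false
set_option linter.style.haveILetI false

namespace Cfsg.Agent.Helper6.ReeG

open Cfsg.Agent.Lib

/-- in a finite solvable group either `O_p ≠ 1` for some odd prime `p`, or `C(O₂) ≤ O₂` -/
theorem fit_cases (S : Type*) [Group S] [Finite S] [Group.IsSolvable S] :
    (∃ p : ℕ, p.Prime ∧ p ≠ 2 ∧ Cfsg.pCore p S ≠ ⊥) ∨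
      Subgroup.centralizer ((Cfsg.pCore 2 S : Subgroup S) : Set S) ≤ Cfsg.pCore 2 S := by
  by_cases h : ∃ p : ℕ, p.Prime ∧ p ≠ 2 ∧ Cfsg.pCore p S ≠ ⊥
  · exact Or.inl h
  · right
    push Not at h
    haveI : Fact (Nat.Prime 2) := ⟨Nat.prime_two⟩
    -- `F(S)` is a `2`-group
    have hF2 : IsPGroup 2 ↥(Cfsg.fittingSubgroup S) := by
      have hpow : Nat.card ↥(Cfsg.fittingSubgroup S) =
          2 ^ (Nat.card ↥(Cfsg.fittingSubgroup S)).primeFactorsList.length := by
        apply Nat.eq_prime_pow_of_unique_prime_dvd Nat.card_pos.ne'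
        intro p hp hpd
        by_contra hp2
        haveI : Fact p.Prime := ⟨hp⟩
        have h1 := relIndex_pCore_fittingSubgroup_coprime (G := S) p
        rw [h p hp hp2, Subgroup.relIndex_bot_left] at h1
        exact (Nat.Prime.coprime_iff_not_dvd hp).mp h1.symm hpd
      exact IsPGroup.of_card hpow
    have hle : Cfsg.fittingSubgroup S ≤ Cfsg.pCore 2 S := le_pCore inferInstance hF2
    have heq : Cfsg.fittingSubgroup S = Cfsg.pCore 2 S :=
      le_antisymm hle (pCore_le_fittingSubgroup 2)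
    rw [← heq]
    exact Cfsg.Agent.S0044.result

/-- a subgroup normalises the image of each of its normal subgroups -/
theorem le_normalizer_map_subtype {R : Type*} [Group R] (S : Subgroup R) (N : Subgroup ↥S)
    [hN : N.Normal] : S ≤ Subgroup.normalizer ((N.map S.subtype : Subgroup R) : Set R) := by
  intro s hs
  rw [Subgroup.mem_normalizer_iff]
  intro x
  constructor
  · rintro ⟨y, hy, rfl⟩
    exact ⟨⟨s, hs⟩ * y * ⟨s, hs⟩⁻¹, hN.conj_mem y hy ⟨s, hs⟩, rfl⟩
  · rintro ⟨y, hy, hyx⟩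
    refine ⟨⟨s, hs⟩⁻¹ * y * ⟨s, hs⟩, ?_, ?_⟩
    · have := hN.conj_mem y hy ⟨s, hs⟩⁻¹
      rwa [inv_inv] at this
    · have h1 : S.subtype (⟨s, hs⟩⁻¹ * y * ⟨s, hs⟩) = s⁻¹ * S.subtype y * s := rfl
      rw [h1, hyx]
      group

/-- centraliser transfer: `C_S(N) ≤ N` inside `S` gives `S ⊓ C_R(N) ≤ N` in `R` -/
theorem inf_centralizer_map_le {R : Type*} [Group R] (S : Subgroup R) (N : Subgroup ↥S)
    (h : Subgroup.centralizer ((N : Subgroup ↥S) : Set ↥S) ≤ N) :
    S ⊓ Subgroup.centralizer ((N.map S.subtype : Subgroup R) : Set R) ≤ N.map S.subtype := by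
  rintro x ⟨hxS, hxC⟩
  refine ⟨⟨x, hxS⟩, h ?_, rfl⟩
  rw [Subgroup.mem_centralizer_iff]
  intro y hy
  apply Subtype.ext
  exact (Subgroup.mem_centralizer_iff.mp hxC) (y : R) ⟨y, hy, rfl⟩

end Cfsg.Agent.Helper6.ReeG
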