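import Cfsg.Agent.Helper6.ReeF3
import Cfsg.Agent.S1158

/-!
# Solvable subgroups of `²G₂(q)`: the local pieces (helper6, for S2361)
-/

set_option autoImplicit false
set_option linter.style.haveILetI false

namespace Cfsg.Agent.Helper6.ReeG

open Cfsg Cfsg.Lie Cfsg.Agent.Helper18 Cfsg.Agent.Helper18.Ree
open Cfsg.Agent.Helper41.ReeU Cfsg.Agent.Helper9.ReeTI Cfsg.Agent.Helper6.Ree Cfsg.Agent.Helper6.ReeC
open Cfsg.Agent.Helper6.ReeE Cfsg.Agent.Helper6.ReeD Cfsg.Agent.Helper6.ReeF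

variable {K : Type*} [Field K] [Fintype K] [CharP K 3] {m : ℕ}

/-- the normaliser of a non-trivial `3`-subgroup lies in the normaliser of a Sylow `3`-subgroup -/
theorem normalizer_le_sylow_three (hK : Fintype.card K = 3 ^ (2 * m + 1))
    (Q : Subgroup ↥(twistedG2 K (3 ^ m))) (hQ : IsPGroup 3 ↥Q) (hQ1 : Q ≠ ⊥) :
    ∃ P : Sylow 3 ↥(twistedG2 K (3 ^ m)),
      Subgroup.normalizer (Q : Set ↥(twistedG2 K (3 ^ m))) ≤
        Subgroup.normalizer ((P : Subgroup ↥(twistedG2 K (3 ^ m))) : Set ↥(twistedG2 K (3 ^ m))) := by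
  haveI : Fact (Nat.Prime 3) := ⟨Nat.prime_three⟩
  obtain ⟨P, hP⟩ := hQ.exists_le_sylow
  refine ⟨P, ?_⟩
  intro g hg
  have hfix : g • P = P := by
    by_contra hne
    have h1 := sylow_inf_eq_bot hK (g • P) P hne
    obtain ⟨⟨x, hxQ⟩, hx⟩ := (Subgroup.ne_bot_iff_exists_ne_one (H := Q)).mp hQ1
    have hx1 : x ≠ 1 := fun h => hx (Subtype.ext h)
    have hg' : g⁻¹ ∈ Subgroup.normalizer (Q : Set ↥(twistedG2 K (3 ^ m))) := Subgroup.inv_mem _ hg
    have h2 : g⁻¹ * x * g ∈ Q := by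
      have := (Subgroup.mem_normalizer_iff.mp hg' x).mp hxQ
      rwa [inv_inv] at this
    have h3 : x ∈ ((g • P : Sylow 3 ↥(twistedG2 K (3 ^ m))) : Subgroup ↥(twistedG2 K (3 ^ m))) ⊓
        (P : Subgroup ↥(twistedG2 K (3 ^ m))) := by
      refine ⟨?_, hP hxQ⟩
      show x ∈ (g • P : Sylow 3 ↥(twistedG2 K (3 ^ m)))
      rw [sylow_smul_mem_iff]
      exact hP h2
    rw [h1, Subgroup.mem_bot] at h3
    exact hx1 h3
  exact Sylow.smul_eq_iff_mem_normalizer.mp hfix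

/-- arithmetic: a prime `p ≥ 5` dividing `|²G₂(q)|` divides exactly one of the four torus orders -/
theorem prime_dvd_torus (m : ℕ) (hm : 1 ≤ m) {n p : ℕ} (hn : 3 ^ (2 * m + 1) = n + 1) (hp : p.Prime)
    (hp2 : p ≠ 2) (hp3 : p ≠ 3) (hpG : p ∣ (n + 1) ^ 3 * n * (n + 2) * ((n + 1) * n + 1)) :
    p ∣ (3 ^ (2 * m + 1) - 1) / 2 ∨ p ∣ (3 ^ (2 * m + 1) + 1) / 4 ∨
      p ∣ 3 ^ (2 * m + 1) - 3 ^ (m + 1) + 1 ∨ p ∣ 3 ^ (2 * m + 1) + 3 ^ (m + 1) + 1 := by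
  have hq27 : 3 ^ 3 ≤ 3 ^ (2 * m + 1) := Nat.pow_le_pow_right (by norm_num) (by omega)
  have hq8 := q_mod_eight m
  have hcop2 : Nat.Coprime p 2 := (Nat.coprime_primes hp Nat.prime_two).mpr hp2
  rcases (Nat.Prime.dvd_mul hp).mp hpG with h | h
  · rcases (Nat.Prime.dvd_mul hp).mp h with h | h
    · rcases (Nat.Prime.dvd_mul hp).mp h with h | h
      · exfalso
        rw [← hn] at h
        exact hp3 ((Nat.prime_dvd_prime_iff_eq hp Nat.prime_three).mp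
          (hp.dvd_of_dvd_pow (hp.dvd_of_dvd_pow h)))
      · left
        have h2 : 3 ^ (2 * m + 1) - 1 = 2 * ((3 ^ (2 * m + 1) - 1) / 2) := by omega
        have h' : p ∣ 2 * ((3 ^ (2 * m + 1) - 1) / 2) := by
          rw [← h2, hn, Nat.add_sub_cancel]
          exact h
        exact hcop2.dvd_of_dvd_mul_left h'
    · right; left
      have h2 : 3 ^ (2 * m + 1) + 1 = 4 * ((3 ^ (2 * m + 1) + 1) / 4) := by omega
      have h' : p ∣ 4 * ((3 ^ (2 * m + 1) + 1) / 4) := by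
        rw [← h2, hn]
        exact h
      have hcop4 : Nat.Coprime p 4 := by
        have : (4 : ℕ) = 2 ^ 2 := by norm_num
        rw [this]
        exact Nat.Coprime.pow_right 2 hcop2
      exact hcop4.dvd_of_dvd_mul_left h'
  · right; right
    have h' : p ∣ (3 ^ (2 * m + 1) - 3 ^ (m + 1) + 1) * (3 ^ (2 * m + 1) + 3 ^ (m + 1) + 1) := by
      rw [← cox_factor, hn]
      have : (n + 1) ^ 2 = (n + 1) * n + (n + 1) := by ring
      rw [this, Nat.add_sub_cancel]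
      exact h
    exact (Nat.Prime.dvd_mul hp).mp h'

/-- the four torus orders -/
def IsTorusOrder (m n : ℕ) : Prop :=
  n = (3 ^ (2 * m + 1) - 1) / 2 ∨ n = (3 ^ (2 * m + 1) + 1) / 4 ∨
    n = 3 ^ (2 * m + 1) - 3 ^ (m + 1) + 1 ∨ n = 3 ^ (2 * m + 1) + 3 ^ (m + 1) + 1

/-- all four tori of S1158, with their normaliser property -/
theorem exists_torus (hm : 1 ≤ m) (hK : Fintype.card K = 3 ^ (2 * m + 1)) {n : ℕ}
    (hn : IsTorusOrder m n) :
    ∃ A : Subgroup ↥(twistedG2 K (3 ^ m)), IsCyclic ↥A ∧ Nat.card ↥A = n ∧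
      ∀ A₀ : Subgroup ↥(twistedG2 K (3 ^ m)), A₀ ≤ A → A₀ ≠ ⊥ →
        Subgroup.normalizer (A₀ : Set ↥(twistedG2 K (3 ^ m))) =
          Subgroup.normalizer (A : Set ↥(twistedG2 K (3 ^ m))) := by
  have h := Cfsg.Agent.S1158.result hm hK
  rcases hn with rfl | rfl | rfl | rfl
  · obtain ⟨A, h1, h2, -, h4⟩ := h ((3 ^ (2 * m + 1) - 1) / 2, 2 * (3 ^ (2 * m + 1) - 1)) (Or.inl rfl)
    exact ⟨A, h1, h2, h4⟩
  · obtain ⟨A, h1, h2, -, h4⟩ := h ((3 ^ (2 * m + 1) + 1) / 4, 6 * (3 ^ (2 * m + 1) + 1))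
      (Or.inr (Or.inl rfl))
    exact ⟨A, h1, h2, h4⟩
  · obtain ⟨A, h1, h2, -, h4⟩ := h (3 ^ (2 * m + 1) - 3 ^ (m + 1) + 1,
      6 * (3 ^ (2 * m + 1) - 3 ^ (m + 1) + 1)) (Or.inr (Or.inr (Or.inl rfl)))
    exact ⟨A, h1, h2, h4⟩
  · obtain ⟨A, h1, h2, -, h4⟩ := h (3 ^ (2 * m + 1) + 3 ^ (m + 1) + 1,
      6 * (3 ^ (2 * m + 1) + 3 ^ (m + 1) + 1)) (Or.inr (Or.inr (Or.inr rfl)))
    exact ⟨A, h1, h2, h4⟩

/-- the normaliser of a non-trivial `p`-subgroup, `p ≥ 5`, lies in the normaliser of a torus -/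
theorem normalizer_le_torus (hm : 1 ≤ m) (hK : Fintype.card K = 3 ^ (2 * m + 1))
    (Q : Subgroup ↥(twistedG2 K (3 ^ m))) {p : ℕ} (hp : p.Prime) (hp2 : p ≠ 2) (hp3 : p ≠ 3)
    (hQ : IsPGroup p ↥Q) (hQ1 : Q ≠ ⊥) :
    ∃ A : Subgroup ↥(twistedG2 K (3 ^ m)), IsCyclic ↥A ∧ IsTorusOrder m (Nat.card ↥A) ∧
      Subgroup.normalizer (Q : Set ↥(twistedG2 K (3 ^ m))) ≤
        Subgroup.normalizer (A : Set ↥(twistedG2 K (3 ^ m))) := by
  haveI : Fact p.Prime := ⟨hp⟩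
  have h5 : 3 < p := by
    have := hp.two_le
    omega
  obtain ⟨P, hP⟩ := hQ.exists_le_sylow
  have hPc : IsCyclic ↥(P : Subgroup ↥(twistedG2 K (3 ^ m))) := Cfsg.Agent.S1156.result hm hK h5 P
  have hPcomm : ∀ a ∈ (P : Subgroup ↥(twistedG2 K (3 ^ m))), ∀ b ∈ (P : Subgroup ↥(twistedG2 K (3 ^ m))),
      a * b = b * a := by
    intro a ha b hb
    letI := hPc.commGroup
    exact congrArg Subtype.val (mul_comm (⟨a, ha⟩ : ↥(P : Subgroup ↥(twistedG2 K (3 ^ m)))) ⟨b, hb⟩)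
  -- an element of order `p`
  have hpQ : p ∣ Nat.card ↥Q := by
    obtain ⟨k, hk⟩ := IsPGroup.iff_card.mp hQ
    rcases Nat.eq_zero_or_pos k with rfl | hk0
    · exfalso
      rw [pow_zero] at hk
      exact hQ1 (Subgroup.card_eq_one.mp hk)
    · rw [hk]
      exact dvd_pow_self p hk0.ne'
  obtain ⟨y', hy'⟩ := exists_prime_orderOf_dvd_card' (G := ↥Q) p hpQ
  set y : ↥(twistedG2 K (3 ^ m)) := (y' : ↥(twistedG2 K (3 ^ m))) with hydef
  have hyo : orderOf y = p := by rw [hydef, Subgroup.orderOf_coe, hy']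
  have hyQ : y ∈ Q := y'.2
  -- `N(Q) ≤ N(⟨y⟩)`
  have hNQ : Subgroup.normalizer (Q : Set ↥(twistedG2 K (3 ^ m))) ≤
      Subgroup.normalizer ((Subgroup.zpowers y : Subgroup ↥(twistedG2 K (3 ^ m))) :
        Set ↥(twistedG2 K (3 ^ m))) := by
    intro g hg
    have hgy : g * y * g⁻¹ ∈ Q := (Subgroup.mem_normalizer_iff.mp hg y).mp hyQ
    have hgyo : orderOf (g * y * g⁻¹) = p := by
      have : g * y * g⁻¹ = MulAut.conj g y := by rw [MulAut.conj_apply]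
      rw [this, MulEquiv.orderOf_eq, hyo]
    have heq : Subgroup.zpowers y = Subgroup.zpowers (g * y * g⁻¹) := by
      apply Cfsg.Agent.Helper67.ReeGen.eq_of_commute_of_card _ _ p inferInstance inferInstance
        (by rw [Nat.card_zpowers, hyo]) (by rw [Nat.card_zpowers, hgyo])
      · intro a ha b hb
        exact hPcomm a (hP ((Subgroup.zpowers_le.mpr hyQ) ha)) b (hP ((Subgroup.zpowers_le.mpr hgy) hb))
      · intro p' hp' hp'p P'
        have : p' = p := (Nat.prime_dvd_prime_iff_eq hp'.out hp).mp hp'p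
        subst this
        exact Cfsg.Agent.S1156.result hm hK h5 P'
    apply mem_normalizer_of_map_eq
    rw [MonoidHom.map_zpowers]
    exact heq.symm
  -- the torus
  obtain ⟨n, hn⟩ : ∃ n, 3 ^ (2 * m + 1) = n + 1 :=
    ⟨3 ^ (2 * m + 1) - 1, (Nat.sub_add_cancel (Nat.one_le_pow _ _ (by norm_num))).symm⟩
  have hpG : p ∣ Nat.card ↥(twistedG2 K (3 ^ m)) := by
    rw [← hyo]
    exact orderOf_dvd_natCard y
  rw [card_ree_succ hK hn] at hpG
  have hpd := prime_dvd_torus m hm hn hp hp2 hp3 hpG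
  obtain ⟨N, hN, hpN⟩ : ∃ N, IsTorusOrder m N ∧ p ∣ N := by
    rcases hpd with h | h | h | h
    · exact ⟨_, Or.inl rfl, h⟩
    · exact ⟨_, Or.inr (Or.inl rfl), h⟩
    · exact ⟨_, Or.inr (Or.inr (Or.inl rfl)), h⟩
    · exact ⟨_, Or.inr (Or.inr (Or.inr rfl)), h⟩
  obtain ⟨A, hAc, hAN, hA₀⟩ := exists_torus hm hK hN
  obtain ⟨b, hb⟩ := exists_prime_orderOf_dvd_card' (G := ↥A) p (by rw [hAN]; exact hpN)
  have hbo : orderOf (b : ↥(twistedG2 K (3 ^ m))) = p := by rw [Subgroup.orderOf_coe, hb]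
  obtain ⟨g₀, hg₀⟩ := conj_of_card_eq hm hK p hpd
    (Subgroup.zpowers (b : ↥(twistedG2 K (3 ^ m)))) (Subgroup.zpowers y) inferInstance inferInstance
    (by rw [Nat.card_zpowers, hbo]) (by rw [Nat.card_zpowers, hyo])
  have hb1 : Subgroup.zpowers (b : ↥(twistedG2 K (3 ^ m))) ≠ ⊥ := by
    intro h
    have h1 := Subgroup.zpowers_eq_bot.mp h
    rw [h1, orderOf_one] at hbo
    exact hp.one_lt.ne' hbo.symm
  have hNb := hA₀ _ (Subgroup.zpowers_le.mpr b.2) hb1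
  refine ⟨A.map (MulAut.conj g₀).toMonoidHom, ?_, ?_, ?_⟩
  · exact (A.equivMapOfInjective _ (MulAut.conj g₀).injective).isCyclic.mp hAc
  · rw [Subgroup.card_map_of_injective (MulAut.conj g₀).injective, hAN]
    exact hN
  · refine hNQ.trans ?_
    rw [hg₀, ← Subgroup.map_equiv_normalizer_eq, ← Subgroup.map_equiv_normalizer_eq, hNb]

/-- every element commuting with a fixed element `x` of order three is conjugate into the Borel
subgroup, by one and the same conjugation -/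
theorem exists_conj_borel' (hK : Fintype.card K = 3 ^ (2 * m + 1)) (x : ↥(twistedG2 K (3 ^ m)))
    (hx1 : x ≠ 1) (hx3 : x ^ 3 = 1) :
    ∃ g : ↥(twistedG2 K (3 ^ m)), ∀ a : ↥(twistedG2 K (3 ^ m)), x * a = a * x →
      ∃ (t u v : K) (c : Kˣ), g⁻¹ * a * g = gU K m t u v * gT hK c := by
  haveI : Fact (Nat.Prime 3) := ⟨Nat.prime_three⟩
  have hz : IsPGroup 3 ↥(Subgroup.zpowers x) := by
    obtain ⟨j, -, hj⟩ := (Nat.dvd_prime_pow Nat.prime_three).mp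
      (orderOf_dvd_of_pow_eq_one (n := 3 ^ 1) (by rw [pow_one]; exact hx3))
    apply IsPGroup.of_card (n := j)
    rw [Nat.card_zpowers, hj]
  obtain ⟨P, hP⟩ := hz.exists_le_sylow
  obtain ⟨P₀, hP₀⟩ := exists_sylow_eq_U1 hK
  obtain ⟨g, hg⟩ := MulAction.exists_smul_eq ↥(twistedG2 K (3 ^ m)) P₀ P
  refine ⟨g, ?_⟩
  intro a hxa
  set x' := g⁻¹ * x * g with hx'
  set a' := g⁻¹ * a * g with ha'
  have hx'P : x' ∈ P₀ := by
    rw [hx', ← sylow_smul_mem_iff, hg]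
    exact hP (Subgroup.mem_zpowers x)
  have hx'1 : x' ≠ 1 := by
    intro h
    apply hx1
    have : x = g * x' * g⁻¹ := by rw [hx']; group
    rw [this, h]
    group
  have hcomm : a'⁻¹ * x' * a' = x' := by
    have : a'⁻¹ * x' * a' = g⁻¹ * (a⁻¹ * (x * a)) * g := by rw [hx', ha']; group
    rw [this, hxa, inv_mul_cancel_left]
  have hfix : a' • P₀ = P₀ := by
    by_contra hne
    have h1 := sylow_inf_eq_bot hK (a' • P₀) P₀ hne
    have h2 : x' ∈ ((a' • P₀ : Sylow 3 ↥(twistedG2 K (3 ^ m))) : Subgroup ↥(twistedG2 K (3 ^ m))) ⊓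
        (P₀ : Subgroup ↥(twistedG2 K (3 ^ m))) := by
      refine ⟨?_, hx'P⟩
      show x' ∈ (a' • P₀ : Sylow 3 ↥(twistedG2 K (3 ^ m)))
      rw [sylow_smul_mem_iff, hcomm]
      exact hx'P
    rw [h1, Subgroup.mem_bot] at h2
    exact hx'1 h2
  have hB : (a' : GL chevG2.Idx K) ∈ chevG2.borelSubgroup K := by
    apply mem_borel_of_normalizes hK a'.1 a'.2
    intro u hu
    have hu1 : (⟨u, hu.2⟩ : ↥(twistedG2 K (3 ^ m))) ∈ U1 K m := (mem_U1 _).mpr hu.1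
    have h3 : a' * ⟨u, hu.2⟩ * a'⁻¹ ∈ (a' • P₀ : Sylow 3 ↥(twistedG2 K (3 ^ m))) := by
      rw [sylow_smul_mem_iff]
      have : a'⁻¹ * (a' * ⟨u, hu.2⟩ * a'⁻¹) * a' = ⟨u, hu.2⟩ := by group
      rw [this]
      show (⟨u, hu.2⟩ : ↥(twistedG2 K (3 ^ m))) ∈ (P₀ : Subgroup ↥(twistedG2 K (3 ^ m)))
      rw [hP₀]
      exact hu1
    rw [hfix] at h3
    have h4 : a' * ⟨u, hu.2⟩ * a'⁻¹ ∈ U1 K m := by
      rw [← hP₀]
      exact h3
    exact (mem_U1 _).mp h4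
  exact borel_form hK a' hB

/-- an involution of the Borel subgroup has torus part `-1` -/
theorem borel_involution (hK : Fintype.card K = 3 ^ (2 * m + 1)) (t u v : K) (c : Kˣ)
    (h1 : gU K m t u v * gT hK c ≠ 1)
    (h2 : (gU K m t u v * gT hK c) * (gU K m t u v * gT hK c) = 1) : (c : K) = -1 := by
  obtain ⟨t', u', v', hp⟩ := ReeF.borel_pow hK t u v c 2
  rw [pow_two, h2] at hp
  have h3 : gU K m 0 0 0 * gT hK 1 = gU K m t' u' v' * gT hK (c ^ 2) := by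
    rw [← hp, gU_zero, map_one, one_mul]
  have hc2 : c ^ 2 = 1 := (borel_unique hK h3).2.2.2.symm
  have hcK : (c : K) * (c : K) = 1 := by
    have := congrArg Units.val hc2
    rwa [Units.val_pow_eq_pow_val, Units.val_one, pow_two] at this
  rcases mul_self_eq_one_iff.mp hcK with h | h
  · exfalso
    have hc1 : c = 1 := Units.ext h
    rw [hc1, map_one, mul_one] at h1 h2
    apply h1
    have h9 := gU_pow_nine hK t u v
    have h2' : gU K m t u v ^ 2 = 1 := by rw [pow_two]; exact h2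
    have : gU K m t u v ^ (Nat.gcd 9 2) = 1 := by
      rw [← orderOf_dvd_iff_pow_eq_one]
      exact Nat.dvd_gcd (orderOf_dvd_of_pow_eq_one h9) (orderOf_dvd_of_pow_eq_one h2')
    simpa using this
  · exact h

/-- the centraliser of a four-group has order prime to three -/
theorem not_three_dvd_card_centralizer_four (hK : Fintype.card K = 3 ^ (2 * m + 1))
    (V : Subgroup ↥(twistedG2 K (3 ^ m))) (hV : Nat.card ↥V = 4) :
    ¬ 3 ∣ Nat.card ↥(Subgroup.centralizer (V : Set ↥(twistedG2 K (3 ^ m)))) := by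
  intro h3
  haveI : Fact (Nat.Prime 3) := ⟨Nat.prime_three⟩
  obtain ⟨x', hx'⟩ := exists_prime_orderOf_dvd_card'
    (G := ↥(Subgroup.centralizer (V : Set ↥(twistedG2 K (3 ^ m))))) 3 h3
  set x : ↥(twistedG2 K (3 ^ m)) := (x' : ↥(twistedG2 K (3 ^ m))) with hxdef
  have hxo : orderOf x = 3 := by rw [hxdef, Subgroup.orderOf_coe, hx']
  have hx1 : x ≠ 1 := by
    intro h
    rw [h, orderOf_one] at hxo
    omega
  have hx3 : x ^ 3 = 1 := by
    have h4 := pow_orderOf_eq_one x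
    rw [hxo] at h4
    exact h4
  have hxV : ∀ v ∈ V, x * v = v * x := by
    intro v hv
    exact ((Subgroup.mem_centralizer_iff.mp x'.2) v hv).symm
  obtain ⟨g, hg⟩ := exists_conj_borel' hK x hx1 hx3
  -- elements of `V` are involutions
  have hsq : ∀ v ∈ V, v * v = 1 := by
    intro v hv
    apply sq_eq_one_of_two_element hK v 2
    have : (⟨v, hv⟩ : ↥V) ^ Nat.card ↥V = 1 := pow_card_eq_one'
    rw [hV] at this
    have h4 := congrArg Subtype.val this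
    rw [Subgroup.coe_pow, Subgroup.coe_one] at h4
    rw [show (2 : ℕ) ^ 2 = 4 by norm_num]
    exact h4
  -- two distinct involutions
  obtain ⟨⟨v₁, hv₁V⟩, hv₁⟩ := (Subgroup.ne_bot_iff_exists_ne_one (H := V)).mp (by
    intro h
    rw [h, Subgroup.card_bot] at hV
    omega)
  have hv₁1 : v₁ ≠ 1 := fun h => hv₁ (Subtype.ext h)
  have hlt : Subgroup.zpowers v₁ < V := by
    refine lt_of_le_of_ne (Subgroup.zpowers_le.mpr hv₁V) ?_
    intro h
    have h2 : Nat.card ↥(Subgroup.zpowers v₁) ≤ 2 := by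
      rw [Nat.card_zpowers]
      exact Nat.le_of_dvd (by norm_num) (orderOf_dvd_of_pow_eq_one (by rw [pow_two]; exact hsq v₁ hv₁V))
    rw [h, hV] at h2
    omega
  obtain ⟨v₂, hv₂V, hv₂⟩ := SetLike.exists_of_lt hlt
  have hv₂1 : v₂ ≠ 1 := fun h => hv₂ (h ▸ Subgroup.one_mem _)
  have hv₁₂ : v₂ ≠ v₁ := fun h => hv₂ (h ▸ Subgroup.mem_zpowers v₁)
  -- their conjugates in the Borel subgroup
  obtain ⟨t₁, u₁, w₁, c₁, h₁⟩ := hg v₁ (hxV v₁ hv₁V)
  obtain ⟨t₂, u₂, w₂, c₂, h₂⟩ := hg v₂ (hxV v₂ hv₂V)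
  have hconj1 : ∀ v : ↥(twistedG2 K (3 ^ m)), v ≠ 1 → g⁻¹ * v * g ≠ 1 := by
    intro v hv h
    apply hv
    have : v = g * (g⁻¹ * v * g) * g⁻¹ := by group
    rw [this, h]
    group
  have hconj2 : ∀ v : ↥(twistedG2 K (3 ^ m)), v * v = 1 → (g⁻¹ * v * g) * (g⁻¹ * v * g) = 1 := by
    intro v hv
    have : (g⁻¹ * v * g) * (g⁻¹ * v * g) = g⁻¹ * (v * v) * g := by group
    rw [this, hv]
    group
  have hc₁ : (c₁ : K) = -1 := by
    apply borel_involution hK t₁ u₁ w₁ c₁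
    · rw [← h₁]
      exact hconj1 v₁ hv₁1
    · rw [← h₁]
      exact hconj2 v₁ (hsq v₁ hv₁V)
  have hc₂ : (c₂ : K) = -1 := by
    apply borel_involution hK t₂ u₂ w₂ c₂
    · rw [← h₂]
      exact hconj1 v₂ hv₂1
    · rw [← h₂]
      exact hconj2 v₂ (hsq v₂ hv₂V)
  have hcc : c₁ * c₂ = 1 := by
    apply Units.ext
    rw [Units.val_mul, hc₁, hc₂, Units.val_one]
    ring
  -- the product lies in `U¹` and is an involution or trivial
  have hprod : g⁻¹ * (v₁ * v₂) * g = gU K m t₁ u₁ w₁ * gT hK c₁ * (gU K m t₂ u₂ w₂ * gT hK c₂) := by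
    rw [← h₁, ← h₂]
    group
  have hprodU : ∃ a b e : K, g⁻¹ * (v₁ * v₂) * g = gU K m a b e := by
    have h5 : gU K m t₁ u₁ w₁ * gT hK c₁ * (gU K m t₂ u₂ w₂ * gT hK c₂) =
        gU K m t₁ u₁ w₁ * (gT hK c₁ * gU K m t₂ u₂ w₂) * gT hK c₂ := by group
    rw [hprod, h5, gT_mul_gU]
    have h6 : gU K m t₁ u₁ w₁ * (gU K m (↑c₁ * t₂) (↑c₁ ^ (3 * 3 ^ m + 1) * u₂) (↑c₁ ^ (3 * 3 ^ m + 2) * w₂) *
        gT hK c₁) * gT hK c₂ = gU K m t₁ u₁ w₁ * gU K m (↑c₁ * t₂) (↑c₁ ^ (3 * 3 ^ m + 1) * u₂)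
        (↑c₁ ^ (3 * 3 ^ m + 2) * w₂) * (gT hK c₁ * gT hK c₂) := by group
    rw [h6, ← map_mul, hcc, map_one, mul_one, gU_mul hK]
    exact ⟨_, _, _, rfl⟩
  obtain ⟨a, b, e, habe⟩ := hprodU
  have hv12V : v₁ * v₂ ∈ V := V.mul_mem hv₁V hv₂V
  have h7 : gU K m a b e * gU K m a b e = 1 := by
    rw [← habe]
    exact hconj2 _ (hsq _ hv12V)
  have h8 : gU K m a b e = 1 := by
    have h9 := gU_pow_nine hK a b e
    have h2' : gU K m a b e ^ 2 = 1 := by rw [pow_two]; exact h7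
    have : gU K m a b e ^ (Nat.gcd 9 2) = 1 := by
      rw [← orderOf_dvd_iff_pow_eq_one]
      exact Nat.dvd_gcd (orderOf_dvd_of_pow_eq_one h9) (orderOf_dvd_of_pow_eq_one h2')
    simpa using this
  rw [h8] at habe
  have h10 : v₁ * v₂ = 1 := by
    by_contra hne
    exact hconj1 _ hne habe
  apply hv₁₂
  have h11 : v₂ = v₁⁻¹ := (mul_eq_one_iff_eq_inv'.mp h10)
  have h12 : v₁⁻¹ = v₁ := by
    have := hsq v₁ hv₁V
    exact inv_eq_of_mul_eq_one_left this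
  rw [h11, h12]

end Cfsg.Agent.Helper6.ReeG
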