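import Cfsg.Agent.Helper6.ReeG1
import Cfsg.Agent.Helper6.ReeG2
import Cfsg.Agent.Helper48.ReeA4a
import Cfsg.Agent.Helper48.ReeA4b

/-!
# Solvable subgroups of `²G₂(q)` lie in local normalisers (helper6, for S2361)
-/

set_option autoImplicit false
set_option linter.style.haveILetI false

namespace Cfsg.Agent.Helper6.ReeG

open Cfsg Cfsg.Lie Cfsg.Agent.Helper18 Cfsg.Agent.Helper18.Ree
open Cfsg.Agent.Helper41.ReeU Cfsg.Agent.Helper9.ReeTI Cfsg.Agent.Helper6.Ree Cfsg.Agent.Helper6.ReeC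
open Cfsg.Agent.Helper6.ReeE Cfsg.Agent.Helper6.ReeD Cfsg.Agent.Helper6.ReeF

/-- involutions commute when their product is an involution -/
theorem comm_of_sq {G : Type*} [Group G] (x y : G) (hx : x * x = 1) (hy : y * y = 1)
    (hxy : (x * y) * (x * y) = 1) : x * y = y * x := by
  have h1 : x⁻¹ = x := inv_eq_of_mul_eq_one_left hx
  have h2 : y⁻¹ = y := inv_eq_of_mul_eq_one_left hy
  have h3 : (x * y)⁻¹ = x * y := inv_eq_of_mul_eq_one_left hxy
  rw [← h3, mul_inv_rev, h1, h2]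

/-- a subgroup of order at most two is centralised by its normaliser -/
theorem normalizer_le_centralizer_of_card_le_two {G : Type*} [Group G] (V : Subgroup G) [Finite ↥V]
    (hV : Nat.card ↥V ≤ 2) :
    Subgroup.normalizer (V : Set G) ≤ Subgroup.centralizer (V : Set G) := by
  classical
  haveI : Fintype ↥V := Fintype.ofFinite _
  have key : ∀ v w : ↥V, v ≠ 1 → w ≠ 1 → v = w := by
    intro v w hv hw
    by_contra hvw
    have h3 : ({1, v, w} : Finset ↥V).card = 3 := by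
      rw [Finset.card_insert_of_notMem, Finset.card_insert_of_notMem, Finset.card_singleton]
      · simpa using hvw
      · simp only [Finset.mem_insert, Finset.mem_singleton, not_or]
        exact ⟨fun h => hv h.symm, fun h => hw h.symm⟩
    have h4 := Finset.card_le_univ ({1, v, w} : Finset ↥V)
    rw [h3, ← Nat.card_eq_fintype_card] at h4
    omega
  intro s hs
  rw [Subgroup.mem_centralizer_iff]
  intro v hv
  by_cases hv1 : v = 1
  · rw [hv1, one_mul, mul_one]
  · have hw : s * v * s⁻¹ ∈ V := (Subgroup.mem_normalizer_iff.mp hs v).mp hv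
    have hw1 : s * v * s⁻¹ ≠ 1 := by
      intro h
      apply hv1
      have : v = s⁻¹ * (s * v * s⁻¹) * s := by group
      rw [this, h]
      group
    have := key ⟨v, hv⟩ ⟨s * v * s⁻¹, hw⟩ (fun h => hv1 (congrArg Subtype.val h))
      (fun h => hw1 (congrArg Subtype.val h))
    have h5 : v = s * v * s⁻¹ := congrArg Subtype.val this
    calc v * s = s * v * s⁻¹ * s := by rw [← h5]
      _ = s * v := by group

variable {K : Type*} [Field K] [Fintype K] [CharP K 3] {m : ℕ}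

/-- **S2361** -/
theorem solvable_le_normalizer (hm : 1 ≤ m) (hK : Fintype.card K = 3 ^ (2 * m + 1))
    (S : Subgroup ↥(twistedG2 K (3 ^ m))) (hS : Group.IsSolvable ↥S) :
    ∃ A : Subgroup ↥(twistedG2 K (3 ^ m)),
      S ≤ Subgroup.normalizer (A : Set ↥(twistedG2 K (3 ^ m))) ∧
      ((∃ P : Sylow 2 ↥(twistedG2 K (3 ^ m)), A = P) ∨
       (∃ P : Sylow 3 ↥(twistedG2 K (3 ^ m)), A = P) ∨
       (IsCyclic ↥A ∧ (Nat.card ↥A = (3 ^ (2 * m + 1) - 1) / 2 ∨ Nat.card ↥A = (3 ^ (2 * m + 1) + 1) / 4 ∨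
          Nat.card ↥A = 3 ^ (2 * m + 1) - 3 ^ (m + 1) + 1 ∨
          Nat.card ↥A = 3 ^ (2 * m + 1) + 3 ^ (m + 1) + 1))) := by
  haveI : Fact (Nat.Prime 2) := ⟨Nat.prime_two⟩
  rcases fit_cases ↥S with ⟨p, hp, hp2, hne⟩ | hC
  · -- an odd prime
    haveI : (Cfsg.pCore p ↥S).Normal :=
      @Subgroup.normal_of_characteristic _ _ _ (Cfsg.Agent.Lib.pCore_characteristic p)
    have hSQ := le_normalizer_map_subtype S (Cfsg.pCore p ↥S)
    have hQ : IsPGroup p ↥((Cfsg.pCore p ↥S).map S.subtype) :=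
      (Cfsg.Agent.Lib.isPGroup_pCore p).map S.subtype
    have hQ1 : (Cfsg.pCore p ↥S).map S.subtype ≠ ⊥ := by
      intro h
      exact hne ((Subgroup.map_eq_bot_iff_of_injective _ S.subtype_injective).mp h)
    by_cases hp3 : p = 3
    · subst hp3
      obtain ⟨P, hP⟩ := normalizer_le_sylow_three hK _ hQ hQ1
      exact ⟨P, hSQ.trans hP, Or.inr (Or.inl ⟨P, rfl⟩)⟩
    · obtain ⟨A, hAc, hAn, hA⟩ := normalizer_le_torus hm hK _ hp hp2 hp3 hQ hQ1
      exact ⟨A, hSQ.trans hA, Or.inr (Or.inr ⟨hAc, hAn⟩)⟩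
  · -- `O₂(S)` is self-centralising
    haveI : (Cfsg.pCore 2 ↥S).Normal :=
      @Subgroup.normal_of_characteristic _ _ _ (Cfsg.Agent.Lib.pCore_characteristic 2)
    set V : Subgroup ↥(twistedG2 K (3 ^ m)) := (Cfsg.pCore 2 ↥S).map S.subtype with hVdef
    have hSV : S ≤ Subgroup.normalizer (V : Set ↥(twistedG2 K (3 ^ m))) :=
      le_normalizer_map_subtype S (Cfsg.pCore 2 ↥S)
    have hCV : S ⊓ Subgroup.centralizer (V : Set ↥(twistedG2 K (3 ^ m))) ≤ V :=
      inf_centralizer_map_le S _ hC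
    have hV2 : IsPGroup 2 ↥V := (Cfsg.Agent.Lib.isPGroup_pCore 2).map S.subtype
    have hVS : V ≤ S := Subgroup.map_subtype_le _
    obtain ⟨P₂, hP₂⟩ := hV2.exists_le_sylow
    obtain ⟨hP₂8, hP₂sq⟩ := sylow_two_ree hK P₂
    have hab : ∀ P : Sylow 2 ↥(twistedG2 K (3 ^ m)), ∀ x ∈ P, ∀ y ∈ P, x * y = y * x := by
      intro P x hx y hy
      have h := (sylow_two_ree hK P).2
      exact comm_of_sq x y (h x hx) (h y hy) (h _ (P.mul_mem hx hy))
    have hP₂N : (P₂ : Subgroup ↥(twistedG2 K (3 ^ m))) ≤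
        Subgroup.normalizer ((P₂ : Subgroup ↥(twistedG2 K (3 ^ m))) : Set ↥(twistedG2 K (3 ^ m))) :=
      Subgroup.le_normalizer
    have hVdvd : Nat.card ↥V ∣ 2 ^ 3 := by
      have := Subgroup.card_dvd_of_le hP₂
      rw [hP₂8] at this
      exact this
    obtain ⟨k, hk3, hk⟩ := (Nat.dvd_prime_pow Nat.prime_two).mp hVdvd
    have hsmall : Nat.card ↥V ≤ 2 → S ≤ Subgroup.normalizer
        ((P₂ : Subgroup ↥(twistedG2 K (3 ^ m))) : Set ↥(twistedG2 K (3 ^ m))) := by
      intro h2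
      have h1 := normalizer_le_centralizer_of_card_le_two V h2
      have h3 : S ≤ V := fun s hs => hCV ⟨hs, h1 (hSV hs)⟩
      exact (h3.trans hP₂).trans hP₂N
    interval_cases k
    · exact ⟨P₂, hsmall (by rw [hk]; norm_num), Or.inl ⟨P₂, rfl⟩⟩
    · exact ⟨P₂, hsmall (by rw [hk]; norm_num), Or.inl ⟨P₂, rfl⟩⟩
    · -- `|V| = 4`
      have hV4 : Nat.card ↥V = 4 := by rw [hk]; norm_num
      rcases Cfsg.Agent.Helper48.ReeA4.card_eq_four_or_twelve hab S V hVS hSV hV4 hCV with h4 | h12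
      · have hSeqV : V = S := Subgroup.eq_of_le_of_card_ge hVS (by rw [h4, hV4])
        refine ⟨P₂, ?_, Or.inl ⟨P₂, rfl⟩⟩
        rw [← hSeqV]
        exact hP₂.trans hP₂N
      · haveI : Fact (Nat.Prime 3) := ⟨Nat.prime_three⟩
        obtain ⟨σ', hσ'⟩ := exists_prime_orderOf_dvd_card' (G := ↥S) 3 (by rw [h12]; norm_num)
        have hσo : orderOf (σ' : ↥(twistedG2 K (3 ^ m))) = 3 := by rw [Subgroup.orderOf_coe, hσ']
        have hσ3 : (σ' : ↥(twistedG2 K (3 ^ m))) ^ 3 = 1 := by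
          have h4 := pow_orderOf_eq_one (σ' : ↥(twistedG2 K (3 ^ m)))
          rw [hσo] at h4
          exact h4
        obtain ⟨P, hVP, hσP⟩ := Cfsg.Agent.Helper48.ReeA4.exists_sylow_two_of_normalizes hab V hV2
          (σ' : ↥(twistedG2 K (3 ^ m))) hσ3 (hSV σ'.2)
          (not_three_dvd_card_centralizer_four hK V hV4)
        refine ⟨P, ?_, Or.inl ⟨P, rfl⟩⟩
        -- `S ⊓ N(P)` has order divisible by `4` and by `3`
        set T := S ⊓ Subgroup.normalizer ((P : Subgroup ↥(twistedG2 K (3 ^ m))) :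
          Set ↥(twistedG2 K (3 ^ m))) with hT
        have hVT : V ≤ T := le_inf hVS (hVP.trans Subgroup.le_normalizer)
        have hσT : (σ' : ↥(twistedG2 K (3 ^ m))) ∈ T := ⟨σ'.2, hσP⟩
        have h4T : 4 ∣ Nat.card ↥T := by
          rw [← hV4]
          exact Subgroup.card_dvd_of_le hVT
        have h3T : 3 ∣ Nat.card ↥T := by
          have : orderOf (⟨(σ' : ↥(twistedG2 K (3 ^ m))), hσT⟩ : ↥T) ∣ Nat.card ↥T := orderOf_dvd_natCard _
          rw [← Subgroup.orderOf_coe] at this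
          rw [hσo] at this
          exact this
        have h12T : 12 ∣ Nat.card ↥T :=
          Nat.Coprime.mul_dvd_of_dvd_of_dvd (by norm_num : Nat.Coprime 4 3) h4T h3T
        have hTS : T = S := by
          apply Subgroup.eq_of_le_of_card_ge inf_le_left
          rw [h12]
          exact Nat.le_of_dvd Nat.card_pos h12T
        rw [← hTS]
        exact inf_le_right
    · -- `|V| = 8`
      have hVP : V = (P₂ : Subgroup ↥(twistedG2 K (3 ^ m))) := by
        apply Subgroup.eq_of_le_of_card_ge hP₂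
        rw [hP₂8, hk]
        norm_num
      refine ⟨P₂, ?_, Or.inl ⟨P₂, rfl⟩⟩
      rw [← hVP]
      exact hSV

end Cfsg.Agent.Helper6.ReeG
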