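import Cfsg.Agent.Helper6.ReeC4
import Cfsg.Agent.S1073
import Cfsg.Agent.Helper72.ReeA
import Cfsg.Agent.Helper72.ReeC
import Cfsg.Agent.Helper73.ReeTriv
import Cfsg.Agent.Helper76.ReeHB
import Cfsg.Agent.Helper79.ReeTraceD

/-!
# Minimal degree of a non-trivial complex representation of `²G₂(q)` (helper6, for S2343)
-/

set_option autoImplicit false
set_option linter.style.haveILetI false

namespace Cfsg.Agent.Helper6.ReeH

open Cfsg Cfsg.Lie Cfsg.Agent.Helper18 Cfsg.Agent.Helper18.Ree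
open Cfsg.Agent.Helper6.Ree Cfsg.Agent.Helper6.ReeC
open Cfsg.Agent.Helper72.ReeA Cfsg.Agent.Helper72.ReeC Cfsg.Agent.Helper73.ReeH Cfsg.Agent.Helper76.ReeH
open Cfsg.Agent.Helper79.ReeTrace
open scoped BigOperators Classical

variable {K : Type*} [Field K] [Fintype K] [CharP K 3] {m : ℕ}

theorem gU1_mul (hK : Fintype.card K = 3 ^ (2 * m + 1)) (u v u' v' : K) :
    gU K m 0 u v * gU K m 0 u' v' = gU K m 0 (u + u') (v + v') := by
  rw [gU_mul hK]
  congr 1 <;> simp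

theorem gU_conj_gU1 (hK : Fintype.card K = 3 ^ (2 * m + 1)) (t u v : K) :
    gU K m t 0 0 * gU K m 0 u v * (gU K m t 0 0)⁻¹ = gU K m 0 u (v + t * u) := by
  rw [mul_inv_eq_iff_eq_mul, gU_mul hK, gU_mul hK]
  congr 1 <;> simp

variable {V : Type*} [AddCommGroup V] [Module ℂ V]

/-- the action of `U¹ ≅ K × K` -/
noncomputable def sU (ρ : Representation ℂ ↥(twistedG2 K (3 ^ m)) V) (x : K × K) : Module.End ℂ V :=
  ρ (gU K m 0 x.1 x.2)

/-- the isotypic projection of `U¹` for the character `(u, v) ↦ ψ (a u + b v)` -/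
noncomputable def EE (ρ : Representation ℂ ↥(twistedG2 K (3 ^ m)) V) (ψ : AddChar K ℂ) (p : K × K) :
    Module.End ℂ V :=
  fproj (chi2 ψ) (sU ρ) p

theorem sU_add (hK : Fintype.card K = 3 ^ (2 * m + 1)) (ρ : Representation ℂ ↥(twistedG2 K (3 ^ m)) V)
    (x y : K × K) : sU ρ (x + y) = sU ρ x * sU ρ y := by
  unfold sU
  rw [← map_mul, gU1_mul hK]
  rfl

omit [Fintype K] in
theorem sU_zero (ρ : Representation ℂ ↥(twistedG2 K (3 ^ m)) V) : sU ρ 0 = 1 := by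
  unfold sU
  simp [gU_zero]

theorem EE_mul (hK : Fintype.card K = 3 ^ (2 * m + 1)) (ρ : Representation ℂ ↥(twistedG2 K (3 ^ m)) V)
    (ψ : AddChar K ℂ) (hψ : ψ.IsPrimitive) (p p' : K × K) :
    EE ρ ψ p * EE ρ ψ p' = if p = p' then EE ρ ψ p else 0 :=
  fproj_mul (chi2 ψ) (sU ρ) (sU_add hK ρ) (chi2_O1 ψ hψ) p p'

theorem sum_EE (ρ : Representation ℂ ↥(twistedG2 K (3 ^ m)) V)
    (ψ : AddChar K ℂ) (hψ : ψ.IsPrimitive) : ∑ p : K × K, EE ρ ψ p = 1 :=
  sum_fproj (chi2 ψ) (sU ρ) (sU_zero ρ) (chi2_O2 ψ hψ)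

theorem rho_mul_EE (hK : Fintype.card K = 3 ^ (2 * m + 1)) (ρ : Representation ℂ ↥(twistedG2 K (3 ^ m)) V)
    (ψ : AddChar K ℂ) (u v : K) (p : K × K) :
    ρ (gU K m 0 u v) * EE ρ ψ p = ψ (p.1 * u + p.2 * v) • EE ρ ψ p := by
  have := mul_fproj (chi2 ψ) (sU ρ) (sU_add hK ρ) (u, v) p
  rw [chi2_apply] at this
  exact this

theorem torus_conj_EE (hK : Fintype.card K = 3 ^ (2 * m + 1)) (ρ : Representation ℂ ↥(twistedG2 K (3 ^ m)) V)
    (ψ : AddChar K ℂ) (c : Kˣ) (p : K × K) :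
    ρ (gT hK c) * EE ρ ψ p * ρ (gT hK c)⁻¹ =
      EE ρ ψ (p.1 * ((c⁻¹ : Kˣ) : K) ^ (3 * 3 ^ m + 1), p.2 * ((c⁻¹ : Kˣ) : K) ^ (3 * 3 ^ m + 2)) := by
  let σ : K × K ≃ K × K :=
    { toFun := fun x => ((c : K) ^ (3 * 3 ^ m + 1) * x.1, (c : K) ^ (3 * 3 ^ m + 2) * x.2)
      invFun := fun x => (((c⁻¹ : Kˣ) : K) ^ (3 * 3 ^ m + 1) * x.1, ((c⁻¹ : Kˣ) : K) ^ (3 * 3 ^ m + 2) * x.2)
      left_inv := by
        intro x
        ext
        · simp only
          rw [← mul_assoc, ← mul_pow, Units.inv_mul, one_pow, one_mul]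
        · simp only
          rw [← mul_assoc, ← mul_pow, Units.inv_mul, one_pow, one_mul]
      right_inv := by
        intro x
        ext
        · simp only
          rw [← mul_assoc, ← mul_pow, Units.mul_inv, one_pow, one_mul]
        · simp only
          rw [← mul_assoc, ← mul_pow, Units.mul_inv, one_pow, one_mul] }
  refine conj_fproj (chi2 ψ) (sU ρ) _ _ σ ?_ p _ ?_
  · intro x
    unfold sU
    rw [← map_mul, ← map_mul, gT_conj_gU hK, mul_zero]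
    rfl
  · intro x
    rw [chi2_apply, chi2_apply]
    congr 1
    simp only [σ, Equiv.coe_fn_mk, Prod.fst_neg, Prod.snd_neg]
    have h1 : ((c⁻¹ : Kˣ) : K) ^ (3 * 3 ^ m + 1) * (c : K) ^ (3 * 3 ^ m + 1) = 1 := by
      rw [← mul_pow, Units.inv_mul, one_pow]
    have h2 : ((c⁻¹ : Kˣ) : K) ^ (3 * 3 ^ m + 2) * (c : K) ^ (3 * 3 ^ m + 2) = 1 := by
      rw [← mul_pow, Units.inv_mul, one_pow]
    linear_combination (p.1 * x.1) * h1 + (p.2 * x.2) * h2

theorem unip_conj_EE (hK : Fintype.card K = 3 ^ (2 * m + 1)) (ρ : Representation ℂ ↥(twistedG2 K (3 ^ m)) V)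
    (ψ : AddChar K ℂ) (t : K) (p : K × K) :
    ρ (gU K m t 0 0) * EE ρ ψ p * ρ (gU K m t 0 0)⁻¹ = EE ρ ψ (p.1 - p.2 * t, p.2) := by
  let σ : K × K ≃ K × K :=
    { toFun := fun x => (x.1, x.2 + t * x.1)
      invFun := fun x => (x.1, x.2 - t * x.1)
      left_inv := by
        intro x
        ext <;> simp
      right_inv := by
        intro x
        ext <;> simp }
  refine conj_fproj (chi2 ψ) (sU ρ) _ _ σ ?_ p _ ?_
  · intro x
    unfold sU
    rw [← map_mul, ← map_mul, gU_conj_gU1 hK]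
    rfl
  · intro x
    rw [chi2_apply, chi2_apply]
    congr 1
    simp only [σ, Equiv.coe_fn_mk, Prod.fst_neg, Prod.snd_neg]
    ring

end Cfsg.Agent.Helper6.ReeH
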