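import Cfsg.Agent.Helper6.ReeH2

/-!
# Minimal degree of a non-trivial complex representation of `²G₂(q)`: ranks (helper6, for S2343)
-/

set_option autoImplicit false
set_option linter.style.haveILetI false

namespace Cfsg.Agent.Helper6.ReeH

open Cfsg Cfsg.Lie Cfsg.Agent.Helper18 Cfsg.Agent.Helper18.Ree
open Cfsg.Agent.Helper6.Ree Cfsg.Agent.Helper6.ReeC
open Cfsg.Agent.Helper72.ReeA Cfsg.Agent.Helper72.ReeC Cfsg.Agent.Helper73.ReeH Cfsg.Agent.Helper76.ReeH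
open Cfsg.Agent.Helper79.ReeTrace
open scoped BigOperators Classical

variable {K : Type*} [Field K] [Fintype K] [CharP K 3] {m : ℕ}
variable {V : Type*} [AddCommGroup V] [Module ℂ V] [FiniteDimensional ℂ V]

/-- multiplicity of the character `(a, b)` of `U¹` -/
noncomputable def nn (ρ : Representation ℂ ↥(twistedG2 K (3 ^ m)) V) (ψ : AddChar K ℂ) (p : K × K) : ℕ :=
  Module.finrank ℂ (LinearMap.range (EE ρ ψ p))

omit [FiniteDimensional ℂ V] in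
theorem EE_idem (hK : Fintype.card K = 3 ^ (2 * m + 1)) (ρ : Representation ℂ ↥(twistedG2 K (3 ^ m)) V)
    (ψ : AddChar K ℂ) (hψ : ψ.IsPrimitive) (p : K × K) : EE ρ ψ p * EE ρ ψ p = EE ρ ψ p := by
  have := EE_mul hK ρ ψ hψ p p
  rwa [if_pos rfl] at this

theorem trace_EE (hK : Fintype.card K = 3 ^ (2 * m + 1)) (ρ : Representation ℂ ↥(twistedG2 K (3 ^ m)) V)
    (ψ : AddChar K ℂ) (hψ : ψ.IsPrimitive) (p : K × K) :
    LinearMap.trace ℂ V (EE ρ ψ p) = (nn ρ ψ p : ℂ) :=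
  trace_idem _ (EE_idem hK ρ ψ hψ p)

theorem sum_nn (hK : Fintype.card K = 3 ^ (2 * m + 1)) (ρ : Representation ℂ ↥(twistedG2 K (3 ^ m)) V)
    (ψ : AddChar K ℂ) (hψ : ψ.IsPrimitive) : ∑ p : K × K, nn ρ ψ p = Module.finrank ℂ V := by
  have : ((∑ p : K × K, nn ρ ψ p : ℕ) : ℂ) = (Module.finrank ℂ V : ℂ) := by
    rw [Nat.cast_sum]
    simp_rw [← trace_EE hK ρ ψ hψ]
    rw [← map_sum, sum_EE ρ ψ hψ, LinearMap.trace_one]
  exact_mod_cast this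

theorem nn_torus (hK : Fintype.card K = 3 ^ (2 * m + 1)) (ρ : Representation ℂ ↥(twistedG2 K (3 ^ m)) V)
    (ψ : AddChar K ℂ) (hψ : ψ.IsPrimitive) (c : Kˣ) (p : K × K) :
    nn ρ ψ (p.1 * ((c⁻¹ : Kˣ) : K) ^ (3 * 3 ^ m + 1), p.2 * ((c⁻¹ : Kˣ) : K) ^ (3 * 3 ^ m + 2)) =
      nn ρ ψ p := by
  have := trace_conj_eq (EE ρ ψ p) (ρ (gT hK c)) (ρ (gT hK c)⁻¹)
    (by rw [← map_mul, inv_mul_cancel, map_one])
  rw [torus_conj_EE, trace_EE hK ρ ψ hψ, trace_EE hK ρ ψ hψ] at this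
  exact_mod_cast this

theorem nn_unip (hK : Fintype.card K = 3 ^ (2 * m + 1)) (ρ : Representation ℂ ↥(twistedG2 K (3 ^ m)) V)
    (ψ : AddChar K ℂ) (hψ : ψ.IsPrimitive) (t : K) (p : K × K) :
    nn ρ ψ (p.1 - p.2 * t, p.2) = nn ρ ψ p := by
  have := trace_conj_eq (EE ρ ψ p) (ρ (gU K m t 0 0)) (ρ (gU K m t 0 0)⁻¹)
    (by rw [← map_mul, inv_mul_cancel, map_one])
  rw [unip_conj_EE hK, trace_EE hK ρ ψ hψ, trace_EE hK ρ ψ hψ] at this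
  exact_mod_cast this

theorem nn_eq_aux (hK : Fintype.card K = 3 ^ (2 * m + 1)) (ρ : Representation ℂ ↥(twistedG2 K (3 ^ m)) V)
    (ψ : AddChar K ℂ) (hψ : ψ.IsPrimitive) (p : K × K) (hp : p.2 ≠ 0) :
    nn ρ ψ p = nn ρ ψ (0, 1) := by
  obtain ⟨c0, hc0⟩ := (Finite.injective_iff_surjective.mp (pow_e2_injective (m := m) hK)) p.2
  simp only at hc0
  have hc0ne : c0 ≠ 0 := by
    rintro rfl
    rw [zero_pow (by omega)] at hc0
    exact hp hc0.symm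
  let c : Kˣ := Units.mk0 c0 hc0ne
  have h1 := nn_torus hK ρ ψ hψ c p
  have h2 : p.2 * ((c⁻¹ : Kˣ) : K) ^ (3 * 3 ^ m + 2) = 1 := by
    rw [← hc0, ← mul_pow]
    have : c0 * ((c⁻¹ : Kˣ) : K) = 1 := by
      change (c : K) * ((c⁻¹ : Kˣ) : K) = 1
      rw [Units.mul_inv]
    rw [this, one_pow]
  rw [h2] at h1
  have h3 := nn_unip hK ρ ψ hψ (p.1 * ((c⁻¹ : Kˣ) : K) ^ (3 * 3 ^ m + 1))
    (p.1 * ((c⁻¹ : Kˣ) : K) ^ (3 * 3 ^ m + 1), 1)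
  simp only [one_mul, sub_self] at h3
  rw [← h1, ← h3]

theorem nn_eq (hK : Fintype.card K = 3 ^ (2 * m + 1)) (ρ : Representation ℂ ↥(twistedG2 K (3 ^ m)) V)
    (ψ : AddChar K ℂ) (hψ : ψ.IsPrimitive) (p p' : K × K) (hp : p.2 ≠ 0) (hp' : p'.2 ≠ 0) :
    nn ρ ψ p = nn ρ ψ p' := by
  rw [nn_eq_aux hK ρ ψ hψ p hp, nn_eq_aux hK ρ ψ hψ p' hp']

theorem EE_eq_zero (hK : Fintype.card K = 3 ^ (2 * m + 1)) (ρ : Representation ℂ ↥(twistedG2 K (3 ^ m)) V)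
    (ψ : AddChar K ℂ) (hψ : ψ.IsPrimitive) (p : K × K) (h : nn ρ ψ p = 0) : EE ρ ψ p = 0 := by
  apply eq_zero_of_trace_idem _ (EE_idem hK ρ ψ hψ p)
  rw [trace_EE hK ρ ψ hψ, h, Nat.cast_zero]

/-- the sum of the multiplicities, split according to `b ≠ 0` or `b = 0` -/
theorem sum_nn_split (hK : Fintype.card K = 3 ^ (2 * m + 1)) (ρ : Representation ℂ ↥(twistedG2 K (3 ^ m)) V)
    (ψ : AddChar K ℂ) (hψ : ψ.IsPrimitive) :
    Module.finrank ℂ V = 3 ^ (2 * m + 1) * (3 ^ (2 * m + 1) - 1) * nn ρ ψ (0, 1) +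
      ∑ a : K, nn ρ ψ (a, 0) := by
  rw [← sum_nn hK ρ ψ hψ, Fintype.sum_prod_type]
  have h1 : ∀ a : K, ∑ b : K, nn ρ ψ (a, b) =
      (3 ^ (2 * m + 1) - 1) * nn ρ ψ (0, 1) + nn ρ ψ (a, 0) := by
    intro a
    rw [← Finset.sum_erase_add _ _ (Finset.mem_univ (0 : K))]
    congr 1
    rw [Finset.sum_congr rfl (fun b hb => nn_eq hK ρ ψ hψ (a, b) (0, 1)
      (Finset.ne_of_mem_erase hb) one_ne_zero), Finset.sum_const, smul_eq_mul,
      Finset.card_erase_of_mem (Finset.mem_univ _), Finset.card_univ, hK]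
  simp_rw [h1]
  rw [Finset.sum_add_distrib, Finset.sum_const, Finset.card_univ, hK, smul_eq_mul, mul_assoc]

end Cfsg.Agent.Helper6.ReeH
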