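import Cfsg.Agent.Helper6.ReeH3

/-!
# Minimal degree of a non-trivial complex representation of `²G₂(q)`: the bound (helper6, for S2343)
-/

set_option autoImplicit false
set_option linter.style.haveILetI false

namespace Cfsg.Agent.Helper6.ReeH

open Cfsg Cfsg.Lie Cfsg.Agent.Helper18 Cfsg.Agent.Helper18.Ree
open Cfsg.Agent.Helper6.Ree Cfsg.Agent.Helper6.ReeC
open Cfsg.Agent.Helper72.ReeA Cfsg.Agent.Helper72.ReeC Cfsg.Agent.Helper73.ReeH Cfsg.Agent.Helper76.ReeH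
open Cfsg.Agent.Helper79.ReeTrace
open scoped BigOperators Classical

variable {K : Type*} [Field K] [Fintype K] [CharP K 3] {m : ℕ}
variable {V : Type*} [AddCommGroup V] [Module ℂ V] [FiniteDimensional ℂ V]

/-- if no character of `U¹` non-trivial on the centre occurs, the centre acts trivially -/
theorem rho_center_eq_one (hK : Fintype.card K = 3 ^ (2 * m + 1))
    (ρ : Representation ℂ ↥(twistedG2 K (3 ^ m)) V)
    (ψ : AddChar K ℂ) (hψ : ψ.IsPrimitive) (h0 : nn ρ ψ (0, 1) = 0) (v : K) :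
    ρ (gU K m 0 0 v) = 1 := by
  have hE : ∀ p : K × K, p.2 ≠ 0 → EE ρ ψ p = 0 := by
    intro p hp
    apply EE_eq_zero hK ρ ψ hψ
    rw [nn_eq hK ρ ψ hψ p (0, 1) hp one_ne_zero, h0]
  calc ρ (gU K m 0 0 v) = ρ (gU K m 0 0 v) * ∑ p : K × K, EE ρ ψ p := by
        rw [sum_EE ρ ψ hψ, mul_one]
    _ = ∑ p : K × K, EE ρ ψ p := by
        rw [Finset.mul_sum]
        apply Finset.sum_congr rfl
        intro p _
        by_cases hp : p.2 = 0
        · rw [rho_mul_EE hK, hp, mul_zero, zero_mul, add_zero, AddChar.map_zero_eq_one, one_smul]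
        · rw [hE p hp, mul_zero]
    _ = 1 := sum_EE ρ ψ hψ

omit [Fintype K] in
theorem gU_center_ne_one : gU K m 0 0 (1 : K) ≠ 1 := by
  intro h
  rw [← gU_zero (K := K) (m := m)] at h
  exact one_ne_zero (gU_inj h).2.2

/-- the standard torus involution -/
noncomputable def hh (hK : Fintype.card K = 3 ^ (2 * m + 1)) : ↥(twistedG2 K (3 ^ m)) := gT hK (-1)

omit [CharP K 3] in
theorem hh_mul_self (hK : Fintype.card K = 3 ^ (2 * m + 1)) : hh (m := m) hK * hh hK = 1 := by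
  unfold hh
  rw [← map_mul]
  simp

theorem hh_ne_one (hK : Fintype.card K = 3 ^ (2 * m + 1)) : hh (m := m) hK ≠ 1 := by
  unfold hh
  intro h
  rw [← map_one (gT (m := m) hK)] at h
  have h2 := gT_injective hK h
  have h3 : ((-1 : Kˣ) : K) = ((1 : Kˣ) : K) := by rw [h2]
  rw [Units.val_neg, Units.val_one] at h3
  have h4 : (2 : K) = 0 := by linear_combination -h3
  have h5 : ((2 : ℕ) : K) = 0 := by exact_mod_cast h4
  rw [CharP.cast_eq_zero_iff K 3] at h5
  omega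

omit [FiniteDimensional ℂ V] in
theorem hh_conj_EE (hK : Fintype.card K = 3 ^ (2 * m + 1)) (ρ : Representation ℂ ↥(twistedG2 K (3 ^ m)) V)
    (ψ : AddChar K ℂ) (p : K × K) :
    ρ (hh hK) * EE ρ ψ p = EE ρ ψ (p.1, -p.2) * ρ (hh hK) := by
  have h := torus_conj_EE hK ρ ψ (-1) p
  have e1 : (((-1 : Kˣ)⁻¹ : Kˣ) : K) = -1 := by simp
  rw [e1, neg_one_pow_e1, neg_one_pow_e2, mul_one, mul_neg, mul_one] at h
  unfold hh
  rw [← h, mul_assoc, ← map_mul, inv_mul_cancel, map_one, mul_one]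

/-- if the characters `(a, 0)` do not occur, all involutions have trace `0` -/
theorem trace_involution (hm : 1 ≤ m) (hK : Fintype.card K = 3 ^ (2 * m + 1))
    (ρ : Representation ℂ ↥(twistedG2 K (3 ^ m)) V)
    (ψ : AddChar K ℂ) (hψ : ψ.IsPrimitive) (h0 : ∀ a : K, nn ρ ψ (a, 0) = 0)
    (t : ↥(twistedG2 K (3 ^ m))) (ht1 : t ≠ 1) (ht2 : t * t = 1) :
    LinearMap.trace ℂ V (ρ t) = 0 := by
  have hh0 : LinearMap.trace ℂ V (ρ (hh hK)) = 0 := by
    apply trace_eq_zero_of_perm (EE ρ ψ) (EE_mul hK ρ ψ hψ) (sum_EE ρ ψ hψ) (ρ (hh hK))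
      (fun p => (p.1, -p.2)) (hh_conj_EE hK ρ ψ)
    intro p hp
    have h2 : -p.2 = p.2 := congrArg Prod.snd hp
    have h3 : p.2 = 0 := by
      have h4 : (2 : K) * p.2 = 0 := by linear_combination -h2
      have h5 : (2 : K) ≠ 0 := by
        intro h
        have h5 : ((2 : ℕ) : K) = 0 := by exact_mod_cast h
        rw [CharP.cast_eq_zero_iff K 3] at h5
        omega
      exact (mul_eq_zero.mp h4).resolve_left h5
    have : p = (p.1, 0) := by rw [← h3]
    rw [this]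
    exact EE_eq_zero hK ρ ψ hψ _ (h0 p.1)
  obtain ⟨g, hg⟩ := involution_conj hm hK t ht1 ht2
  obtain ⟨g0, hg0⟩ := involution_conj hm hK (hh hK) (hh_ne_one hK) (hh_mul_self hK)
  have ht : t = (g⁻¹ * g0) * hh hK * (g⁻¹ * g0)⁻¹ := by
    have : hh hK = g0⁻¹ * jj K m * g0 := by rw [← hg0]; group
    rw [this, ← hg]
    group
  rw [ht, map_mul ρ, map_mul ρ, trace_conj_eq _ _ _ (by rw [← map_mul, inv_mul_cancel, map_one]), hh0]

theorem eight_dvd_finrank (hm : 1 ≤ m) (hK : Fintype.card K = 3 ^ (2 * m + 1))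
    (ρ : Representation ℂ ↥(twistedG2 K (3 ^ m)) V)
    (ψ : AddChar K ℂ) (hψ : ψ.IsPrimitive) (h0 : ∀ a : K, nn ρ ψ (a, 0) = 0) :
    8 ∣ Module.finrank ℂ V := by
  haveI : Fact (Nat.Prime 2) := ⟨Nat.prime_two⟩
  let S : Sylow 2 ↥(twistedG2 K (3 ^ m)) := default
  obtain ⟨h8, hexp⟩ := sylow_two_ree hK S
  haveI : Fintype ↥(S : Subgroup ↥(twistedG2 K (3 ^ m))) := Fintype.ofFinite _
  obtain ⟨n, hn⟩ := sum_trace_subgroup ρ (S : Subgroup ↥(twistedG2 K (3 ^ m)))
  have hcard : Fintype.card ↥(S : Subgroup ↥(twistedG2 K (3 ^ m))) = 8 := by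
    rw [← Nat.card_eq_fintype_card]
    exact h8
  rw [hcard] at hn
  have hsum : ∑ s : ↥(S : Subgroup ↥(twistedG2 K (3 ^ m))), LinearMap.trace ℂ V (ρ s) =
      (Module.finrank ℂ V : ℂ) := by
    rw [← Finset.sum_erase_add _ _ (Finset.mem_univ (1 : ↥(S : Subgroup ↥(twistedG2 K (3 ^ m)))))]
    rw [Finset.sum_eq_zero, zero_add]
    · rw [Subgroup.coe_one, map_one, LinearMap.trace_one]
    · intro s hs
      apply trace_involution hm hK ρ ψ hψ h0
      · intro h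
        exact Finset.ne_of_mem_erase hs (Subtype.ext h)
      · exact hexp s.1 s.2
  rw [hsum] at hn
  have : Module.finrank ℂ V = 8 * n := by exact_mod_cast hn
  exact ⟨n, this⟩

/-- **Landazuri–Seitz bound for `²G₂(q)`**: a complex representation on which the group acts
non-trivially has dimension at least `q² - q + 1`. -/
theorem finrank_ge (hm : 1 ≤ m) (hK : Fintype.card K = 3 ^ (2 * m + 1))
    (ρ : Representation ℂ ↥(twistedG2 K (3 ^ m)) V) (hρ : ∃ g, ρ g ≠ 1) :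
    (3 ^ (2 * m + 1)) ^ 2 - 3 ^ (2 * m + 1) + 1 ≤ Module.finrank ℂ V := by
  obtain ⟨ψ, hψ⟩ := exists_primitive (K := K)
  haveI := (Cfsg.Agent.S1073.result hm hK).1
  have hsplit := sum_nn_split hK ρ ψ hψ
  set q := 3 ^ (2 * m + 1) with hq
  have hq8 : q % 8 = 3 := q_mod_eight m
  have hqpos : 3 ≤ q := by
    rw [hq]
    calc 3 = 3 ^ 1 := by norm_num
      _ ≤ 3 ^ (2 * m + 1) := Nat.pow_le_pow_right (by norm_num) (by omega)
  have he : nn ρ ψ (0, 1) ≠ 0 := by
    intro h0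
    obtain ⟨g, hg⟩ := hρ
    exact hg (rho_eq_one_of_simple ρ _ gU_center_ne_one (rho_center_eq_one hK ρ ψ hψ h0 1) g)
  by_contra hlt
  rw [not_le] at hlt
  have hqq : q ^ 2 - q = q * (q - 1) := by
    rw [pow_two, Nat.mul_sub, mul_one]
  rw [hqq] at hlt
  have hk : Module.finrank ℂ V ≤ q * (q - 1) := by omega
  have hpos : 0 < q * (q - 1) := Nat.mul_pos (by omega) (by omega)
  have he1 : nn ρ ψ (0, 1) = 1 := by
    by_contra hne
    have : 2 ≤ nn ρ ψ (0, 1) := by omega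
    have : q * (q - 1) * 2 ≤ q * (q - 1) * nn ρ ψ (0, 1) := Nat.mul_le_mul_left _ this
    omega
  rw [he1, mul_one] at hsplit
  have hr : ∑ a : K, nn ρ ψ (a, 0) = 0 := by omega
  have h0 : ∀ a : K, nn ρ ψ (a, 0) = 0 := by
    intro a
    exact (Finset.sum_eq_zero_iff.mp hr) a (Finset.mem_univ a)
  have h8 := eight_dvd_finrank hm hK ρ ψ hψ h0
  rw [hsplit, hr, add_zero] at h8
  -- q (q-1) ≡ 6 mod 8
  have : q * (q - 1) % 8 = 6 := by
    obtain ⟨j, hj⟩ : ∃ j, q = 8 * j + 3 := ⟨q / 8, by omega⟩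
    rw [hj]
    have : 8 * j + 3 - 1 = 8 * j + 2 := by omega
    rw [this]
    have : (8 * j + 3) * (8 * j + 2) = 8 * (8 * j * j + 5 * j) + 6 := by ring
    rw [this]
    omega
  omega

end Cfsg.Agent.Helper6.ReeH
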