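import Cfsg.Agent.Helper5.SpPerfect
import Cfsg.Agent.Helper6.SUrep2

/-!
# The smallest degree of `Sp_{2n}(q)`, `q` odd: definitions

For a subspace `W` of `F^{2m}` (with the standard alternating form) `spW W` is the subgroup of
`Sp_{2m}(F)` generated by the transvections with direction in `W`
(`Cfsg.Agent.Helper13.relTransvectionSubgroup`).  We define the transvections and the Heisenberg
elements as elements of `spW W`, and the fixed-point submodule of a root group in a complex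
representation of `spW W`.
-/

set_option autoImplicit false

namespace Cfsg.Agent.Helper6.SPrep

open Matrix Cfsg.Agent.Helper13 Cfsg.Agent.Helper5

variable {F : Type*} [Field F] {m : ℕ}

local notation "Vec" => (Fin m ⊕ Fin m → F)
local notation "Mat" => Matrix (Fin m ⊕ Fin m) (Fin m ⊕ Fin m) F
local notation "Sp" => Matrix.symplecticGroup (Fin m) F
local notation "⟪" x ", " y "⟫" => Cfsg.sympForm m F x y

/-- the subgroup of `Sp_{2m}(F)` generated by the transvections with direction in `W` -/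
abbrev spW (W : Submodule F (Fin m ⊕ Fin m → F)) : Subgroup (Matrix.symplecticGroup (Fin m) F) :=
  relTransvectionSubgroup W

theorem spW_mono {W W' : Submodule F (Fin m ⊕ Fin m → F)} (h : W ≤ W') : spW W ≤ spW W' := by
  apply Subgroup.closure_mono
  rintro A ⟨w, hw, c, hA⟩
  exact ⟨w, h hw, c, hA⟩

/-- the matrix of an element of `spW W` -/
def spMat {W : Submodule F (Fin m ⊕ Fin m → F)} (g : spW W) : Mat :=
  ((g : Sp) : Mat)

theorem spMat_mul {W : Submodule F (Fin m ⊕ Fin m → F)} (g h : spW W) :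
    spMat (g * h) = spMat g * spMat h := rfl

theorem spMat_one {W : Submodule F (Fin m ⊕ Fin m → F)} : spMat (1 : spW W) = 1 := rfl

theorem spW_ext {W : Submodule F (Fin m ⊕ Fin m → F)} {g h : spW W}
    (H : ∀ x : Vec, spMat g *ᵥ x = spMat h *ᵥ x) : g = h :=
  Subtype.ext (Subtype.ext (matrix_eq_of_mulVec H))

theorem spMat_inv_mulVec {W : Submodule F (Fin m ⊕ Fin m → F)} (g : spW W) (x : Vec) :
    spMat g⁻¹ *ᵥ (spMat g *ᵥ x) = x :=
  symp_inv_mulVec_eq (g : Sp) rfl

theorem spMat_mulVec_inv {W : Submodule F (Fin m ⊕ Fin m → F)} (g : spW W) (x : Vec) :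
    spMat g *ᵥ (spMat g⁻¹ *ᵥ x) = x :=
  symp_mulVec_inv_mulVec (g : Sp) x

theorem sympForm_spMat {W : Submodule F (Fin m ⊕ Fin m → F)} (g : spW W) (x y : Vec) :
    ⟪spMat g *ᵥ x, spMat g *ᵥ y⟫ = ⟪x, y⟫ :=
  (mem_symplecticGroup_iff_preserves _).1 (g : Sp).2 x y

theorem spMat_mulVec_mem {W : Submodule F (Fin m ⊕ Fin m → F)} (g : spW W) {v : Vec}
    (hv : v ∈ W) : spMat g *ᵥ v ∈ W :=
  relTransvectionSubgroup_preserves W g.2 v hv

/-- the elements of `spW W` fix the vectors orthogonal to `W` -/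
theorem spMat_mulVec_of_perp {W : Submodule F (Fin m ⊕ Fin m → F)} (g : spW W) (z : Vec)
    (hz : ∀ w ∈ W, ⟪z, w⟫ = 0) : spMat g *ᵥ z = z :=
  relTransvectionSubgroup_fix W g.2 z hz

/-- a transvection with direction in `W`, as an element of `spW W` -/
def tvW (W : Submodule F (Fin m ⊕ Fin m → F)) (v : Vec) (hv : v ∈ W) (c : F) : spW W :=
  ⟨sympTransvectionElt v c, sympTransvectionElt_mem_rel W hv c⟩

theorem spMat_tvW_mulVec (W : Submodule F (Fin m ⊕ Fin m → F)) (v : Vec) (hv : v ∈ W) (c : F)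
    (x : Vec) : spMat (tvW W v hv c) *ᵥ x = x + (c * ⟪x, v⟫) • v :=
  sympTransvection_mulVec v c x

theorem tvW_add (W : Submodule F (Fin m ⊕ Fin m → F)) (v : Vec) (hv : v ∈ W) (c d : F) :
    tvW W v hv (c + d) = tvW W v hv c * tvW W v hv d :=
  Subtype.ext (sympTransvectionElt_mul v c d).symm

theorem tvW_zero (W : Submodule F (Fin m ⊕ Fin m → F)) (v : Vec) (hv : v ∈ W) :
    tvW W v hv 0 = 1 :=
  Subtype.ext (sympTransvectionElt_zero v)

theorem tvW_neg (W : Submodule F (Fin m ⊕ Fin m → F)) (v : Vec) (hv : v ∈ W) (c : F) :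
    tvW W v hv (-c) = (tvW W v hv c)⁻¹ :=
  Subtype.ext (sympTransvectionElt_inv v c).symm

theorem tvW_vec_zero (W : Submodule F (Fin m ⊕ Fin m → F)) (c : F) :
    tvW W 0 W.zero_mem c = 1 := by
  apply spW_ext
  intro x
  rw [spMat_tvW_mulVec, smul_zero, add_zero, spMat_one, Matrix.one_mulVec]

theorem tvW_congr (W : Submodule F (Fin m ⊕ Fin m → F)) {v v' : Vec} (h : v = v') (hv : v ∈ W)
    (c : F) : tvW W v hv c = tvW W v' (h ▸ hv) c := by
  subst h
  rfl

/-- conjugation of a transvection -/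
theorem conj_tvW {W : Submodule F (Fin m ⊕ Fin m → F)} (g : spW W) (v : Vec) (hv : v ∈ W)
    (c : F) :
    g * tvW W v hv c * g⁻¹ = tvW W (spMat g *ᵥ v) (spMat_mulVec_mem g hv) c :=
  Subtype.ext (sympTransvectionElt_conj (g : Sp) v c)

theorem tvW_smul (W : Submodule F (Fin m ⊕ Fin m → F)) (v : Vec) (hv : v ∈ W) (a c : F) :
    tvW W (a • v) (W.smul_mem a hv) c = tvW W v hv (c * a ^ 2) :=
  Subtype.ext (sympTransvectionElt_smul v a c)

/-- the Heisenberg element `x ↦ x + ⟪x, u⟫ y + ⟪x, y⟫ u + c ⟪x, u⟫ u` (for `⟪y, u⟫ = 0`), as a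
product of three transvections with direction in `W` -/
def eiW (W : Submodule F (Fin m ⊕ Fin m → F)) (u y : Vec) (hu : u ∈ W) (hy : y ∈ W) (c : F) :
    spW W :=
  tvW W u hu (c - 1) * tvW W y hy (-1) * tvW W (u + y) (W.add_mem hu hy) 1

/-- the orthogonal complement in `W` of the pair `u, u'` -/
def hypCompl (W : Submodule F (Fin m ⊕ Fin m → F)) (u u' : Vec) :
    Submodule F (Fin m ⊕ Fin m → F) where
  carrier := {v | v ∈ W ∧ ⟪v, u⟫ = 0 ∧ ⟪v, u'⟫ = 0}
  add_mem' := by
    rintro a b ⟨ha, ha1, ha2⟩ ⟨hb, hb1, hb2⟩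
    refine ⟨W.add_mem ha hb, ?_, ?_⟩
    · rw [sympForm_add_left, ha1, hb1, add_zero]
    · rw [sympForm_add_left, ha2, hb2, add_zero]
  zero_mem' := ⟨W.zero_mem, sympForm_zero_left _, sympForm_zero_left _⟩
  smul_mem' := by
    rintro c a ⟨ha, ha1, ha2⟩
    refine ⟨W.smul_mem c ha, ?_, ?_⟩
    · rw [sympForm_smul_left, ha1, mul_zero]
    · rw [sympForm_smul_left, ha2, mul_zero]

theorem mem_hypCompl (W : Submodule F (Fin m ⊕ Fin m → F)) (u u' v : Vec) :
    v ∈ hypCompl W u u' ↔ v ∈ W ∧ ⟪v, u⟫ = 0 ∧ ⟪v, u'⟫ = 0 := Iff.rfl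

theorem hypCompl_le (W : Submodule F (Fin m ⊕ Fin m → F)) (u u' : Vec) : hypCompl W u u' ≤ W :=
  fun _ hv => hv.1

section rep

variable {M : Type*} [AddCommGroup M] [Module ℂ M]

/-- the fixed points of the root group of `u ∈ W` -/
def fixZ (W : Submodule F (Fin m ⊕ Fin m → F)) (ρ : Representation ℂ ↥(spW W) M) (u : Vec)
    (hu : u ∈ W) : Submodule ℂ M where
  carrier := {x | ∀ c : F, ρ (tvW W u hu c) x = x}
  add_mem' := by
    intro a b ha hb c
    rw [map_add, ha c, hb c]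
  zero_mem' := by
    intro c
    rw [map_zero]
  smul_mem' := by
    intro z a ha c
    rw [map_smul, ha c]

theorem mem_fixZ (W : Submodule F (Fin m ⊕ Fin m → F)) (ρ : Representation ℂ ↥(spW W) M)
    (u : Vec) (hu : u ∈ W) (x : M) :
    x ∈ fixZ W ρ u hu ↔ ∀ c : F, ρ (tvW W u hu c) x = x := Iff.rfl

/-- some transvection with direction in `W` acts non-trivially -/
def TvNontriv (W : Submodule F (Fin m ⊕ Fin m → F)) (ρ : Representation ℂ ↥(spW W) M) : Prop :=
  ∃ (v : Vec) (hv : v ∈ W) (c : F), ρ (tvW W v hv c) ≠ 1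

/-- the family of operators of the root group of `u` -/
def rootOp (W : Submodule F (Fin m ⊕ Fin m → F)) (ρ : Representation ℂ ↥(spW W) M) (u : Vec)
    (hu : u ∈ W) : F → Module.End ℂ M :=
  fun c => ρ (tvW W u hu c)

theorem rootOp_add (W : Submodule F (Fin m ⊕ Fin m → F)) (ρ : Representation ℂ ↥(spW W) M)
    (u : Vec) (hu : u ∈ W) (c d : F) :
    rootOp W ρ u hu (c + d) = rootOp W ρ u hu c * rootOp W ρ u hu d := by
  simp only [rootOp]
  rw [tvW_add, map_mul]

theorem rootOp_zero (W : Submodule F (Fin m ⊕ Fin m → F)) (ρ : Representation ℂ ↥(spW W) M)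
    (u : Vec) (hu : u ∈ W) : rootOp W ρ u hu 0 = 1 := by
  simp only [rootOp]
  rw [tvW_zero, map_one]

end rep

/-- the bound: `sbound q k = (q^k - 1)/2` for odd `q` -/
def sbound (q : ℕ) : ℕ → ℕ
  | 0 => 0
  | (k + 1) => (q - 1) / 2 * q ^ k + sbound q k

end Cfsg.Agent.Helper6.SPrep
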