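import Cfsg.Agent.Helper6.SPrep1

/-!
# The smallest degree of `Sp_{2n}(q)`, `q` odd: first relations
-/

set_option autoImplicit false

namespace Cfsg.Agent.Helper6.SPrep

open Matrix Cfsg.Agent.Helper13 Cfsg.Agent.Helper5

variable {F : Type*} [Field F] {m : ℕ}

local notation "Vec" => (Fin m ⊕ Fin m → F)
local notation "Mat" => Matrix (Fin m ⊕ Fin m) (Fin m ⊕ Fin m) F
local notation "Sp" => Matrix.symplecticGroup (Fin m) F
local notation "⟪" x ", " y "⟫" => Cfsg.sympForm m F x y

/-- `spW W` is transitive on the non-zero vectors of a non-degenerate `W` -/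
theorem exists_spW_map {W : Submodule F (Fin m ⊕ Fin m → F)} (hW : RelNondeg W) {u p : Vec}
    (hu : u ∈ W) (hp : p ∈ W) (hu0 : u ≠ 0) (hp0 : p ≠ 0) :
    ∃ g : spW W, spMat g *ᵥ u = p := by
  obtain ⟨A, hA, hAu⟩ := exists_transvection_map_of_ne_zero_rel hW hu hp hu0 hp0
  exact ⟨⟨A, hA⟩, hAu⟩

/-- a hyperbolic partner in `W` -/
theorem exists_partner {W : Submodule F (Fin m ⊕ Fin m → F)} (hW : RelNondeg W) {u : Vec}
    (hu : u ∈ W) (hu0 : u ≠ 0) : ∃ u' ∈ W, ⟪u, u'⟫ = 1 := by
  obtain ⟨x, hx, hxu⟩ := hW u hu hu0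
  have h1 : ⟪u, x⟫ ≠ 0 := by
    rw [sympForm_swap]
    exact neg_ne_zero.mpr hxu
  refine ⟨(⟪u, x⟫)⁻¹ • x, W.smul_mem _ hx, ?_⟩
  rw [sympForm_smul_right, inv_mul_cancel₀ h1]

/-- the torus: multiplication by a non-zero square on the root group of `u` is induced by
conjugation in `spW W` -/
theorem exists_conj_tvW {W : Submodule F (Fin m ⊕ Fin m → F)} (hW : RelNondeg W) (u : Vec)
    (hu : u ∈ W) (hu0 : u ≠ 0) (κ : F) (hκ : κ ≠ 0) :
    ∃ g : spW W, ∀ c : F, g * tvW W u hu c * g⁻¹ = tvW W u hu (c * κ ^ 2) := by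
  obtain ⟨g, hg⟩ := exists_spW_map hW hu (W.smul_mem κ hu) hu0 (smul_ne_zero hκ hu0)
  refine ⟨g, fun c => ?_⟩
  rw [conj_tvW, ← tvW_smul W u hu κ c]
  exact tvW_congr W hg _ c

/-- the elements of `spW (hypCompl W u u')` fix `u` -/
theorem spW_hypCompl_fix (W : Submodule F (Fin m ⊕ Fin m → F)) (u u' : Vec)
    (g : spW (hypCompl W u u')) : spMat g *ᵥ u = u := by
  apply spMat_mulVec_of_perp
  intro w hw
  rw [sympForm_swap, hw.2.1, neg_zero]

/-- the elements of `spW (hypCompl W u u')` commute with the root group of `u` -/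
theorem inclusion_mul_tvW (W : Submodule F (Fin m ⊕ Fin m → F)) (u u' : Vec) (hu : u ∈ W)
    (g : spW (hypCompl W u u')) (c : F) :
    Subgroup.inclusion (spW_mono (hypCompl_le W u u')) g * tvW W u hu c =
      tvW W u hu c * Subgroup.inclusion (spW_mono (hypCompl_le W u u')) g := by
  set g' : spW W := Subgroup.inclusion (spW_mono (hypCompl_le W u u')) g with hg'
  have h1 := conj_tvW g' u hu c
  have hfix : spMat g' *ᵥ u = u := spW_hypCompl_fix W u u' g
  have h2 : tvW W (spMat g' *ᵥ u) (spMat_mulVec_mem g' hu) c = tvW W u hu c :=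
    tvW_congr W hfix _ c
  rw [h2] at h1
  calc g' * tvW W u hu c = g' * tvW W u hu c * g'⁻¹ * g' := by group
    _ = tvW W u hu c * g' := by rw [h1]

theorem inclusion_tvW (W : Submodule F (Fin m ⊕ Fin m → F)) (u u' v : Vec)
    (hv : v ∈ hypCompl W u u') (c : F) :
    Subgroup.inclusion (spW_mono (hypCompl_le W u u')) (tvW (hypCompl W u u') v hv c) =
      tvW W v (hypCompl_le W u u' hv) c := rfl

section fixRep

variable {M : Type*} [AddCommGroup M] [Module ℂ M]

/-- the representation of `spW (hypCompl W u u')` on the fixed points of the root group of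
`u` -/
def fixRep (W : Submodule F (Fin m ⊕ Fin m → F)) (ρ : Representation ℂ ↥(spW W) M) (u u' : Vec)
    (hu : u ∈ W) : Representation ℂ ↥(spW (hypCompl W u u')) ↥(fixZ W ρ u hu) where
  toFun g := (ρ (Subgroup.inclusion (spW_mono (hypCompl_le W u u')) g)).restrict (by
    intro x hx c
    have h := inclusion_mul_tvW W u u' hu g c
    have h2 : ρ (tvW W u hu c)
        (ρ (Subgroup.inclusion (spW_mono (hypCompl_le W u u')) g) x) =
        ρ (Subgroup.inclusion (spW_mono (hypCompl_le W u u')) g)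
          (ρ (tvW W u hu c) x) := by
      rw [← Module.End.mul_apply, ← Module.End.mul_apply, ← map_mul, ← map_mul, h]
    rw [h2, hx c])
  map_one' := by
    ext x
    simp
  map_mul' := by
    intro a b
    ext x
    simp only [map_mul, Module.End.mul_apply, LinearMap.coe_restrict_apply]
    rfl

theorem fixRep_apply (W : Submodule F (Fin m ⊕ Fin m → F)) (ρ : Representation ℂ ↥(spW W) M)
    (u u' : Vec) (hu : u ∈ W) (g : spW (hypCompl W u u')) (x : fixZ W ρ u hu) :
    ((fixRep W ρ u u' hu g x : fixZ W ρ u hu) : M) =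
      ρ (Subgroup.inclusion (spW_mono (hypCompl_le W u u')) g) (x : M) := rfl

end fixRep

/-- `2 * sbound q k + 1 = q ^ k` for odd `q` -/
theorem sbound_closed (q : ℕ) (hq : Odd q) : ∀ k : ℕ, 2 * sbound q k + 1 = q ^ k
  | 0 => by simp [sbound]
  | (k + 1) => by
    have ih := sbound_closed q hq k
    obtain ⟨r, rfl⟩ := hq
    have h1 : (2 * r + 1 - 1) / 2 = r := by omega
    rw [sbound, h1, pow_succ]
    have : 2 * (r * (2 * r + 1) ^ k + sbound (2 * r + 1) k) + 1 =
        2 * r * (2 * r + 1) ^ k + (2 * sbound (2 * r + 1) k + 1) := by ring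
    rw [this, ih]
    ring

end Cfsg.Agent.Helper6.SPrep
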