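import Cfsg.Agent.Helper6.SPrepA
import Cfsg.Agent.Helper73.ReeTriv

/-!
# The smallest degree of `Sp_{2n}(q)`, `q` odd: the induction
-/

set_option autoImplicit false

namespace Cfsg.Agent.Helper6.SPrep

open Matrix Cfsg.Agent.Helper13 Cfsg.Agent.Helper5 Cfsg.Agent.Helper6.SUrep Module

variable {F : Type*} [Field F] [Fintype F] {m : ℕ}

local notation "Vec" => (Fin m ⊕ Fin m → F)
local notation "⟪" x ", " y "⟫" => Cfsg.sympForm m F x y

theorem two_ne_zero_of_odd_card (hodd : Odd (Fintype.card F)) : (2 : F) ≠ 0 := by
  intro h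
  have h2 : ringChar F = 2 := by
    have := (CharP.ringChar_of_prime_eq_zero (R := F) Nat.prime_two (by exact_mod_cast h))
    exact this
  have h3 := FiniteField.even_card_of_char_two h2
  rw [Nat.odd_iff] at hodd
  omega

/-- the main bound, by induction on half the dimension of the non-degenerate subspace `W` -/
theorem main_bound (hodd : Odd (Fintype.card F)) :
    ∀ (k : ℕ), 1 ≤ k → ∀ (W : Submodule F (Fin m ⊕ Fin m → F)), RelNondeg W →
      finrank F W = 2 * k →
      ∀ (M : Type) [AddCommGroup M] [Module ℂ M] [FiniteDimensional ℂ M]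
        (ρ : Representation ℂ ↥(spW W) M), TvNontriv W ρ →
        sbound (Fintype.card F) k ≤ finrank ℂ M := by
  intro k
  induction k with
  | zero => intro h; omega
  | succ j ih =>
  intro _ W hW hWk M _ _ _ ρ hρ
  have h2 := two_ne_zero_of_odd_card hodd
  obtain ⟨v, hvW, c, hc⟩ := hρ
  have : Finite (spW W) := inferInstance
  obtain ⟨σ, hσirr, hσc⟩ :=
    Cfsg.Agent.Helper73.SUrep.exists_irreducible_subrep_ne_one ρ (tvW W v hvW c) hc
  have hle : finrank ℂ σ.toSubmodule ≤ finrank ℂ M := Submodule.finrank_le _
  refine le_trans ?_ hle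
  have hv0 : v ≠ 0 := by
    rintro rfl
    apply hc
    rw [tvW_vec_zero, map_one]
  have hA1 := finrank_fixZ_add_le hodd hW (j + 1) hWk σ.toRepresentation v hvW hv0 c hσc
  have e1 : j + 1 - 1 = j := by omega
  rw [e1] at hA1
  have hsb : sbound (Fintype.card F) (j + 1) =
      (Fintype.card F - 1) / 2 * Fintype.card F ^ j + sbound (Fintype.card F) j := rfl
  rw [hsb]
  -- the case `k = 1`
  rcases Nat.eq_zero_or_pos j with hj | hj
  · subst hj
    have : sbound (Fintype.card F) 0 = 0 := rfl
    omega
  have hk4 : 4 ≤ finrank F W := by omega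
  obtain ⟨u', hu'W, hvu'⟩ := exists_partner hW hvW hv0
  by_cases hbot : fixZ W σ.toRepresentation v hvW = ⊥
  · -- no fixed points: all the characters occur
    have hnt : Nontrivial σ.toSubmodule := by
      by_contra hcon
      rw [not_nontrivial_iff_subsingleton] at hcon
      apply hσc
      apply LinearMap.ext
      intro x
      exact Subsingleton.elim _ _
    have hall : ∀ (w : Vec) (hw : w ∈ W), w ≠ 0 → fixZ W σ.toRepresentation w hw = ⊥ := by
      intro w hw hw0
      have h1 := finrank_fixZ_eq hW σ.toRepresentation v w hvW hw hv0 hw0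
      rw [hbot, finrank_bot] at h1
      exact Submodule.finrank_eq_zero.mp h1.symm
    have h3 := le_finrank_of_forall hodd hW (j + 1) hWk σ.toRepresentation v hvW hv0
      (fun ψ hψ => range_fpr_ne_bot_of_fixZ_eq_bot hodd hW hk4 σ.toRepresentation hall v hvW
        hv0 ψ hψ)
    rw [e1] at h3
    have h4 := sbound_closed (Fintype.card F) hodd j
    have h5 : (Fintype.card F - 1) / 2 * Fintype.card F ^ j + sbound (Fintype.card F) j ≤
        (Fintype.card F - 1) * Fintype.card F ^ j := by
      obtain ⟨r, hr⟩ := hodd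
      rw [hr] at h4 ⊢
      have e2 : (2 * r + 1 - 1) / 2 = r := by omega
      have e3 : 2 * r + 1 - 1 = 2 * r := by omega
      rw [e2, e3]
      have hr1 : 1 ≤ r := by
        rcases Nat.eq_zero_or_pos r with h0 | h0
        · exfalso
          subst h0
          have := Fintype.one_lt_card (α := F)
          omega
        · exact h0
      have : 2 * sbound (2 * r + 1) j + 1 = (2 * r + 1) ^ j := h4
      nlinarith [Nat.one_le_pow j (2 * r + 1) (by omega)]
    omega
  · -- the inductive step
    obtain ⟨w, hw, c', x, hx, hne⟩ :=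
      exists_tv_fixZ_ne hW hk4 σ.toRepresentation hσirr v u' hvW hu'W hvu' c hσc hbot
    have hfr := finrank_hypCompl W v u' hvW hu'W hvu'
    have hW' : RelNondeg (hypCompl W v u') := relNondeg_hypCompl hW v u' hvW hu'W hvu'
    have hk2 : finrank F (hypCompl W v u') = 2 * j := by omega
    have hρ' : TvNontriv (hypCompl W v u') (fixRep W σ.toRepresentation v u' hvW) := by
      refine ⟨w, hw, c', ?_⟩
      intro h1
      apply hne
      have h2 := congrArg (fun f => ((f ⟨x, hx⟩ : fixZ W σ.toRepresentation v hvW) :
        σ.toSubmodule)) h1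
      have h3 : σ.toRepresentation (Subgroup.inclusion (spW_mono (hypCompl_le W v u'))
          (tvW (hypCompl W v u') w hw c')) x = x := by
        simpa [fixRep_apply] using h2
      exact h3
    have hih := ih hj (hypCompl W v u') hW' hk2
      (fixZ W σ.toRepresentation v hvW) (fixRep W σ.toRepresentation v u' hvW) hρ'
    omega

end Cfsg.Agent.Helper6.SPrep
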