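import Cfsg.Agent.Helper6.SPrep4

/-!
# The smallest degree of `Sp_{2n}(q)`, `q` odd: the lower bound
-/

set_option autoImplicit false

namespace Cfsg.Agent.Helper6.SPrep

open Matrix Cfsg.Agent.Helper13 Cfsg.Agent.Helper5 Cfsg.Agent.Helper6.SUrep Module

variable {F : Type*} [Field F] [Fintype F] {m : ℕ}

local notation "Vec" => (Fin m ⊕ Fin m → F)
local notation "⟪" x ", " y "⟫" => Cfsg.sympForm m F x y

omit [Fintype F] in
theorem relNondeg_top : RelNondeg (⊤ : Submodule F (Fin m ⊕ Fin m → F)) := by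
  intro u _ hu0
  obtain ⟨x, hx⟩ := sympForm_nondeg_left hu0
  exact ⟨x, Submodule.mem_top, hx⟩

omit [Fintype F] in
theorem spW_top : spW (⊤ : Submodule F (Fin m ⊕ Fin m → F)) = ⊤ := by
  rw [eq_top_iff, ← sympTransvectionSubgroup_eq_top]
  apply Subgroup.closure_mono
  rintro A ⟨w, c, hA⟩
  exact ⟨w, Submodule.mem_top, c, hA⟩

/-- every irreducible complex representation of degree at least two of `Sp_{2m}(q)`, `q` odd,
`m ≥ 1`, has degree at least `sbound q m = (q^m - 1)/2` -/
theorem sp_bound (hodd : Odd (Fintype.card F)) (hm : 1 ≤ m) (k : ℕ)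
    (ρ : Representation ℂ (Matrix.symplecticGroup (Fin m) F) (Fin k → ℂ))
    (hirr : ρ.IsIrreducible) (hk : 2 ≤ k) : sbound (Fintype.card F) m ≤ k := by
  classical
  set ρ' : Representation ℂ ↥(spW (⊤ : Submodule F (Fin m ⊕ Fin m → F))) (Fin k → ℂ) :=
    ρ.comp (spW (⊤ : Submodule F (Fin m ⊕ Fin m → F))).subtype with hρ'
  have hfr : finrank F (⊤ : Submodule F (Fin m ⊕ Fin m → F)) = 2 * m := by
    rw [finrank_top, Module.finrank_fintype_fun_eq_card, Fintype.card_sum, Fintype.card_fin]
    ring
  have hnt : TvNontriv (⊤ : Submodule F (Fin m ⊕ Fin m → F)) ρ' := by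
    by_contra hcon
    have hall : ∀ (v : Vec) (c : F), ρ' (tvW ⊤ v Submodule.mem_top c) = 1 := by
      intro v c
      by_contra h
      exact hcon ⟨v, Submodule.mem_top, c, h⟩
    have hker : ∀ A : Matrix.symplecticGroup (Fin m) F, ρ A = 1 := by
      intro A
      have hA : A ∈ sympTransvectionSubgroup m F := by
        rw [sympTransvectionSubgroup_eq_top]
        exact Subgroup.mem_top A
      have : sympTransvectionSubgroup m F ≤
          (ρ : Matrix.symplecticGroup (Fin m) F →* Module.End ℂ (Fin k → ℂ)).ker := by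
        rw [sympTransvectionSubgroup, Subgroup.closure_le]
        rintro B ⟨w, c, hB⟩
        have h1 := hall w c
        have h2 : ((tvW (⊤ : Submodule F (Fin m ⊕ Fin m → F)) w Submodule.mem_top c :
            spW (⊤ : Submodule F (Fin m ⊕ Fin m → F))) : Matrix.symplecticGroup (Fin m) F) = B :=
          Subtype.ext hB.symm
        show ρ B = 1
        rw [← h2]
        exact h1
      exact this hA
    exact Cfsg.Agent.Helper73.ReeH.not_irreducible_of_trivial ρ hker hk hirr
  have h := main_bound hodd m hm (⊤ : Submodule F (Fin m ⊕ Fin m → F)) relNondeg_top hfr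
    (Fin k → ℂ) ρ' hnt
  rwa [Module.finrank_fintype_fun_eq_card, Fintype.card_fin] at h

/-- the lower bound in the form of the statement -/
theorem sp_bound' (hodd : Odd (Fintype.card F)) (hm : 1 ≤ m) (k : ℕ)
    (ρ : Representation ℂ (Matrix.symplecticGroup (Fin m) F) (Fin k → ℂ))
    (hirr : ρ.IsIrreducible) (hk : 2 ≤ k) : (Fintype.card F ^ m - 1) / 2 ≤ k := by
  have h1 := sp_bound hodd hm k ρ hirr hk
  have h2 := sbound_closed (Fintype.card F) hodd m
  have h3 : Fintype.card F ^ m - 1 = 2 * sbound (Fintype.card F) m := by omega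
  rw [h3, Nat.mul_div_cancel_left _ (by omega)]
  exact h1

end Cfsg.Agent.Helper6.SPrep
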