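import Cfsg.Agent.Helper6.SPrep2
import Cfsg.Agent.Helper60.SUG1
import Cfsg.Agent.Helper65.SUG3
import Cfsg.Agent.Helper73.SUR
import Cfsg.Agent.Helper4.SPS0
import Cfsg.Agent.Helper76.SPS0bc
import Cfsg.Agent.Helper76.SPF3
import Cfsg.Agent.Helper73.SPS0g
import Cfsg.Agent.Helper73.SPA3c
import Cfsg.Agent.Helper87.SPF1
import Cfsg.Agent.Helper87.SPF2
import Cfsg.Agent.Helper23.SPA1c
import Cfsg.Agent.Helper23.SPA3
import Cfsg.Agent.Helper48.SPA1core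
import Cfsg.Agent.Helper74.SPA3ab
import Cfsg.Agent.Helper74.SPA3d
import Cfsg.Agent.Helper47.SPA3e
import Cfsg.Agent.Helper47.SPA3f

/-!
# The smallest degree of `Sp_{2n}(q)`, `q` odd: the pieces proved by the swarm, assembled
-/

set_option autoImplicit false

namespace Cfsg.Agent.Helper6.SPrep

open Matrix Cfsg.Agent.Helper13 Cfsg.Agent.Helper5 Cfsg.Agent.Helper6.SUrep Module

variable {F : Type*} [Field F] {m : ℕ}

local notation "Vec" => (Fin m ⊕ Fin m → F)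
local notation "⟪" x ", " y "⟫" => Cfsg.sympForm m F x y

/-! ## (S) geometry and the Heisenberg elements -/

/-- (S0a) -/
theorem spMat_eiW_mulVec (W : Submodule F (Fin m ⊕ Fin m → F)) (u y : Vec) (hu : u ∈ W)
    (hy : y ∈ W) (hyu : ⟪y, u⟫ = 0) (c : F) (x : Vec) :
    spMat (eiW W u y hu hy c) *ᵥ x =
      x + ⟪x, u⟫ • y + ⟪x, y⟫ • u + (c * ⟪x, u⟫) • u := by
  exact Cfsg.Agent.Helper4.SPrep.spMat_eiW_mulVec W u y hu hy hyu c x

/-- (S0b) -/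
theorem finrank_hypCompl (W : Submodule F (Fin m ⊕ Fin m → F)) (u u' : Vec) (hu : u ∈ W)
    (hu' : u' ∈ W) (huu' : ⟪u, u'⟫ = 1) : finrank F (hypCompl W u u') + 2 = finrank F W := by
  exact Cfsg.Agent.Helper76.SPrep.finrank_hypCompl W u u' hu hu' huu'

/-- (S0c) -/
theorem relNondeg_hypCompl {W : Submodule F (Fin m ⊕ Fin m → F)} (hW : RelNondeg W) (u u' : Vec)
    (hu : u ∈ W) (hu' : u' ∈ W) (huu' : ⟪u, u'⟫ = 1) : RelNondeg (hypCompl W u u') := by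
  exact Cfsg.Agent.Helper76.SPrep.relNondeg_hypCompl hW u u' hu hu' huu'

/-- (S0g) the commutator in the Heisenberg group -/
theorem exists_eiW_conj (h2 : (2 : F) ≠ 0) {W : Submodule F (Fin m ⊕ Fin m → F)}
    (hW : RelNondeg W) (u u' : Vec) (hu : u ∈ W) (hu' : u' ∈ W) (huu' : ⟪u, u'⟫ = 1) (y₀ : Vec)
    (hy₀ : y₀ ∈ hypCompl W u u') (hy₀0 : y₀ ≠ 0) (c₀ s : F) :
    ∃ (y₁ : Vec) (hy₁ : y₁ ∈ hypCompl W u u') (c₁ : F),
      eiW W u y₁ hu (hypCompl_le W u u' hy₁) c₁ * eiW W u y₀ hu (hypCompl_le W u u' hy₀) c₀ *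
          (eiW W u y₁ hu (hypCompl_le W u u' hy₁) c₁)⁻¹ =
        eiW W u y₀ hu (hypCompl_le W u u' hy₀) c₀ * tvW W u hu s := by
  exact Cfsg.Agent.Helper73.SPrep.exists_eiW_conj h2 hW u u' hu hu' huu' y₀ hy₀ hy₀0 c₀ s

/-- (S0h) -/
theorem eiW_comm_tvW (W : Submodule F (Fin m ⊕ Fin m → F)) (u y : Vec) (hu : u ∈ W)
    (hy : y ∈ W) (hyu : ⟪y, u⟫ = 0) (c s : F) :
    eiW W u y hu hy c * tvW W u hu s = tvW W u hu s * eiW W u y hu hy c := by
  exact Cfsg.Agent.Helper4.SPrep.eiW_comm_tvW W u y hu hy hyu c s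

/-- (S0j) product of Heisenberg elements -/
theorem eiW_mul (W : Submodule F (Fin m ⊕ Fin m → F)) (u y y' : Vec) (hu : u ∈ W)
    (hy : y ∈ W) (hy' : y' ∈ W) (hyu : ⟪y, u⟫ = 0) (hy'u : ⟪y', u⟫ = 0) (c c' : F) :
    eiW W u y hu hy c * eiW W u y' hu hy' c' =
      eiW W u (y + y') hu (W.add_mem hy hy') (c + c' + ⟪y', y⟫) := by
  exact Cfsg.Agent.Helper4.SPrep.eiW_mul W u y y' hu hy hy' hyu hy'u c c'

/-- (S0k) a transvection with direction in the span of two orthogonal vectors -/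
theorem tvW_add_smul (W : Submodule F (Fin m ⊕ Fin m → F)) (u v : Vec) (hu : u ∈ W)
    (hv : v ∈ W) (huv : ⟪u, v⟫ = 0) (r s t : F) :
    tvW W (r • u + s • v) (W.add_mem (W.smul_mem r hu) (W.smul_mem s hv)) t =
      tvW W u hu (t * r ^ 2) * tvW W v hv (t * s ^ 2) *
        eiW W u ((t * r * s) • v) hu (W.smul_mem _ hv) 0 := by
  exact Cfsg.Agent.Helper4.SPrep.tvW_add_smul W u v hu hv huv r s t

/-! ## (F) finite fields -/

section field

variable [Fintype F]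

/-- (F1) the orbit of a non-trivial character under the multiplication by the non-zero squares has
at least `(q - 1) / 2` elements -/
theorem card_sq_orbit (hodd : Odd (Fintype.card F)) (ψ₀ : AddChar F ℂ) (hψ₀ : ψ₀ ≠ 0) :
    ∃ T : Finset (AddChar F ℂ), (Fintype.card F - 1) / 2 ≤ T.card ∧
      ∀ ψ ∈ T, ψ ≠ 0 ∧ ∃ κ : F, κ ≠ 0 ∧ ∀ c, ψ (c * κ ^ 2) = ψ₀ c := by
  exact Cfsg.Agent.Helper87.SPrep.card_sq_orbit hodd ψ₀ hψ₀

/-- (F2) an anisotropic binary quadratic form over a finite field of odd order is universal -/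
theorem exists_binary_form_eq (hodd : Odd (Fintype.card F)) (a b c : F)
    (h : ∀ x y : F, a * x ^ 2 + b * x * y + c * y ^ 2 = 0 → x = 0 ∧ y = 0) (β : F) :
    ∃ x y : F, a * x ^ 2 + b * x * y + c * y ^ 2 = β := by
  exact Cfsg.Agent.Helper87.SPrep.exists_binary_form_eq hodd a b c h β

/-- (F3) every character is a multiplicative shift of a non-trivial one -/
theorem exists_eq_mulShift (ψ₀ : AddChar F ℂ) (hψ₀ : ψ₀ ≠ 0) (ψ : AddChar F ℂ) :
    ∃ β : F, ∀ c, ψ c = ψ₀ (β * c) := by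
  exact Cfsg.Agent.Helper76.SPrep.exists_eq_mulShift ψ₀ hψ₀ ψ

end field

/-! ## (A1) -/

section A1

variable [Fintype F] {M : Type*} [AddCommGroup M] [Module ℂ M]

/-- (A1c) the Heisenberg bound -/
theorem le_finrank_range_fpr [FiniteDimensional ℂ M] (h2 : (2 : F) ≠ 0)
    {W : Submodule F (Fin m ⊕ Fin m → F)} (hW : RelNondeg W) (k : ℕ)
    (hk : finrank F W = 2 * k) (ρ : Representation ℂ ↥(spW W) M) (u : Vec) (hu : u ∈ W)
    (hu0 : u ≠ 0) (ψ : AddChar F ℂ) (hψ : ψ ≠ 0)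
    (hne : LinearMap.range (fpr (rootOp W ρ u hu) ψ) ≠ ⊥) :
    Fintype.card F ^ (k - 1) ≤ finrank ℂ (LinearMap.range (fpr (rootOp W ρ u hu) ψ)) := by
  exact Cfsg.Agent.Helper23.SPrep.le_finrank_range_fpr_of hW k hk ρ u hu hu0 ψ hψ hne
    (fun u' hu' huu' => finrank_hypCompl W u u' hu hu' huu')
    (fun u' hu' huu' y₀ hy₀ hy₀0 c₀ s => exists_eiW_conj h2 hW u u' hu hu' huu' y₀ hy₀ hy₀0 c₀ s)
    (fun y hy hyu c s => eiW_comm_tvW W u y hu hy hyu c s)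
    (fun y y' hy hy' hyu hy'u c c' => eiW_mul W u y y' hu hy hy' hyu hy'u c c')

/-- (A1z) the trivial character gives the fixed points -/
theorem range_fpr_zero (W : Submodule F (Fin m ⊕ Fin m → F)) (ρ : Representation ℂ ↥(spW W) M)
    (u : Vec) (hu : u ∈ W) :
    LinearMap.range (fpr (rootOp W ρ u hu) 0) = fixZ W ρ u hu := by
  exact Cfsg.Agent.Helper48.SPrep.range_fpr_zero W ρ u hu

theorem two_ne_zero_of_odd_card' (hodd : Odd (Fintype.card F)) : (2 : F) ≠ 0 :=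
  Cfsg.Agent.Helper48.SPrep.two_ne_zero_of_odd hodd

/-- (A1) -/
theorem finrank_fixZ_add_le [FiniteDimensional ℂ M] (hodd : Odd (Fintype.card F))
    {W : Submodule F (Fin m ⊕ Fin m → F)} (hW : RelNondeg W) (k : ℕ)
    (hk : finrank F W = 2 * k) (ρ : Representation ℂ ↥(spW W) M) (u : Vec) (hu : u ∈ W)
    (hu0 : u ≠ 0) (c₀ : F) (hc₀ : ρ (tvW W u hu c₀) ≠ 1) :
    finrank ℂ (fixZ W ρ u hu) + (Fintype.card F - 1) / 2 * Fintype.card F ^ (k - 1) ≤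
      finrank ℂ M := by
  exact Cfsg.Agent.Helper48.SPrep.finrank_fixZ_add_le_of hW k ρ u hu hu0 c₀ hc₀
    (fun ψ hψ hne => le_finrank_range_fpr (two_ne_zero_of_odd_card' hodd) hW k hk ρ u hu hu0 ψ hψ hne)
    (fun ψ₀ hψ₀ => card_sq_orbit hodd ψ₀ hψ₀)

/-- (A1d) if all the non-trivial characters of the root group occur -/
theorem le_finrank_of_forall [FiniteDimensional ℂ M] (hodd : Odd (Fintype.card F))
    {W : Submodule F (Fin m ⊕ Fin m → F)} (hW : RelNondeg W) (k : ℕ)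
    (hk : finrank F W = 2 * k) (ρ : Representation ℂ ↥(spW W) M) (u : Vec) (hu : u ∈ W)
    (hu0 : u ≠ 0)
    (H : ∀ ψ : AddChar F ℂ, ψ ≠ 0 → LinearMap.range (fpr (rootOp W ρ u hu) ψ) ≠ ⊥) :
    (Fintype.card F - 1) * Fintype.card F ^ (k - 1) ≤ finrank ℂ M := by
  exact Cfsg.Agent.Helper48.SPrep.le_finrank_of_forall_of k ρ u hu
    (fun ψ hψ hne => le_finrank_range_fpr (two_ne_zero_of_odd_card' hodd) hW k hk ρ u hu hu0 ψ hψ hne) H

end A1

/-! ## (A3) -/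

section A3

variable {M : Type*} [AddCommGroup M] [Module ℂ M]

/-- (A3a) -/
theorem map_fixZ {W : Submodule F (Fin m ⊕ Fin m → F)} (ρ : Representation ℂ ↥(spW W) M)
    (g : spW W) (p : Vec) (hp : p ∈ W) (x : M) (hx : x ∈ fixZ W ρ p hp) :
    ρ g x ∈ fixZ W ρ (spMat g *ᵥ p) (spMat_mulVec_mem g hp) := by
  exact Cfsg.Agent.Helper74.SPrep.map_fixZ ρ g p hp x hx

/-- (A3b) -/
theorem fixZ_smul {W : Submodule F (Fin m ⊕ Fin m → F)} (ρ : Representation ℂ ↥(spW W) M)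
    (p : Vec) (hp : p ∈ W) (a : F) (ha : a ≠ 0) :
    fixZ W ρ (a • p) (W.smul_mem a hp) = fixZ W ρ p hp := by
  exact Cfsg.Agent.Helper74.SPrep.fixZ_smul ρ p hp a ha

/-- (A3d) all the fixed-point spaces have the same dimension -/
theorem finrank_fixZ_eq [FiniteDimensional ℂ M] {W : Submodule F (Fin m ⊕ Fin m → F)}
    (hW : RelNondeg W) (ρ : Representation ℂ ↥(spW W) M) (u p : Vec) (hu : u ∈ W) (hp : p ∈ W)
    (hu0 : u ≠ 0) (hp0 : p ≠ 0) :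
    finrank ℂ (fixZ W ρ u hu) = finrank ℂ (fixZ W ρ p hp) := by
  exact Cfsg.Agent.Helper74.SPrep.finrank_fixZ_eq hW ρ u p hu hp hu0 hp0

/-- (A3c) if the transvections of `⟨u, u'⟩^⊥ ∩ W` fix `fixZ u` pointwise, then all the
`fixZ p` coincide -/
theorem fixZ_eq_of_le [FiniteDimensional ℂ M] {W : Submodule F (Fin m ⊕ Fin m → F)}
    (hW : RelNondeg W) (hk : 4 ≤ finrank F W) (ρ : Representation ℂ ↥(spW W) M)
    (u u' : Vec) (hu : u ∈ W) (hu' : u' ∈ W) (huu' : ⟪u, u'⟫ = 1)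
    (H : ∀ (v : Vec) (hv : v ∈ hypCompl W u u'),
      fixZ W ρ u hu ≤ fixZ W ρ v (hypCompl_le W u u' hv))
    (p : Vec) (hp : p ∈ W) (hp0 : p ≠ 0) :
    fixZ W ρ p hp = fixZ W ρ u hu := by
  exact Cfsg.Agent.Helper73.SPrep.fixZ_eq_of_le hW hk ρ u u' hu hu' huu' H p hp hp0

/-- (A3f) a simultaneous eigenvector of the transvections with direction in a totally isotropic
plane -/
theorem exists_simul_eigen [Fintype F] [FiniteDimensional ℂ M] [Nontrivial M]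
    {W : Submodule F (Fin m ⊕ Fin m → F)} (ρ : Representation ℂ ↥(spW W) M) (u v : Vec)
    (hu : u ∈ W) (hv : v ∈ W) (huv : ⟪u, v⟫ = 0) (ψ₀ : AddChar F ℂ) (hψ₀ : ψ₀ ≠ 0) :
    ∃ (x : M) (a b c : F), x ≠ 0 ∧ ∀ r s t : F,
      ρ (tvW W (r • u + s • v) (W.add_mem (W.smul_mem r hu) (W.smul_mem s hv)) t) x =
        ψ₀ (t * (a * r ^ 2 + b * r * s + c * s ^ 2)) • x := by
  exact Cfsg.Agent.Helper47.SPrep.exists_simul_eigen ρ u v hu hv huv ψ₀ hψ₀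

/-- (A3e) if no root group has a non-zero fixed point, all the non-trivial characters of every
root group occur -/
theorem range_fpr_ne_bot_of_fixZ_eq_bot [Fintype F] [FiniteDimensional ℂ M] [Nontrivial M]
    (hodd : Odd (Fintype.card F)) {W : Submodule F (Fin m ⊕ Fin m → F)} (hW : RelNondeg W)
    (hk : 4 ≤ finrank F W) (ρ : Representation ℂ ↥(spW W) M)
    (H : ∀ (w : Vec) (hw : w ∈ W), w ≠ 0 → fixZ W ρ w hw = ⊥)
    (u : Vec) (hu : u ∈ W) (hu0 : u ≠ 0) (ψ : AddChar F ℂ) (hψ : ψ ≠ 0) :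
    LinearMap.range (fpr (rootOp W ρ u hu) ψ) ≠ ⊥ := by
  exact Cfsg.Agent.Helper47.SPrep.range_fpr_ne_bot_of_fixZ_eq_bot hodd hW hk ρ H u hu hu0 ψ hψ

/-- (A3) -/
theorem exists_tv_fixZ_ne [FiniteDimensional ℂ M] {W : Submodule F (Fin m ⊕ Fin m → F)}
    (hW : RelNondeg W) (hk : 4 ≤ finrank F W) (ρ : Representation ℂ ↥(spW W) M)
    (hirr : ρ.IsIrreducible) (u u' : Vec) (hu : u ∈ W) (hu' : u' ∈ W) (huu' : ⟪u, u'⟫ = 1)
    (c₀ : F) (hc₀ : ρ (tvW W u hu c₀) ≠ 1) (hne : fixZ W ρ u hu ≠ ⊥) :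
    ∃ (v : Vec) (hv : v ∈ hypCompl W u u') (c : F) (x : M),
      x ∈ fixZ W ρ u hu ∧ ρ (tvW W v (hypCompl_le W u u' hv) c) x ≠ x := by
  exact Cfsg.Agent.Helper23.SPrep.exists_tv_fixZ_ne_of ρ hirr u u' hu hu' huu' c₀ hc₀ hne
    (fun H p hp hp0 => fixZ_eq_of_le hW hk ρ u u' hu hu' huu' H p hp hp0)

end A3

end Cfsg.Agent.Helper6.SPrep
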