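import Cfsg.Agent.Helper6.SPweilA

/-!
# The Weil representation of `Sp_{2n}(q)`, `q` odd: an irreducible representation of degree
`(q^n - 1)/2`
-/

set_option autoImplicit false

namespace Cfsg.Agent.Helper6.SPweil

open Matrix Module

variable {F : Type*} [Field F] [Fintype F] {n : ℕ}

/-- given the lower bound for the degrees, the odd part of the Weil representation is
irreducible -/
theorem exists_irreducible_weil (hn : 2 ≤ n) (hodd : Odd (Fintype.card F))
    (LB : ∀ (k : ℕ) (ρ : Representation ℂ (Matrix.symplecticGroup (Fin n) F) (Fin k → ℂ)),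
      ρ.IsIrreducible → 2 ≤ k → (Fintype.card F ^ n - 1) / 2 ≤ k) :
    ∃ ρ : Representation ℂ (Matrix.symplecticGroup (Fin n) F)
      (Fin ((Fintype.card F ^ n - 1) / 2) → ℂ), ρ.IsIrreducible := by
  have h2 : (2 : F) ≠ 0 := by
    intro h
    have h2 : ringChar F = 2 :=
      CharP.ringChar_of_prime_eq_zero (R := F) Nat.prime_two (by exact_mod_cast h)
    have h3 := FiniteField.even_card_of_char_two h2
    rw [Nat.odd_iff] at hodd
    omega
  obtain ⟨ρ, g₀, hg₀⟩ := exists_oddRep (F := F) hn hodd
  have hfin : Finite (Matrix.symplecticGroup (Fin n) F) := inferInstance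
  have hG := Cfsg.Agent.Helper5.commutator_sp_eq_top_of_two_le (F := F) hn h2
  have hfr := finrank_oddPart (F := F) (n := n) hodd
  have hirr : ρ.IsIrreducible := by
    apply irreducible_of_forall_le hG ρ g₀ hg₀
    intro σ hσ hσ2
    obtain ⟨ρ', hρ'⟩ := exists_irreducible_fin (M := σ.toSubmodule) σ.toRepresentation hσ
      (finrank ℂ σ.toSubmodule) rfl
    have := LB _ ρ' hρ' hσ2
    rw [hfr]
    exact this
  exact exists_irreducible_fin ρ hirr _ hfr

end Cfsg.Agent.Helper6.SPweil
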