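import Cfsg.Agent.Helper6.SPweil1
import Cfsg.Agent.Helper5.SpPerfect
import Cfsg.Agent.Helper73.SUR
import Cfsg.Agent.Helper65.SPWW1
import Cfsg.Agent.Helper66.SPWW2
import Cfsg.Agent.Helper70.SPWW3
import Cfsg.Agent.Helper70.SPWW4
import Cfsg.Agent.Helper74.SPWW5
import Cfsg.Agent.Helper22.SPW6a
import Cfsg.Agent.Helper66.SPWW6c
import Cfsg.Agent.Helper22.SPW6bFinal
import Cfsg.Agent.Helper74.SPWW7
import Cfsg.Agent.Helper66.SPWW8
import Cfsg.Agent.Helper65.SPWW9ab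
import Cfsg.Agent.Helper93.SPWW10cCore
import Cfsg.Agent.Helper37.SPWW10a

/-!
# The Weil representation of `Sp_{2n}(q)`, `q` odd: the pieces proved by the swarm, assembled
-/

set_option autoImplicit false

namespace Cfsg.Agent.Helper6.SPweil

open Matrix Module

variable {F : Type*} [Field F] [Fintype F] {n : ℕ}

/-! ## (W1)-(W3) the Heisenberg operators -/

omit [Fintype F] in
/-- (W1a) -/
theorem heis_mul (h2 : (2 : F) ≠ 0) (ψ : AddChar F ℂ) (v w : Fin n ⊕ Fin n → F) :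
    heis ψ v * heis ψ w = ψ (2⁻¹ * Cfsg.sympForm n F v w) • heis ψ (v + w) := by
  exact Cfsg.Agent.Helper65.SPweil.heis_mul h2 ψ v w

omit [Fintype F] in
/-- (W1b) -/
theorem heis_zero (ψ : AddChar F ℂ) : heis ψ (0 : Fin n ⊕ Fin n → F) = 1 := by
  exact Cfsg.Agent.Helper65.SPweil.heis_zero ψ

/-- (W2) -/
theorem trace_heis (ψ : AddChar F ℂ) (hψ : ψ ≠ 0) (v : Fin n ⊕ Fin n → F) (hv : v ≠ 0) :
    LinearMap.trace ℂ ((Fin n → F) → ℂ) (heis ψ v) = 0 := by
  exact Cfsg.Agent.Helper66.SPweil.trace_heis ψ hψ v hv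

/-- (W3a) -/
theorem linearIndependent_heis (h2 : (2 : F) ≠ 0) (ψ : AddChar F ℂ) (hψ : ψ ≠ 0) :
    LinearIndependent ℂ (fun v : Fin n ⊕ Fin n → F => heis ψ v) := by
  exact Cfsg.Agent.Helper70.SPweil.linearIndependent_heis h2 ψ hψ

/-- (W3b) -/
theorem span_heis (h2 : (2 : F) ≠ 0) (ψ : AddChar F ℂ) (hψ : ψ ≠ 0) :
    Submodule.span ℂ (Set.range (fun v : Fin n ⊕ Fin n → F => heis ψ v)) = ⊤ := by
  exact Cfsg.Agent.Helper70.SPweil.span_heis h2 ψ hψ

/-! ## (W4)-(W5) intertwiners -/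

/-- (W4) Skolem–Noether -/
theorem exists_intertwiner (h2 : (2 : F) ≠ 0) (ψ : AddChar F ℂ) (hψ : ψ ≠ 0)
    (g : Matrix.symplecticGroup (Fin n) F) :
    ∃ T : ((Fin n → F) → ℂ) ≃ₗ[ℂ] ((Fin n → F) → ℂ), Intertwines ψ g T := by
  exact Cfsg.Agent.Helper70.SPweil.exists_intertwiner h2 ψ hψ g

/-- (W5) -/
theorem scalar_of_commute (h2 : (2 : F) ≠ 0) (ψ : AddChar F ℂ) (hψ : ψ ≠ 0)
    (A : Module.End ℂ ((Fin n → F) → ℂ)) (hA : ∀ v, A * heis ψ v = heis ψ v * A) :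
    ∃ c : ℂ, A = c • 1 := by
  exact Cfsg.Agent.Helper74.SPweil.scalar_of_commute_of_span ψ (span_heis h2 ψ hψ) A hA

/-- (W5') two intertwiners for the same `g` differ by a scalar -/
theorem intertwiner_unique (h2 : (2 : F) ≠ 0) (ψ : AddChar F ℂ) (hψ : ψ ≠ 0)
    (g : Matrix.symplecticGroup (Fin n) F)
    (T T' : ((Fin n → F) → ℂ) ≃ₗ[ℂ] ((Fin n → F) → ℂ)) (hT : Intertwines ψ g T)
    (hT' : Intertwines ψ g T') : ∃ c : ℂ, c ≠ 0 ∧ ∀ f, T' f = c • T f := by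
  exact Cfsg.Agent.Helper74.SPweil.intertwiner_unique_of_span ψ (span_heis h2 ψ hψ) g T T' hT hT'

/-! ## (W6) parity -/

omit [Fintype F] in
/-- (W6a) -/
theorem par_heis (ψ : AddChar F ℂ) (v : Fin n ⊕ Fin n → F) (f : (Fin n → F) → ℂ) :
    par (heis ψ v f) = heis ψ (-v) (par f) := by
  exact Cfsg.Agent.Helper22.SPweil.par_heis ψ v f

/-- (W6c) -/
theorem finrank_oddPart (hodd : Odd (Fintype.card F)) :
    finrank ℂ (oddPart F n) = (Fintype.card F ^ n - 1) / 2 := by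
  exact Cfsg.Agent.Helper66.SPweil.finrank_oddPart hodd

/-- (W6c') -/
theorem finrank_evenPart (hodd : Odd (Fintype.card F)) :
    finrank ℂ (evenPart F n) = (Fintype.card F ^ n + 1) / 2 := by
  exact Cfsg.Agent.Helper66.SPweil.finrank_evenPart hodd

/-- (W6b) an intertwiner commutes with the parity operator -/
theorem intertwiner_par (hodd : Odd (Fintype.card F)) (ψ : AddChar F ℂ) (hψ : ψ ≠ 0)
    (g : Matrix.symplecticGroup (Fin n) F)
    (T : ((Fin n → F) → ℂ) ≃ₗ[ℂ] ((Fin n → F) → ℂ)) (hT : Intertwines ψ g T)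
    (f : (Fin n → F) → ℂ) : T (par f) = par (T f) := by
  exact Cfsg.Agent.Helper22.SPweil.intertwiner_par hodd ψ hψ g T hT f

/-- (W6d) hence it preserves the odd and the even functions -/
theorem intertwiner_mem_oddPart (hodd : Odd (Fintype.card F)) (ψ : AddChar F ℂ) (hψ : ψ ≠ 0)
    (g : Matrix.symplecticGroup (Fin n) F)
    (T : ((Fin n → F) → ℂ) ≃ₗ[ℂ] ((Fin n → F) → ℂ)) (hT : Intertwines ψ g T)
    (f : (Fin n → F) → ℂ) (hf : f ∈ oddPart F n) : T f ∈ oddPart F n := by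
  exact Cfsg.Agent.Helper22.SPweil.intertwiner_mem_oddPart hodd ψ hψ g T hT f hf

theorem intertwiner_mem_evenPart (hodd : Odd (Fintype.card F)) (ψ : AddChar F ℂ) (hψ : ψ ≠ 0)
    (g : Matrix.symplecticGroup (Fin n) F)
    (T : ((Fin n → F) → ℂ) ≃ₗ[ℂ] ((Fin n → F) → ℂ)) (hT : Intertwines ψ g T)
    (f : (Fin n → F) → ℂ) (hf : f ∈ evenPart F n) : T f ∈ evenPart F n := by
  exact Cfsg.Agent.Helper22.SPweil.intertwiner_mem_evenPart hodd ψ hψ g T hT f hf

/-! ## (W7) a section over a perfect group -/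

/-- (W7) -/
theorem exists_section_of_perfect {E G : Type*} [Group E] [Group G] (π : E →* G)
    (hπ : Function.Surjective π) (hG : commutator G = ⊤)
    (h : ∀ e ∈ commutator E, π e = 1 → e = 1) : ∃ s : G →* E, ∀ g, π (s g) = g := by
  exact Cfsg.Agent.Helper74.SPweil.exists_section_of_perfect π hπ hG h

/-! ## (W8) an intertwiner which is not a scalar on the odd functions -/

/-- (W8) -/
theorem exists_intertwiner_not_scalar (hn : 2 ≤ n) (h2 : (2 : F) ≠ 0) (ψ : AddChar F ℂ) :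
    ∃ (g : Matrix.symplecticGroup (Fin n) F)
      (T : ((Fin n → F) → ℂ) ≃ₗ[ℂ] ((Fin n → F) → ℂ)) (f : (Fin n → F) → ℂ),
      Intertwines ψ g T ∧ f ∈ oddPart F n ∧ ∀ c : ℂ, T f ≠ c • f := by
  exact Cfsg.Agent.Helper66.SPweil.exists_intertwiner_not_scalar hn h2 ψ

/-! ## (W9) the lift -/

/-- (W9a) the determinant on the odd functions -/
theorem exists_oddDet (hodd : Odd (Fintype.card F)) (ψ : AddChar F ℂ) (hψ : ψ ≠ 0) :
    ∃ d : ↥(weilGrp (n := n) ψ) →* ℂˣ, ∀ (e : ↥(weilGrp (n := n) ψ)) (c : ℂˣ),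
      (∀ f, (e : Matrix.symplecticGroup (Fin n) F ×
        (((Fin n → F) → ℂ) ≃ₗ[ℂ] ((Fin n → F) → ℂ))).2 f = (c : ℂ) • f) →
      d e = c ^ ((Fintype.card F ^ n - 1) / 2) := by
  exact Cfsg.Agent.Helper65.SPweil.exists_det_weilGrp ψ (oddPart F n) _ (finrank_oddPart hodd)
    (fun g T hT f hf => intertwiner_mem_oddPart hodd ψ hψ g T hT f hf)

/-- (W9b) the determinant on the even functions -/
theorem exists_evenDet (hodd : Odd (Fintype.card F)) (ψ : AddChar F ℂ) (hψ : ψ ≠ 0) :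
    ∃ d : ↥(weilGrp (n := n) ψ) →* ℂˣ, ∀ (e : ↥(weilGrp (n := n) ψ)) (c : ℂˣ),
      (∀ f, (e : Matrix.symplecticGroup (Fin n) F ×
        (((Fin n → F) → ℂ) ≃ₗ[ℂ] ((Fin n → F) → ℂ))).2 f = (c : ℂ) • f) →
      d e = c ^ ((Fintype.card F ^ n + 1) / 2) := by
  exact Cfsg.Agent.Helper65.SPweil.exists_det_weilGrp ψ (evenPart F n) _ (finrank_evenPart hodd)
    (fun g T hT f hf => intertwiner_mem_evenPart hodd ψ hψ g T hT f hf)

/-- (W9) the projective representation lifts to a linear one -/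
theorem exists_weil_hom (hn : 2 ≤ n) (hodd : Odd (Fintype.card F)) (ψ : AddChar F ℂ)
    (hψ : ψ ≠ 0) :
    ∃ s : Matrix.symplecticGroup (Fin n) F →* (((Fin n → F) → ℂ) ≃ₗ[ℂ] ((Fin n → F) → ℂ)),
      ∀ g, Intertwines ψ g (s g) := by
  have h2 : (2 : F) ≠ 0 := Cfsg.Agent.Helper93.SPweil.two_ne_zero_of_odd_card hodd
  let π : ↥(weilGrp (n := n) ψ) →* Matrix.symplecticGroup (Fin n) F :=
    (MonoidHom.fst _ _).comp (weilGrp (n := n) ψ).subtype
  have hπ : Function.Surjective π := by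
    intro g
    obtain ⟨T, hT⟩ := exists_intertwiner h2 ψ hψ g
    exact ⟨⟨(g, T), hT⟩, rfl⟩
  have hG := Cfsg.Agent.Helper5.commutator_sp_eq_top_of_two_le (F := F) hn h2
  obtain ⟨dodd, hdodd⟩ := exists_oddDet (n := n) hodd ψ hψ
  obtain ⟨deven, hdeven⟩ := exists_evenDet (n := n) hodd ψ hψ
  have hker : ∀ e ∈ commutator ↥(weilGrp (n := n) ψ), π e = 1 → e = 1 := by
    intro e he hπe
    have hπe' : (e : Matrix.symplecticGroup (Fin n) F ×
        (((Fin n → F) → ℂ) ≃ₗ[ℂ] ((Fin n → F) → ℂ))).1 = 1 := hπe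
    have hT : Intertwines ψ 1 (e : Matrix.symplecticGroup (Fin n) F ×
        (((Fin n → F) → ℂ) ≃ₗ[ℂ] ((Fin n → F) → ℂ))).2 := by
      have := (mem_weilGrp ψ _).1 e.2
      rwa [hπe'] at this
    have hrefl : Intertwines ψ (1 : Matrix.symplecticGroup (Fin n) F)
        (LinearEquiv.refl ℂ ((Fin n → F) → ℂ)) :=
      (mem_weilGrp ψ (1 : Matrix.symplecticGroup (Fin n) F ×
        (((Fin n → F) → ℂ) ≃ₗ[ℂ] ((Fin n → F) → ℂ)))).1 (one_mem (weilGrp (n := n) ψ))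
    obtain ⟨c, hc0, hc⟩ := intertwiner_unique h2 ψ hψ 1 (LinearEquiv.refl ℂ _) _ hrefl hT
    have hc' : ∀ f, (e : Matrix.symplecticGroup (Fin n) F ×
        (((Fin n → F) → ℂ) ≃ₗ[ℂ] ((Fin n → F) → ℂ))).2 f = ((Units.mk0 c hc0 : ℂˣ) : ℂ) • f := by
      intro f
      rw [hc f]
      rfl
    have h1 := hdodd e (Units.mk0 c hc0) hc'
    have h1' := hdeven e (Units.mk0 c hc0) hc'
    have hd1 : dodd e = 1 := Abelianization.commutator_subset_ker dodd he
    have hd2 : deven e = 1 := Abelianization.commutator_subset_ker deven he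
    have hq : Odd (Fintype.card F ^ n) := hodd.pow
    have ha : (Fintype.card F ^ n + 1) / 2 = (Fintype.card F ^ n - 1) / 2 + 1 := by
      obtain ⟨r, hr⟩ := hq
      rw [hr]
      omega
    rw [h1] at hd1
    rw [h1', ha, pow_succ, hd1, one_mul] at hd2
    have hc1 : c = 1 := by
      have := congrArg (fun u : ℂˣ => (u : ℂ)) hd2
      simpa using this
    apply Subtype.ext
    apply Prod.ext
    · exact hπe'
    · apply LinearEquiv.ext
      intro f
      rw [hc f, hc1, one_smul]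
      rfl
  obtain ⟨s', hs'⟩ := exists_section_of_perfect π hπ hG hker
  refine ⟨(MonoidHom.snd _ _).comp ((weilGrp (n := n) ψ).subtype.comp s'), fun g => ?_⟩
  have h3 := (mem_weilGrp ψ _).1 (s' g).2
  have hg : ((s' g : ↥(weilGrp (n := n) ψ)) : Matrix.symplecticGroup (Fin n) F ×
      (((Fin n → F) → ℂ) ≃ₗ[ℂ] ((Fin n → F) → ℂ))).1 = g := hs' g
  rw [hg] at h3
  exact h3

/-! ## (W10) the odd part of the Weil representation -/

/-- (W10c) -/
theorem exists_oddRep (hn : 2 ≤ n) (hodd : Odd (Fintype.card F)) :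
    ∃ (ρ : Representation ℂ (Matrix.symplecticGroup (Fin n) F) ↥(oddPart F n))
      (g₀ : Matrix.symplecticGroup (Fin n) F), ρ g₀ ≠ 1 := by
  obtain ⟨ψ, hψ⟩ := Cfsg.Agent.Helper93.SPweil.exists_addChar_ne_zero (F := F)
  have h2 := Cfsg.Agent.Helper93.SPweil.two_ne_zero_of_odd_card hodd
  exact Cfsg.Agent.Helper93.SPweil.exists_oddRep_of ψ (exists_weil_hom hn hodd ψ hψ)
    (fun g T hT f hf => intertwiner_mem_oddPart hodd ψ hψ g T hT f hf)
    (exists_intertwiner_not_scalar hn h2 ψ)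
    (fun g T T' hT hT' => intertwiner_unique h2 ψ hψ g T T' hT hT')

/-- (W10a) -/
theorem irreducible_of_forall_le {G : Type*} [Group G] [Finite G] (hG : commutator G = ⊤)
    {M : Type*} [AddCommGroup M] [Module ℂ M] [FiniteDimensional ℂ M]
    (ρ : Representation ℂ G M) (g₀ : G) (hg₀ : ρ g₀ ≠ 1)
    (LB : ∀ σ : Subrepresentation ρ, σ.toRepresentation.IsIrreducible →
      2 ≤ finrank ℂ σ.toSubmodule → finrank ℂ M ≤ finrank ℂ σ.toSubmodule) :
    ρ.IsIrreducible := by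
  exact Cfsg.Agent.Helper37.SPweil.irreducible_of_forall_le hG ρ g₀ hg₀ LB

/-- (W10b) -/
theorem exists_irreducible_fin {G : Type*} [Group G] {M : Type*} [AddCommGroup M] [Module ℂ M]
    [FiniteDimensional ℂ M] (ρ : Representation ℂ G M) (h : ρ.IsIrreducible) (d : ℕ)
    (hd : finrank ℂ M = d) : ∃ ρ' : Representation ℂ G (Fin d → ℂ), ρ'.IsIrreducible := by
  exact Cfsg.Agent.Helper37.SPweil.exists_irreducible_fin ρ h d hd

end Cfsg.Agent.Helper6.SPweil
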