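import Cfsg.Agent.Helper6.SUautA
import Cfsg.Agent.Helper48.PCore
import Cfsg.Agent.Helper11.PLength

set_option autoImplicit false
set_option linter.unusedSectionVars false

/-!
`Aut` of the Sylow 2-subgroup `Heis bar` of `SU₃(2ⁿ)`: assembly.
-/

namespace Cfsg.Agent.Helper6.SUaut

open Cfsg.Agent.Helper19.SU3 Cfsg.Agent.Helper6.SUautA

variable {F : Type*} [Field F] [Fintype F] {bar : F →+* F} [BarField F bar]

section
variable (hω : ∃ ω : F, bar ω ≠ ω) (hTr : ∀ c : F, bar c = c → ∃ b, b + bar b = c)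
  (hsq : ∀ c : F, ∃ m : F, m * m = c)

include hω hTr hsq in
theorem core (ψ : MulAut (Heis bar)) :
    ∃ (l : F) (σ : F ≃+* F), l ≠ 0 ∧ ∀ a, ind ψ a = l * σ a := by
  obtain ⟨B, hB1, hB2⟩ := R1 hω hTr ψ
  let A : F →+ F :=
    { toFun := ind ψ
      map_zero' := ind_zero hω hTr ψ
      map_add' := ind_add hω hTr ψ }
  exact C3 hω hsq A (indHom hω hTr ψ).injective B hB1 hB2

include hsq in
theorem mem_range_indHom {q : ℕ} (hbar : ∀ x, bar x = x ^ q) (f : Equiv.Perm F) :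
    f ∈ (indHom hω hTr).range ↔ ∃ (l : F) (σ : F ≃+* F), l ≠ 0 ∧ ∀ a, f a = l * σ a := by
  constructor
  · rintro ⟨ψ, rfl⟩
    exact core hω hTr hsq ψ
  · rintro ⟨l, σ, hl, h⟩
    refine ⟨semi (Units.mk0 l hl) σ (ringEquiv_comm_bar hbar σ), ?_⟩
    ext a
    obtain ⟨x, hx⟩ := Heis.exists_a (bar := bar) hTr a
    rw [indHom_apply, ← hx, ← ind_apply hω hTr, semi_apply_a, h]
    rfl

include hsq in
theorem card_range_indHom {q : ℕ} (hbar : ∀ x, bar x = x ^ q) :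
    Nat.card (indHom hω hTr).range = (Fintype.card F - 1) * Nat.card (F ≃+* F) := by
  rw [← R3]
  refine Nat.card_congr (Equiv.ofBijective
    (fun f : (indHom hω hTr).range => (⟨⇑f.1, (mem_range_indHom hω hTr hsq hbar f.1).mp f.2⟩ :
      {f : F → F // ∃ (l : F) (σ : F ≃+* F), l ≠ 0 ∧ ∀ a, f a = l * σ a})) ⟨?_, ?_⟩)
  · intro f g h
    apply Subtype.ext
    apply DFunLike.coe_injective
    exact congrArg Subtype.val h
  · rintro ⟨g, l, σ, hl, h⟩
    have hex : ∃ f : Equiv.Perm F, f ∈ (indHom hω hTr).range ∧ ∀ a, f a = l * σ a := by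
      refine ⟨indHom hω hTr (semi (Units.mk0 l hl) σ (ringEquiv_comm_bar hbar σ)), ⟨_, rfl⟩, ?_⟩
      intro a
      obtain ⟨x, hx⟩ := Heis.exists_a (bar := bar) hTr a
      rw [indHom_apply, ← hx, ← ind_apply hω hTr, semi_apply_a]
      rfl
    obtain ⟨f, hf, hfa⟩ := hex
    refine ⟨⟨f, hf⟩, ?_⟩
    apply Subtype.ext
    funext a
    show f a = g a
    rw [hfa, h]

include hω hTr hsq in
theorem card_mulAut {q : ℕ} (hbar : ∀ x, bar x = x ^ q) :
    Nat.card (MulAut (Heis bar)) =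
      Nat.card {γ : F →+ F // ∀ a, bar (γ a) = γ a} *
        ((Fintype.card F - 1) * Nat.card (F ≃+* F)) := by
  rw [← Subgroup.card_mul_index (indHom hω hTr).ker, Subgroup.index_ker,
    card_range_indHom hω hTr hsq hbar, (K3 hω hTr hsq).1]

end

/-- the main theorem for the model -/
theorem main_heis {n : ℕ} (hn : 1 ≤ n) (hF : Fintype.card F = (2 ^ n) ^ 2)
    (hbar : ∀ x, bar x = x ^ (2 ^ n)) :
    Cfsg.IsElementaryAbelian 2 (Cfsg.pCore 2 (MulAut (Heis bar))) ∧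
      Nat.card ↥(Cfsg.pCore 2 (MulAut (Heis bar))) = 2 ^ (2 * n ^ 2) ∧
      Nat.card (MulAut (Heis bar)) = 2 ^ (2 * n ^ 2) * (2 * n * ((2 ^ n) ^ 2 - 1)) := by
  have hq1 : 1 < 2 ^ n := Nat.one_lt_two_pow (by omega)
  have hqe : Even (2 ^ n) := (Nat.even_pow.mpr ⟨even_two, by omega⟩)
  have hω := Cfsg.Agent.Helper19.SU3.hω bar hF hq1 hbar
  have hTr := Cfsg.Agent.Helper19.SU3.hTr bar hF hq1 hbar
  have hsq := Cfsg.Agent.Helper19.SU3.hsq (F := F) hF hqe
  have h0 := Cfsg.Agent.Helper19.SU3.card_fixed bar hF hq1 hbar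
  have hF' : Fintype.card F = 2 ^ (2 * n) := by rw [hF, ← pow_mul, mul_comm]
  have hK2 := K2 (bar := bar) hF' h0
  have hR2 := R2 (F := F) hF'
  have hK3 := K3 hω hTr hsq
  have hcardker : Nat.card (indHom hω hTr).ker = 2 ^ (2 * n ^ 2) := by rw [hK3.1, hK2]
  have hodd : Odd (Fintype.card F - 1) := by
    rw [hF]
    exact Nat.Even.sub_odd (Nat.one_le_pow _ _ (by positivity))
      (hqe.pow_of_ne_zero two_ne_zero) odd_one
  have : Fact (Nat.Prime 2) := ⟨Nat.prime_two⟩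
  have : Finite (MulAut (Heis bar)) := MulEquiv.finite_left
  -- the 2-core is the kernel
  have hcore : Cfsg.pCore 2 (MulAut (Heis bar)) = (indHom hω hTr).ker := by
    apply le_antisymm
    · exact P1 hω hTr hbar hodd (core hω hTr hsq) _
        (Cfsg.Agent.Helper48.pCore_normal 2 _) Cfsg.Agent.Helper48.pCore_isPGroup
    · exact Cfsg.Agent.Helper48.le_pCore (MonoidHom.normal_ker _) (IsPGroup.of_card hcardker)
  refine ⟨?_, ?_, ?_⟩
  · rw [hcore]
    refine ⟨⟨⟨fun a b => ?_⟩⟩, fun a ha => hK3.2.2 a ha⟩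
    apply Subtype.ext
    exact hK3.2.1 a.1 a.2 b.1 b.2
  · rw [hcore, hcardker]
  · rw [card_mulAut hω hTr hsq hbar, hK2, hR2, hF, mul_comm ((2 ^ n) ^ 2 - 1)]

end Cfsg.Agent.Helper6.SUaut
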