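import Cfsg.Agent.Helper6.SUaut1
import Cfsg.Agent.Helper68.SUautC1
import Cfsg.Agent.Helper68.SUautC2
import Cfsg.Agent.Helper65.SUautC3core
import Cfsg.Agent.Helper76.SUautR2
import Cfsg.Agent.Helper76.SUautK2
import Cfsg.Agent.Helper76.SUautK3
import Cfsg.Agent.Helper38.SUautR1
import Cfsg.Agent.Helper38.SUautR3
import Cfsg.Agent.Helper38.SUautP1

set_option autoImplicit false
set_option linter.unusedSectionVars false

/-!
`Aut` of the Sylow 2-subgroup `Heis bar` of `SU₃(2ⁿ)`: the pieces (proved by helper68, helper65,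
helper76, helper38), collected under one namespace.
-/

namespace Cfsg.Agent.Helper6.SUautA

open Cfsg.Agent.Helper19.SU3 Cfsg.Agent.Helper6.SUaut

variable {F : Type*} [Field F] [Fintype F] {bar : F →+* F} [BarField F bar]

theorem C3 (hω : ∃ ω : F, bar ω ≠ ω) (hsq : ∀ c : F, ∃ m : F, m * m = c)
    (A : F →+ F) (hA : Function.Injective A) (B : F → F)
    (hBadd : ∀ c c' : F, bar c = c → bar c' = c' → B (c + c') = B c + B c')
    (hAB : ∀ a : F, nm bar (A a) = B (nm bar a)) :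
    ∃ (l : F) (σ : F ≃+* F), l ≠ 0 ∧ ∀ a : F, A a = l * σ a :=
  Cfsg.Agent.Helper65.SUaut.C3_of
    (fun A hA h1 B hB hAB => Cfsg.Agent.Helper68.SUaut.C1 hω hsq A hA h1 B hB hAB)
    (fun A h1 h2 h3 => Cfsg.Agent.Helper68.SUaut.C2 hω A h1 h2 h3) A hA B hBadd hAB

theorem R2 {n : ℕ} (hF : Fintype.card F = 2 ^ (2 * n)) : Nat.card (F ≃+* F) = 2 * n :=
  Cfsg.Agent.Helper76.SUaut.R2 hF

theorem K2 {n : ℕ} (hF : Fintype.card F = 2 ^ (2 * n))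
    (h0 : Nat.card {c : F // bar c = c} = 2 ^ n) :
    Nat.card {γ : F →+ F // ∀ a, bar (γ a) = γ a} = 2 ^ (2 * n ^ 2) :=
  Cfsg.Agent.Helper76.SUaut.K2 (bar := bar) hF h0

theorem R1 (hω : ∃ ω : F, bar ω ≠ ω) (hTr : ∀ c : F, bar c = c → ∃ b, b + bar b = c)
    (ψ : MulAut (Heis bar)) :
    ∃ B : F → F, (∀ c c' : F, bar c = c → bar c' = c' → B (c + c') = B c + B c') ∧
      ∀ a : F, nm bar (ind ψ a) = B (nm bar a) :=
  Cfsg.Agent.Helper38.SUaut.R1 hω hTr ψ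

theorem R3 : Nat.card {f : F → F // ∃ (l : F) (σ : F ≃+* F), l ≠ 0 ∧ ∀ a, f a = l * σ a} =
    (Fintype.card F - 1) * Nat.card (F ≃+* F) :=
  Cfsg.Agent.Helper38.SUaut.R3

theorem K3 (hω : ∃ ω : F, bar ω ≠ ω) (hTr : ∀ c : F, bar c = c → ∃ b, b + bar b = c)
    (hsq : ∀ c : F, ∃ m : F, m * m = c) :
    Nat.card (indHom hω hTr).ker = Nat.card {γ : F →+ F // ∀ a, bar (γ a) = γ a} ∧
    (∀ ψ ∈ (indHom hω hTr).ker, ∀ ψ' ∈ (indHom hω hTr).ker, ψ * ψ' = ψ' * ψ) ∧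
    (∀ ψ ∈ (indHom hω hTr).ker, ψ ^ 2 = 1) :=
  Cfsg.Agent.Helper76.SUaut.K3 hω hTr hsq

theorem P1 (hω : ∃ ω : F, bar ω ≠ ω) (hTr : ∀ c : F, bar c = c → ∃ b, b + bar b = c)
    {q : ℕ} (hbar : ∀ x, bar x = x ^ q) (hodd : Odd (Fintype.card F - 1))
    (hcore : ∀ ψ : MulAut (Heis bar), ∃ (l : F) (σ : F ≃+* F), l ≠ 0 ∧ ∀ a, ind ψ a = l * σ a)
    (N : Subgroup (MulAut (Heis bar))) (hN : N.Normal) (h2 : IsPGroup 2 N) :
    N ≤ (indHom hω hTr).ker :=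
  Cfsg.Agent.Helper38.SUaut.P1 hω hTr hbar hodd hcore N hN h2

end Cfsg.Agent.Helper6.SUautA
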