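import Cfsg.Agent.Helper13.UPair1

/-!
# Landazuri–Seitz bounds for the unitary groups: definitions

For a subspace `W` of `F^n` (with the standard Hermitian form) `suW q W` is the subgroup of
`SU_n(q)` of the elements fixing the orthogonal complement of `W` pointwise.  We define the
transvections and the Eichler elements as elements of `suW q W`, and the fixed-point submodule of
a root group in a complex representation of `suW q W`.
-/

set_option autoImplicit false

namespace Cfsg.Agent.Helper6.SUrep

open Matrix Cfsg.Agent.Helper13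

variable {F : Type*} [Field F] [Fintype F] {q n : ℕ}

local notation "⟪" x ", " y "⟫" => Cfsg.hermForm n F q x y

/-- the additive group of the elements `c` with `c + c^q = 0` -/
def skewS (hF : Fintype.card F = q ^ 2) : AddSubgroup F where
  carrier := {c | c + c ^ q = 0}
  add_mem' := by
    intro a b ha hb
    show a + b + (a + b) ^ q = 0
    rw [frob_add hF]
    have ha' : a + a ^ q = 0 := ha
    have hb' : b + b ^ q = 0 := hb
    linear_combination ha' + hb'
  zero_mem' := by
    show (0 : F) + 0 ^ q = 0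
    have hq := two_le_of_card_eq_sq hF
    rw [zero_pow (by omega), add_zero]
  neg_mem' := by
    intro a ha
    show -a + (-a) ^ q = 0
    have ha' : a + a ^ q = 0 := ha
    have h1 : (-a) ^ q = -(a ^ q) := by
      have := frob_add hF a (-a)
      rw [add_neg_cancel] at this
      have hq := two_le_of_card_eq_sq hF
      rw [zero_pow (by omega)] at this
      linear_combination -this
    rw [h1]
    linear_combination -ha'

omit [Fintype F] in
theorem mem_skewS [Fintype F] (hF : Fintype.card F = q ^ 2) (c : F) :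
    c ∈ skewS hF ↔ c + c ^ q = 0 := Iff.rfl

/-- the elements of `SU_n(q)` fixing the orthogonal complement of `W` pointwise -/
def suW (q : ℕ) (W : Submodule F (Fin n → F)) : Subgroup (Cfsg.SU n F q) where
  carrier := {A | FixPerp q W (suMat A)}
  mul_mem' := by
    intro A B hA hB
    show FixPerp q W (suMat (A * B))
    rw [suMat_mul]
    exact hA.mul hB
  one_mem' := by
    show FixPerp q W (suMat (1 : Cfsg.SU n F q))
    rw [suMat_one]
    exact FixPerp.one W
  inv_mem' := by
    intro A hA x hx
    have h1 : suMat A *ᵥ x = x := hA x hx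
    have h2 := suMat_inv_mulVec A x
    rw [h1] at h2
    exact h2

omit [Fintype F] in
theorem mem_suW (W : Submodule F (Fin n → F)) (A : Cfsg.SU n F q) :
    A ∈ suW q W ↔ FixPerp q W (suMat A) := Iff.rfl

omit [Fintype F] in
theorem suW_mono {W W' : Submodule F (Fin n → F)} (h : W ≤ W') : suW q W ≤ suW q W' :=
  fun _ hA => FixPerp.mono h hA

omit [Fintype F] in
theorem fixPerp_unitaryTransvection (W : Submodule F (Fin n → F)) {v : Fin n → F} (hvW : v ∈ W)
    (c : F) : FixPerp q W (Cfsg.unitaryTransvection n q v c) := by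
  intro x hx
  rw [unitaryTransvection_mulVec, hx v hvW, mul_zero, zero_smul, add_zero]

omit [Fintype F] in
theorem fixPerp_eichler (W : Submodule F (Fin n → F)) {u y : Fin n → F} (huW : u ∈ W)
    (hyW : y ∈ W) (c : F) : FixPerp q W (eichler q u y c) := by
  intro x hx
  rw [eichler_mulVec, hx u huW, hx y hyW]
  simp

/-- a transvection with vector in `W`, as an element of `suW q W` -/
def tvW (hF : Fintype.card F = q ^ 2) (W : Submodule F (Fin n → F)) (v : Fin n → F)
    (hvW : v ∈ W) (hv : ⟪v, v⟫ = 0) (c : skewS hF) : suW q W :=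
  ⟨tvElt hF v c.1 hv c.2, fixPerp_unitaryTransvection W hvW c.1⟩

theorem suMat_tvW (hF : Fintype.card F = q ^ 2) (W : Submodule F (Fin n → F)) (v : Fin n → F)
    (hvW : v ∈ W) (hv : ⟪v, v⟫ = 0) (c : skewS hF) :
    suMat (tvW hF W v hvW hv c : Cfsg.SU n F q) = Cfsg.unitaryTransvection n q v c.1 := rfl

/-- an Eichler element with vectors in `W`, as an element of `suW q W` -/
def eiW (hF : Fintype.card F = q ^ 2) (W : Submodule F (Fin n → F)) (u y : Fin n → F) (c : F)
    (huW : u ∈ W) (hyW : y ∈ W) (huu : ⟪u, u⟫ = 0) (hyu : ⟪y, u⟫ = 0)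
    (hc : c + c ^ q + ⟪y, y⟫ = 0) : suW q W :=
  ⟨eichlerElt hF u y c huu hyu hc, fixPerp_eichler W huW hyW c⟩

theorem suMat_eiW (hF : Fintype.card F = q ^ 2) (W : Submodule F (Fin n → F)) (u y : Fin n → F)
    (c : F) (huW : u ∈ W) (hyW : y ∈ W) (huu : ⟪u, u⟫ = 0) (hyu : ⟪y, u⟫ = 0)
    (hc : c + c ^ q + ⟪y, y⟫ = 0) :
    suMat (eiW hF W u y c huW hyW huu hyu hc : Cfsg.SU n F q) = eichler q u y c := rfl

omit [Fintype F] in
/-- equality in `suW q W` can be checked on matrices -/
theorem suW_ext {W : Submodule F (Fin n → F)} {A B : suW q W}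
    (h : suMat (A : Cfsg.SU n F q) = suMat (B : Cfsg.SU n F q)) : A = B :=
  Subtype.ext (suMat_injective h)

section rep

variable {M : Type*} [AddCommGroup M] [Module ℂ M]

/-- the fixed points of the root group of the isotropic vector `u ∈ W` -/
def fixZ (hF : Fintype.card F = q ^ 2) (W : Submodule F (Fin n → F))
    (ρ : Representation ℂ ↥(suW q W) M) (u : Fin n → F) (huW : u ∈ W) (huu : ⟪u, u⟫ = 0) :
    Submodule ℂ M where
  carrier := {m | ∀ c : skewS hF, ρ (tvW hF W u huW huu c) m = m}
  add_mem' := by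
    intro a b ha hb c
    rw [map_add, ha c, hb c]
  zero_mem' := by
    intro c
    rw [map_zero]
  smul_mem' := by
    intro z a ha c
    rw [map_smul, ha c]

theorem mem_fixZ (hF : Fintype.card F = q ^ 2) (W : Submodule F (Fin n → F))
    (ρ : Representation ℂ ↥(suW q W) M) (u : Fin n → F) (huW : u ∈ W) (huu : ⟪u, u⟫ = 0)
    (m : M) :
    m ∈ fixZ hF W ρ u huW huu ↔ ∀ c : skewS hF, ρ (tvW hF W u huW huu c) m = m := Iff.rfl

/-- some transvection with vector in `W` acts non-trivially -/
def TvNontriv (hF : Fintype.card F = q ^ 2) (W : Submodule F (Fin n → F))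
    (ρ : Representation ℂ ↥(suW q W) M) : Prop :=
  ∃ (v : Fin n → F) (hvW : v ∈ W) (hv : ⟪v, v⟫ = 0) (c : skewS hF),
    ρ (tvW hF W v hvW hv c) ≠ 1

end rep

/-- the Landazuri–Seitz bound: `ubound q k = (q^k - 1)/(q+1)` for even `k` and
`(q^k - q)/(q+1)` for odd `k` -/
def ubound (q : ℕ) : ℕ → ℕ
  | 0 => 0
  | 1 => 0
  | (k + 2) => (q - 1) * q ^ k + ubound q k

end Cfsg.Agent.Helper6.SUrep
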