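import Cfsg.Agent.Helper6.SUrep2

/-!
# Landazuri–Seitz bounds for the unitary groups: basic relations in `suW q W`
-/

set_option autoImplicit false

namespace Cfsg.Agent.Helper6.SUrep

open Matrix Cfsg.Agent.Helper13

variable {F : Type*} [Field F] [Fintype F] {q n : ℕ}

local notation "⟪" x ", " y "⟫" => Cfsg.hermForm n F q x y

theorem tvW_zero (hF : Fintype.card F = q ^ 2) (W : Submodule F (Fin n → F)) (v : Fin n → F)
    (hvW : v ∈ W) (hv : ⟪v, v⟫ = 0) : tvW hF W v hvW hv 0 = 1 := by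
  apply suW_ext
  rw [suMat_tvW]
  show Cfsg.unitaryTransvection n q v (0 : F) = suMat (1 : Cfsg.SU n F q)
  rw [unitaryTransvection_zero, suMat_one]

theorem tvW_add (hF : Fintype.card F = q ^ 2) (W : Submodule F (Fin n → F)) (v : Fin n → F)
    (hvW : v ∈ W) (hv : ⟪v, v⟫ = 0) (c c' : skewS hF) :
    tvW hF W v hvW hv (c + c') = tvW hF W v hvW hv c * tvW hF W v hvW hv c' := by
  apply suW_ext
  show suMat (tvW hF W v hvW hv (c + c') : Cfsg.SU n F q) =
    suMat (tvW hF W v hvW hv c : Cfsg.SU n F q) * suMat (tvW hF W v hvW hv c' : Cfsg.SU n F q)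
  rw [suMat_tvW, suMat_tvW, suMat_tvW, unitaryTransvection_mul v _ _ hv]
  rfl

theorem tvW_neg (hF : Fintype.card F = q ^ 2) (W : Submodule F (Fin n → F)) (v : Fin n → F)
    (hvW : v ∈ W) (hv : ⟪v, v⟫ = 0) (c : skewS hF) :
    tvW hF W v hvW hv (-c) = (tvW hF W v hvW hv c)⁻¹ := by
  rw [eq_inv_iff_mul_eq_one, ← tvW_add, neg_add_cancel, tvW_zero]

theorem tvW_comm (hF : Fintype.card F = q ^ 2) (W : Submodule F (Fin n → F)) (v : Fin n → F)
    (hvW : v ∈ W) (hv : ⟪v, v⟫ = 0) (c c' : skewS hF) :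
    tvW hF W v hvW hv c * tvW hF W v hvW hv c' = tvW hF W v hvW hv c' * tvW hF W v hvW hv c := by
  rw [← tvW_add, ← tvW_add, add_comm]

/-- the elements of `suW q W` map `W` to itself -/
theorem suW_mulVec_mem (hF : Fintype.card F = q ^ 2) {W : Submodule F (Fin n → F)}
    (g : suW q W) {p : Fin n → F} (hp : p ∈ W) : suMat (g : Cfsg.SU n F q) *ᵥ p ∈ W := by
  have hmem : suMat (g : Cfsg.SU n F q) *ᵥ p ∈ perpSub q (perpSub q W) := by
    intro x hx
    have h1 : suMat (g : Cfsg.SU n F q) *ᵥ x = x := g.2 x hx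
    have h2 := isU_suMat (g : Cfsg.SU n F q) p x
    rw [h1] at h2
    rw [h2]
    exact hermForm_eq_zero_symm hF (hx p hp)
  rwa [perpSub_perpSub hF W] at hmem

omit [Fintype F] in
theorem suW_mulVec_iso {W : Submodule F (Fin n → F)}
    (g : suW q W) {p : Fin n → F} (hp : ⟪p, p⟫ = 0) :
    ⟪suMat (g : Cfsg.SU n F q) *ᵥ p, suMat (g : Cfsg.SU n F q) *ᵥ p⟫ = 0 := by
  rw [isU_suMat (g : Cfsg.SU n F q), hp]

/-- conjugating a transvection -/
theorem conj_tvW (hF : Fintype.card F = q ^ 2) {W : Submodule F (Fin n → F)} (g : suW q W)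
    (v : Fin n → F) (hvW : v ∈ W) (hv : ⟪v, v⟫ = 0) (c : skewS hF) :
    g * tvW hF W v hvW hv c * g⁻¹ =
      tvW hF W (suMat (g : Cfsg.SU n F q) *ᵥ v) (suW_mulVec_mem hF g hvW) (suW_mulVec_iso g hv)
        c := by
  apply suW_ext
  show suMat (g : Cfsg.SU n F q) * suMat (tvW hF W v hvW hv c : Cfsg.SU n F q) *
    suMat ((g : Cfsg.SU n F q)⁻¹) = _
  rw [suMat_tvW, suMat_tvW]
  apply conj_unitaryTransvection (isU_suMat _)
  rw [← suMat_mul, mul_inv_cancel, suMat_one]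

/-- the transvections of a scalar multiple -/
theorem tvW_smul (hF : Fintype.card F = q ^ 2) (W : Submodule F (Fin n → F)) (v : Fin n → F)
    (hvW : v ∈ W) (hv : ⟪v, v⟫ = 0) (a : F) (c : skewS hF) :
    tvW hF W (a • v) (W.smul_mem a hvW) (hermForm_smul_self v a hv) c =
      tvW hF W v hvW hv
        (mulS hF (a * a ^ q) (by rw [mul_pow, frob_frob hF, mul_comm]) c) := by
  apply suW_ext
  rw [suMat_tvW, suMat_tvW, unitaryTransvection_smul, mulS_coe]
  congr 1
  ring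

/-- the inclusion `suW q W' ≤ suW q W` on transvections -/
theorem inclusion_tvW (hF : Fintype.card F = q ^ 2) {W' W : Submodule F (Fin n → F)}
    (h : W' ≤ W) (v : Fin n → F) (hvW : v ∈ W') (hv : ⟪v, v⟫ = 0) (c : skewS hF) :
    Subgroup.inclusion (suW_mono h) (tvW hF W' v hvW hv c) = tvW hF W v (h hvW) hv c := rfl

/-- an Eichler element with `y = 0` is a transvection -/
theorem eiW_zero (hF : Fintype.card F = q ^ 2) (W : Submodule F (Fin n → F)) (u : Fin n → F)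
    (c : F) (huW : u ∈ W) (huu : ⟪u, u⟫ = 0) (hc : c + c ^ q + ⟪(0 : Fin n → F), 0⟫ = 0) :
    eiW hF W u 0 c huW W.zero_mem huu (hermForm_zero_left u) hc =
      tvW hF W u huW huu ⟨c, by
        have h0 : ⟪(0 : Fin n → F), (0 : Fin n → F)⟫ = 0 := hermForm_zero_left _
        rw [h0, add_zero] at hc
        exact hc⟩ := by
  apply suW_ext
  rw [suMat_eiW, suMat_tvW, eichler_zero_eq_tv hF]

/-- the product of two Eichler elements -/
theorem eiW_mul (hF : Fintype.card F = q ^ 2) (W : Submodule F (Fin n → F)) (u y y' : Fin n → F)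
    (c c' : F) (huW : u ∈ W) (hyW : y ∈ W) (hy'W : y' ∈ W) (huu : ⟪u, u⟫ = 0)
    (hyu : ⟪y, u⟫ = 0) (hy'u : ⟪y', u⟫ = 0) (hc : c + c ^ q + ⟪y, y⟫ = 0)
    (hc' : c' + c' ^ q + ⟪y', y'⟫ = 0)
    (hcc' : (c + c' - ⟪y', y⟫) + (c + c' - ⟪y', y⟫) ^ q + ⟪y + y', y + y'⟫ = 0) :
    eiW hF W u y c huW hyW huu hyu hc * eiW hF W u y' c' huW hy'W huu hy'u hc' =
      eiW hF W u (y + y') (c + c' - ⟪y', y⟫) huW (W.add_mem hyW hy'W) huu
        (by rw [hermForm_add_left, hyu, hy'u, add_zero]) hcc' := by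
  apply suW_ext
  show suMat (eiW hF W u y c huW hyW huu hyu hc : Cfsg.SU n F q) *
    suMat (eiW hF W u y' c' huW hy'W huu hy'u hc' : Cfsg.SU n F q) = _
  rw [suMat_eiW, suMat_eiW, suMat_eiW, eichler_mul hF c c' huu hyu hy'u]

/-- the condition on the parameter of a product of Eichler elements is automatic -/
theorem eichler_param_add (hF : Fintype.card F = q ^ 2) {y y' : Fin n → F} {c c' : F}
    (hc : c + c ^ q + ⟪y, y⟫ = 0) (hc' : c' + c' ^ q + ⟪y', y'⟫ = 0) :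
    (c + c' - ⟪y', y⟫) + (c + c' - ⟪y', y⟫) ^ q + ⟪y + y', y + y'⟫ = 0 := by
  rw [frob_sub' hF, frob_add hF, hermForm_conj hF y' y, hermForm_add_left,
    hermForm_add_right hF, hermForm_add_right hF]
  linear_combination hc + hc'

end Cfsg.Agent.Helper6.SUrep
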