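import Cfsg.Agent.Helper6.SUrepA

/-!
# Landazuri–Seitz bounds for the unitary groups: the induction
-/

set_option autoImplicit false

namespace Cfsg.Agent.Helper6.SUrep

open Matrix Cfsg.Agent.Helper13 Module

variable {F : Type*} [Field F] [Fintype F] {q n : ℕ}

local notation "⟪" x ", " y "⟫" => Cfsg.hermForm n F q x y

/-! ### the bound -/

theorem ubound_closed (q : ℕ) (hq : 1 ≤ q) :
    ∀ k : ℕ, (q + 1) * ubound q k + (if Even k then 1 else q) = q ^ k
  | 0 => by simp [ubound]
  | 1 => by simp [ubound]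
  | (k + 2) => by
    have ih := ubound_closed q hq k
    have hpar : Even (k + 2) ↔ Even k := by
      rw [Nat.even_add]
      simp
    rw [ubound]
    simp only [hpar]
    obtain ⟨r, rfl⟩ : ∃ r, q = r + 1 := ⟨q - 1, by omega⟩
    have h1 : r + 1 - 1 = r := by omega
    rw [h1]
    have : (r + 1 + 1) * (r * (r + 1) ^ k + ubound (r + 1) k) + (if Even k then 1 else r + 1) =
        (r + 1 + 1) * r * (r + 1) ^ k +
          ((r + 1 + 1) * ubound (r + 1) k + (if Even k then 1 else r + 1)) := by ring
    rw [this, ih]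
    ring

/-! ### the representation on the fixed points of a root group -/

section fixRep

variable {M : Type*} [AddCommGroup M] [Module ℂ M]

/-- the elements of `suW q (hypCompl q W u u')` fix `u` -/
theorem suW_hypCompl_fix (hF : Fintype.card F = q ^ 2) (W : Submodule F (Fin n → F))
    (u u' : Fin n → F) (g : suW q (hypCompl q W u u')) :
    suMat (g : Cfsg.SU n F q) *ᵥ u = u :=
  g.2 u (fun _ hy => hermForm_eq_zero_symm hF hy.2.1)

/-- the elements of `suW q (hypCompl q W u u')` commute with the root group of `u` -/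
theorem inclusion_mul_tvW (hF : Fintype.card F = q ^ 2) (W : Submodule F (Fin n → F))
    (u u' : Fin n → F) (huW : u ∈ W) (huu : ⟪u, u⟫ = 0) (g : suW q (hypCompl q W u u'))
    (c : skewS hF) :
    Subgroup.inclusion (suW_mono (hypCompl_le W u u')) g * tvW hF W u huW huu c =
      tvW hF W u huW huu c * Subgroup.inclusion (suW_mono (hypCompl_le W u u')) g := by
  set g' : suW q W := Subgroup.inclusion (suW_mono (hypCompl_le W u u')) g with hg'
  have h1 := conj_tvW hF g' u huW huu c
  have hfix : suMat (g' : Cfsg.SU n F q) *ᵥ u = u := suW_hypCompl_fix hF W u u' g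
  have h2 : tvW hF W (suMat (g' : Cfsg.SU n F q) *ᵥ u) (suW_mulVec_mem hF g' huW)
      (suW_mulVec_iso g' huu) c = tvW hF W u huW huu c := by
    apply suW_ext
    rw [suMat_tvW, suMat_tvW, hfix]
  rw [h2] at h1
  calc g' * tvW hF W u huW huu c = g' * tvW hF W u huW huu c * g'⁻¹ * g' := by group
    _ = tvW hF W u huW huu c * g' := by rw [h1]

/-- the representation of `suW q (hypCompl q W u u')` on the fixed points of the root group of
`u` -/
def fixRep (hF : Fintype.card F = q ^ 2) (W : Submodule F (Fin n → F))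
    (ρ : Representation ℂ ↥(suW q W) M) (u u' : Fin n → F) (huW : u ∈ W) (huu : ⟪u, u⟫ = 0) :
    Representation ℂ ↥(suW q (hypCompl q W u u')) ↥(fixZ hF W ρ u huW huu) where
  toFun g := (ρ (Subgroup.inclusion (suW_mono (hypCompl_le W u u')) g)).restrict (by
    intro m hm c
    have h := inclusion_mul_tvW hF W u u' huW huu g c
    have h2 : ρ (tvW hF W u huW huu c)
        (ρ (Subgroup.inclusion (suW_mono (hypCompl_le W u u')) g) m) =
        ρ (Subgroup.inclusion (suW_mono (hypCompl_le W u u')) g)
          (ρ (tvW hF W u huW huu c) m) := by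
      rw [← Module.End.mul_apply, ← Module.End.mul_apply, ← map_mul, ← map_mul, h]
    rw [h2, hm c])
  map_one' := by
    ext m
    simp
  map_mul' := by
    intro a b
    ext m
    simp only [map_mul, Module.End.mul_apply, LinearMap.coe_restrict_apply]
    rfl

theorem fixRep_apply (hF : Fintype.card F = q ^ 2) (W : Submodule F (Fin n → F))
    (ρ : Representation ℂ ↥(suW q W) M) (u u' : Fin n → F) (huW : u ∈ W) (huu : ⟪u, u⟫ = 0)
    (g : suW q (hypCompl q W u u')) (m : fixZ hF W ρ u huW huu) :
    ((fixRep hF W ρ u u' huW huu g m : fixZ hF W ρ u huW huu) : M) =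
      ρ (Subgroup.inclusion (suW_mono (hypCompl_le W u u')) g) (m : M) := rfl

end fixRep

end Cfsg.Agent.Helper6.SUrep

namespace Cfsg.Agent.Helper6.SUrep

open Matrix Cfsg.Agent.Helper13 Module

variable {F : Type*} [Field F] [Fintype F] {q n : ℕ}

local notation "⟪" x ", " y "⟫" => Cfsg.hermForm n F q x y

theorem tvW_vec_zero (hF : Fintype.card F = q ^ 2) (W : Submodule F (Fin n → F))
    (h0W : (0 : Fin n → F) ∈ W) (h0 : ⟪(0 : Fin n → F), 0⟫ = 0) (c : skewS hF) :
    tvW hF W 0 h0W h0 c = 1 := by
  apply suW_ext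
  rw [suMat_tvW]
  show Cfsg.unitaryTransvection n q (0 : Fin n → F) c.1 = suMat (1 : Cfsg.SU n F q)
  rw [suMat_one]
  apply mat_ext_mulVec
  intro x
  rw [unitaryTransvection_mulVec, smul_zero, add_zero, Matrix.one_mulVec]

/-- the main bound, by induction on the dimension of the non-degenerate subspace `W` -/
theorem main_bound (hF : Fintype.card F = q ^ 2) :
    ∀ (k : ℕ), 3 ≤ k → ∀ (W : Submodule F (Fin n → F)), NonDeg q W → finrank F W = k →
      ∀ (M : Type) [AddCommGroup M] [Module ℂ M] [FiniteDimensional ℂ M]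
        (ρ : Representation ℂ ↥(suW q W) M), TvNontriv hF W ρ → ubound q k ≤ finrank ℂ M := by
  intro k
  induction k using Nat.strong_induction_on with
  | _ k ih =>
  intro hk W hW hWk M _ _ _ ρ hρ
  obtain ⟨v, hvW, hv, c, hc⟩ := hρ
  have : Finite (suW q W) := inferInstance
  obtain ⟨σ, hσirr, hσc⟩ := Cfsg.Agent.Helper73.SUrep.exists_irreducible_subrep_ne_one ρ (tvW hF W v hvW hv c) hc
  have hle : finrank ℂ σ.toSubmodule ≤ finrank ℂ M := Submodule.finrank_le _
  refine le_trans ?_ hle
  have hv0 : v ≠ 0 := by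
    rintro rfl
    apply hc
    rw [tvW_vec_zero, map_one]
  have hk3 : 3 ≤ finrank F W := by rw [hWk]; exact hk
  have hA1 := finrank_fixZ_add_le hF hW hk3 σ.toRepresentation v hvW hv0 hv c hσc
  rw [hWk] at hA1
  -- the case `k = 3`
  rcases Nat.lt_or_ge k 4 with hk4 | hk4
  · have hk' : k = 3 := by omega
    subst hk'
    have h3 : ubound q 3 = (q - 1) * q ^ 1 + 0 := rfl
    have e1 : 3 - 2 = 1 := rfl
    rw [h3]
    rw [e1] at hA1
    omega
  obtain ⟨u', hu'W, hu'u', hvu'⟩ := exists_hyperbolic_partner_in hF W hW hvW hv0 hv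
  have hk4' : 4 ≤ finrank F W := by rw [hWk]; exact hk4
  obtain ⟨w, hw, hww, c', m, hm, hne⟩ :=
    exists_tv_fixZ_ne hF hW hk4' σ.toRepresentation hσirr v u' hvW hu'W hv hu'u' hvu' c hσc
  rcases Nat.lt_or_ge k 5 with hk5 | hk5
  · -- the case `k = 4`
    have hk' : k = 4 := by omega
    subst hk'
    have hA5 := le_finrank_fixZ hF hW σ.toRepresentation v u' hvW hu'W hv hu'u' hvu' w hw hww c'
      m hm hne
    have h4 : ubound q 4 = (q - 1) * q ^ 2 + ((q - 1) * q ^ 0 + 0) := rfl
    have e2 : 4 - 2 = 2 := rfl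
    rw [h4, pow_zero, mul_one, add_zero]
    rw [e2] at hA1
    omega
  · -- the inductive step
    have hfr := Cfsg.Agent.Helper48.SUrep.finrank_hypCompl hF W v u' hvW hu'W hv hu'u' hvu'
    have hW' : NonDeg q (hypCompl q W v u') := nonDeg_hypCompl hF W hW hvW hu'W hv hu'u' hvu'
    have hk2 : finrank F (hypCompl q W v u') = k - 2 := by omega
    have hρ' : TvNontriv hF (hypCompl q W v u')
        (fixRep hF W σ.toRepresentation v u' hvW hv) := by
      refine ⟨w, hw, hww, c', ?_⟩
      intro h1
      apply hne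
      have h2 := congrArg (fun f => ((f ⟨m, hm⟩ : fixZ hF W σ.toRepresentation v hvW hv) :
        σ.toSubmodule)) h1
      have h3 : σ.toRepresentation (Subgroup.inclusion (suW_mono (hypCompl_le W v u'))
          (tvW hF (hypCompl q W v u') w hw hww c')) m = m := by
        simpa [fixRep_apply] using h2
      exact h3
    have hih := ih (k - 2) (by omega) (by omega) (hypCompl q W v u') hW' hk2
      (fixZ hF W σ.toRepresentation v hvW hv) (fixRep hF W σ.toRepresentation v u' hvW hv) hρ'
    obtain ⟨j, rfl⟩ : ∃ j, k = j + 2 := ⟨k - 2, by omega⟩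
    have hj : ubound q (j + 2) = (q - 1) * q ^ j + ubound q j := rfl
    rw [hj]
    have : j + 2 - 2 = j := by omega
    rw [this] at hih hA1
    omega

end Cfsg.Agent.Helper6.SUrep
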