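import Cfsg.Agent.Helper6.SUrep4
import Cfsg.Agent.Helper73.ReeTriv

/-!
# Landazuri–Seitz bounds for the unitary groups: the final statement
-/

set_option autoImplicit false

namespace Cfsg.Agent.Helper6.SUrep

open Matrix Cfsg.Agent.Helper13 Module

variable {F : Type*} [Field F] [Fintype F] {q n : ℕ}

local notation "⟪" x ", " y "⟫" => Cfsg.hermForm n F q x y

/-- every irreducible complex representation of degree at least two of `SU_n(q)`, `n ≥ 3`,
`(n, q) ≠ (3, 2)`, has degree at least `ubound q n` -/
theorem su_bound (hF : Fintype.card F = q ^ 2) (hn : 3 ≤ n) (h32 : ¬ (n = 3 ∧ q = 2)) (k : ℕ)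
    (ρ : Representation ℂ (Cfsg.SU n F q) (Fin k → ℂ)) (hirr : ρ.IsIrreducible) (hk : 2 ≤ k) :
    ubound q n ≤ k := by
  classical
  set ρ' : Representation ℂ ↥(suW q (⊤ : Submodule F (Fin n → F))) (Fin k → ℂ) :=
    ρ.comp (suW q (⊤ : Submodule F (Fin n → F))).subtype with hρ'
  have hfr : finrank F (⊤ : Submodule F (Fin n → F)) = n := by
    rw [finrank_top, Module.finrank_fintype_fun_eq_card, Fintype.card_fin]
  have hnt : TvNontriv hF (⊤ : Submodule F (Fin n → F)) ρ' := by
    by_contra hcon
    have hall : ∀ (v : Fin n → F) (hv : ⟪v, v⟫ = 0) (c : skewS hF),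
        ρ' (tvW hF ⊤ v Submodule.mem_top hv c) = 1 := by
      intro v hv c
      by_contra h
      exact hcon ⟨v, Submodule.mem_top, hv, c, h⟩
    have htv : ∀ A ∈ tvSet n F q, ρ A = 1 := by
      rintro A ⟨v, c, hv, hA⟩
      by_cases hv0 : v = 0
      · have : A = 1 := by
          apply suMat_injective
          show suMat A = suMat (1 : Cfsg.SU n F q)
          rw [suMat_one]
          show ((A : Matrix.SpecialLinearGroup (Fin n) F) : Matrix (Fin n) (Fin n) F) = 1
          rw [hA, hv0]
          apply mat_ext_mulVec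
          intro x
          rw [unitaryTransvection_mulVec, smul_zero, add_zero, Matrix.one_mulVec]
        rw [this, map_one]
      · have hU : IsU q (Cfsg.unitaryTransvection n q v c) := by
          have := isU_suMat A
          rwa [show suMat A = Cfsg.unitaryTransvection n q v c from hA] at this
        have hc : c + c ^ q = 0 := trace_zero_of_isU_tv hF hv0 hv hU
        have h1 := hall v hv ⟨c, hc⟩
        have h2 : ((tvW hF (⊤ : Submodule F (Fin n → F)) v Submodule.mem_top hv ⟨c, hc⟩ :
            suW q (⊤ : Submodule F (Fin n → F))) : Cfsg.SU n F q) = A := by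
          apply suMat_injective
          rw [suMat_tvW]
          exact hA.symm
        rw [← h2]
        exact h1
    have hker : ∀ A : Cfsg.SU n F q, ρ A = 1 := by
      intro A
      have hA : A ∈ Subgroup.closure (tvSet n F q) := by
        rw [closure_tvSet_eq_top hF h32]
        exact Subgroup.mem_top A
      have : Subgroup.closure (tvSet n F q) ≤ (ρ : Cfsg.SU n F q →* Module.End ℂ (Fin k → ℂ)).ker := by
        rw [Subgroup.closure_le]
        intro B hB
        exact htv B hB
      exact this hA
    exact Cfsg.Agent.Helper73.ReeH.not_irreducible_of_trivial ρ hker hk hirr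
  have h := main_bound hF n hn (⊤ : Submodule F (Fin n → F)) (nonDeg_top hF) hfr (Fin k → ℂ) ρ' hnt
  rwa [Module.finrank_fintype_fun_eq_card, Fintype.card_fin] at h

theorem su_bound_odd (hF : Fintype.card F = q ^ 2) (hn : 3 ≤ n) (hodd : Odd n)
    (h32 : ¬ (n = 3 ∧ q = 2)) (k : ℕ)
    (ρ : Representation ℂ (Cfsg.SU n F q) (Fin k → ℂ)) (hirr : ρ.IsIrreducible) (hk : 2 ≤ k) :
    (q ^ n - q) / (q + 1) ≤ k := by
  have hq := two_le_of_card_eq_sq hF
  have h1 := su_bound hF hn h32 k ρ hirr hk
  have h2 := ubound_closed q (by omega) n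
  rw [if_neg (Nat.not_even_iff_odd.mpr hodd)] at h2
  have h3 : q ^ n - q = (q + 1) * ubound q n := by omega
  rw [h3, Nat.mul_div_cancel_left _ (by omega)]
  exact h1

theorem su_bound_even (hF : Fintype.card F = q ^ 2) (hn : 3 ≤ n) (heven : Even n) (k : ℕ)
    (ρ : Representation ℂ (Cfsg.SU n F q) (Fin k → ℂ)) (hirr : ρ.IsIrreducible) (hk : 2 ≤ k) :
    (q ^ n - 1) / (q + 1) ≤ k := by
  have hq := two_le_of_card_eq_sq hF
  have h32 : ¬ (n = 3 ∧ q = 2) := by
    rintro ⟨rfl, -⟩
    exact absurd heven (by decide)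
  have h1 := su_bound hF hn h32 k ρ hirr hk
  have h2 := ubound_closed q (by omega) n
  rw [if_pos heven] at h2
  have h3 : q ^ n - 1 = (q + 1) * ubound q n := by omega
  rw [h3, Nat.mul_div_cancel_left _ (by omega)]
  exact h1

end Cfsg.Agent.Helper6.SUrep
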