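import Cfsg.Agent.Helper6.SUrep3
import Cfsg.Agent.Helper23.SUA3
import Cfsg.Agent.Helper73.SUR
import Cfsg.Agent.Helper48.SUA0
import Cfsg.Agent.Helper74.SUA3ab
import Cfsg.Agent.Helper20.SUA1
import Cfsg.Agent.Helper60.SUG1
import Cfsg.Agent.Helper65.SUA1c
import Cfsg.Agent.Helper12.SUA3c
import Cfsg.Agent.Helper23.SUA3e
import Cfsg.Agent.Helper37.SUA5

/-!
# Landazuri–Seitz bounds for the unitary groups: the pieces proved by the swarm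
-/

set_option autoImplicit false

namespace Cfsg.Agent.Helper6.SUrep

open Matrix Cfsg.Agent.Helper13 Module

variable {F : Type*} [Field F] [Fintype F] {q n : ℕ}

local notation "⟪" x ", " y "⟫" => Cfsg.hermForm n F q x y

variable {M : Type*} [AddCommGroup M] [Module ℂ M]

/-- (A3), assembled from helper23's core form -/
theorem exists_tv_fixZ_ne [FiniteDimensional ℂ M] (hF : Fintype.card F = q ^ 2)
    {W : Submodule F (Fin n → F)}
    (hW : NonDeg q W) (hk : 4 ≤ finrank F W) (ρ : Representation ℂ ↥(suW q W) M)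
    (hirr : ρ.IsIrreducible)
    (u u' : Fin n → F) (huW : u ∈ W) (hu'W : u' ∈ W) (huu : ⟪u, u⟫ = 0) (hu'u' : ⟪u', u'⟫ = 0)
    (huu' : ⟪u, u'⟫ = 1) (c₀ : skewS hF) (hc₀ : ρ (tvW hF W u huW huu c₀) ≠ 1) :
    ∃ (v : Fin n → F) (hv : v ∈ hypCompl q W u u') (hvv : ⟪v, v⟫ = 0) (c : skewS hF) (m : M),
      m ∈ fixZ hF W ρ u huW huu ∧ ρ (tvW hF W v (hypCompl_le W u u' hv) hvv c) m ≠ m :=
  Cfsg.Agent.Helper23.SUrep.exists_tv_fixZ_ne_of hF ρ hirr u u' huW hu'W huu hu'u' huu' c₀ hc₀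
    (fun g p hpW hpp m hm => Cfsg.Agent.Helper74.SUrep.map_fixZ hF ρ g p hpW hpp m hm)
    (fun H p hpW hp0 hpp =>
      Cfsg.Agent.Helper12.SUrep.fixZ_eq_of_le hF hW hk ρ u u' huW hu'W huu hu'u' huu' H p hpW hp0
        hpp)
    (fun _ => Cfsg.Agent.Helper23.SUrep.exists_fixZ_ne_bot hF hW hk ρ)

/-- (A1), assembled from helper20's core form -/
theorem finrank_fixZ_add_le [FiniteDimensional ℂ M] (hF : Fintype.card F = q ^ 2)
    {W : Submodule F (Fin n → F)}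
    (hW : NonDeg q W) (hk : 3 ≤ finrank F W) (ρ : Representation ℂ ↥(suW q W) M)
    (u : Fin n → F) (huW : u ∈ W) (hu0 : u ≠ 0) (huu : ⟪u, u⟫ = 0) (c₀ : skewS hF)
    (hc₀ : ρ (tvW hF W u huW huu c₀) ≠ 1) :
    finrank ℂ (fixZ hF W ρ u huW huu) + (q - 1) * q ^ (finrank F W - 2) ≤ finrank ℂ M :=
  Cfsg.Agent.Helper20.SUrep.finrank_fixZ_add_le_of hF hW hk ρ u huW hu0 huu c₀ hc₀
    (fun s hs0 hs ψ m => Cfsg.Agent.Helper60.SUrep.mem_range_fpr_iff s hs0 hs ψ m)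
    (fun s hs0 hs => Cfsg.Agent.Helper60.SUrep.finrank_eq_sum_fpr s hs0 hs)
    (fun s g g' h1 h2 σ hσ ψ ψ' hψ =>
      Cfsg.Agent.Helper60.SUrep.finrank_range_fpr_conj s g g' h1 h2 σ hσ ψ ψ' hψ)
    (fun ψ hψ hne =>
      Cfsg.Agent.Helper65.SUrep.le_finrank_range_fpr hF hW hk ρ u huW hu0 huu ψ hψ hne)

/-- (A5), proved by helper37 -/
theorem le_finrank_fixZ [FiniteDimensional ℂ M] (hF : Fintype.card F = q ^ 2)
    {W : Submodule F (Fin n → F)} (hW : NonDeg q W) (ρ : Representation ℂ ↥(suW q W) M)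
    (u u' : Fin n → F) (huW : u ∈ W) (hu'W : u' ∈ W) (huu : ⟪u, u⟫ = 0) (hu'u' : ⟪u', u'⟫ = 0)
    (huu' : ⟪u, u'⟫ = 1) (v : Fin n → F) (hv : v ∈ hypCompl q W u u') (hvv : ⟪v, v⟫ = 0)
    (c : skewS hF) (m : M) (hm : m ∈ fixZ hF W ρ u huW huu)
    (hne : ρ (tvW hF W v (hypCompl_le W u u' hv) hvv c) m ≠ m) :
    q - 1 ≤ finrank ℂ (fixZ hF W ρ u huW huu) :=
  Cfsg.Agent.Helper37.SUrep.le_finrank_fixZ hF hW ρ u u' huW hu'W huu hu'u' huu' v hv hvv c m hm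
    hne

end Cfsg.Agent.Helper6.SUrep
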