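import Cfsg.Agent.Helper6.SylCyc

/-!
# Singer cycles in `GL₄` over a finite field of characteristic two, and cyclic Sylow subgroups
-/

set_option autoImplicit false

namespace Cfsg.Agent.Helper6

section arith

theorem not_dvd_gl4_index {p q : ℕ} (hp : p.Prime) (hp2 : p ≠ 2) (hq : p ∣ q ^ 2 + 1)
    (hq1 : 1 ≤ q) : ¬ p ∣ (q ^ 4 - q) * (q ^ 4 - q ^ 2) * (q ^ 4 - q ^ 3) := by
  have hz : (p : ℤ) ∣ (q : ℤ) ^ 2 + 1 := by exact_mod_cast hq
  have h2 : ¬ (p : ℤ) ∣ 2 := by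
    intro h
    have : p ∣ 2 := by exact_mod_cast h
    exact hp2 ((Nat.prime_dvd_prime_iff_eq hp Nat.prime_two).1 this)
  have hle1 : q ≤ q ^ 4 := by
    calc q = q ^ 1 := (pow_one q).symm
      _ ≤ q ^ 4 := Nat.pow_le_pow_right hq1 (by norm_num)
  have hle2 : q ^ 2 ≤ q ^ 4 := Nat.pow_le_pow_right hq1 (by norm_num)
  have hle3 : q ^ 3 ≤ q ^ 4 := Nat.pow_le_pow_right hq1 (by norm_num)
  intro h
  rcases (Nat.Prime.dvd_mul hp).1 h with h | h
  · rcases (Nat.Prime.dvd_mul hp).1 h with h | h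
    · have h' : (p : ℤ) ∣ (q : ℤ) ^ 4 - q := by
        have : ((q ^ 4 - q : ℕ) : ℤ) = (q : ℤ) ^ 4 - q := by push_cast [Nat.cast_sub hle1]; ring
        rw [← this]; exact_mod_cast h
      apply h2
      have := hz.linear_comb h' (1 - ((q : ℤ) + 1) * ((q : ℤ) ^ 2 - 1)) ((q : ℤ) + 1)
      have e : (2 : ℤ) = (1 - ((q : ℤ) + 1) * ((q : ℤ) ^ 2 - 1)) * ((q : ℤ) ^ 2 + 1) +
          ((q : ℤ) + 1) * ((q : ℤ) ^ 4 - q) := by ring
      rw [e]; exact this
    · have h' : (p : ℤ) ∣ (q : ℤ) ^ 4 - (q : ℤ) ^ 2 := by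
        have : ((q ^ 4 - q ^ 2 : ℕ) : ℤ) = (q : ℤ) ^ 4 - (q : ℤ) ^ 2 := by
          push_cast [Nat.cast_sub hle2]; ring
        rw [← this]; exact_mod_cast h
      apply h2
      have := hz.linear_comb h' (-((q : ℤ) ^ 2 - 2)) 1
      have e : (2 : ℤ) = (-((q : ℤ) ^ 2 - 2)) * ((q : ℤ) ^ 2 + 1) +
          1 * ((q : ℤ) ^ 4 - (q : ℤ) ^ 2) := by ring
      rw [e]; exact this
  · have h' : (p : ℤ) ∣ (q : ℤ) ^ 4 - (q : ℤ) ^ 3 := by
      have : ((q ^ 4 - q ^ 3 : ℕ) : ℤ) = (q : ℤ) ^ 4 - (q : ℤ) ^ 3 := by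
        push_cast [Nat.cast_sub hle3]; ring
      rw [← this]; exact_mod_cast h
    apply h2
    have := hz.linear_comb h' (1 + ((q : ℤ) - 1) * ((q : ℤ) ^ 2 - q - 1)) (-((q : ℤ) - 1))
    have e : (2 : ℤ) = (1 + ((q : ℤ) - 1) * ((q : ℤ) ^ 2 - q - 1)) * ((q : ℤ) ^ 2 + 1) +
        (-((q : ℤ) - 1)) * ((q : ℤ) ^ 4 - (q : ℤ) ^ 3) := by ring
    rw [e]; exact this

end arith

section singer

variable {F : Type*} [Field F] [Fintype F]

/-- In `GL₄` over a finite field of characteristic two with `q` elements, the Sylow `p`-subgroups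
are cyclic for every odd prime `p` dividing `q² + 1`. -/
theorem gl4_sylow_cyclic [CharP F 2] {p : ℕ} [hp : Fact p.Prime] (hp2 : p ≠ 2)
    (hq : p ∣ (Fintype.card F) ^ 2 + 1) (Q : Sylow p (GL (Fin 4) F)) : IsCyclic Q := by
  classical
  have : Fact (Nat.Prime 2) := ⟨Nat.prime_two⟩
  set K := FiniteField.Extension F 2 4 with hK
  have hfr : Module.finrank F K = 4 := FiniteField.finrank_extension F 2 4
  let b : Module.Basis (Fin 4) F K := Module.finBasisOfFinrankEq F K hfr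
  let ψ : K →* Matrix (Fin 4) (Fin 4) F :=
    ((LinearMap.toMatrixAlgEquiv b : (K →ₗ[F] K) ≃ₐ[F] Matrix (Fin 4) (Fin 4) F) :
      (K →ₗ[F] K) →* Matrix (Fin 4) (Fin 4) F).comp
      ((Algebra.lmul F K : K →ₐ[F] Module.End F K) : K →* Module.End F K)
  have hψ : Function.Injective ψ := by
    intro x y hxy
    apply Algebra.lmul_injective (R := F) (A := K)
    exact (LinearMap.toMatrixAlgEquiv b).injective hxy
  let φ : Kˣ →* GL (Fin 4) F := Units.map ψ
  have hφ : Function.Injective φ := Units.map_injective hψ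
  set C := φ.range with hC
  have hCcyc : IsCyclic C := isCyclic_of_surjective φ.rangeRestrict φ.rangeRestrict_surjective
  have hcardC : Nat.card C = (Fintype.card F) ^ 4 - 1 := by
    rw [← Nat.card_congr (MonoidHom.ofInjective hφ).toEquiv, Nat.card_units,
      FiniteField.natCard_extension, Nat.card_eq_fintype_card]
  have hq1 : 1 ≤ Fintype.card F := Fintype.card_pos
  have hq2 : 2 ≤ Fintype.card F := Fintype.one_lt_card
  have hpos : 0 < (Fintype.card F) ^ 4 - 1 := by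
    have : 2 ^ 4 ≤ (Fintype.card F) ^ 4 := Nat.pow_le_pow_left hq2 4
    omega
  have hidx : C.index = ((Fintype.card F) ^ 4 - Fintype.card F) *
      ((Fintype.card F) ^ 4 - (Fintype.card F) ^ 2) * ((Fintype.card F) ^ 4 - (Fintype.card F) ^ 3) := by
    have h1 := Subgroup.index_mul_card C
    rw [hcardC, Matrix.card_GL_field, Fin.prod_univ_four] at h1
    simp only [Fin.val_zero, pow_zero, Fin.val_one, pow_one, Fin.val_two] at h1
    have h3 : ((3 : Fin 4) : ℕ) = 3 := rfl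
    rw [h3] at h1
    apply Nat.eq_of_mul_eq_mul_right hpos
    rw [h1]; ring
  have hnd : ¬ p ∣ C.index := by
    rw [hidx]
    exact not_dvd_gl4_index hp.out hp2 hq hq1
  exact sylow_cyclic_of_cyclic_subgroup C hnd Q

end singer

end Cfsg.Agent.Helper6
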