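import Cfsg.Agent.Helper6.Singer

/-!
# Centralisers of elements of prime order dividing `q² + 1` in `GL₄(q)` are commutative
-/

set_option autoImplicit false

namespace Cfsg.Agent.Helper6

section field

variable {F K : Type*} [Field F] [Fintype F] [Field K] [Fintype K] [Algebra F K]

/-- the intermediate field of scalars with respect to which an `F`-linear map is linear -/
def linField (f : K →ₗ[F] K) : IntermediateField F K where
  carrier := {a | ∀ z, f (a * z) = a * f z}
  mul_mem' := by
    intro a b ha hb z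
    rw [mul_assoc, ha, hb, mul_assoc]
  one_mem' := by
    intro z
    rw [one_mul, one_mul]
  add_mem' := by
    intro a b ha hb z
    rw [add_mul, map_add, ha, hb, add_mul]
  zero_mem' := by
    intro z
    rw [zero_mul, map_zero, zero_mul]
  algebraMap_mem' := by
    intro c z
    rw [← Algebra.smul_def, map_smul, Algebra.smul_def]
  inv_mem' := by
    intro a ha z
    by_cases ha0 : a = 0
    · rw [ha0, inv_zero, zero_mul, map_zero, zero_mul]
    · have h1 := ha (a⁻¹ * z)
      rw [mul_inv_cancel_left₀ ha0] at h1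
      rw [h1, inv_mul_cancel_left₀ ha0]

omit [Fintype F] [Fintype K] in
theorem mem_linField_iff (f : K →ₗ[F] K) (a : K) :
    a ∈ linField f ↔ ∀ z, f (a * z) = a * f z := Iff.rfl

theorem linField_eq_top (hfr : Module.finrank F K = 4) {p : ℕ} (hp : p.Prime) (hp2 : p ≠ 2)
    (hq : p ∣ (Fintype.card F) ^ 2 + 1) (lam : K) (hlam : orderOf lam = p) (f : K →ₗ[F] K)
    (hf : ∀ z, f (lam * z) = lam * f z) : ∀ a z, f (a * z) = a * f z := by
  classical
  set K' := linField f with hK'
  have hlamK : lam ∈ K' := hf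
  have : Fintype K' := Fintype.ofFinite _
  obtain ⟨d, hd⟩ : ∃ d, Module.finrank F K' = d := ⟨_, rfl⟩
  have hmul : d * Module.finrank K' K = 4 := by
    rw [← hd, Module.finrank_mul_finrank, hfr]
  have hcard : Fintype.card K' = (Fintype.card F) ^ d := by
    rw [← hd]; exact Module.card_eq_pow_finrank (K := F)
  have hq2 : 2 ≤ Fintype.card F := Fintype.one_lt_card
  -- `p ∣ q ^ d - 1`
  have hlam0 : lam ≠ 0 := by
    intro h0
    rw [h0, orderOf_zero] at hlam
    exact hp.ne_zero hlam.symm
  have hpow : lam ^ ((Fintype.card F) ^ d - 1) = 1 := by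
    have h1 : (⟨lam, hlamK⟩ : K') ≠ 0 := fun h => hlam0 (congrArg Subtype.val h)
    have h3 := FiniteField.pow_card_sub_one_eq_one (⟨lam, hlamK⟩ : K') h1
    rw [hcard] at h3
    have := congrArg (fun x : K' => (x : K)) h3
    simpa using this
  have hpd : p ∣ (Fintype.card F) ^ d - 1 := by
    rw [← hlam]; exact orderOf_dvd_of_pow_eq_one hpow
  have hd4 : d = 4 := by
    have hdvd : d ∣ 4 := ⟨_, hmul.symm⟩
    have hle : d ≤ 4 := Nat.le_of_dvd (by norm_num) hdvd
    by_contra hne
    have hmem : d ∈ Nat.divisors 4 := Nat.mem_divisors.2 ⟨hdvd, by norm_num⟩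
    have hdiv4 : Nat.divisors 4 = {1, 2, 4} := by decide
    rw [hdiv4] at hmem
    have hd12 : d = 1 ∨ d = 2 := by
      simp only [Finset.mem_insert, Finset.mem_singleton] at hmem
      rcases hmem with h | h | h
      · exact Or.inl h
      · exact Or.inr h
      · exact absurd h hne
    have h1 : p ∣ (Fintype.card F) ^ 2 - 1 := by
      rcases hd12 with h | h
      · rw [h, pow_one] at hpd
        have : (Fintype.card F) ^ 2 - 1 = (Fintype.card F - 1) * (Fintype.card F + 1) := by
          have : 1 ≤ Fintype.card F := by omega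
          zify [this, Nat.one_le_pow 2 _ this]
          ring
        rw [this]
        exact dvd_mul_of_dvd_left hpd _
      · rwa [h] at hpd
    have h3 : p ∣ 2 := by
      have h4 : (Fintype.card F) ^ 2 + 1 = ((Fintype.card F) ^ 2 - 1) + 2 := by
        have : 1 ≤ (Fintype.card F) ^ 2 := Nat.one_le_pow _ _ (by omega)
        omega
      rw [h4] at hq
      exact (Nat.dvd_add_right h1).1 hq
    exact hp2 ((Nat.prime_dvd_prime_iff_eq hp Nat.prime_two).1 h3)
  -- hence the field is everything
  have htop : ∀ a : K, a ∈ K' := by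
    have hcardK : Fintype.card K = (Fintype.card F) ^ 4 := by
      rw [Module.card_eq_pow_finrank (K := F) (V := K), hfr]
    rw [hd4] at hcard
    let A : AddSubgroup K := K'.toSubalgebra.toSubmodule.toAddSubgroup
    have hA : Nat.card A = Nat.card K := by
      rw [Nat.card_eq_fintype_card (α := K), hcardK, ← hcard, ← Nat.card_eq_fintype_card]
      rfl
    have := AddSubgroup.eq_top_of_card_eq A hA
    intro a
    have ha : a ∈ A := by rw [this]; trivial
    exact ha
  intro a z
  exact htop a z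

end field

section centralizer

open scoped Pointwise in
theorem mem_smul_sylow_iff_conj {G : Type*} [Group G] {p : ℕ} (P : Sylow p G) (k x : G) :
    x ∈ (k • P : Sylow p G) ↔ k⁻¹ * x * k ∈ P := by
  rw [Sylow.smul_def]
  show x ∈ MulAut.conj k • (P : Subgroup G) ↔ _
  rw [Subgroup.mem_pointwise_smul_iff_inv_smul_mem]
  simp [MulAut.smul_def]
  exact Iff.rfl

theorem orderOf_conj_eq {G : Type*} [Group G] (k u : G) : orderOf (k * u * k⁻¹) = orderOf u := by
  have := orderOf_injective (MulAut.conj k).toMonoidHom (MulAut.conj k).injective u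
  simpa [MulAut.conj_apply] using this

variable {F : Type*} [Field F] [Fintype F]

theorem gl4_centralizer_comm [CharP F 2] {p : ℕ} [hp : Fact p.Prime] (hp2 : p ≠ 2)
    (hq : p ∣ (Fintype.card F) ^ 2 + 1) (x : GL (Fin 4) F) (hx : orderOf x = p)
    (M N : GL (Fin 4) F) (hM : M * x = x * M) (hN : N * x = x * N) : M * N = N * M := by
  classical
  have : Fact (Nat.Prime 2) := ⟨Nat.prime_two⟩
  set K := FiniteField.Extension F 2 4 with hK
  have hfr : Module.finrank F K = 4 := FiniteField.finrank_extension F 2 4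
  have : Fintype K := Fintype.ofFinite K
  let b : Module.Basis (Fin 4) F K := Module.finBasisOfFinrankEq F K hfr
  let Φ : (K →ₗ[F] K) ≃ₐ[F] Matrix (Fin 4) (Fin 4) F := LinearMap.toMatrixAlgEquiv b
  let ψ : K →* Matrix (Fin 4) (Fin 4) F :=
    (Φ : (K →ₗ[F] K) →* Matrix (Fin 4) (Fin 4) F).comp
      ((Algebra.lmul F K : K →ₐ[F] Module.End F K) : K →* Module.End F K)
  have hψ : Function.Injective ψ := by
    intro x y hxy
    apply Algebra.lmul_injective (R := F) (A := K)
    exact Φ.injective hxy
  let φ : Kˣ →* GL (Fin 4) F := Units.map ψ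
  have hφ : Function.Injective φ := Units.map_injective hψ
  set C := φ.range with hC
  have hcardC : Nat.card C = (Fintype.card F) ^ 4 - 1 := by
    rw [← Nat.card_congr (MonoidHom.ofInjective hφ).toEquiv, Nat.card_units,
      FiniteField.natCard_extension, Nat.card_eq_fintype_card]
  have hq1 : 1 ≤ Fintype.card F := Fintype.card_pos
  have hq2 : 2 ≤ Fintype.card F := Fintype.one_lt_card
  have hpos : 0 < (Fintype.card F) ^ 4 - 1 := by
    have : 2 ^ 4 ≤ (Fintype.card F) ^ 4 := Nat.pow_le_pow_left hq2 4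
    omega
  have hidx : C.index = ((Fintype.card F) ^ 4 - Fintype.card F) *
      ((Fintype.card F) ^ 4 - (Fintype.card F) ^ 2) * ((Fintype.card F) ^ 4 - (Fintype.card F) ^ 3) := by
    have h1 := Subgroup.index_mul_card C
    rw [hcardC, Matrix.card_GL_field, Fin.prod_univ_four] at h1
    simp only [Fin.val_zero, pow_zero, Fin.val_one, pow_one, Fin.val_two] at h1
    have h3 : ((3 : Fin 4) : ℕ) = 3 := rfl
    rw [h3] at h1
    apply Nat.eq_of_mul_eq_mul_right hpos
    rw [h1]; ring
  have hnd : ¬ p ∣ C.index := by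
    rw [hidx]
    exact not_dvd_gl4_index hp.out hp2 hq hq1
  -- a Sylow subgroup inside `C`
  let T : Sylow p C := default
  set T' : Subgroup (GL (Fin 4) F) := (T : Subgroup C).map C.subtype with hT'
  have hTp : IsPGroup p T' := T.isPGroup'.map _
  have hidx' : ¬ p ∣ T'.index := by
    rw [hT', Subgroup.index_map_subtype]
    exact (Nat.Prime.not_dvd_mul hp.out T.not_dvd_index hnd)
  let S : Sylow p (GL (Fin 4) F) := hTp.toSylow hidx'
  -- conjugate `x` into `C`
  have hxp : IsPGroup p (Subgroup.zpowers x) := by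
    apply IsPGroup.of_card (n := 1)
    rw [Nat.card_zpowers, hx, pow_one]
  obtain ⟨P, hP⟩ := hxp.exists_le_sylow
  obtain ⟨c, hc⟩ := MulAction.exists_smul_eq (GL (Fin 4) F) S P
  have hxS : x ∈ (c • S : Sylow p (GL (Fin 4) F)) := by
    rw [hc]; exact hP (Subgroup.mem_zpowers x)
  rw [mem_smul_sylow_iff_conj] at hxS
  have hxC : c⁻¹ * x * c ∈ C := by
    obtain ⟨y, -, hy⟩ := hxS
    rw [← hy]
    exact y.2
  obtain ⟨lam, hlam⟩ := hxC
  have hlamord : orderOf (lam : K) = p := by
    rw [orderOf_units, ← orderOf_injective φ hφ lam, hlam, ← hx]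
    have := orderOf_conj_eq c⁻¹ x
    rwa [inv_inv] at this
  -- anything commuting with `φ lam` is in the image of `ψ`
  have key : ∀ M' : GL (Fin 4) F, M' * φ lam = φ lam * M' →
      ∃ a : K, (M' : Matrix (Fin 4) (Fin 4) F) = ψ a := by
    intro M' hM'
    have h1 : (M' : Matrix (Fin 4) (Fin 4) F) * ψ lam = ψ lam * (M' : Matrix (Fin 4) (Fin 4) F) :=
      congrArg (fun g : GL (Fin 4) F => (g : Matrix (Fin 4) (Fin 4) F)) hM'
    set f : K →ₗ[F] K := Φ.symm (M' : Matrix (Fin 4) (Fin 4) F) with hf
    have h3 : f * Algebra.lmul F K (lam : K) = Algebra.lmul F K (lam : K) * f := by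
      apply Φ.injective
      rw [map_mul, map_mul, hf, AlgEquiv.apply_symm_apply]
      exact h1
    have h4 : ∀ z, f ((lam : K) * z) = (lam : K) * f z := by
      intro z
      have := LinearMap.congr_fun h3 z
      simpa using this
    have h5 := linField_eq_top hfr hp.out hp2 hq (lam : K) hlamord f h4
    refine ⟨f 1, ?_⟩
    show _ = Φ (Algebra.lmul F K (f 1))
    have h6 : Algebra.lmul F K (f 1) = f := by
      apply LinearMap.ext
      intro z
      have := h5 z 1
      rw [mul_one] at this
      rw [this]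
      simp [mul_comm]
    rw [h6, hf, AlgEquiv.apply_symm_apply]
  have hconj : ∀ M : GL (Fin 4) F, M * x = x * M →
      (c⁻¹ * M * c) * φ lam = φ lam * (c⁻¹ * M * c) := by
    intro M hM
    rw [hlam]
    calc c⁻¹ * M * c * (c⁻¹ * x * c) = c⁻¹ * (M * x) * c := by group
      _ = c⁻¹ * (x * M) * c := by rw [hM]
      _ = c⁻¹ * x * c * (c⁻¹ * M * c) := by group
  obtain ⟨a1, ha1⟩ := key _ (hconj M hM)
  obtain ⟨a2, ha2⟩ := key _ (hconj N hN)
  have hcomm0 : ∀ (A B : GL (Fin 4) F) (a1 a2 : K), (A : Matrix (Fin 4) (Fin 4) F) = ψ a1 →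
      (B : Matrix (Fin 4) (Fin 4) F) = ψ a2 → A * B = B * A := by
    intro A B a1 a2 h1 h2
    apply Units.ext
    rw [Units.val_mul, Units.val_mul, h1, h2, ← map_mul, ← map_mul, mul_comm]
  have hcomm : (c⁻¹ * M * c) * (c⁻¹ * N * c) = (c⁻¹ * N * c) * (c⁻¹ * M * c) :=
    hcomm0 _ _ a1 a2 ha1 ha2
  calc M * N = c * ((c⁻¹ * M * c) * (c⁻¹ * N * c)) * c⁻¹ := by group
    _ = c * ((c⁻¹ * N * c) * (c⁻¹ * M * c)) * c⁻¹ := by rw [hcomm]
    _ = N * M := by group

end centralizer

end Cfsg.Agent.Helper6
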