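import Cfsg.Agent.Helper6.Singer2

/-!
# Elements of prime order dividing `q² + 1` in `GL₄(q)` have no non-zero fixed vector
-/

set_option autoImplicit false

namespace Cfsg.Agent.Helper6

section fixedvec

variable {F : Type*} [Field F] [Fintype F]

theorem gl4_no_fixed_vector [CharP F 2] {p : ℕ} [hp : Fact p.Prime] (hp2 : p ≠ 2)
    (hq : p ∣ (Fintype.card F) ^ 2 + 1) (x : GL (Fin 4) F) (hx : orderOf x = p)
    (w : Fin 4 → F) (hw : (x : Matrix (Fin 4) (Fin 4) F).mulVec w = w) : w = 0 := by
  classical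
  have : Fact (Nat.Prime 2) := ⟨Nat.prime_two⟩
  set K := FiniteField.Extension F 2 4 with hK
  have hfr : Module.finrank F K = 4 := FiniteField.finrank_extension F 2 4
  have : Fintype K := Fintype.ofFinite K
  let b : Module.Basis (Fin 4) F K := Module.finBasisOfFinrankEq F K hfr
  let Φ : (K →ₗ[F] K) ≃ₐ[F] Matrix (Fin 4) (Fin 4) F := LinearMap.toMatrixAlgEquiv b
  let ψ : K →* Matrix (Fin 4) (Fin 4) F :=
    (Φ : (K →ₗ[F] K) →* Matrix (Fin 4) (Fin 4) F).comp
      ((Algebra.lmul F K : K →ₐ[F] Module.End F K) : K →* Module.End F K)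
  have hψ : Function.Injective ψ := by
    intro x y hxy
    apply Algebra.lmul_injective (R := F) (A := K)
    exact Φ.injective hxy
  let φ : Kˣ →* GL (Fin 4) F := Units.map ψ
  have hφ : Function.Injective φ := Units.map_injective hψ
  set C := φ.range with hC
  have hcardC : Nat.card C = (Fintype.card F) ^ 4 - 1 := by
    rw [← Nat.card_congr (MonoidHom.ofInjective hφ).toEquiv, Nat.card_units,
      FiniteField.natCard_extension, Nat.card_eq_fintype_card]
  have hq1 : 1 ≤ Fintype.card F := Fintype.card_pos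
  have hq2 : 2 ≤ Fintype.card F := Fintype.one_lt_card
  have hpos : 0 < (Fintype.card F) ^ 4 - 1 := by
    have : 2 ^ 4 ≤ (Fintype.card F) ^ 4 := Nat.pow_le_pow_left hq2 4
    omega
  have hidx : C.index = ((Fintype.card F) ^ 4 - Fintype.card F) *
      ((Fintype.card F) ^ 4 - (Fintype.card F) ^ 2) * ((Fintype.card F) ^ 4 - (Fintype.card F) ^ 3) := by
    have h1 := Subgroup.index_mul_card C
    rw [hcardC, Matrix.card_GL_field, Fin.prod_univ_four] at h1
    simp only [Fin.val_zero, pow_zero, Fin.val_one, pow_one, Fin.val_two] at h1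
    have h3 : ((3 : Fin 4) : ℕ) = 3 := rfl
    rw [h3] at h1
    apply Nat.eq_of_mul_eq_mul_right hpos
    rw [h1]; ring
  have hnd : ¬ p ∣ C.index := by
    rw [hidx]
    exact not_dvd_gl4_index hp.out hp2 hq hq1
  -- a Sylow subgroup inside `C`
  let T : Sylow p C := default
  set T' : Subgroup (GL (Fin 4) F) := (T : Subgroup C).map C.subtype with hT'
  have hTp : IsPGroup p T' := T.isPGroup'.map _
  have hidx' : ¬ p ∣ T'.index := by
    rw [hT', Subgroup.index_map_subtype]
    exact (Nat.Prime.not_dvd_mul hp.out T.not_dvd_index hnd)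
  let S : Sylow p (GL (Fin 4) F) := hTp.toSylow hidx'
  -- conjugate `x` into `C`
  have hxp : IsPGroup p (Subgroup.zpowers x) := by
    apply IsPGroup.of_card (n := 1)
    rw [Nat.card_zpowers, hx, pow_one]
  obtain ⟨P, hP⟩ := hxp.exists_le_sylow
  obtain ⟨c, hc⟩ := MulAction.exists_smul_eq (GL (Fin 4) F) S P
  have hxS : x ∈ (c • S : Sylow p (GL (Fin 4) F)) := by
    rw [hc]; exact hP (Subgroup.mem_zpowers x)
  rw [mem_smul_sylow_iff_conj] at hxS
  have hxC : c⁻¹ * x * c ∈ C := by
    obtain ⟨y, -, hy⟩ := hxS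
    rw [← hy]
    exact y.2
  obtain ⟨lam, hlam⟩ := hxC
  have hlamord : orderOf (lam : K) = p := by
    rw [orderOf_units, ← orderOf_injective φ hφ lam, hlam, ← hx]
    have := orderOf_conj_eq c⁻¹ x
    rwa [inv_inv] at this
  -- the fixed vector transported to the Singer cycle
  have hp1 : p ≠ 1 := hp.out.one_lt.ne'
  have hlam1 : (lam : K) ≠ 1 := by
    intro h
    rw [h, orderOf_one] at hlamord
    exact hp1 hlamord.symm
  set w' : Fin 4 → F := ((c⁻¹ : GL (Fin 4) F) : Matrix (Fin 4) (Fin 4) F).mulVec w with hw'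
  have hfix : (ψ (lam : K)).mulVec w' = w' := by
    have h1 : (ψ (lam : K)) = ((c⁻¹ * x * c : GL (Fin 4) F) : Matrix (Fin 4) (Fin 4) F) := by
      rw [← hlam]; rfl
    rw [h1, hw', Units.val_mul, Units.val_mul, Matrix.mulVec_mulVec, Matrix.mul_assoc,
      Matrix.mul_assoc, ← Units.val_mul c, mul_inv_cancel, Units.val_one, Matrix.mul_one,
      ← Matrix.mulVec_mulVec, hw]
  set z : K := b.equivFun.symm w' with hz
  have hrepr : (b.repr z : Fin 4 → F) = w' := by
    have := b.equivFun.apply_symm_apply w'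
    rw [← hz] at this
    exact this
  have h3 := LinearMap.toMatrix_mulVec_repr b b (Algebra.lmul F K (lam : K)) z
  have h4 : (ψ (lam : K)) = LinearMap.toMatrix b b (Algebra.lmul F K (lam : K)) := rfl
  rw [← h4, hrepr, hfix] at h3
  have h5 : (b.repr z : Fin 4 → F) = b.repr ((lam : K) * z) := by
    rw [hrepr, h3]; rfl
  have h6 : z = (lam : K) * z := by
    apply b.repr.injective
    exact DFunLike.coe_injective h5
  have hz0 : z = 0 := by
    have h7 : ((lam : K) - 1) * z = 0 := by rw [sub_mul, one_mul, ← h6, sub_self]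
    rcases mul_eq_zero.1 h7 with h | h
    · exact absurd (sub_eq_zero.1 h) hlam1
    · exact h
  have hw'0 : w' = 0 := by
    rw [← hrepr, hz0, map_zero]; rfl
  have : w = ((c : GL (Fin 4) F) : Matrix (Fin 4) (Fin 4) F).mulVec w' := by
    rw [hw', Matrix.mulVec_mulVec, ← Units.val_mul, mul_inv_cancel, Units.val_one,
      Matrix.one_mulVec]
  rw [this, hw'0, Matrix.mulVec_zero]

end fixedvec

end Cfsg.Agent.Helper6
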