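import Mathlib
import Cfsg.Agent.Helper44.ReflGenAll
import Cfsg.Agent.Helper44.SpinorRefl

/-!
# S2094 block S (helper6): a central extension of `Ω(Q)` inside the units of the Clifford algebra

For a quadratic form `Q` on `F^ι` (`2 ≠ 0` in `F`) the pairs `(x, g)` of a unit `x` of the Clifford algebra and an
isometry `g` with `x ι(m) = ι(g m) x` for all `m` form a group `cliffPair Q`.  The second projection has a central
kernel, its image contains all products of two reflections (`(ι u ι v, r_u r_v)` is such a pair), and `(-1, 1)` is a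
commutator of two pairs lying over `Ω(Q)` when there are three pairwise orthogonal vectors of the same non-zero norm.
-/

set_option autoImplicit false

namespace Cfsg.Agent.Helper6.Spin

open Matrix Cfsg.Agent.Helper44
open scoped commutatorElement

variable {F : Type*} [Field F] {ι : Type} [Fintype ι] [DecidableEq ι] (Q : QuadraticForm F (ι → F))

/-- the pairs `(x, g)` with `x ι(m) = ι(g m) x` -/
def cliffPair : Subgroup ((CliffordAlgebra Q)ˣ × Cfsg.isometryGroup F ⇑Q) where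
  carrier := {p | ∀ m : ι → F, (p.1 : CliffordAlgebra Q) * CliffordAlgebra.ι Q m
    = CliffordAlgebra.ι Q ((p.2.1 : Matrix ι ι F) *ᵥ m) * (p.1 : CliffordAlgebra Q)}
  one_mem' := by
    intro m
    show ((1 : (CliffordAlgebra Q)ˣ) : CliffordAlgebra Q) * _ = CliffordAlgebra.ι Q
      ((((1 : Cfsg.isometryGroup F ⇑Q)).1 : Matrix ι ι F) *ᵥ m) * ((1 : (CliffordAlgebra Q)ˣ) : CliffordAlgebra Q)
    rw [isometryGroup_one_mulVec, Units.val_one, one_mul, mul_one]
  mul_mem' := by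
    intro a b ha hb m
    show ((a.1 * b.1 : (CliffordAlgebra Q)ˣ) : CliffordAlgebra Q) * _ = CliffordAlgebra.ι Q
      ((((a.2 * b.2 : Cfsg.isometryGroup F ⇑Q)).1 : Matrix ι ι F) *ᵥ m)
        * ((a.1 * b.1 : (CliffordAlgebra Q)ˣ) : CliffordAlgebra Q)
    rw [isometryGroup_mul_mulVec, Units.val_mul, mul_assoc, hb m, ← mul_assoc, ha, mul_assoc]
  inv_mem' := by
    intro a ha m
    show ((a.1⁻¹ : (CliffordAlgebra Q)ˣ) : CliffordAlgebra Q) * _ = CliffordAlgebra.ι Q
      ((((a.2⁻¹ : Cfsg.isometryGroup F ⇑Q)).1 : Matrix ι ι F) *ᵥ m)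
        * ((a.1⁻¹ : (CliffordAlgebra Q)ˣ) : CliffordAlgebra Q)
    have h1 := ha ((((a.2⁻¹ : Cfsg.isometryGroup F ⇑Q)).1 : Matrix ι ι F) *ᵥ m)
    rw [← isometryGroup_mul_mulVec, mul_inv_cancel, isometryGroup_one_mulVec] at h1
    calc ((a.1⁻¹ : (CliffordAlgebra Q)ˣ) : CliffordAlgebra Q) * CliffordAlgebra.ι Q m
        = ((a.1⁻¹ : (CliffordAlgebra Q)ˣ) : CliffordAlgebra Q) * (CliffordAlgebra.ι Q m * (a.1 : CliffordAlgebra Q))
            * ((a.1⁻¹ : (CliffordAlgebra Q)ˣ) : CliffordAlgebra Q) := by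
          rw [mul_assoc, mul_assoc, Units.mul_inv, mul_one]
      _ = _ := by
          rw [← h1, ← mul_assoc, Units.inv_mul, one_mul]

theorem mem_cliffPair_iff (p : (CliffordAlgebra Q)ˣ × Cfsg.isometryGroup F ⇑Q) :
    p ∈ cliffPair Q ↔ ∀ m : ι → F, (p.1 : CliffordAlgebra Q) * CliffordAlgebra.ι Q m
      = CliffordAlgebra.ι Q ((p.2.1 : Matrix ι ι F) *ᵥ m) * (p.1 : CliffordAlgebra Q) := Iff.rfl

/-- the vector `u` with `Q u ≠ 0` as a unit of the Clifford algebra -/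
noncomputable def vecUnit (u : ι → F) (hu : Q u ≠ 0) : (CliffordAlgebra Q)ˣ where
  val := CliffordAlgebra.ι Q u
  inv := (Q u)⁻¹ • CliffordAlgebra.ι Q u
  val_inv := by
    rw [mul_smul_comm, CliffordAlgebra.ι_sq_scalar, Algebra.algebraMap_eq_smul_one, smul_smul,
      inv_mul_cancel₀ hu, one_smul]
  inv_val := by
    rw [smul_mul_assoc, CliffordAlgebra.ι_sq_scalar, Algebra.algebraMap_eq_smul_one, smul_smul,
      inv_mul_cancel₀ hu, one_smul]

@[simp] theorem vecUnit_val (u : ι → F) (hu : Q u ≠ 0) :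
    ((vecUnit Q u hu : (CliffordAlgebra Q)ˣ) : CliffordAlgebra Q) = CliffordAlgebra.ι Q u := rfl

/-- `(ι u, -r_u)` is a pair -/
theorem vec_mem (u : ι → F) (hu : Q u ≠ 0) :
    (vecUnit Q u hu, negOne Q * refl Q u hu) ∈ cliffPair Q := by
  intro m
  show CliffordAlgebra.ι Q u * CliffordAlgebra.ι Q m
    = CliffordAlgebra.ι Q (((negOne Q * refl Q u hu).1 : Matrix ι ι F) *ᵥ m) * CliffordAlgebra.ι Q u
  rw [negOne_mul_refl_mulVec, refl_mulVec, neg_sub, map_sub, map_smul, sub_mul, smul_mul_assoc,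
    CliffordAlgebra.ι_sq_scalar, Algebra.algebraMap_eq_smul_one, smul_smul, mul_comm ((Q u)⁻¹), mul_assoc,
    inv_mul_cancel₀ hu, mul_one, ← Algebra.algebraMap_eq_smul_one, ← CliffordAlgebra.ι_mul_ι_add_swap,
    add_sub_cancel_right]

/-- `-1` is central in the isometry group -/
theorem negOne_comm (g : Cfsg.isometryGroup F ⇑Q) : negOne Q * g = g * negOne Q := by
  apply isometryGroup_ext
  intro x
  rw [isometryGroup_mul_mulVec, isometryGroup_mul_mulVec, negOne_mulVec, negOne_mulVec,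
    Matrix.mulVec_neg]

/-- `(ι u ι v, r_u r_v)` is a pair -/
theorem pair_mem (u v : ι → F) (hu : Q u ≠ 0) (hv : Q v ≠ 0) :
    (vecUnit Q u hu * vecUnit Q v hv, refl Q u hu * refl Q v hv) ∈ cliffPair Q := by
  have h := (cliffPair Q).mul_mem (vec_mem Q u hu) (vec_mem Q v hv)
  have h2 : negOne Q * refl Q u hu * (negOne Q * refl Q v hv) = refl Q u hu * refl Q v hv := by
    rw [negOne_comm Q (refl Q u hu), mul_assoc, ← mul_assoc (negOne Q), negOne_mul_self, one_mul]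
  rw [Prod.mk_mul_mk, h2] at h
  exact h

/-- a unit of a pair over `1` is central in the Clifford algebra -/
theorem central_of_mem {x : (CliffordAlgebra Q)ˣ} (hx : (x, (1 : Cfsg.isometryGroup F ⇑Q)) ∈ cliffPair Q)
    (a : CliffordAlgebra Q) : (x : CliffordAlgebra Q) * a = a * (x : CliffordAlgebra Q) := by
  induction a using CliffordAlgebra.induction with
  | algebraMap r => exact (Algebra.commutes r _).symm
  | ι m =>
    have h := hx m
    rw [isometryGroup_one_mulVec] at h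
    exact h
  | mul a b ha hb => rw [← mul_assoc, ha, mul_assoc, hb, mul_assoc]
  | add a b ha hb => rw [mul_add, add_mul, ha, hb]

/-- the kernel of the second projection is central -/
theorem comm_of_snd_eq_one {p : (CliffordAlgebra Q)ˣ × Cfsg.isometryGroup F ⇑Q} (hp : p ∈ cliffPair Q)
    (h1 : p.2 = 1) (r : (CliffordAlgebra Q)ˣ × Cfsg.isometryGroup F ⇑Q) : p * r = r * p := by
  obtain ⟨x, g⟩ := p
  have hg : g = 1 := h1
  subst hg
  refine Prod.ext ?_ ?_
  · exact Units.ext (central_of_mem Q hp _)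
  · show 1 * r.2 = r.2 * 1
    rw [one_mul, mul_one]

/-- `(-1, 1)` is a pair -/
theorem neg_one_mem : ((-1 : (CliffordAlgebra Q)ˣ), (1 : Cfsg.isometryGroup F ⇑Q)) ∈ cliffPair Q := by
  intro m
  show ((-1 : (CliffordAlgebra Q)ˣ) : CliffordAlgebra Q) * _ = CliffordAlgebra.ι Q
      ((((1 : Cfsg.isometryGroup F ⇑Q)).1 : Matrix ι ι F) *ᵥ m) * ((-1 : (CliffordAlgebra Q)ˣ) : CliffordAlgebra Q)
  rw [isometryGroup_one_mulVec, Units.val_neg, Units.val_one, neg_one_mul, mul_neg_one]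

/-- `-1 ≠ 1` in the Clifford algebra -/
theorem neg_one_ne_one (h2 : (2 : F) ≠ 0) : (-1 : (CliffordAlgebra Q)ˣ) ≠ 1 := by
  intro h
  haveI : Invertible (2 : F) := invertibleOfNonzero h2
  have h1 : (-1 : CliffordAlgebra Q) = 1 := by
    have := congrArg Units.val h
    simpa using this
  have h3 : (2 : CliffordAlgebra Q) = 0 := by
    have : (1 : CliffordAlgebra Q) + 1 = 0 := by
      nth_rewrite 1 [← h1]
      rw [neg_add_cancel]
    rw [← this]; norm_num
  have h4 : (1 : CliffordAlgebra Q) = 0 := by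
    have h5 : algebraMap F (CliffordAlgebra Q) (2⁻¹ * 2) = 0 := by
      rw [map_mul, map_ofNat, h3, mul_zero]
    rw [inv_mul_cancel₀ h2, map_one] at h5
    exact h5
  exact one_ne_zero h4

theorem neg_one_orderOf (h2 : (2 : F) ≠ 0) :
    orderOf (((-1 : (CliffordAlgebra Q)ˣ), (1 : Cfsg.isometryGroup F ⇑Q)) :
      (CliffordAlgebra Q)ˣ × Cfsg.isometryGroup F ⇑Q) = 2 := by
  apply orderOf_eq_prime
  · rw [sq, Prod.mk_mul_mk, neg_one_mul, neg_neg, one_mul]; rfl
  · intro h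
    exact neg_one_ne_one Q h2 (congrArg Prod.fst h)

/-- reflections in orthogonal vectors commute -/
theorem refl_comm (u v : ι → F) (hu : Q u ≠ 0) (hv : Q v ≠ 0) (huv : QuadraticMap.polar ⇑Q u v = 0) :
    refl Q u hu * refl Q v hv = refl Q v hv * refl Q u hu := by
  have hvu : QuadraticMap.polar ⇑Q v u = 0 := by rw [QuadraticMap.polar_comm]; exact huv
  apply isometryGroup_ext
  intro x
  rw [isometryGroup_mul_mulVec, isometryGroup_mul_mulVec]
  simp only [refl_mulVec, QuadraticMap.polar_sub_right, QuadraticMap.polar_smul_right, huv, hvu,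
    smul_eq_mul, mul_zero, sub_zero]
  abel

/-- orthogonal vectors anticommute in the Clifford algebra -/
theorem ι_anticomm (u v : ι → F) (huv : QuadraticMap.polar ⇑Q u v = 0) :
    CliffordAlgebra.ι Q u * CliffordAlgebra.ι Q v = -(CliffordAlgebra.ι Q v * CliffordAlgebra.ι Q u) := by
  have h := CliffordAlgebra.ι_mul_ι_add_swap (Q := Q) u v
  rw [huv, map_zero] at h
  exact eq_neg_of_add_eq_zero_left h

theorem anticomm_aux {R : Type*} [Ring R] (a b c s : R) (hab : a * b = -(b * a)) (hac : a * c = -(c * a))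
    (hbc : b * c = -(c * b)) (hs : b * b = s) (hsc : s * c = c * s) :
    a * b * (b * c) = -(b * c * (a * b)) := by
  have hca : c * a = -(a * c) := by rw [hac, neg_neg]
  have hba : b * a = -(a * b) := by rw [hab, neg_neg]
  have h1 : b * c * (a * b) = -(a * c * s) := by
    calc b * c * (a * b) = b * (c * a) * b := by simp only [mul_assoc]
      _ = -(b * a * c * b) := by rw [hca]; simp only [mul_neg, neg_mul, mul_assoc]
      _ = a * (b * c) * b := by rw [hba]; simp only [neg_mul, neg_neg, mul_assoc]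
      _ = -(a * c * (b * b)) := by rw [hbc]; simp only [mul_neg, neg_mul, mul_assoc]
      _ = -(a * c * s) := by rw [hs]
  rw [h1, neg_neg]
  calc a * b * (b * c) = a * (b * b) * c := by simp only [mul_assoc]
    _ = a * c * s := by rw [hs, mul_assoc, hsc, mul_assoc]

/-- the commutator of `(ι u₁ ι u₂, r₁ r₂)` and `(ι u₂ ι u₃, r₂ r₃)` is `(-1, 1)` -/
theorem commutator_eq (u₁ u₂ u₃ : ι → F) (h₁ : Q u₁ ≠ 0) (h₂ : Q u₂ ≠ 0) (h₃ : Q u₃ ≠ 0)
    (h12 : QuadraticMap.polar ⇑Q u₁ u₂ = 0) (h13 : QuadraticMap.polar ⇑Q u₁ u₃ = 0)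
    (h23 : QuadraticMap.polar ⇑Q u₂ u₃ = 0) :
    ⁅((vecUnit Q u₁ h₁ * vecUnit Q u₂ h₂, refl Q u₁ h₁ * refl Q u₂ h₂) :
        (CliffordAlgebra Q)ˣ × Cfsg.isometryGroup F ⇑Q),
      (vecUnit Q u₂ h₂ * vecUnit Q u₃ h₃, refl Q u₂ h₂ * refl Q u₃ h₃)⁆
      = ((-1 : (CliffordAlgebra Q)ˣ), (1 : Cfsg.isometryGroup F ⇑Q)) := by
  have c12 : Commute (refl Q u₁ h₁) (refl Q u₂ h₂) := refl_comm Q u₁ u₂ h₁ h₂ h12
  have c13 : Commute (refl Q u₁ h₁) (refl Q u₃ h₃) := refl_comm Q u₁ u₃ h₁ h₃ h13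
  have c23 : Commute (refl Q u₂ h₂) (refl Q u₃ h₃) := refl_comm Q u₂ u₃ h₂ h₃ h23
  have hc : Commute (refl Q u₁ h₁ * refl Q u₂ h₂) (refl Q u₂ h₂ * refl Q u₃ h₃) :=
    ((c12.mul_right c13).mul_left ((Commute.refl _).mul_right c23))
  have hab : ∀ a b : (CliffordAlgebra Q)ˣ, a * b = -(b * a) → ⁅a, b⁆ = -1 := by
    intro a b h
    rw [commutatorElement_def, h, neg_mul, neg_mul, mul_inv_cancel_right, mul_inv_cancel]
  refine Prod.ext ?_ ?_
  · show ⁅vecUnit Q u₁ h₁ * vecUnit Q u₂ h₂, vecUnit Q u₂ h₂ * vecUnit Q u₃ h₃⁆ = -1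
    apply hab
    apply Units.ext
    show CliffordAlgebra.ι Q u₁ * CliffordAlgebra.ι Q u₂ * (CliffordAlgebra.ι Q u₂ * CliffordAlgebra.ι Q u₃)
      = -(CliffordAlgebra.ι Q u₂ * CliffordAlgebra.ι Q u₃ * (CliffordAlgebra.ι Q u₁ * CliffordAlgebra.ι Q u₂))
    exact anticomm_aux _ _ _ _ (ι_anticomm Q u₁ u₂ h12) (ι_anticomm Q u₁ u₃ h13) (ι_anticomm Q u₂ u₃ h23)
      (CliffordAlgebra.ι_sq_scalar Q u₂) (Algebra.commutes (Q u₂) _)
  · show ⁅refl Q u₁ h₁ * refl Q u₂ h₂, refl Q u₂ h₂ * refl Q u₃ h₃⁆ = 1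
    exact commutatorElement_eq_one_iff_commute.mpr hc

end Cfsg.Agent.Helper6.Spin
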