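import Mathlib
import Cfsg.Prelude.Def_KGroupFacts
import Cfsg.Agent.Helper6.Spin1
import Cfsg.Agent.Helper66.DoubleCover

/-!
# S2094 block S (helper6): a finite stem extension of `PΩ(Q)` with kernel of order two

If `Z(Ω(Q)) = 1`, `Ω(Q)` is generated by products of two reflections and there are three pairwise orthogonal vectors
of the same non-zero norm, then `PΩ(Q)` has a finite stem extension with kernel of order two.
-/

set_option autoImplicit false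

namespace Cfsg.Agent.Helper6.Spin

open Matrix Cfsg.Agent.Helper44
open scoped commutatorElement

universe u

variable {F : Type u} [Field F] {ι : Type} [Fintype ι] [DecidableEq ι] (Q : QuadraticForm F (ι → F))

/-- the pairs over `Ω(Q)` -/
def spinSub : Subgroup ((CliffordAlgebra Q)ˣ × Cfsg.isometryGroup F ⇑Q) :=
  cliffPair Q ⊓ (Cfsg.Omega F ⇑Q).comap (MonoidHom.snd _ _)

/-- the projection to `Ω(Q)` -/
def spinHom : spinSub Q →* Cfsg.Omega F ⇑Q :=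
  ((MonoidHom.snd _ _).comp (spinSub Q).subtype).codRestrict (Cfsg.Omega F ⇑Q) (fun x => x.2.2)

theorem spinHom_coe (p : spinSub Q) : ((spinHom Q p : Cfsg.Omega F ⇑Q) : Cfsg.isometryGroup F ⇑Q) = p.1.2 :=
  rfl

/-- the projection to `PΩ(Q)` -/
def spinProj : spinSub Q →* Cfsg.POmega F ⇑Q :=
  (QuotientGroup.mk' (Subgroup.center (Cfsg.Omega F ⇑Q))).comp (spinHom Q)

theorem spinHom_surjective (hgen : Cfsg.Omega F ⇑Q ≤ Subgroup.closure (reflPairs Q)) :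
    Function.Surjective (spinHom Q) := by
  have h1 : Subgroup.closure (reflPairs Q) ≤ (cliffPair Q).map (MonoidHom.snd _ _) := by
    rw [Subgroup.closure_le]
    rintro g ⟨u, v, hu, hv, hg⟩
    refine ⟨(vecUnit Q u hu * vecUnit Q v hv, refl Q u hu * refl Q v hv), pair_mem Q u v hu hv, ?_⟩
    show refl Q u hu * refl Q v hv = g
    apply Subtype.ext
    apply Units.ext
    rw [hg]
    rfl
  rintro ⟨g, hg⟩
  obtain ⟨p, hp, hpg⟩ := h1 (hgen hg)
  have hpg' : p.2 = g := hpg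
  refine ⟨⟨p, hp, ?_⟩, ?_⟩
  · show p.2 ∈ Cfsg.Omega F ⇑Q
    rw [hpg']; exact hg
  · apply Subtype.ext
    exact hpg'

theorem spinProj_surjective (hgen : Cfsg.Omega F ⇑Q ≤ Subgroup.closure (reflPairs Q)) :
    Function.Surjective (spinProj Q) :=
  (QuotientGroup.mk'_surjective _).comp (spinHom_surjective Q hgen)

theorem spinProj_ker_le_center (hcen : Subgroup.center (Cfsg.Omega F ⇑Q) = ⊥) :
    (spinProj Q).ker ≤ Subgroup.center (spinSub Q) := by
  intro p hp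
  rw [MonoidHom.mem_ker] at hp
  have h1 : spinHom Q p ∈ Subgroup.center (Cfsg.Omega F ⇑Q) := by
    have : (QuotientGroup.mk' (Subgroup.center (Cfsg.Omega F ⇑Q))) (spinHom Q p) = 1 := hp
    rwa [QuotientGroup.mk'_apply, QuotientGroup.eq_one_iff] at this
  rw [hcen, Subgroup.mem_bot] at h1
  have h2 : p.1.2 = 1 := by
    rw [← spinHom_coe, h1]; rfl
  rw [Subgroup.mem_center_iff]
  intro r
  apply Subtype.ext
  exact (comm_of_snd_eq_one Q p.2.1 h2 r.1).symm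

/-- the central involution `(-1, 1)` -/
def spinZ : spinSub Q :=
  ⟨((-1 : (CliffordAlgebra Q)ˣ), (1 : Cfsg.isometryGroup F ⇑Q)), neg_one_mem Q, (Cfsg.Omega F ⇑Q).one_mem⟩

theorem spinZ_mem_ker : spinZ Q ∈ (spinProj Q).ker := by
  rw [MonoidHom.mem_ker]
  have : spinHom Q (spinZ Q) = 1 := Subtype.ext rfl
  show (QuotientGroup.mk' _) (spinHom Q (spinZ Q)) = 1
  rw [this, map_one]

theorem spinZ_orderOf (h2 : (2 : F) ≠ 0) : orderOf (spinZ Q) = 2 := by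
  rw [← Subgroup.orderOf_coe]
  exact neg_one_orderOf Q h2

theorem spinZ_mem_commutator (h2 : (2 : F) ≠ 0) (u₁ u₂ u₃ : ι → F) (h₁ : Q u₁ ≠ 0) (e12 : Q u₁ = Q u₂)
    (e23 : Q u₂ = Q u₃)
    (h12 : QuadraticMap.polar ⇑Q u₁ u₂ = 0) (h13 : QuadraticMap.polar ⇑Q u₁ u₃ = 0)
    (h23 : QuadraticMap.polar ⇑Q u₂ u₃ = 0) : spinZ Q ∈ commutator (spinSub Q) := by
  have h₂ : Q u₂ ≠ 0 := e12 ▸ h₁
  have h₃ : Q u₃ ≠ 0 := e23 ▸ h₂
  let a : spinSub Q := ⟨(vecUnit Q u₁ h₁ * vecUnit Q u₂ h₂, refl Q u₁ h₁ * refl Q u₂ h₂),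
    pair_mem Q u₁ u₂ h₁ h₂, refl_mul_refl_mem_Omega_of_eq Q h2 u₁ u₂ h₁ h₂ e12⟩
  let b : spinSub Q := ⟨(vecUnit Q u₂ h₂ * vecUnit Q u₃ h₃, refl Q u₂ h₂ * refl Q u₃ h₃),
    pair_mem Q u₂ u₃ h₂ h₃, refl_mul_refl_mem_Omega_of_eq Q h2 u₂ u₃ h₂ h₃ e23⟩
  have hz : spinZ Q = ⁅a, b⁆ := by
    apply Subtype.ext
    exact (commutator_eq Q u₁ u₂ u₃ h₁ h₂ h₃ h12 h13 h23).symm
  rw [hz, commutator_def]
  exact Subgroup.commutator_mem_commutator (Subgroup.mem_top a) (Subgroup.mem_top b)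

/-- a finite stem extension of `PΩ(Q)` with kernel of order two -/
theorem exists_stem_two [Finite F] (h2 : (2 : F) ≠ 0)
    (hgen : Cfsg.Omega F ⇑Q ≤ Subgroup.closure (reflPairs Q))
    (hcen : Subgroup.center (Cfsg.Omega F ⇑Q) = ⊥)
    (u₁ u₂ u₃ : ι → F) (h₁ : Q u₁ ≠ 0) (e12 : Q u₁ = Q u₂) (e23 : Q u₂ = Q u₃)
    (h12 : QuadraticMap.polar ⇑Q u₁ u₂ = 0) (h13 : QuadraticMap.polar ⇑Q u₁ u₃ = 0)
    (h23 : QuadraticMap.polar ⇑Q u₂ u₃ = 0) :
    ∃ (Γ : Type u) (_ : Group Γ) (_ : Finite Γ) (σ : Γ →* Cfsg.POmega F ⇑Q),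
      Cfsg.IsStemExtension σ ∧ Nonempty (σ.ker ≃* Multiplicative (ZMod 2)) := by
  obtain ⟨Γ, hG, hfin, w, hwc, hw2, hwcomm, hn, ⟨e⟩⟩ :=
    Cfsg.Agent.Helper66.exists_double_cover_of_central_ext (spinProj Q) (spinProj_surjective Q hgen)
      (spinProj_ker_le_center Q hcen) (spinZ Q) (spinZ_mem_ker Q)
      (spinZ_mem_commutator Q h2 u₁ u₂ u₃ h₁ e12 e23 h12 h13 h23) (spinZ_orderOf Q h2)
  refine ⟨Γ, hG, hfin, e.toMonoidHom.comp (QuotientGroup.mk' (Subgroup.zpowers w)), ?_, ?_⟩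
  · have hker : (e.toMonoidHom.comp (QuotientGroup.mk' (Subgroup.zpowers w))).ker = Subgroup.zpowers w := by
      ext g
      rw [MonoidHom.mem_ker, MonoidHom.comp_apply]
      show e (QuotientGroup.mk' _ g) = 1 ↔ _
      rw [EmbeddingLike.map_eq_one_iff, QuotientGroup.mk'_apply, QuotientGroup.eq_one_iff]
    refine ⟨e.surjective.comp (QuotientGroup.mk'_surjective _), ?_, ?_⟩
    · rw [hker, Subgroup.zpowers_le]; exact hwc
    · rw [hker, Subgroup.zpowers_le]; exact hwcomm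
  · have hker : (e.toMonoidHom.comp (QuotientGroup.mk' (Subgroup.zpowers w))).ker = Subgroup.zpowers w := by
      ext g
      rw [MonoidHom.mem_ker, MonoidHom.comp_apply]
      show e (QuotientGroup.mk' _ g) = 1 ↔ _
      rw [EmbeddingLike.map_eq_one_iff, QuotientGroup.mk'_apply, QuotientGroup.eq_one_iff]
    rw [hker]
    have hcard : Nat.card (Subgroup.zpowers w) = 2 := by rw [Nat.card_zpowers, hw2]
    have hcard2 : Nat.card (Multiplicative (ZMod 2)) = 2 := by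
      rw [Nat.card_eq_fintype_card]; rfl
    exact ⟨mulEquivOfCyclicCardEq (hcard.trans hcard2.symm)⟩

end Cfsg.Agent.Helper6.Spin
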