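import Mathlib
import Cfsg.Agent.Helper6.Spin2
import Cfsg.Agent.Helper44.StdForms
import Cfsg.Agent.Helper5.OmegaCard
import Cfsg.Agent.Helper12.GammaOD

/-!
# S2094 block S (helper6): `PΩ_{2m+1}(q)`, `q` odd, `m ≥ 3`, has a finite stem extension with kernel of order two
-/

set_option autoImplicit false

namespace Cfsg.Agent.Helper6.Spin

open Matrix Cfsg.Agent.Helper44

universe u

variable {F : Type u} [Field F] {m : ℕ}

/-- the vector `e_i + f_i` -/
def hv (i : Fin m) : Unit ⊕ (Fin m ⊕ Fin m) → F :=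
  Pi.single (Sum.inr (Sum.inl i)) 1 + Pi.single (Sum.inr (Sum.inr i)) 1

theorem quadFormOdd_hv (i : Fin m) : Cfsg.quadFormOdd m F (hv i) = 1 := by
  unfold Cfsg.quadFormOdd hv
  simp only [Pi.add_apply]
  rw [Pi.single_eq_of_ne (by simp), Pi.single_eq_of_ne (by simp), add_zero]
  rw [Finset.sum_eq_single i]
  · simp
  · intro j _ hj
    have h1 : (Sum.inr (Sum.inl j) : Unit ⊕ (Fin m ⊕ Fin m)) ≠ Sum.inr (Sum.inl i) := by
      intro h; exact hj (Sum.inl.inj (Sum.inr.inj h))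
    simp [Pi.single_eq_of_ne h1]
  · intro h; exact absurd (Finset.mem_univ i) h

theorem quadFormOdd_hv_add (i j : Fin m) (hij : i ≠ j) :
    Cfsg.quadFormOdd m F (hv i + hv j) = 2 := by
  unfold Cfsg.quadFormOdd hv
  simp only [Pi.add_apply]
  rw [Pi.single_eq_of_ne (by simp), Pi.single_eq_of_ne (by simp), Pi.single_eq_of_ne (by simp),
    Pi.single_eq_of_ne (by simp)]
  have hsum : ∀ k : Fin m,
      ((Pi.single (Sum.inr (Sum.inl i)) (1 : F) : Unit ⊕ (Fin m ⊕ Fin m) → F) (Sum.inr (Sum.inl k))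
        + (Pi.single (Sum.inr (Sum.inr i)) (1 : F) : Unit ⊕ (Fin m ⊕ Fin m) → F) (Sum.inr (Sum.inl k))
        + ((Pi.single (Sum.inr (Sum.inl j)) (1 : F) : Unit ⊕ (Fin m ⊕ Fin m) → F) (Sum.inr (Sum.inl k))
        + (Pi.single (Sum.inr (Sum.inr j)) (1 : F) : Unit ⊕ (Fin m ⊕ Fin m) → F) (Sum.inr (Sum.inl k))))
      * ((Pi.single (Sum.inr (Sum.inl i)) (1 : F) : Unit ⊕ (Fin m ⊕ Fin m) → F) (Sum.inr (Sum.inr k))
        + (Pi.single (Sum.inr (Sum.inr i)) (1 : F) : Unit ⊕ (Fin m ⊕ Fin m) → F) (Sum.inr (Sum.inr k))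
        + ((Pi.single (Sum.inr (Sum.inl j)) (1 : F) : Unit ⊕ (Fin m ⊕ Fin m) → F) (Sum.inr (Sum.inr k))
        + (Pi.single (Sum.inr (Sum.inr j)) (1 : F) : Unit ⊕ (Fin m ⊕ Fin m) → F) (Sum.inr (Sum.inr k))))
      = (if k = i then 1 else 0) + (if k = j then 1 else 0) := by
    intro k
    simp only [Pi.single_apply, Sum.inr.injEq, Sum.inl.injEq, reduceCtorEq, if_false, add_zero, zero_add]
    by_cases hki : k = i
    · subst hki
      rw [if_pos rfl, if_neg hij]; ring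
    · by_cases hkj : k = j
      · subst hkj
        rw [if_neg hki, if_pos rfl]; ring
      · rw [if_neg hki, if_neg hkj]; ring
  rw [Finset.sum_congr rfl (fun k _ => hsum k), Finset.sum_add_distrib, Finset.sum_ite_eq',
    Finset.sum_ite_eq']
  simp
  norm_num

theorem polar_hv (i j : Fin m) (hij : i ≠ j) :
    QuadraticMap.polar ⇑(oddForm m F) (hv i) (hv j) = 0 := by
  unfold QuadraticMap.polar
  rw [oddForm_coe, quadFormOdd_hv_add i j hij, quadFormOdd_hv, quadFormOdd_hv]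
  norm_num

/-- **block S**: a finite stem extension of `PΩ_{2m+1}(F)` with kernel of order two -/
theorem exists_stem_two_odd [Fintype F] (h2 : (2 : F) ≠ 0) (hm : 3 ≤ m) :
    ∃ (Γ : Type u) (_ : Group Γ) (_ : Finite Γ) (σ : Γ →* Cfsg.POmega F (Cfsg.quadFormOdd m F)),
      Cfsg.IsStemExtension σ ∧ Nonempty (σ.ker ≃* Multiplicative (ZMod 2)) := by
  obtain ⟨M, hM⟩ := Cfsg.Agent.Helper5.isQF_odd (F := F) m
  have hQ : (QuadraticMap.polarBilin (oddForm m F)).Nondegenerate :=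
    Cfsg.Agent.Helper5.nondegenerate_of_isQF (oddForm m F) hM h2
  have hcard : Fintype.card (Unit ⊕ (Fin m ⊕ Fin m)) = 2 * m + 1 := by
    simp; ring
  have hgen := Omega_le_closure_pairs (oddForm m F) hQ (Or.inr (by rw [hcard]; omega))
  have hcen := Cfsg.Agent.Helper12.GammaO.center_Omega_eq_bot_odd (oddForm m F) h2 hQ
    (by rw [hcard]; omega) (by rw [hcard]; exact ⟨m, rfl⟩)
  have h3 : ∀ k : ℕ, k < 3 → k < m := fun k hk => by omega
  have e : ∀ i : Fin m, oddForm m F (hv i) = 1 := fun i => quadFormOdd_hv i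
  have hne : ∀ a b : ℕ, (ha : a < m) → (hb : b < m) → a ≠ b → (⟨a, ha⟩ : Fin m) ≠ ⟨b, hb⟩ :=
    fun a b ha hb hab h => hab (Fin.mk.inj h)
  exact exists_stem_two (oddForm m F) h2 hgen hcen (hv ⟨0, h3 0 (by norm_num)⟩)
    (hv ⟨1, h3 1 (by norm_num)⟩) (hv ⟨2, h3 2 (by norm_num)⟩)
    (by rw [e]; exact one_ne_zero) (by rw [e, e]) (by rw [e, e])
    (polar_hv _ _ (hne 0 1 _ _ (by norm_num))) (polar_hv _ _ (hne 0 2 _ _ (by norm_num)))
    (polar_hv _ _ (hne 1 2 _ _ (by norm_num)))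

end Cfsg.Agent.Helper6.Spin
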