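import Cfsg.Agent.Helper6.Steiner

set_option autoImplicit false

namespace Cfsg.Agent.Helper6

open Finset

variable {α : Type*} [Fintype α] [DecidableEq α]

/-- number of blocks meeting `b` in exactly `i` points -/
noncomputable def interNum (B : Set (Finset α)) (b : Finset α) (i : ℕ) : ℕ :=
  ((blocks B).filter (fun c => (b ∩ c).card = i)).card

theorem interNum_eq_zero_iff {B : Set (Finset α)} {b : Finset α} {i : ℕ} :
    interNum B b i = 0 ↔ ∀ c ∈ B, (b ∩ c).card ≠ i := by
  unfold interNum
  rw [card_eq_zero, filter_eq_empty_iff]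
  constructor
  · intro h c hc; exact h (mem_blocks.2 hc)
  · intro h c hc; exact h c (mem_blocks.1 hc)

variable {t k : ℕ} {B : Set (Finset α)}

theorem interNum_k (hB : Cfsg.IsSteinerSystem t k B) {b : Finset α} (hb : b ∈ B) (ht : t ≤ k) :
    interNum B b k = 1 := by
  unfold interNum
  rw [card_eq_one]
  refine ⟨b, ?_⟩
  ext c
  simp only [mem_filter, mem_blocks, mem_singleton]
  constructor
  · rintro ⟨hc, hcard⟩
    by_contra hne
    have := inter_card_lt hB hb hc (Ne.symm hne)
    omega
  · rintro rfl
    exact ⟨hb, by rw [inter_self]; exact hB.1 c hb⟩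

theorem interNum_between (hB : Cfsg.IsSteinerSystem t k B) {b : Finset α} (hb : b ∈ B) {i : ℕ}
    (hti : t ≤ i) (hik : i < k) : interNum B b i = 0 := by
  rw [interNum_eq_zero_iff]
  intro c hc hcard
  by_cases hne : b = c
  · subst hne
    rw [inter_self, hB.1 b hb] at hcard
    omega
  · have := inter_card_lt hB hb hc hne
    omega

/-- the intersection equations in terms of `interNum` -/
theorem interNum_eq (hB : Cfsg.IsSteinerSystem t k B) {b : Finset α} (hb : b ∈ B) {j : ℕ}
    (hj : j ≤ t) :
    (∑ i ∈ range (k + 1), interNum B b i * i.choose j) * (k - j).choose (t - j) =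
      k.choose j * (Fintype.card α - j).choose (t - j) := by
  have h1 := sum_choose_inter hB b hj
  rw [hB.1 b hb] at h1
  rw [← h1, sum_choose_eq_sum_range (blocks B) b j (k + 1)]
  · rfl
  · intro c _
    have : (b ∩ c).card ≤ b.card := card_le_card inter_subset_left
    rw [hB.1 b hb] at this
    omega

end Cfsg.Agent.Helper6
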