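import Cfsg.Agent.Helper6.Steiner2

set_option autoImplicit false

namespace Cfsg.Agent.Helper6

open Finset

variable {α : Type*} [Fintype α] [DecidableEq α] {B : Set (Finset α)}

theorem nums_5_8_24 (hα : Fintype.card α = 24) (hB : Cfsg.IsSteinerSystem 5 8 B) {b : Finset α}
    (hb : b ∈ B) : interNum B b 0 = 30 ∧ interNum B b 1 = 0 ∧ interNum B b 2 = 448 ∧
      interNum B b 3 = 0 ∧ interNum B b 4 = 280 := by
  have e0 := interNum_eq hB hb (j := 0) (by norm_num)
  have e1 := interNum_eq hB hb (j := 1) (by norm_num)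
  have e2 := interNum_eq hB hb (j := 2) (by norm_num)
  have e3 := interNum_eq hB hb (j := 3) (by norm_num)
  have e4 := interNum_eq hB hb (j := 4) (by norm_num)
  have n8 := interNum_k hB hb (by norm_num)
  have n5 := interNum_between hB hb (i := 5) (by norm_num) (by norm_num)
  have n6 := interNum_between hB hb (i := 6) (by norm_num) (by norm_num)
  have n7 := interNum_between hB hb (i := 7) (by norm_num) (by norm_num)
  simp only [sum_range_succ, sum_range_zero, hα] at e0 e1 e2 e3 e4
  norm_num [Nat.choose] at e0 e1 e2 e3 e4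
  omega

theorem nums_4_7_23 (hα : Fintype.card α = 23) (hB : Cfsg.IsSteinerSystem 4 7 B) {b : Finset α}
    (hb : b ∈ B) : interNum B b 0 = 0 ∧ interNum B b 1 = 112 ∧ interNum B b 2 = 0 ∧
      interNum B b 3 = 140 := by
  have e0 := interNum_eq hB hb (j := 0) (by norm_num)
  have e1 := interNum_eq hB hb (j := 1) (by norm_num)
  have e2 := interNum_eq hB hb (j := 2) (by norm_num)
  have e3 := interNum_eq hB hb (j := 3) (by norm_num)
  have n7 := interNum_k hB hb (by norm_num)
  have n4 := interNum_between hB hb (i := 4) (by norm_num) (by norm_num)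
  have n5 := interNum_between hB hb (i := 5) (by norm_num) (by norm_num)
  have n6 := interNum_between hB hb (i := 6) (by norm_num) (by norm_num)
  simp only [sum_range_succ, sum_range_zero, hα] at e0 e1 e2 e3
  norm_num [Nat.choose] at e0 e1 e2 e3
  omega

theorem nums_3_6_22 (hα : Fintype.card α = 22) (hB : Cfsg.IsSteinerSystem 3 6 B) {b : Finset α}
    (hb : b ∈ B) : interNum B b 0 = 16 ∧ interNum B b 1 = 0 ∧ interNum B b 2 = 60 := by
  have e0 := interNum_eq hB hb (j := 0) (by norm_num)
  have e1 := interNum_eq hB hb (j := 1) (by norm_num)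
  have e2 := interNum_eq hB hb (j := 2) (by norm_num)
  have n6 := interNum_k hB hb (by norm_num)
  have n3 := interNum_between hB hb (i := 3) (by norm_num) (by norm_num)
  have n4 := interNum_between hB hb (i := 4) (by norm_num) (by norm_num)
  have n5 := interNum_between hB hb (i := 5) (by norm_num) (by norm_num)
  simp only [sum_range_succ, sum_range_zero, hα] at e0 e1 e2
  norm_num [Nat.choose] at e0 e1 e2
  omega

theorem nums_5_6_12 (hα : Fintype.card α = 12) (hB : Cfsg.IsSteinerSystem 5 6 B) {b : Finset α}
    (hb : b ∈ B) : interNum B b 0 = 1 ∧ interNum B b 1 = 0 ∧ interNum B b 2 = 45 ∧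
      interNum B b 3 = 40 ∧ interNum B b 4 = 45 := by
  have e0 := interNum_eq hB hb (j := 0) (by norm_num)
  have e1 := interNum_eq hB hb (j := 1) (by norm_num)
  have e2 := interNum_eq hB hb (j := 2) (by norm_num)
  have e3 := interNum_eq hB hb (j := 3) (by norm_num)
  have e4 := interNum_eq hB hb (j := 4) (by norm_num)
  have n6 := interNum_k hB hb (by norm_num)
  have n5 := interNum_between hB hb (i := 5) (by norm_num) (by norm_num)
  simp only [sum_range_succ, sum_range_zero, hα] at e0 e1 e2 e3 e4
  norm_num [Nat.choose] at e0 e1 e2 e3 e4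
  omega

/-- helper: an intersection of two distinct blocks has one of the allowed sizes -/
theorem inter_card_cases {t k : ℕ} (hB : Cfsg.IsSteinerSystem t k B) {b c : Finset α} (hb : b ∈ B)
    (hc : c ∈ B) (hbc : b ≠ c) :
    (b ∩ c).card < t ∧ interNum B b (b ∩ c).card ≠ 0 := by
  refine ⟨inter_card_lt hB hb hc hbc, ?_⟩
  intro h
  rw [interNum_eq_zero_iff] at h
  exact h c hc rfl

end Cfsg.Agent.Helper6
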