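import Cfsg.Agent.Helper6.Steiner3

set_option autoImplicit false

namespace Cfsg.Agent.Helper6

open Finset

variable {α : Type*} [Fintype α] [DecidableEq α] {B : Set (Finset α)}

theorem inter_024 (hα : Fintype.card α = 24) (hB : Cfsg.IsSteinerSystem 5 8 B) {b c : Finset α}
    (hb : b ∈ B) (hc : c ∈ B) (hbc : b ≠ c) :
    (b ∩ c).card = 0 ∨ (b ∩ c).card = 2 ∨ (b ∩ c).card = 4 := by
  obtain ⟨hlt, hne⟩ := inter_card_cases hB hb hc hbc
  obtain ⟨_, h1, _, h3, _⟩ := nums_5_8_24 hα hB hb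
  have k1 : (b ∩ c).card ≠ 1 := fun h => hne (by rw [h]; exact h1)
  have k3 : (b ∩ c).card ≠ 3 := fun h => hne (by rw [h]; exact h3)
  omega

theorem inter_card_four (hα : Fintype.card α = 24) (hB : Cfsg.IsSteinerSystem 5 8 B)
    {p q U : Finset α} (hp : p ∈ B) (hq : q ∈ B) (hpq : p ≠ q) (hU : U ⊆ p ∩ q)
    (hUc : 3 ≤ U.card) : (p ∩ q).card = 4 := by
  have h1 := card_le_card hU
  rcases inter_024 hα hB hp hq hpq with h | h | h <;> omega

theorem inter_eq_of_subset (hα : Fintype.card α = 24) (hB : Cfsg.IsSteinerSystem 5 8 B)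
    {p q U : Finset α} (hp : p ∈ B) (hq : q ∈ B) (hpq : p ≠ q) (hU : U ⊆ p ∩ q)
    (hUc : U.card = 4) : p ∩ q = U := by
  have h4 := inter_card_four hα hB hp hq hpq hU (by omega)
  exact (eq_of_subset_of_card_le hU (by omega)).symm

theorem exists_block {t k : ℕ} (hB : Cfsg.IsSteinerSystem t k B) (s : Finset α) (hs : s.card = t) :
    ∃ d ∈ B, s ⊆ d := by
  obtain ⟨d, ⟨hd, hsd⟩, _⟩ := hB.2 s hs
  exact ⟨d, hd, hsd⟩

theorem symmDiff_mem (hα : Fintype.card α = 24) (hB : Cfsg.IsSteinerSystem 5 8 B)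
    {b c : Finset α} (hb : b ∈ B) (hc : c ∈ B) (h4 : (b ∩ c).card = 4) : symmDiff b c ∈ B := by
  have hbcard : b.card = 8 := hB.1 b hb
  have hccard : c.card = 8 := hB.1 c hc
  have hT0card' : (b \ c).card = 4 := by
    have := card_sdiff_add_card_inter b c
    omega
  have hXcard' : (c \ b).card = 4 := by
    have := card_sdiff_add_card_inter c b
    rw [inter_comm] at this
    omega
  set T0 := b \ c with hT0
  set X := c \ b with hX
  have hT0card : T0.card = 4 := hT0card'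
  have hXcard : X.card = 4 := hXcard'
  have hsymm : symmDiff b c = T0 ∪ X := rfl
  have hT0b : T0 ⊆ b := sdiff_subset
  have hXc : X ⊆ c := sdiff_subset
  have hT0c : ∀ y ∈ T0, y ∉ c := fun y hy => (mem_sdiff.1 hy).2
  have hXb : ∀ y ∈ X, y ∉ b := fun y hy => (mem_sdiff.1 hy).2
  have hdisj : Disjoint T0 X := by
    rw [disjoint_left]
    intro y hy hy'
    exact hXb y hy' (hT0b hy)
  -- general facts about a block containing T0 and a point of X
  have step : ∀ x ∈ X, ∃ d ∈ B, T0 ⊆ d ∧ x ∈ d ∧ d ∩ b = T0 ∧ d ≠ c ∧ d ∩ c ⊆ X := by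
    intro x hx
    have hxT0 : x ∉ T0 := fun h => hXb x hx (hT0b h)
    obtain ⟨d, hd, hsd⟩ := exists_block hB (insert x T0)
      (by rw [card_insert_of_notMem hxT0, hT0card])
    have hT0d : T0 ⊆ d := (subset_insert _ _).trans hsd
    have hxd : x ∈ d := hsd (mem_insert_self _ _)
    have hdb : d ≠ b := by
      rintro rfl; exact hXb x hx hxd
    have hdb' : d ∩ b = T0 :=
      inter_eq_of_subset hα hB hd hb hdb (subset_inter hT0d hT0b) hT0card
    have hdc : d ≠ c := by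
      rintro rfl
      obtain ⟨y, hy⟩ := card_pos.1 (by rw [hT0card]; norm_num : 0 < T0.card)
      exact hT0c y hy (hT0d hy)
    refine ⟨d, hd, hT0d, hxd, hdb', hdc, ?_⟩
    intro y hy
    rw [mem_inter] at hy
    rw [hX, mem_sdiff]
    refine ⟨hy.2, fun hyb => ?_⟩
    have : y ∈ d ∩ b := mem_inter.2 ⟨hy.1, hyb⟩
    rw [hdb'] at this
    exact hT0c y this hy.2
  obtain ⟨x1, hx1⟩ := card_pos.1 (by rw [hXcard]; norm_num : 0 < X.card)
  obtain ⟨d, hd, hT0d, hx1d, hdb, hdc, hdcX⟩ := step x1 hx1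
  have hx1dc : x1 ∈ d ∩ c := mem_inter.2 ⟨hx1d, hXc hx1⟩
  rcases inter_024 hα hB hd hc hdc with h0 | h2 | h4'
  · exfalso
    rw [card_eq_zero] at h0
    rw [h0] at hx1dc
    exact notMem_empty _ hx1dc
  swap
  · -- d ∩ c = X, so d = T0 ∪ X
    have hdcX' : d ∩ c = X := eq_of_subset_of_card_le hdcX (by rw [hXcard, h4'])
    have hXd : X ⊆ d := by rw [← hdcX']; exact inter_subset_left
    have hsub : T0 ∪ X ⊆ d := union_subset hT0d hXd
    have hcard : (T0 ∪ X).card = 8 := by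
      rw [card_union_of_disjoint hdisj, hT0card, hXcard]
    have : T0 ∪ X = d := eq_of_subset_of_card_le hsub (by rw [hcard, hB.1 d hd])
    rw [hsymm, this]; exact hd
  -- the bad case
  exfalso
  have hXd_card : (X \ (d ∩ c)).card = 2 := by
    rw [card_sdiff_of_subset hdcX, hXcard, h2]
  obtain ⟨x3, hx3⟩ := card_pos.1 (by rw [hXd_card]; norm_num : 0 < (X \ (d ∩ c)).card)
  rw [mem_sdiff] at hx3
  have hx3X : x3 ∈ X := hx3.1
  have hx3d : x3 ∉ d := fun h => hx3.2 (mem_inter.2 ⟨h, hXc hx3X⟩)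
  obtain ⟨d', hd', hT0d', hx3d', hd'b, hd'c, hd'cX⟩ := step x3 hx3X
  have hdd' : d ≠ d' := by
    rintro rfl; exact hx3d hx3d'
  have hdd'T0 : d ∩ d' = T0 :=
    inter_eq_of_subset hα hB hd hd' hdd' (subset_inter hT0d hT0d') hT0card
  have hd'c_sub : d' ∩ c ⊆ X \ (d ∩ c) := by
    intro y hy
    rw [mem_sdiff]
    refine ⟨hd'cX hy, fun hyd => ?_⟩
    rw [mem_inter] at hy hyd
    have : y ∈ d ∩ d' := mem_inter.2 ⟨hyd.1, hy.1⟩
    rw [hdd'T0] at this
    exact hT0c y this hy.2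
  have hx3d'c : x3 ∈ d' ∩ c := mem_inter.2 ⟨hx3d', hXc hx3X⟩
  have hd'c_card : (d' ∩ c).card = 2 := by
    have h1 := card_le_card hd'c_sub
    have h2' : 0 < (d' ∩ c).card := card_pos.2 ⟨x3, hx3d'c⟩
    rcases inter_024 hα hB hd' hc hd'c with h | h | h <;> omega
  have hd'c_eq : d' ∩ c = X \ (d ∩ c) :=
    eq_of_subset_of_card_le hd'c_sub (by rw [hXd_card, hd'c_card])
  have hXsplit : ∀ y ∈ X, y ∈ d ∩ c ∨ y ∈ d' ∩ c := by
    intro y hy
    by_cases hyd : y ∈ d ∩ c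
    · exact Or.inl hyd
    · right; rw [hd'c_eq, mem_sdiff]; exact ⟨hy, hyd⟩
  have hx1d' : x1 ∉ d' := by
    intro h
    have : x1 ∈ d ∩ d' := mem_inter.2 ⟨hx1d, h⟩
    rw [hdd'T0] at this
    exact hXb x1 hx1 (hT0b this)
  have hx13 : x1 ≠ x3 := by
    rintro rfl; exact hx3d hx1d
  -- step 3
  obtain ⟨t4, ht4⟩ := card_pos.1 (by rw [hT0card]; norm_num : 0 < T0.card)
  set T0' := T0.erase t4 with hT0'
  have hT0'card : T0'.card = 3 := by rw [hT0', card_erase_of_mem ht4, hT0card]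
  have hT0'T0 : T0' ⊆ T0 := erase_subset _ _
  have hx3T0' : x3 ∉ T0' := fun h => hXb x3 hx3X (hT0b (hT0'T0 h))
  have hx1T0' : x1 ∉ T0' := fun h => hXb x1 hx1 (hT0b (hT0'T0 h))
  have hx1ins : x1 ∉ insert x3 T0' := by
    rw [mem_insert]; rintro (h | h)
    · exact hx13 h
    · exact hx1T0' h
  obtain ⟨e, he, hse⟩ := exists_block hB (insert x1 (insert x3 T0'))
    (by rw [card_insert_of_notMem hx1ins, card_insert_of_notMem hx3T0', hT0'card])
  have hx1e : x1 ∈ e := hse (mem_insert_self _ _)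
  have hx3e : x3 ∈ e := hse (mem_insert_of_mem (mem_insert_self _ _))
  have hT0'e : T0' ⊆ e := fun y hy => hse (mem_insert_of_mem (mem_insert_of_mem hy))
  have hed : e ≠ d := by
    rintro rfl; exact hx3d hx3e
  have hed' : e ≠ d' := by
    rintro rfl; exact hx1d' hx1e
  have hed_eq : e ∩ d = insert x1 T0' := by
    apply inter_eq_of_subset hα hB he hd hed
    · intro y hy
      rw [mem_insert] at hy
      rcases hy with rfl | hy
      · exact mem_inter.2 ⟨hx1e, hx1d⟩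
      · exact mem_inter.2 ⟨hT0'e hy, hT0d (hT0'T0 hy)⟩
    · rw [card_insert_of_notMem hx1T0', hT0'card]
  have hed'_eq : e ∩ d' = insert x3 T0' := by
    apply inter_eq_of_subset hα hB he hd' hed'
    · intro y hy
      rw [mem_insert] at hy
      rcases hy with rfl | hy
      · exact mem_inter.2 ⟨hx3e, hx3d'⟩
      · exact mem_inter.2 ⟨hT0'e hy, hT0d' (hT0'T0 hy)⟩
    · rw [card_insert_of_notMem hx3T0', hT0'card]
  have ht4e : t4 ∉ e := by
    intro h
    have : t4 ∈ e ∩ d := mem_inter.2 ⟨h, hT0d ht4⟩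
    rw [hed_eq, mem_insert] at this
    rcases this with h' | h'
    · rw [h'] at ht4; exact hXb x1 hx1 (hT0b ht4)
    · rw [hT0'] at h'; exact notMem_erase _ _ h'
  have heb : e ≠ b := by
    rintro rfl; exact hXb x1 hx1 hx1e
  have hec : e ≠ c := by
    rintro rfl
    obtain ⟨y, hy⟩ := card_pos.1 (by rw [hT0'card]; norm_num : 0 < T0'.card)
    exact hT0c y (hT0'T0 hy) (hT0'e hy)
  have heb4 : (e ∩ b).card = 4 :=
    inter_card_four hα hB he hb heb (U := T0')
      (fun y hy => mem_inter.2 ⟨hT0'e hy, hT0b (hT0'T0 hy)⟩) (by rw [hT0'card])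
  -- e ∩ T0 = T0'
  have heT0 : e ∩ T0 = T0' := by
    ext y
    rw [mem_inter, hT0', mem_erase]
    constructor
    · rintro ⟨hye, hyT⟩
      exact ⟨fun h => ht4e (h ▸ hye), hyT⟩
    · rintro ⟨hne, hyT⟩
      exact ⟨hT0'e (mem_erase.2 ⟨hne, hyT⟩), hyT⟩
  -- e ∩ b = (e ∩ T0) ∪ (e ∩ (b ∩ c))
  have heb_split : e ∩ b = (e ∩ T0) ∪ (e ∩ (b ∩ c)) := by
    rw [← inter_union_distrib_left, hT0, sdiff_union_inter]
  have heb_disj : Disjoint (e ∩ T0) (e ∩ (b ∩ c)) := by
    rw [disjoint_left]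
    intro y hy hy'
    rw [mem_inter] at hy hy'
    exact hT0c y hy.2 (mem_inter.1 hy'.2).2
  have heT1card : (e ∩ (b ∩ c)).card = 1 := by
    have := congrArg card heb_split
    rw [card_union_of_disjoint heb_disj, heT0, hT0'card, heb4] at this
    omega
  -- e ∩ X ⊆ {x1, x3}
  have heX : e ∩ X ⊆ {x1, x3} := by
    intro y hy
    rw [mem_inter] at hy
    rw [mem_insert, mem_singleton]
    rcases hXsplit y hy.2 with h | h
    · left
      have : y ∈ e ∩ d := mem_inter.2 ⟨hy.1, (mem_inter.1 h).1⟩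
      rw [hed_eq, mem_insert] at this
      rcases this with h' | h'
      · exact h'
      · exact absurd (hT0b (hT0'T0 h')) (hXb y hy.2)
    · right
      have : y ∈ e ∩ d' := mem_inter.2 ⟨hy.1, (mem_inter.1 h).1⟩
      rw [hed'_eq, mem_insert] at this
      rcases this with h' | h'
      · exact h'
      · exact absurd (hT0b (hT0'T0 h')) (hXb y hy.2)
  have heX_eq : e ∩ X = {x1, x3} := by
    apply Subset.antisymm heX
    intro y hy
    rw [mem_insert, mem_singleton] at hy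
    rcases hy with rfl | rfl
    · exact mem_inter.2 ⟨hx1e, hx1⟩
    · exact mem_inter.2 ⟨hx3e, hx3X⟩
  have heXcard : (e ∩ X).card = 2 := by
    rw [heX_eq, card_pair hx13]
  -- e ∩ c = (e ∩ (b ∩ c)) ∪ (e ∩ X)
  have hec_split : e ∩ c = (e ∩ (b ∩ c)) ∪ (e ∩ X) := by
    rw [← inter_union_distrib_left, hX, inter_comm b c, union_comm, sdiff_union_inter]
  have hec_disj : Disjoint (e ∩ (b ∩ c)) (e ∩ X) := by
    rw [disjoint_left]
    intro y hy hy'
    rw [mem_inter] at hy hy'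
    exact hXb y hy'.2 (mem_inter.1 hy.2).1
  have hec3 : (e ∩ c).card = 3 := by
    rw [hec_split, card_union_of_disjoint hec_disj, heT1card, heXcard]
  rcases inter_024 hα hB he hc hec with h | h | h <;> omega

end Cfsg.Agent.Helper6
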