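import Cfsg.Agent.Helper6.Sz48

/-!
# Subfield subgroups of Suzuki groups: existence and conjugacy
-/

set_option autoImplicit false

namespace Cfsg.Agent.Helper6

open Polynomial

variable {F : Type*} [Field F] [Fintype F] {m : ℕ} {K : Type*} [Field K] [Fintype K] {k : ℕ}

/-- every embedding of a Suzuki group over a subfield is conjugate to a standard one -/
theorem hom_eq_conj_szEmb (hm : 1 ≤ m) (hF : Fintype.card F = 2 ^ (2 * m + 1)) (hk : 1 ≤ k)
    (hK : Fintype.card K = 2 ^ (2 * k + 1)) (hdiv : 2 * k + 1 ∣ 2 * m + 1)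
    (ψ : Cfsg.Sz K k →* Cfsg.Sz F m) (hψ : Function.Injective ψ) :
    ∃ (g : Cfsg.Sz F m) (ι : K →+* F), ψ = conjHom g (szEmb hm hF hk hK hdiv ι) := by
  obtain ⟨g₀, hQ, hT⟩ := exists_normalize' hm hF hk hK ψ hψ
  have hγ : Function.Injective (conjHom g₀ ψ) := conjHom_injective _ hψ
  obtain ⟨c, ι, hU, hD⟩ := exists_field_normalize' hm hF hk hK (conjHom g₀ ψ) hγ hQ hT
  have hQ' := hom_standard_on_szQ hm hF hk hK hdiv _ ι hU hD
  have hB : ∀ g ∈ szB K k, conjHom (sD hF c) (conjHom g₀ ψ) g = szEmb hm hF hk hK hdiv ι g := by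
    intro g hg
    obtain ⟨a, b, t, rfl⟩ := (mem_szB_iff_exists hk hK g).1 hg
    rw [map_mul, map_mul, hQ', hD, szEmb_sU, szEmb_sD]
  have h1 := hom_eq_of_eq_on_szB hm hF hk hK _ (szEmb hm hF hk hK hdiv ι) ι
    (szEmb_sU hm hF hk hK hdiv ι) (szEmb_sD hm hF hk hK hdiv ι) (szEmb_sW hm hF hk hK hdiv ι) hB
  refine ⟨(sD hF c * g₀)⁻¹, ι, ?_⟩
  rw [← h1, conjHom_conjHom (sD hF c) g₀, conjHom_conjHom, inv_mul_cancel]
  refine MonoidHom.ext fun x => ?_
  rw [conjHom_apply, one_mul, inv_one, mul_one]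

/-- two embeddings of a finite field into another have the same image -/
theorem exists_ringEquiv_of_two_homs (hK : Fintype.card K = 2 ^ (2 * k + 1)) (ι₁ ι₂ : K →+* F) :
    ∃ σ : K ≃+* K, ∀ x : K, ι₂ x = ι₁ (σ x) := by
  classical
  have hs1 : 1 < Fintype.card K := Fintype.one_lt_card
  set P : F[X] := X ^ Fintype.card K - X with hP
  have hP0 : P ≠ 0 := FiniteField.X_pow_card_sub_X_ne_zero F hs1
  have hdeg : P.natDegree = Fintype.card K := FiniteField.X_pow_card_sub_X_natDegree_eq F hs1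
  have hroot : ∀ (ι : K →+* F) (x : K), ι x ∈ P.roots.toFinset := by
    intro ι x
    rw [Multiset.mem_toFinset, mem_roots hP0, IsRoot.def, hP, eval_sub, eval_pow, eval_X,
      ← map_pow, FiniteField.pow_card, sub_self]
  have hsub : Finset.univ.image ι₁ ⊆ P.roots.toFinset := by
    intro y hy
    obtain ⟨x, -, rfl⟩ := Finset.mem_image.1 hy
    exact hroot ι₁ x
  have hcard : P.roots.toFinset.card ≤ (Finset.univ.image ι₁).card := by
    rw [Finset.card_image_of_injective _ ι₁.injective, Finset.card_univ]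
    calc P.roots.toFinset.card ≤ Multiset.card P.roots := Multiset.toFinset_card_le _
      _ ≤ P.natDegree := card_roots' P
      _ = Fintype.card K := hdeg
  have heq := Finset.eq_of_subset_of_card_le hsub hcard
  have hex : ∀ x : K, ∃ y : K, ι₁ y = ι₂ x := by
    intro x
    have := hroot ι₂ x
    rw [← heq] at this
    obtain ⟨y, -, hy⟩ := Finset.mem_image.1 this
    exact ⟨y, hy⟩
  choose σ hσ using hex
  let f : K →+* K :=
    { toFun := σ
      map_one' := ι₁.injective (by rw [hσ, map_one, map_one])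
      map_mul' := fun a b => ι₁.injective (by rw [hσ, map_mul, map_mul, hσ, hσ])
      map_zero' := ι₁.injective (by rw [hσ, map_zero, map_zero])
      map_add' := fun a b => ι₁.injective (by rw [hσ, map_add, map_add, hσ, hσ]) }
  have hinj : Function.Injective f := f.injective
  have hbij : Function.Bijective f := ⟨hinj, Finite.injective_iff_surjective.1 hinj⟩
  exact ⟨RingEquiv.ofBijective f hbij, fun x => (hσ x).symm⟩

/-- the image of the standard embedding does not depend on the field embedding -/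
theorem szEmb_range_eq (hm : 1 ≤ m) (hF : Fintype.card F = 2 ^ (2 * m + 1)) (hk : 1 ≤ k)
    (hK : Fintype.card K = 2 ^ (2 * k + 1)) (hdiv : 2 * k + 1 ∣ 2 * m + 1) (ι₁ ι₂ : K →+* F) :
    (szEmb hm hF hk hK hdiv ι₂).range = (szEmb hm hF hk hK hdiv ι₁).range := by
  obtain ⟨σ, hσ⟩ := exists_ringEquiv_of_two_homs hK ι₁ ι₂
  have h1 : szEmb hm hF hk hK hdiv ι₂ =
      (szEmb hm hF hk hK hdiv ι₁).comp (szFieldAut hk hK σ).toMonoidHom := by
    refine MonoidHom.ext fun g => ?_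
    apply Subtype.ext
    apply Subtype.ext
    ext i j
    rw [MonoidHom.comp_apply, coe_szEmb, coe_szEmb, sl_map_apply', sl_map_apply']
    show ι₂ _ = ι₁ (((szFieldAut hk hK σ g : Cfsg.Sz K k) :
      Matrix.SpecialLinearGroup (Fin 4) K) i j)
    rw [coe_szFieldAut, sl_map_apply, hσ]
    rfl
  rw [h1, MonoidHom.range_comp]
  have h2 : (szFieldAut hk hK σ).toMonoidHom.range = ⊤ :=
    MonoidHom.range_eq_top.2 (szFieldAut hk hK σ).surjective
  rw [h2, ← MonoidHom.range_eq_map]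

/-- a field with `2 ^ (2 k + 1)` elements embeds in a field with `2 ^ (2 m + 1)` elements when
`2 k + 1` divides `2 m + 1` -/
theorem exists_field_hom (hF : Fintype.card F = 2 ^ (2 * m + 1))
    (hK : Fintype.card K = 2 ^ (2 * k + 1)) (hdiv : 2 * k + 1 ∣ 2 * m + 1) :
    Nonempty (K →+* F) := by
  have : Fact (Nat.Prime 2) := ⟨Nat.prime_two⟩
  have : CharP F 2 := CharTwo.of_one_ne_zero_of_two_eq_zero one_ne_zero (two_eq_zero_of_card hF)
  have : CharP K 2 := CharTwo.of_one_ne_zero_of_two_eq_zero one_ne_zero (two_eq_zero_of_card hK)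
  let _ : Algebra (ZMod 2) F := ZMod.algebra F 2
  let _ : Algebra (ZMod 2) K := ZMod.algebra K 2
  have hfr : Module.finrank (ZMod 2) F = 2 * m + 1 := by
    have := FiniteField.pow_finrank_eq_card 2 F
    rw [hF] at this
    exact Nat.pow_right_injective (le_refl 2) this
  have hfrK : Module.finrank (ZMod 2) K = 2 * k + 1 := by
    have := FiniteField.pow_finrank_eq_card 2 K
    rw [hK] at this
    exact Nat.pow_right_injective (le_refl 2) this
  obtain ⟨f⟩ := FiniteField.nonempty_algHom_of_finrank_dvd (F := ZMod 2) (K := K) (L := F)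
    (by rw [hfrK, hfr]; exact hdiv)
  exact ⟨f.toRingHom⟩

omit [Fintype F] [Fintype K] in
theorem conj_comp_conj (a b : Cfsg.Sz F m) :
    (MulAut.conj a).toMonoidHom.comp (MulAut.conj b).toMonoidHom =
      (MulAut.conj (a * b)).toMonoidHom := by
  ext x
  simp [MulAut.conj_apply, mul_assoc]

/-- subfield subgroups of the Suzuki group: existence and conjugacy -/
theorem sz_subfield_subgroups (hm : 1 ≤ m) (hF : Fintype.card F = 2 ^ (2 * m + 1)) (hk : 1 ≤ k)
    (hK : Fintype.card K = 2 ^ (2 * k + 1)) (hdiv : 2 * k + 1 ∣ 2 * m + 1) :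
    (∃ S : Subgroup ↥(Cfsg.Sz F m), Nonempty (↥S ≃* ↥(Cfsg.Sz K k))) ∧
    ∀ S₁ S₂ : Subgroup ↥(Cfsg.Sz F m), Nonempty (↥S₁ ≃* ↥(Cfsg.Sz K k)) →
      Nonempty (↥S₂ ≃* ↥(Cfsg.Sz K k)) →
      ∃ g : ↥(Cfsg.Sz F m), S₂ = S₁.map (MulAut.conj g).toMonoidHom := by
  obtain ⟨ι₀⟩ := exists_field_hom hF hK hdiv
  obtain ⟨S₀, hS₀⟩ : ∃ S₀ : Subgroup (Cfsg.Sz F m), S₀ = (szEmb hm hF hk hK hdiv ι₀).range :=
    ⟨_, rfl⟩
  have key : ∀ S : Subgroup (Cfsg.Sz F m), Nonempty (↥S ≃* ↥(Cfsg.Sz K k)) →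
      ∃ g : Cfsg.Sz F m, S = S₀.map (MulAut.conj g).toMonoidHom := by
    rintro S ⟨e⟩
    have hψ : Function.Injective (S.subtype.comp e.symm.toMonoidHom) := by
      intro x y h
      exact e.symm.injective (Subtype.ext h)
    obtain ⟨g, ι, h⟩ := hom_eq_conj_szEmb hm hF hk hK hdiv _ hψ
    refine ⟨g, ?_⟩
    have h1 : (S.subtype.comp e.symm.toMonoidHom).range = S := by
      rw [MonoidHom.range_comp]
      have : e.symm.toMonoidHom.range = ⊤ := MonoidHom.range_eq_top.2 e.symm.surjective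
      rw [this, ← MonoidHom.range_eq_map, Subgroup.range_subtype]
    rw [← h1, h, hS₀, ← szEmb_range_eq hm hF hk hK hdiv ι₀ ι]
    unfold conjHom
    rw [MonoidHom.range_comp]
  refine ⟨⟨S₀, ⟨?_⟩⟩, ?_⟩
  · rw [hS₀]
    exact (MonoidHom.ofInjective (szEmb_injective hm hF hk hK hdiv ι₀)).symm
  · intro S₁ S₂ h₁ h₂
    obtain ⟨g₁, hg₁⟩ := key S₁ h₁
    obtain ⟨g₂, hg₂⟩ := key S₂ h₂
    refine ⟨g₂ * g₁⁻¹, ?_⟩
    rw [hg₁, hg₂, Subgroup.map_map, conj_comp_conj, inv_mul_cancel_right]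

end Cfsg.Agent.Helper6
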