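import Cfsg.Agent.Helper6.Tor8

/-!
# Sylow subgroups and the classes of cyclic tori of the Suzuki group
-/

set_option autoImplicit false

namespace Cfsg.Agent.Helper6

/-- counting two disjoint subsets of a set -/
theorem card_subtype_add_le {α : Type*} [Finite α] (P₁ P₂ Q : α → Prop)
    (h1 : ∀ a, P₁ a → Q a) (h2 : ∀ a, P₂ a → Q a) (hd : ∀ a, P₁ a → ¬ P₂ a) :
    Nat.card {a // P₁ a} + Nat.card {a // P₂ a} ≤ Nat.card {a // Q a} := by
  classical
  have : Fintype α := Fintype.ofFinite α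
  rw [Nat.card_eq_fintype_card, Nat.card_eq_fintype_card, Nat.card_eq_fintype_card,
    ← Fintype.card_subtype_or_disjoint P₁ P₂ (by
      rw [Pi.disjoint_iff]
      intro a
      rw [Prop.disjoint_iff]
      exact fun h => hd a h.1 h.2)]
  apply Fintype.card_le_of_injective (fun a : {a // P₁ a ∨ P₂ a} =>
    (⟨a.1, a.2.elim (h1 a.1) (h2 a.1)⟩ : {a // Q a}))
  intro a b h
  have h' : a.1 = b.1 := congrArg (fun c : {a // Q a} => c.1) h
  exact Subtype.ext h'

/-- counting two disjoint subsets covering a set -/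
theorem card_subtype_add_eq {α : Type*} [Finite α] (P₁ P₂ Q : α → Prop)
    (h1 : ∀ a, P₁ a → Q a) (h2 : ∀ a, P₂ a → Q a) (hd : ∀ a, P₁ a → ¬ P₂ a)
    (hc : ∀ a, Q a → P₁ a ∨ P₂ a) :
    Nat.card {a // P₁ a} + Nat.card {a // P₂ a} = Nat.card {a // Q a} := by
  classical
  have : Fintype α := Fintype.ofFinite α
  rw [Nat.card_eq_fintype_card, Nat.card_eq_fintype_card, Nat.card_eq_fintype_card,
    ← Fintype.card_subtype_or_disjoint P₁ P₂ (by
      rw [Pi.disjoint_iff]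
      intro a
      rw [Prop.disjoint_iff]
      exact fun h => hd a h.1 h.2)]
  apply Fintype.card_congr
  exact Equiv.subtypeEquivRight (fun a => ⟨fun h => h.elim (h1 a) (h2 a), hc a⟩)

variable {F : Type*} [Field F] [Fintype F] {m : ℕ}

section cent

variable (hm : 1 ≤ m) (hF : Fintype.card F = 2 ^ (2 * m + 1)) {p : ℕ} (hp : p.Prime)
  (hq : p ∣ (Fintype.card F) ^ 2 + 1) {x : Cfsg.Sz F m} (hx : orderOf x = p)

include hm hF hp hq hx

/-- a Sylow subgroup meeting the centraliser lies in it -/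
theorem cent_sylow_card_dvd {l : ℕ} [hl : Fact l.Prime] (P : Sylow l (Cfsg.Sz F m))
    {y : Cfsg.Sz F m} (hyP : y ∈ P) (hy : y ∈ Subgroup.centralizer ({x} : Set (Cfsg.Sz F m)))
    (hy1 : y ≠ 1) :
    Nat.card P ∣ Nat.card (Subgroup.centralizer ({x} : Set (Cfsg.Sz F m))) := by
  have : Finite (Cfsg.Sz F m) := inferInstance
  have hyf := cent_isFpf hm hF hp hq hx hy hy1
  have hld : l ∣ orderOf y := by
    obtain ⟨k, hk⟩ := (IsPGroup.iff_orderOf.1 P.isPGroup') (⟨y, hyP⟩ : P)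
    rw [Subgroup.orderOf_mk] at hk
    rw [hk]
    apply dvd_pow_self
    rintro rfl
    rw [pow_zero, orderOf_eq_one_iff] at hk
    exact hy1 hk
  obtain ⟨hl2, -⟩ := isFpf_prime_dvd hm hF hyf hl.out hld
  have hcyc : IsCyclic P := sz_sylow_odd_cyclic hm hF hl2 P
  have hcomm : ∀ a b : P, a * b = b * a := fun a b =>
    (IsCyclic.commGroup (α := P)).mul_comm a b
  apply Subgroup.card_dvd_of_le
  intro z hz
  rw [← cent_eq hm hF hp hq hx hy hy1, Subgroup.mem_centralizer_singleton_iff]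
  exact congrArg Subtype.val (hcomm ⟨z, hz⟩ ⟨y, hyP⟩)

end cent

section two

variable (hm : 1 ≤ m) (hF : Fintype.card F = 2 ^ (2 * m + 1)) {p : ℕ} (hp : p.Prime)
  (hq : p ∣ (Fintype.card F) ^ 2 + 1) {x : Cfsg.Sz F m} (hx : orderOf x = p)
  {p' : ℕ} (hp' : p'.Prime)
  (hq' : p' ∣ (Fintype.card F) ^ 2 + 1) {x' : Cfsg.Sz F m} (hx' : orderOf x' = p')

include hm hF hp hq hx hp' hq' hx'

/-- centralisers whose orders have a common prime divisor have a common conjugate element -/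
theorem cent_common_of_prime_dvd {l : ℕ} (hl : l.Prime)
    (hd : l ∣ Nat.card (Subgroup.centralizer ({x} : Set (Cfsg.Sz F m))))
    (hd' : l ∣ Nat.card (Subgroup.centralizer ({x'} : Set (Cfsg.Sz F m)))) :
    ∃ y : Cfsg.Sz F m, ConjInto (Subgroup.centralizer ({x} : Set (Cfsg.Sz F m))) y ∧
      ConjInto (Subgroup.centralizer ({x'} : Set (Cfsg.Sz F m))) y := by
  have : Finite (Cfsg.Sz F m) := inferInstance
  have : Fact l.Prime := ⟨hl⟩
  obtain ⟨y, hy⟩ := exists_prime_orderOf_dvd_card' l hd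
  obtain ⟨y', hy'⟩ := exists_prime_orderOf_dvd_card' l hd'
  rw [← Subgroup.orderOf_coe] at hy hy'
  have hy1 : (y : Cfsg.Sz F m) ≠ 1 := by
    intro h
    rw [h, orderOf_one] at hy
    exact hl.one_lt.ne hy
  have hy1' : (y' : Cfsg.Sz F m) ≠ 1 := by
    intro h
    rw [h, orderOf_one] at hy'
    exact hl.one_lt.ne hy'
  have hl2 : l ≠ 2 :=
    (prime_dvd_sq_add_one hF hl (dvd_trans hd (cent_card_dvd hm hF hp hq hx))).1
  have hyp : IsPGroup l (Subgroup.zpowers (y : Cfsg.Sz F m)) := by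
    apply IsPGroup.of_card (n := 1)
    rw [Nat.card_zpowers, hy, pow_one]
  have hyp' : IsPGroup l (Subgroup.zpowers (y' : Cfsg.Sz F m)) := by
    apply IsPGroup.of_card (n := 1)
    rw [Nat.card_zpowers, hy', pow_one]
  obtain ⟨P, hP⟩ := hyp.exists_le_sylow
  obtain ⟨P', hP'⟩ := hyp'.exists_le_sylow
  obtain ⟨k, hk⟩ := MulAction.exists_smul_eq (Cfsg.Sz F m) P P'
  have hyP' : k * (y : Cfsg.Sz F m) * k⁻¹ ∈ P' := by
    rw [← hk, mem_sylow_smul_iff]
    have : k⁻¹ * (k * (y : Cfsg.Sz F m) * k⁻¹) * k = y := by group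
    rw [this]
    exact hP (Subgroup.mem_zpowers _)
  have hy'P' : (y' : Cfsg.Sz F m) ∈ P' := hP' (Subgroup.mem_zpowers _)
  have hcyc : IsCyclic P' := sz_sylow_odd_cyclic hm hF hl2 P'
  have hcomm : ∀ a b : P', a * b = b * a := fun a b =>
    (IsCyclic.commGroup (α := P')).mul_comm a b
  refine ⟨y, conjInto_of_mem _ y.2 hy1, hy1, k, ?_⟩
  rw [← cent_eq hm hF hp' hq' hx' y'.2 hy1', Subgroup.mem_centralizer_singleton_iff]
  exact congrArg Subtype.val (hcomm ⟨_, hyP'⟩ ⟨_, hy'P'⟩)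

end two

end Cfsg.Agent.Helper6
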