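import Mathlib

/-!
# Cyclic Sylow subgroups from a cyclic subgroup of `p'`-index
-/

set_option autoImplicit false

namespace Cfsg.Agent.Helper6

variable {G : Type*} [Group G]

/-- If a finite group has a cyclic subgroup whose index is prime to `p`, its Sylow `p`-subgroups are
cyclic. -/
theorem sylow_cyclic_of_cyclic_subgroup [Finite G] {p : ℕ} [Fact p.Prime] (C : Subgroup G)
    [IsCyclic C] (hidx : ¬ p ∣ C.index) (P : Sylow p G) : IsCyclic P := by
  let T : Sylow p C := default
  set T' : Subgroup G := (T : Subgroup C).map C.subtype with hT'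
  have hTp : IsPGroup p T' := T.isPGroup'.map _
  have hidx' : ¬ p ∣ T'.index := by
    rw [hT', Subgroup.index_map_subtype]
    exact (Nat.Prime.not_dvd_mul Fact.out T.not_dvd_index hidx)
  let S : Sylow p G := hTp.toSylow hidx'
  have e : P ≃* S := Sylow.equiv P S
  have hcyc : IsCyclic T' := by
    have e' : (T : Subgroup C) ≃* T' :=
      Subgroup.equivMapOfInjective _ _ C.subtype_injective
    exact isCyclic_of_surjective e'.toMonoidHom e'.surjective
  have hS : IsCyclic S := hcyc
  exact isCyclic_of_injective e.toMonoidHom e.injective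

/-- Sylow subgroups of a group embedded in a finite group with cyclic Sylow subgroups are cyclic -/
theorem sylow_cyclic_of_injective {H : Type*} [Group H] [Finite H] (f : G →* H)
    (hf : Function.Injective f) {p : ℕ} [Fact p.Prime] (hH : ∀ Q : Sylow p H, IsCyclic Q)
    (P : Sylow p G) : IsCyclic P := by
  have hP' : IsPGroup p ((P : Subgroup G).map f) := P.isPGroup'.map f
  obtain ⟨Q, hQ⟩ := hP'.exists_le_sylow
  have := hH Q
  have e : (P : Subgroup G) ≃* (P : Subgroup G).map f := Subgroup.equivMapOfInjective _ f hf
  have hcyc : IsCyclic ((P : Subgroup G).map f) :=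
    isCyclic_of_injective (Subgroup.inclusion hQ) (Subgroup.inclusion_injective hQ)
  exact isCyclic_of_injective e.toMonoidHom e.injective

end Cfsg.Agent.Helper6
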