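import Cfsg.Agent.Helper6.Ovoid3

/-!
# The Suzuki group as the stabiliser of the Suzuki–Tits ovoid: points and basic actions
-/

set_option autoImplicit false

namespace Cfsg.Agent.Helper6

open scoped Pointwise

variable {F : Type*} [Field F] [Fintype F] {m : ℕ}

/-- the ovoid point with a given (optional) parameter -/
noncomputable def ovPt (F : Type*) [Field F] [Fintype F] (m : ℕ) (o : Option (F × F)) :
    Projectivization F (Fin 4 → F) :=
  Projectivization.mk F (ovVecOpt F m o) (ovVecOpt_ne_zero o)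

theorem suzukiOvoid_eq_range : Cfsg.suzukiOvoid F m = Set.range (ovPt F m) := by
  ext p
  constructor
  · rintro ⟨v, hv, rfl, hcase⟩
    rcases hcase with h | ⟨x, y, h⟩
    · refine ⟨none, ?_⟩
      unfold ovPt
      congr 1
      exact h.symm
    · refine ⟨some (x, y), ?_⟩
      unfold ovPt
      congr 1
      exact h.symm
  · rintro ⟨o, rfl⟩
    rcases o with _ | ⟨x, y⟩
    · exact ⟨_, ovVecOpt_ne_zero none, rfl, Or.inl rfl⟩
    · exact ⟨_, ovVecOpt_ne_zero (some (x, y)), rfl, Or.inr ⟨x, y, rfl⟩⟩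

theorem ovPt_mem (o : Option (F × F)) : ovPt F m o ∈ Cfsg.suzukiOvoid F m := by
  rw [suzukiOvoid_eq_range]; exact ⟨o, rfl⟩

theorem ovPt_injective : Function.Injective (ovPt F m) := by
  intro o o' h
  unfold ovPt at h
  rw [Projectivization.mk_eq_mk_iff'] at h
  obtain ⟨a, ha⟩ := h
  rcases o with _ | ⟨x, y⟩ <;> rcases o' with _ | ⟨x', y'⟩
  · rfl
  · exfalso
    have h3 := congrFun ha 3
    have h0 := congrFun ha 0
    simp [ovVecOpt, ovVec] at h3 h0
    rw [h3] at h0
    simp at h0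
  · exfalso
    have h3 := congrFun ha 3
    simp [ovVecOpt, ovVec] at h3
  · have h3 := congrFun ha 3
    have h2 := congrFun ha 2
    have h1 := congrFun ha 1
    simp [ovVecOpt, ovVec] at h3 h2 h1
    subst h3
    simp at h2 h1
    rw [h1, h2]

theorem ovPt_none : ovPt F m none = Cfsg.suzukiPointInfinity F := rfl

theorem ovPt_zero : ovPt F m (some (0, 0)) = Cfsg.suzukiPointZero F := by
  unfold ovPt Cfsg.suzukiPointZero
  congr 1
  simp [ovVecOpt, ovVec]
  exact ovF_zero

/-- the action on a point, computed on vectors -/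
theorem smul_ovPt (g : Matrix.SpecialLinearGroup (Fin 4) F) (o o' : Option (F × F)) (c : F)
    (h : (g : Matrix (Fin 4) (Fin 4) F).mulVec (ovVecOpt F m o) = c • ovVecOpt F m o') :
    g • ovPt F m o = ovPt F m o' := by
  unfold ovPt
  rw [Projectivization.smul_mk, Projectivization.mk_eq_mk_iff']
  exact ⟨c, h.symm⟩

/-- conversely -/
theorem exists_of_smul_ovPt (g : Matrix.SpecialLinearGroup (Fin 4) F) {o o' : Option (F × F)}
    (h : g • ovPt F m o = ovPt F m o') :
    ∃ c : F, c ≠ 0 ∧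
      (g : Matrix (Fin 4) (Fin 4) F).mulVec (ovVecOpt F m o) = c • ovVecOpt F m o' := by
  unfold ovPt at h
  rw [Projectivization.smul_mk, Projectivization.mk_eq_mk_iff] at h
  obtain ⟨a, ha⟩ := h
  exact ⟨a, a.ne_zero, ha.symm⟩

theorem suzukiOvoid_finite : (Cfsg.suzukiOvoid F m).Finite := by
  rw [suzukiOvoid_eq_range]; exact Set.finite_range _

theorem card_suzukiOvoid : Nat.card (Cfsg.suzukiOvoid F m) = (Fintype.card F) ^ 2 + 1 := by
  rw [suzukiOvoid_eq_range, Nat.card_range_of_injective ovPt_injective]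
  simp [Nat.card_eq_fintype_card, sq]

/-- membership in the Suzuki group from preservation of the parametrised points -/
theorem mem_Sz_of_forall (g : Matrix.SpecialLinearGroup (Fin 4) F)
    (h : ∀ o, ∃ o', g • ovPt F m o = ovPt F m o') : g ∈ Cfsg.Sz F m := by
  unfold Cfsg.Sz
  rw [MulAction.mem_stabilizer_set_iff_smul_set_subset suzukiOvoid_finite]
  rintro _ ⟨p, hp, rfl⟩
  rw [suzukiOvoid_eq_range] at hp
  obtain ⟨o, rfl⟩ := hp
  obtain ⟨o', ho'⟩ := h o
  show g • ovPt F m o ∈ _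
  rw [ho']
  exact ovPt_mem o'

theorem smul_mem_of_mem_Sz {g : Matrix.SpecialLinearGroup (Fin 4) F} (hg : g ∈ Cfsg.Sz F m)
    (o : Option (F × F)) : ∃ o', g • ovPt F m o = ovPt F m o' := by
  have h1 : g • (Cfsg.suzukiOvoid F m) = Cfsg.suzukiOvoid F m := hg
  have h2 : g • ovPt F m o ∈ g • (Cfsg.suzukiOvoid F m) := Set.smul_mem_smul_set (ovPt_mem o)
  rw [h1, suzukiOvoid_eq_range] at h2
  obtain ⟨o', ho'⟩ := h2
  exact ⟨o', ho'.symm⟩

end Cfsg.Agent.Helper6
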