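import Cfsg.Agent.Helper6.Sz9

/-!
# The Suzuki group is a Zassenhaus group on the ovoid
-/

set_option autoImplicit false

namespace Cfsg.Agent.Helper6

open scoped Pointwise

variable {F : Type*} [Field F] [Fintype F] {m : ℕ}

/-- points of the ovoid, as a subtype -/
noncomputable def ovΩ (F : Type*) [Field F] [Fintype F] (m : ℕ) (o : Option (F × F)) :
    Cfsg.suzukiOvoid F m := ⟨ovPt F m o, ovPt_mem o⟩

theorem exists_ovΩ (a : Cfsg.suzukiOvoid F m) : ∃ o, a = ovΩ F m o := by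
  have h : (a : Projectivization F (Fin 4 → F)) ∈ Set.range (ovPt F m) := by
    rw [← suzukiOvoid_eq_range]; exact a.2
  obtain ⟨o, ho⟩ := h
  exact ⟨o, Subtype.ext ho.symm⟩

theorem ovΩ_injective : Function.Injective (ovΩ F m) := by
  intro o o' h
  exact ovPt_injective (congrArg Subtype.val h)

theorem smul_ovΩ_eq_iff (g : Cfsg.Sz F m) (o o' : Option (F × F)) :
    g • ovΩ F m o = ovΩ F m o' ↔
      (g : Matrix.SpecialLinearGroup (Fin 4) F) • ovPt F m o = ovPt F m o' := by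
  rw [Subtype.ext_iff]
  rfl

theorem sz_faithful (hm : 1 ≤ m) (hF : Fintype.card F = 2 ^ (2 * m + 1)) :
    FaithfulSMul (Cfsg.Sz F m) (Cfsg.suzukiOvoid F m) := by
  refine ⟨fun {g g'} h => ?_⟩
  apply Subtype.ext
  apply eq_of_forall_smul hm hF g.2 g'.2
  intro o
  exact congrArg Subtype.val (h (ovΩ F m o))

theorem sz_two_transitive (hF : Fintype.card F = 2 ^ (2 * m + 1)) :
    MulAction.IsMultiplyPretransitive (Cfsg.Sz F m) (Cfsg.suzukiOvoid F m) 2 := by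
  rw [MulAction.is_two_pretransitive_iff]
  intro a b c d hab hcd
  obtain ⟨o1, rfl⟩ := exists_ovΩ a
  obtain ⟨o2, rfl⟩ := exists_ovΩ b
  obtain ⟨o3, rfl⟩ := exists_ovΩ c
  obtain ⟨o4, rfl⟩ := exists_ovΩ d
  have h12 : o1 ≠ o2 := fun h => hab (by rw [h])
  have h34 : o3 ≠ o4 := fun h => hcd (by rw [h])
  obtain ⟨g1, hg1, e1, e2⟩ := exists_smul_base hF h12
  obtain ⟨g2, hg2, e3, e4⟩ := exists_smul_base hF h34
  refine ⟨⟨g2, hg2⟩ * ⟨g1, hg1⟩⁻¹, ?_, ?_⟩
  · rw [smul_ovΩ_eq_iff]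
    show (g2 * g1⁻¹) • ovPt F m o1 = _
    rw [← e1, mul_smul, inv_smul_smul, e3]
  · rw [smul_ovΩ_eq_iff]
    show (g2 * g1⁻¹) • ovPt F m o2 = _
    rw [← e2, mul_smul, inv_smul_smul, e4]

theorem sz_three_points (hm : 1 ≤ m) (hF : Fintype.card F = 2 ^ (2 * m + 1))
    (g : Cfsg.Sz F m) (a b c : Cfsg.suzukiOvoid F m) (hab : a ≠ b) (hbc : b ≠ c) (hac : a ≠ c)
    (ha : g • a = a) (hb : g • b = b) (hc : g • c = c) : g = 1 := by
  obtain ⟨o1, rfl⟩ := exists_ovΩ a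
  obtain ⟨o2, rfl⟩ := exists_ovΩ b
  obtain ⟨o3, rfl⟩ := exists_ovΩ c
  rw [smul_ovΩ_eq_iff] at ha hb hc
  have h12 : o1 ≠ o2 := fun h => hab (by rw [h])
  obtain ⟨h, hh, e1, e2⟩ := exists_smul_base hF h12
  obtain ⟨g, hg⟩ := g
  change g • ovPt F m o1 = _ at ha
  change g • ovPt F m o2 = _ at hb
  change g • ovPt F m o3 = _ at hc
  set g' := h⁻¹ * g * h with hg'
  have hg'Sz : g' ∈ Cfsg.Sz F m :=
    (Cfsg.Sz F m).mul_mem ((Cfsg.Sz F m).mul_mem ((Cfsg.Sz F m).inv_mem hh) hg) hh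
  have f1 : g' • ovPt F m none = ovPt F m none := by
    rw [hg', mul_smul, mul_smul, e1, ha, ← e1, inv_smul_smul]
  have f2 : g' • ovPt F m (some (0, 0)) = ovPt F m (some (0, 0)) := by
    rw [hg', mul_smul, mul_smul, e2, hb, ← e2, inv_smul_smul]
  obtain ⟨t, ht⟩ := two_point_stab hm hF hg'Sz f1 f2
  obtain ⟨o', ho'⟩ := smul_mem_of_mem_Sz ((Cfsg.Sz F m).inv_mem hh) o3
  have f3 : g' • ovPt F m o' = ovPt F m o' := by
    rw [← ho', hg', mul_smul, mul_smul, smul_inv_smul, hc]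
  have ht1 : t = 1 := by
    rcases o' with _ | ⟨x, y⟩
    · exfalso
      rw [inv_smul_eq_iff, e1] at ho'
      exact hac (by rw [ovPt_injective ho'])
    · rw [ht] at f3
      apply szD_eq_one_of_fix hF _ f3
      rintro ⟨rfl, rfl⟩
      rw [inv_smul_eq_iff, e2] at ho'
      exact hbc (by rw [ovPt_injective ho'])
  rw [ht1, szD_one, hg'] at ht
  apply Subtype.ext
  show g = 1
  have : g = h * (h⁻¹ * g * h) * h⁻¹ := by group
  rw [this, ht]
  group

theorem exists_unit_ne_one (hm : 1 ≤ m) (hF : Fintype.card F = 2 ^ (2 * m + 1)) :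
    ∃ t : Fˣ, t ≠ 1 := by
  classical
  have h1 : 1 < Fintype.card Fˣ := by
    rw [Fintype.card_units, hF]
    have : 2 ^ 3 ≤ 2 ^ (2 * m + 1) := Nat.pow_le_pow_right (by norm_num) (by omega)
    omega
  have := Fintype.one_lt_card_iff_nontrivial.1 h1
  exact exists_ne 1

theorem sz_exists_two_fixed (hm : 1 ≤ m) (hF : Fintype.card F = 2 ^ (2 * m + 1)) :
    ∃ g : Cfsg.Sz F m, g ≠ 1 ∧ ∃ a b : Cfsg.suzukiOvoid F m, a ≠ b ∧ g • a = a ∧ g • b = b := by
  obtain ⟨t, ht⟩ := exists_unit_ne_one hm hF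
  refine ⟨⟨szD F m t, szD_mem hF t⟩, ?_, ovΩ F m none, ovΩ F m (some (0, 0)), ?_, ?_, ?_⟩
  · intro h
    apply ht
    apply szD_injective (m := m)
    rw [szD_one]
    exact congrArg Subtype.val h
  · intro h
    exact Option.some_ne_none _ (ovΩ_injective h).symm
  · rw [smul_ovΩ_eq_iff]
    exact szD_smul_none t
  · rw [smul_ovΩ_eq_iff]
    exact szD_smul_zero hF t

end Cfsg.Agent.Helper6
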