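import Cfsg.Agent.Helper6.Sz10

/-!
# The Suzuki group has no regular normal subgroup; it is a Zassenhaus group
-/

set_option autoImplicit false

namespace Cfsg.Agent.Helper6

open scoped Pointwise

variable {F : Type*} [Field F] [Fintype F] {m : ℕ}

/-- an involution with a unique fixed point inverts a regular normal subgroup (abstract version) -/
theorem inverts_of_regular {G Ω : Type*} [Group G] [MulAction G Ω] (N : Subgroup G) [N.Normal]
    [Finite N] (τ : G) (hτ : τ * τ = 1) (p : Ω) (hp : τ • p = p)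
    (hfix : ∀ a : Ω, τ • a = a → a = p) (hreg : ∀ n ∈ N, n • p = p → n = 1) :
    ∀ n ∈ N, τ * n * τ⁻¹ = n⁻¹ := by
  have hτinv : τ⁻¹ = τ := inv_eq_of_mul_eq_one_left hτ
  let ψ : N → N := fun n => ⟨(n : G)⁻¹ * (τ * n * τ⁻¹),
    N.mul_mem (N.inv_mem n.2) (Subgroup.Normal.conj_mem inferInstance _ n.2 τ)⟩
  have hinj : Function.Injective ψ := by
    intro n n' h
    have h' : (n : G)⁻¹ * (τ * n * τ⁻¹) = (n' : G)⁻¹ * (τ * n' * τ⁻¹) := congrArg Subtype.val h
    -- c = n' n⁻¹ commutes with τ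
    set c : G := (n' : G) * (n : G)⁻¹ with hc
    have hcN : c ∈ N := N.mul_mem n'.2 (N.inv_mem n.2)
    have k1 : (n : G)⁻¹ * (τ * n) = (n' : G)⁻¹ * (τ * n') := by
      have : (n : G)⁻¹ * (τ * n) * τ⁻¹ = (n' : G)⁻¹ * (τ * n') * τ⁻¹ := by
        simpa only [mul_assoc] using h'
      exact mul_right_cancel this
    have hcomm : c * τ = τ * c := by
      rw [hc]
      calc (n' : G) * (n : G)⁻¹ * τ = (n' : G) * ((n : G)⁻¹ * (τ * n)) * (n : G)⁻¹ := by group
        _ = (n' : G) * ((n' : G)⁻¹ * (τ * n')) * (n : G)⁻¹ := by rw [k1]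
        _ = τ * ((n' : G) * (n : G)⁻¹) := by group
    have hcp : c • p = p := by
      apply hfix
      rw [← mul_smul, ← hcomm, mul_smul, hp]
    have hc1 : c = 1 := hreg c hcN hcp
    apply Subtype.ext
    rw [hc, mul_inv_eq_one] at hc1
    exact hc1.symm
  have hsurj : Function.Surjective ψ := Finite.injective_iff_surjective.1 hinj
  intro x hx
  obtain ⟨n, hn⟩ := hsurj ⟨x, hx⟩
  have hx' : x = (n : G)⁻¹ * (τ * n * τ⁻¹) := (congrArg Subtype.val hn).symm
  rw [hx', hτinv]
  have e : τ * ((n : G)⁻¹ * (τ * ↑n * τ)) * τ = τ * (n : G)⁻¹ * τ * n * (τ * τ) := by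
    simp only [mul_assoc]
  rw [e, hτ, mul_one]
  simp only [mul_inv_rev, inv_inv, hτinv, mul_assoc]

theorem two_dvd_card_F_sq (hF : Fintype.card F = 2 ^ (2 * m + 1)) :
    ¬ 2 ∣ (Fintype.card F) ^ 2 + 1 := by
  rw [hF]
  intro h
  have h2 : 2 ∣ (2 ^ (2 * m + 1)) ^ 2 := by
    rw [← pow_mul]
    exact dvd_pow_self 2 (by omega)
  omega

theorem sz_no_regular_normal (hm : 1 ≤ m) (hF : Fintype.card F = 2 ^ (2 * m + 1))
    (N : Subgroup (Cfsg.Sz F m)) (hN : N.Normal)
    (htr : MulAction.IsPretransitive N (Cfsg.suzukiOvoid F m)) :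
    ∃ a : Cfsg.suzukiOvoid F m, MulAction.stabilizer N a ≠ ⊥ := by
  by_contra hcon
  simp only [not_exists, not_not] at hcon
  have h2 : (2 : F) = 0 := two_eq_zero_of_card hF
  have : Finite (Cfsg.Sz F m) := inferInstance
  -- the regularity hypothesis at infinity
  have hreg : ∀ n ∈ N, n • ovΩ F m none = ovΩ F m none → n = 1 := by
    intro n hn hfix
    have : (⟨n, hn⟩ : N) ∈ MulAction.stabilizer N (ovΩ F m none) := by
      rw [MulAction.mem_stabilizer_iff]
      exact hfix
    rw [hcon] at this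
    exact congrArg Subtype.val (Subgroup.mem_bot.1 this)
  -- the central involutions
  have hτ : ∀ b : F, b ≠ 0 → ∀ n ∈ N,
      (⟨szU F m 0 b, szU_mem hF 0 b⟩ : Cfsg.Sz F m) * n *
        (⟨szU F m 0 b, szU_mem hF 0 b⟩ : Cfsg.Sz F m)⁻¹ = n⁻¹ := by
    intro b hb
    apply inverts_of_regular N _ _ (ovΩ F m none)
    · rw [smul_ovΩ_eq_iff]
      exact szU_smul_none 0 b
    · intro a ha
      obtain ⟨o, rfl⟩ := exists_ovΩ a
      rw [smul_ovΩ_eq_iff] at ha
      rcases o with _ | ⟨x, y⟩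
      · rfl
      · exfalso
        change szU F m 0 b • ovPt F m (some (x, y)) = _ at ha
        rw [szU_smul_some hF] at ha
        have := Option.some_injective _ (ovPt_injective ha)
        rw [Prod.mk.injEq] at this
        have h3 := this.2
        rw [zero_pow (by positivity), zero_mul, add_zero] at h3
        exact hb (by linear_combination h3)
    · exact hreg
    · apply Subtype.ext
      show szU F m 0 b * szU F m 0 b = 1
      rw [szU_mul hm hF, ← szU_zero hm hF]
      congr 1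
      · ring
      · rw [zero_pow (by positivity)]
        linear_combination b * h2
  -- a unit different from one
  obtain ⟨t, ht⟩ := exists_unit_ne_one hm hF
  have hc0 : (t : F) ≠ 0 := t.ne_zero
  have hc1 : (1 : F) + t ≠ 0 := by
    intro h
    apply ht
    apply Units.ext
    rw [Units.val_one]
    linear_combination h - h2
  have hprod : (⟨szU F m 0 (1 + (t : F)), szU_mem hF 0 _⟩ : Cfsg.Sz F m) =
      ⟨szU F m 0 1, szU_mem hF 0 1⟩ * ⟨szU F m 0 (t : F), szU_mem hF 0 _⟩ := by
    apply Subtype.ext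
    show szU F m 0 (1 + (t : F)) = szU F m 0 1 * szU F m 0 (t : F)
    rw [szU_mul hm hF]
    congr 1
    · ring
    · rw [zero_pow (by positivity)]; ring
  -- every element of `N` is an involution
  have hsq : ∀ n ∈ N, n * n = 1 := by
    intro n hn
    have e1 := hτ 1 one_ne_zero n hn
    have e2 := hτ (t : F) hc0 n hn
    have e3 := hτ (1 + (t : F)) hc1 n hn
    rw [hprod] at e3
    set τ1 : Cfsg.Sz F m := ⟨szU F m 0 1, szU_mem hF 0 1⟩
    set τ2 : Cfsg.Sz F m := ⟨szU F m 0 (t : F), szU_mem hF 0 _⟩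
    have e4 : τ1 * τ2 * n * (τ1 * τ2)⁻¹ = τ1 * (τ2 * n * τ2⁻¹) * τ1⁻¹ := by group
    rw [e4, e2] at e3
    have e5 : τ1 * n⁻¹ * τ1⁻¹ = (τ1 * n * τ1⁻¹)⁻¹ := by group
    rw [e5, e1, inv_inv] at e3
    calc n * n = n * n⁻¹ := by rw [← e3]
      _ = 1 := mul_inv_cancel n
  -- an element of `N` moving infinity to zero
  obtain ⟨⟨n, hn⟩, hn0⟩ := htr.exists_smul_eq (ovΩ F m none) (ovΩ F m (some (0, 0)))
  change n • ovΩ F m none = ovΩ F m (some (0, 0)) at hn0
  have hn1 : n ≠ 1 := by
    intro h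
    rw [h, one_smul] at hn0
    exact Option.some_ne_none _ (ovΩ_injective hn0).symm
  have hord : orderOf (⟨n, hn⟩ : N) = 2 := by
    apply orderOf_eq_prime
    · apply Subtype.ext
      rw [pow_two]
      exact hsq n hn
    · intro h
      exact hn1 (congrArg Subtype.val h)
  have hdvd : 2 ∣ Nat.card N := by
    rw [← hord]
    exact orderOf_dvd_natCard _
  -- the order of `N` is the number of points
  have hcard : Nat.card N = (Fintype.card F) ^ 2 + 1 := by
    have h1 := Subgroup.index_mul_card (MulAction.stabilizer N (ovΩ F m none))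
    rw [MulAction.index_stabilizer, MulAction.orbit_eq_univ, Set.ncard_univ, hcon,
      Subgroup.card_bot, mul_one, card_suzukiOvoid] at h1
    exact h1.symm
  rw [hcard] at hdvd
  exact two_dvd_card_F_sq hF hdvd

/-- The Suzuki group is a Zassenhaus group on the points of the ovoid. -/
theorem sz_zassenhaus (hm : 1 ≤ m) (hF : Fintype.card F = 2 ^ (2 * m + 1)) :
    Cfsg.IsZassenhausGroup (Cfsg.Sz F m) (Cfsg.suzukiOvoid F m) :=
  ⟨sz_faithful hm hF, sz_two_transitive hF, sz_three_points hm hF, sz_exists_two_fixed hm hF,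
    fun N hN htr => sz_no_regular_normal hm hF N hN htr⟩

end Cfsg.Agent.Helper6
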