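import Cfsg.Agent.Helper6.Sz11

/-!
# Relations in the Suzuki group
-/

set_option autoImplicit false

namespace Cfsg.Agent.Helper6

open scoped Pointwise

variable {F : Type*} [Field F] [Fintype F] {m : ℕ}

omit [Fintype F] in
theorem szT_mul_self : szT F * szT F = 1 := by
  apply Subtype.ext
  show tMat F * tMat F = 1
  ext i j
  fin_cases i <;> fin_cases j <;> simp [Matrix.mul_apply, tMat, Fin.sum_univ_four]

omit [Fintype F] in
theorem szT_inv : (szT F)⁻¹ = szT F := inv_eq_of_mul_eq_one_left szT_mul_self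

theorem szT_mul_szD (t : Fˣ) : szT F * szD F m t = szD F m t⁻¹ * szT F := by
  apply Subtype.ext
  show tMat F * dMat (2 ^ m) (t : F) = dMat (2 ^ m) ((t⁻¹ : Fˣ) : F) * tMat F
  rw [Units.val_inv_eq_inv_val]
  ext i j
  fin_cases i <;> fin_cases j <;>
    simp [Matrix.mul_apply, tMat, dMat, Fin.sum_univ_four, Matrix.diagonal_apply, inv_pow]

theorem szD_inv (t : Fˣ) : (szD F m t)⁻¹ = szD F m t⁻¹ := by
  apply inv_eq_of_mul_eq_one_left
  rw [← szD_mul, inv_mul_cancel, szD_one]

theorem szU_inv (hm : 1 ≤ m) (hF : Fintype.card F = 2 ^ (2 * m + 1)) (a b : F) :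
    (szU F m a b)⁻¹ = szU F m a (b + a ^ (2 ^ (m + 1)) * a) := by
  have h2 : (2 : F) = 0 := two_eq_zero_of_card hF
  apply inv_eq_of_mul_eq_one_left
  rw [szU_mul hm hF, ← szU_zero hm hF]
  congr 1
  · linear_combination a * h2
  · linear_combination (b + a ^ (2 ^ (m + 1)) * a) * h2

theorem szU_central (hm : 1 ≤ m) (hF : Fintype.card F = 2 ^ (2 * m + 1)) (a b c : F) :
    szU F m 0 c * szU F m a b = szU F m a b * szU F m 0 c := by
  rw [szU_mul hm hF, szU_mul hm hF, zero_pow (by positivity)]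
  congr 1
  · ring
  · ring

theorem szU_mul_central (hm : 1 ≤ m) (hF : Fintype.card F = 2 ^ (2 * m + 1)) (a b c : F) :
    szU F m a b * szU F m 0 c = szU F m a (b + c) := by
  rw [szU_mul hm hF]
  congr 1
  · ring
  · ring

theorem szD_conj_szU' (hm : 1 ≤ m) (hF : Fintype.card F = 2 ^ (2 * m + 1)) (t : Fˣ) (a b : F) :
    szD F m t * szU F m a b * (szD F m t)⁻¹ =
      szU F m ((t : F) * a) ((t : F) ^ (2 ^ (m + 1) + 1) * b) := by
  rw [szD_conj_szU hm hF, mul_assoc, mul_inv_cancel, mul_one]

/-- uniqueness of the decomposition in the Borel subgroup -/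
theorem borel_unique (hF : Fintype.card F = 2 ^ (2 * m + 1)) {a b a' b' : F} {t t' : Fˣ}
    (h : szU F m a b * szD F m t = szU F m a' b' * szD F m t') : a = a' ∧ b = b' ∧ t = t' := by
  have h1 : (szU F m a b * szD F m t) • ovPt F m (some (0, 0)) =
      (szU F m a' b' * szD F m t') • ovPt F m (some (0, 0)) := by rw [h]
  rw [mul_smul, mul_smul, szD_smul_zero hF, szD_smul_zero hF, szU_smul_some hF,
    szU_smul_some hF] at h1
  have h2 := Option.some_injective _ (ovPt_injective h1)
  simp only [zero_add, mul_zero, add_zero, Prod.mk.injEq] at h2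
  obtain ⟨rfl, rfl⟩ := h2
  refine ⟨rfl, rfl, ?_⟩
  exact szD_injective (mul_left_cancel h)

/-- `t ↦ t^(σ+1)` is surjective on units -/
theorem exists_pow_sigma_succ (hF : Fintype.card F = 2 ^ (2 * m + 1)) (c : Fˣ) :
    ∃ t : Fˣ, t ^ (2 ^ (m + 1) + 1) = c := by
  have hinj : Function.Injective (fun t : Fˣ => t ^ (2 ^ (m + 1) + 1)) := by
    intro t t' h
    have h' : (t * t'⁻¹) ^ (2 ^ (m + 1) + 1) = 1 := by
      rw [mul_pow, inv_pow]
      simp only at h
      rw [h, mul_inv_cancel]
    have h'' : ((t * t'⁻¹ : Fˣ) : F) ^ (2 ^ (m + 1) + 1) = 1 := by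
      rw [← Units.val_pow_eq_pow_val, h', Units.val_one]
    have := eq_one_of_pow_sigma_succ hF h''
    have h3 : t * t'⁻¹ = 1 := Units.ext (by rw [this, Units.val_one])
    exact mul_inv_eq_one.1 h3
  exact Finite.injective_iff_surjective.1 hinj c

/-- squaring is surjective on units -/
theorem exists_sq_unit (hF : Fintype.card F = 2 ^ (2 * m + 1)) (c : Fˣ) :
    ∃ t : Fˣ, t * t = c := by
  have h2 : (2 : F) = 0 := two_eq_zero_of_card hF
  have hinj : Function.Injective (fun t : Fˣ => t * t) := by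
    intro t t' h
    simp only at h
    have h' : (t : F) * t = (t' : F) * t' := by
      rw [← Units.val_mul, ← Units.val_mul, h]
    have h3 : ((t : F) + t') * ((t : F) + t') = 0 := by
      linear_combination h' + ((t : F) * t' + (t' : F) * t') * h2
    have h4 : (t : F) + t' = 0 := by
      rcases mul_eq_zero.1 h3 with h | h <;> exact h
    apply Units.ext
    linear_combination h4 - (t' : F) * h2
  exact Finite.injective_iff_surjective.1 hinj c

end Cfsg.Agent.Helper6
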