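import Cfsg.Agent.Helper6.Sz12

/-!
# The Suzuki group is simple
-/

set_option autoImplicit false

namespace Cfsg.Agent.Helper6

open scoped Pointwise

variable {F : Type*} [Field F] [Fintype F] {m : ℕ}

/-- a non-trivial normal subgroup of the Suzuki group is transitive on the ovoid -/
theorem normal_transitive (hm : 1 ≤ m) (hF : Fintype.card F = 2 ^ (2 * m + 1))
    (N : Subgroup (Cfsg.Sz F m)) [hN : N.Normal] (hne : N ≠ ⊥) :
    MulAction.IsPretransitive N (Cfsg.suzukiOvoid F m) := by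
  obtain ⟨⟨n, hn⟩, hn1'⟩ := Subgroup.ne_bot_iff_exists_ne_one.1 hne
  have hn1 : n ≠ 1 := fun h => hn1' (Subtype.ext h)
  have hfaith := sz_faithful hm hF
  obtain ⟨a, ha⟩ : ∃ a : Cfsg.suzukiOvoid F m, n • a ≠ a := by
    by_contra hcon
    simp only [not_exists, not_not] at hcon
    apply hn1
    apply hfaith.eq_of_smul_eq_smul
    intro a
    rw [hcon a, one_smul]
  have h2t : ∀ a b c d : Cfsg.suzukiOvoid F m, a ≠ b → c ≠ d →
      ∃ g : Cfsg.Sz F m, g • a = c ∧ g • b = d := fun a b c d =>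
    (MulAction.is_two_pretransitive_iff (G := Cfsg.Sz F m)
      (α := Cfsg.suzukiOvoid F m)).1 (sz_two_transitive hF)
  refine ⟨fun c d => ?_⟩
  by_cases hcd : c = d
  · exact ⟨1, by rw [one_smul, hcd]⟩
  · obtain ⟨g, hg1, hg2⟩ := h2t a (n • a) c d (Ne.symm ha) hcd
    refine ⟨⟨g * n * g⁻¹, hN.conj_mem n hn g⟩, ?_⟩
    show (g * n * g⁻¹) • c = d
    rw [← hg1, mul_smul, inv_smul_smul, mul_smul, hg2]

theorem ovF_one_one (hF : Fintype.card F = 2 ^ (2 * m + 1)) : ovF F m (1 : F) 1 = 1 := by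
  have h2 : (2 : F) = 0 := two_eq_zero_of_card hF
  unfold ovF
  simp only [one_pow, mul_one]
  linear_combination h2

/-- step 3: a central translation in the normal subgroup -/
theorem exists_central_mem (hm : 1 ≤ m) (hF : Fintype.card F = 2 ^ (2 * m + 1))
    (N' : Subgroup (Matrix.SpecialLinearGroup (Fin 4) F)) (hle : N' ≤ Cfsg.Sz F m)
    (hnorm : ∀ x ∈ N', ∀ g ∈ Cfsg.Sz F m, g * x * g⁻¹ ∈ N')
    (x : Matrix.SpecialLinearGroup (Fin 4) F) (hx : x ∈ N') (hx1 : x ≠ 1)
    (hfix : x • ovPt F m none = ovPt F m none) :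
    ∃ b₀ : F, b₀ ≠ 0 ∧ szU F m 0 b₀ ∈ N' := by
  have h2 : (2 : F) = 0 := two_eq_zero_of_card hF
  have hs0 : (2 : ℕ) ^ (m + 1) ≠ 0 := by positivity
  obtain ⟨a, b, t, rfl⟩ := borel_decomp hm hF (hle hx) hfix
  by_cases ht : t = 1
  · subst ht
    rw [szD_one, mul_one] at hx hx1
    by_cases ha : a = 0
    · subst ha
      refine ⟨b, ?_, hx⟩
      rintro rfl
      exact hx1 (szU_zero hm hF)
    · refine ⟨a ^ (2 ^ (m + 1)) * a, mul_ne_zero (pow_ne_zero _ ha) ha, ?_⟩
      have := N'.mul_mem hx hx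
      rw [szU_mul hm hF] at this
      convert this using 2
      · linear_combination -a * h2
      · linear_combination -b * h2
  · -- commutator with `szU 0 1`
    set x := szU F m a b * szD F m t with hxdef
    set z := szU F m 0 1 with hz
    have hzSz : z ∈ Cfsg.Sz F m := szU_mem hF 0 1
    have hcomm : x * (z * x⁻¹ * z⁻¹) ∈ N' := N'.mul_mem hx (hnorm _ (N'.inv_mem hx) z hzSz)
    set c := (t : F) ^ (2 ^ (m + 1) + 1) with hc
    have e1 : x * z * x⁻¹ = szU F m 0 c := by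
      rw [hxdef, mul_inv_rev]
      have : szU F m a b * szD F m t * z * ((szD F m t)⁻¹ * (szU F m a b)⁻¹) =
          szU F m a b * (szD F m t * z * (szD F m t)⁻¹) * (szU F m a b)⁻¹ := by group
      rw [this, hz, szD_conj_szU' hm hF, mul_zero, mul_one, ← szU_central hm hF, mul_assoc,
        mul_inv_cancel, mul_one]
    have e2 : x * (z * x⁻¹ * z⁻¹) = szU F m 0 (c + 1) := by
      have : x * (z * x⁻¹ * z⁻¹) = (x * z * x⁻¹) * z⁻¹ := by group
      rw [this, e1, hz, szU_inv hm hF, zero_pow hs0, zero_mul, add_zero,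
        szU_mul_central hm hF]
    rw [e2] at hcomm
    refine ⟨c + 1, ?_, hcomm⟩
    intro h0
    apply ht
    apply Units.ext
    rw [Units.val_one]
    apply eq_one_of_pow_sigma_succ hF
    rw [← hc]
    linear_combination h0 - h2

end Cfsg.Agent.Helper6
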