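import Cfsg.Agent.Helper6.Sz13

/-!
# The Suzuki group is simple: the normal-closure argument
-/

set_option autoImplicit false

namespace Cfsg.Agent.Helper6

open scoped Pointwise

variable {F : Type*} [Field F] [Fintype F] {m : ℕ}

/-- step 4: all central translations -/
theorem central_mem (hm : 1 ≤ m) (hF : Fintype.card F = 2 ^ (2 * m + 1))
    (N' : Subgroup (Matrix.SpecialLinearGroup (Fin 4) F))
    (hnorm : ∀ x ∈ N', ∀ g ∈ Cfsg.Sz F m, g * x * g⁻¹ ∈ N')
    {b₀ : F} (hb₀ : b₀ ≠ 0) (hmem : szU F m 0 b₀ ∈ N') (b : F) : szU F m 0 b ∈ N' := by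
  by_cases hb : b = 0
  · rw [hb, szU_zero hm hF]; exact N'.one_mem
  · obtain ⟨t, ht⟩ := exists_pow_sigma_succ hF (Units.mk0 (b / b₀) (div_ne_zero hb hb₀))
    have h1 := hnorm _ hmem (szD F m t) (szD_mem hF t)
    rw [szD_conj_szU' hm hF, mul_zero] at h1
    have h2 : (t : F) ^ (2 ^ (m + 1) + 1) * b₀ = b := by
      have := congrArg Units.val ht
      rw [Units.val_pow_eq_pow_val, Units.val_mk0] at this
      rw [this]
      field_simp
    rwa [h2] at h1

/-- step 5: the inversion -/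
theorem szT_mem_normal (hm : 1 ≤ m) (hF : Fintype.card F = 2 ^ (2 * m + 1))
    (N' : Subgroup (Matrix.SpecialLinearGroup (Fin 4) F))
    (hnorm : ∀ x ∈ N', ∀ g ∈ Cfsg.Sz F m, g * x * g⁻¹ ∈ N')
    (hcen : ∀ b : F, szU F m 0 b ∈ N') : szT F ∈ N' := by
  have h2 : (2 : F) = 0 := two_eq_zero_of_card hF
  have hs0 : (2 : ℕ) ^ (m + 1) ≠ 0 := by positivity
  set h := szU F m 1 1 * szT F with hh
  have hhSz : h ∈ Cfsg.Sz F m := (Cfsg.Sz F m).mul_mem (szU_mem hF 1 1) (szT_mem hF)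
  have h11 : h • ovPt F m none = ovPt F m (some (1, 1)) := by
    rw [hh, mul_smul, szT_smul_none, szU_smul_some hF]
    simp
  have hT11 : szT F • ovPt F m (some ((1 : F), 1)) = ovPt F m (some (1, 1)) := by
    have hf : ovF F m (1 : F) 1 ≠ 0 := by rw [ovF_one_one hF]; exact one_ne_zero
    rw [szT_smul_some hF hf, ovF_one_one hF, div_one]
  set y := h⁻¹ * szT F * h with hy
  have hySz : y ∈ Cfsg.Sz F m :=
    (Cfsg.Sz F m).mul_mem ((Cfsg.Sz F m).mul_mem ((Cfsg.Sz F m).inv_mem hhSz) (szT_mem hF)) hhSz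
  have hyfix : y • ovPt F m none = ovPt F m none := by
    rw [hy, mul_smul, mul_smul, h11, hT11, ← h11, inv_smul_smul]
  have hyy : y * y = 1 := by
    rw [hy]
    have : h⁻¹ * szT F * h * (h⁻¹ * szT F * h) = h⁻¹ * (szT F * szT F) * h := by group
    rw [this, szT_mul_self]
    group
  obtain ⟨a, b, t, hyd⟩ := borel_decomp hm hF hySz hyfix
  -- the square
  have hsq : y * y = szU F m (a + (t : F) * a)
      (b + (t : F) ^ (2 ^ (m + 1) + 1) * b + a ^ (2 ^ (m + 1)) * ((t : F) * a)) *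
        szD F m (t * t) := by
    rw [hyd]
    have : szU F m a b * szD F m t * (szU F m a b * szD F m t) =
        szU F m a b * (szD F m t * szU F m a b) * szD F m t := by group
    rw [this, szD_conj_szU hm hF]
    have : szU F m a b * (szU F m ((t : F) * a) ((t : F) ^ (2 ^ (m + 1) + 1) * b) * szD F m t) *
        szD F m t = szU F m a b * szU F m ((t : F) * a) ((t : F) ^ (2 ^ (m + 1) + 1) * b) *
          (szD F m t * szD F m t) := by group
    rw [this, szU_mul hm hF, ← szD_mul]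
  rw [hyy] at hsq
  have h1 : (1 : Matrix.SpecialLinearGroup (Fin 4) F) = szU F m 0 0 * szD F m 1 := by
    rw [szU_zero hm hF, szD_one, mul_one]
  rw [h1] at hsq
  obtain ⟨-, -, htt⟩ := borel_unique hF hsq
  have ht1 : t = 1 := by
    have h3 : (t : F) * t = 1 := by
      rw [← Units.val_mul, ← htt, Units.val_one]
    have h4 : ((t : F) + 1) * ((t : F) + 1) = 0 := by
      linear_combination h3 + ((t : F) + 1) * h2
    have h5 : (t : F) + 1 = 0 := by
      rcases mul_eq_zero.1 h4 with h | h <;> exact h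
    apply Units.ext
    rw [Units.val_one]
    linear_combination h5 - h2
  rw [ht1, szD_one, mul_one] at hyd
  -- now `y = szU a b` is an involution, so `a = 0`
  have ha : a = 0 := by
    have h3 : szU F m a b * szU F m a b = szU F m 0 0 := by
      rw [← hyd, hyy, szU_zero hm hF]
    rw [szU_mul hm hF] at h3
    have h4 := (szU_injective hF h3).2
    have h5 : a ^ (2 ^ (m + 1)) * a = 0 := by linear_combination h4 - b * h2
    rcases mul_eq_zero.1 h5 with h | h
    · exact pow_eq_zero_iff hs0 |>.1 h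
    · exact h
  rw [ha] at hyd
  have hyN : y ∈ N' := by rw [hyd]; exact hcen b
  have := hnorm y hyN h hhSz
  have e : h * y * h⁻¹ = szT F := by rw [hy]; group
  rwa [e] at this

/-- step 6: the torus -/
theorem szD_mem_normal (hF : Fintype.card F = 2 ^ (2 * m + 1))
    (N' : Subgroup (Matrix.SpecialLinearGroup (Fin 4) F))
    (hnorm : ∀ x ∈ N', ∀ g ∈ Cfsg.Sz F m, g * x * g⁻¹ ∈ N')
    (hT : szT F ∈ N') (t : Fˣ) : szD F m t ∈ N' := by
  obtain ⟨u, rfl⟩ := exists_sq_unit hF t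
  have h1 := hnorm _ hT (szD F m u) (szD_mem hF u)
  have e : szD F m u * szT F * (szD F m u)⁻¹ = szD F m (u * u) * szT F := by
    rw [szD_inv, mul_assoc, szT_mul_szD, inv_inv, ← mul_assoc, ← szD_mul]
  rw [e] at h1
  have := N'.mul_mem h1 (N'.inv_mem hT)
  rwa [mul_assoc, mul_inv_cancel, mul_one] at this

/-- step 7: all translations -/
theorem szU_mem_normal (hm : 1 ≤ m) (hF : Fintype.card F = 2 ^ (2 * m + 1))
    (N' : Subgroup (Matrix.SpecialLinearGroup (Fin 4) F))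
    (hnorm : ∀ x ∈ N', ∀ g ∈ Cfsg.Sz F m, g * x * g⁻¹ ∈ N')
    (hcen : ∀ b : F, szU F m 0 b ∈ N') (hD : ∀ t : Fˣ, szD F m t ∈ N') (a b : F) :
    szU F m a b ∈ N' := by
  have h2 : (2 : F) = 0 := two_eq_zero_of_card hF
  obtain ⟨t, ht⟩ := exists_unit_ne_one hm hF
  have hk : (t : F) + 1 ≠ 0 := by
    intro h
    apply ht
    apply Units.ext
    rw [Units.val_one]
    linear_combination h - h2
  set a₀ := a / ((t : F) + 1) with ha₀
  set u := szU F m a₀ 0 with hu
  have huSz : u ∈ Cfsg.Sz F m := szU_mem hF _ _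
  have h1 : szD F m t * (u * (szD F m t)⁻¹ * u⁻¹) ∈ N' :=
    N'.mul_mem (hD t) (hnorm _ (N'.inv_mem (hD t)) u huSz)
  have e : szD F m t * (u * (szD F m t)⁻¹ * u⁻¹) =
      (szD F m t * u * (szD F m t)⁻¹) * u⁻¹ := by group
  rw [e, hu, szD_conj_szU' hm hF, szU_inv hm hF, szU_mul hm hF] at h1
  have ha : (t : F) * a₀ + a₀ = a := by
    rw [ha₀]; field_simp
  rw [ha] at h1
  set e' := (t : F) ^ (2 ^ (m + 1) + 1) * 0 + (0 + a₀ ^ 2 ^ (m + 1) * a₀) +
    ((t : F) * a₀) ^ 2 ^ (m + 1) * a₀ with he'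
  have := N'.mul_mem h1 (hcen (b - e'))
  rw [szU_mul_central hm hF] at this
  convert this using 2
  ring

/-- the normal-closure argument -/
theorem le_of_normal (hm : 1 ≤ m) (hF : Fintype.card F = 2 ^ (2 * m + 1))
    (N' : Subgroup (Matrix.SpecialLinearGroup (Fin 4) F)) (hle : N' ≤ Cfsg.Sz F m)
    (hnorm : ∀ x ∈ N', ∀ g ∈ Cfsg.Sz F m, g * x * g⁻¹ ∈ N')
    (x : Matrix.SpecialLinearGroup (Fin 4) F) (hx : x ∈ N') (hx1 : x ≠ 1)
    (hfix : x • ovPt F m none = ovPt F m none) : Cfsg.Sz F m ≤ N' := by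
  obtain ⟨b₀, hb₀, hmem⟩ := exists_central_mem hm hF N' hle hnorm x hx hx1 hfix
  have hcen := central_mem hm hF N' hnorm hb₀ hmem
  have hT := szT_mem_normal hm hF N' hnorm hcen
  have hD := szD_mem_normal hF N' hnorm hT
  have hU := szU_mem_normal hm hF N' hnorm hcen hD
  intro g hg
  rcases bruhat_decomp hm hF hg with ⟨a, b, t, rfl⟩ | ⟨x, y, a, b, t, rfl⟩
  · exact N'.mul_mem (hU a b) (hD t)
  · exact N'.mul_mem (N'.mul_mem (hU x y) hT) (N'.mul_mem (hU a b) (hD t))

end Cfsg.Agent.Helper6
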