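import Cfsg.Agent.Helper6.Sz14

/-!
# The Suzuki group is simple
-/

set_option autoImplicit false

namespace Cfsg.Agent.Helper6

open scoped Pointwise

variable {F : Type*} [Field F] [Fintype F] {m : ℕ}

theorem sz_simple (hm : 1 ≤ m) (hF : Fintype.card F = 2 ^ (2 * m + 1)) :
    IsSimpleGroup (Cfsg.Sz F m) := by
  have hnt : Nontrivial (Cfsg.Sz F m) := by
    obtain ⟨g, hg, -⟩ := sz_exists_two_fixed hm hF
    exact ⟨⟨g, 1, hg⟩⟩
  refine { toNontrivial := hnt, eq_bot_or_eq_top_of_normal := fun N hN => ?_ }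
  by_cases hne : N = ⊥
  · exact Or.inl hne
  right
  have htr := normal_transitive hm hF N hne
  obtain ⟨a, ha⟩ := sz_no_regular_normal hm hF N hN htr
  obtain ⟨⟨⟨x, hxN⟩, hxstab⟩, hx1⟩ := Subgroup.ne_bot_iff_exists_ne_one.1 ha
  have hx1' : x ≠ 1 := by
    intro h
    apply hx1
    apply Subtype.ext
    apply Subtype.ext
    exact h
  have hxa : x • a = a := by
    rw [MulAction.mem_stabilizer_iff] at hxstab
    exact hxstab
  obtain ⟨o, rfl⟩ := exists_ovΩ a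
  rw [smul_ovΩ_eq_iff] at hxa
  -- move the fixed point to infinity
  obtain ⟨o2, ho2⟩ : ∃ o2 : Option (F × F), o ≠ o2 := by
    rcases o with _ | xy
    · exact ⟨some (0, 0), by simp⟩
    · exact ⟨none, by simp⟩
  obtain ⟨g, hg, hg1, -⟩ := exists_smul_base hF ho2
  set N' := N.map (Cfsg.Sz F m).subtype with hN'
  have hle : N' ≤ Cfsg.Sz F m := by
    rintro _ ⟨y, -, rfl⟩
    exact y.2
  have hnorm : ∀ z ∈ N', ∀ k ∈ Cfsg.Sz F m, k * z * k⁻¹ ∈ N' := by
    rintro _ ⟨y, hy, rfl⟩ k hk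
    exact ⟨⟨k, hk⟩ * y * ⟨k, hk⟩⁻¹, hN.conj_mem y hy ⟨k, hk⟩, rfl⟩
  have hxN' : (x : Matrix.SpecialLinearGroup (Fin 4) F) ∈ N' := ⟨x, hxN, rfl⟩
  set x' := g⁻¹ * (x : Matrix.SpecialLinearGroup (Fin 4) F) * g with hx'
  have hx'N : x' ∈ N' := by
    have := hnorm _ hxN' g⁻¹ ((Cfsg.Sz F m).inv_mem hg)
    rwa [inv_inv] at this
  have hx'1 : x' ≠ 1 := by
    intro h
    apply hx1'
    apply Subtype.ext
    have : (x : Matrix.SpecialLinearGroup (Fin 4) F) = g * x' * g⁻¹ := by rw [hx']; group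
    rw [this, h]
    simp
  have hx'fix : x' • ovPt F m none = ovPt F m none := by
    rw [hx', mul_smul, mul_smul, hg1, hxa, ← hg1, inv_smul_smul]
  have hall := le_of_normal hm hF N' hle hnorm x' hx'N hx'1 hx'fix
  rw [eq_top_iff]
  intro y _
  obtain ⟨z, hz, hzy⟩ := hall y.2
  have : z = y := Subtype.ext hzy
  rwa [this] at hz

end Cfsg.Agent.Helper6
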