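import Cfsg.Agent.Helper6.Sz15

/-!
# The Sylow 2-subgroup of the Suzuki group
-/

set_option autoImplicit false

namespace Cfsg.Agent.Helper6

open scoped Pointwise

section transport

variable {A B : Type*} [Group A] [Group B]

theorem mem_center_iff_of_equiv (e : A ≃* B) (x : A) :
    x ∈ Subgroup.center A ↔ e x ∈ Subgroup.center B := by
  rw [Subgroup.mem_center_iff, Subgroup.mem_center_iff]
  constructor
  · intro h b
    obtain ⟨a, rfl⟩ := e.surjective b
    rw [← map_mul, ← map_mul, h a]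
  · intro h a
    apply e.injective
    rw [map_mul, map_mul, h (e a)]

theorem mem_commutator_iff_of_equiv (e : A ≃* B) (x : A) :
    x ∈ commutator A ↔ e x ∈ commutator B := by
  have h1 : commutator B = (commutator A).map e.toMonoidHom := by
    rw [commutator_def, commutator_def, Subgroup.map_commutator,
      Subgroup.map_top_of_surjective _ e.surjective]
  rw [h1]
  exact (Subgroup.mem_map_iff_mem e.injective).symm

theorem center_eq_commutator_of_equiv (e : A ≃* B) (h : Subgroup.center B = commutator B) :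
    Subgroup.center A = commutator A := by
  ext x
  rw [mem_center_iff_of_equiv e, mem_commutator_iff_of_equiv e, h]

theorem card_center_of_equiv (e : A ≃* B) :
    Nat.card (Subgroup.center A) = Nat.card (Subgroup.center B) :=
  Nat.card_congr (Subgroup.centerCongr e).toEquiv

end transport

variable {F : Type*} [Field F] [Fintype F] {m : ℕ}

/-- the translation subgroup of the Suzuki group -/
def szQ (hm : 1 ≤ m) (hF : Fintype.card F = 2 ^ (2 * m + 1)) : Subgroup (Cfsg.Sz F m) where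
  carrier := {g | ∃ a b : F, (g : Matrix.SpecialLinearGroup (Fin 4) F) = szU F m a b}
  mul_mem' := by
    rintro g g' ⟨a, b, h⟩ ⟨c, d, h'⟩
    exact ⟨_, _, by rw [Subgroup.coe_mul, h, h', szU_mul hm hF]⟩
  one_mem' := ⟨0, 0, by rw [Subgroup.coe_one, szU_zero hm hF]⟩
  inv_mem' := by
    rintro g ⟨a, b, h⟩
    exact ⟨_, _, by rw [Subgroup.coe_inv, h, szU_inv hm hF]⟩

/-- elements of the translation subgroup -/
noncomputable def qU (hm : 1 ≤ m) (hF : Fintype.card F = 2 ^ (2 * m + 1)) (a b : F) : szQ hm hF :=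
  ⟨⟨szU F m a b, szU_mem hF a b⟩, a, b, rfl⟩

theorem qU_surj (hm : 1 ≤ m) (hF : Fintype.card F = 2 ^ (2 * m + 1)) (x : szQ hm hF) :
    ∃ a b, x = qU hm hF a b := by
  obtain ⟨⟨g, hg⟩, a, b, h⟩ := x
  refine ⟨a, b, ?_⟩
  apply Subtype.ext
  apply Subtype.ext
  exact h

theorem qU_inj (hm : 1 ≤ m) (hF : Fintype.card F = 2 ^ (2 * m + 1)) {a b c d : F}
    (h : qU hm hF a b = qU hm hF c d) : a = c ∧ b = d := by
  apply szU_injective hF
  exact congrArg (fun x : szQ hm hF => ((x : Cfsg.Sz F m) : Matrix.SpecialLinearGroup (Fin 4) F)) h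

theorem qU_mul (hm : 1 ≤ m) (hF : Fintype.card F = 2 ^ (2 * m + 1)) (a b c d : F) :
    qU hm hF a b * qU hm hF c d = qU hm hF (a + c) (b + d + a ^ (2 ^ (m + 1)) * c) := by
  apply Subtype.ext
  apply Subtype.ext
  exact szU_mul hm hF a b c d

theorem qU_zero (hm : 1 ≤ m) (hF : Fintype.card F = 2 ^ (2 * m + 1)) : qU hm hF 0 0 = 1 := by
  apply Subtype.ext
  apply Subtype.ext
  exact szU_zero hm hF

theorem qU_eq_one_iff (hm : 1 ≤ m) (hF : Fintype.card F = 2 ^ (2 * m + 1)) (a b : F) :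
    qU hm hF a b = 1 ↔ a = 0 ∧ b = 0 := by
  rw [← qU_zero hm hF]
  constructor
  · exact qU_inj hm hF
  · rintro ⟨rfl, rfl⟩; rfl

theorem card_szQ (hm : 1 ≤ m) (hF : Fintype.card F = 2 ^ (2 * m + 1)) :
    Nat.card (szQ hm hF) = (Fintype.card F) ^ 2 := by
  have e : F × F ≃ szQ hm hF := Equiv.ofBijective (fun p => qU hm hF p.1 p.2) ⟨by
    rintro ⟨a, b⟩ ⟨c, d⟩ h
    obtain ⟨rfl, rfl⟩ := qU_inj hm hF h
    rfl, by
    intro x
    obtain ⟨a, b, rfl⟩ := qU_surj hm hF x
    exact ⟨(a, b), rfl⟩⟩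
  rw [← Nat.card_congr e, Nat.card_prod, Nat.card_eq_fintype_card, sq]

end Cfsg.Agent.Helper6
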