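import Cfsg.Agent.Helper6.Sz16

/-!
# Structure of the Sylow 2-subgroup of the Suzuki group
-/

set_option autoImplicit false

namespace Cfsg.Agent.Helper6

open scoped Pointwise
open scoped commutatorElement

variable {F : Type*} [Field F] [Fintype F] {m : ℕ}

theorem qU_sq (hm : 1 ≤ m) (hF : Fintype.card F = 2 ^ (2 * m + 1)) (a b : F) :
    qU hm hF a b * qU hm hF a b = qU hm hF 0 (a ^ (2 ^ (m + 1)) * a) := by
  have h2 : (2 : F) = 0 := two_eq_zero_of_card hF
  rw [qU_mul]
  congr 1
  · linear_combination a * h2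
  · linear_combination b * h2

theorem qU_pow_four (hm : 1 ≤ m) (hF : Fintype.card F = 2 ^ (2 * m + 1)) (x : szQ hm hF) :
    x ^ 4 = 1 := by
  have h2 : (2 : F) = 0 := two_eq_zero_of_card hF
  obtain ⟨a, b, rfl⟩ := qU_surj hm hF x
  have : qU hm hF a b ^ 4 = (qU hm hF a b * qU hm hF a b) * (qU hm hF a b * qU hm hF a b) := by
    simp only [pow_succ, pow_zero, one_mul, mul_assoc]
  rw [this, qU_sq, qU_sq, zero_pow (by positivity), zero_mul, qU_zero]

theorem exponent_szQ (hm : 1 ≤ m) (hF : Fintype.card F = 2 ^ (2 * m + 1)) :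
    Monoid.exponent (szQ hm hF) = 4 := by
  have h4 : Monoid.exponent (szQ hm hF) ∣ 4 :=
    Monoid.exponent_dvd_of_forall_pow_eq_one (qU_pow_four hm hF)
  have h2 : ¬ Monoid.exponent (szQ hm hF) ∣ 2 := by
    intro h
    have := Monoid.pow_exponent_eq_one (qU hm hF 1 0)
    obtain ⟨k, hk⟩ := h
    have h' : qU hm hF 1 0 ^ 2 = 1 := by
      rw [hk, pow_mul, this, one_pow]
    rw [pow_two, qU_sq, qU_eq_one_iff] at h'
    simp at h'
  have hdiv : Monoid.exponent (szQ hm hF) ∈ Nat.divisors 4 := by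
    rw [Nat.mem_divisors]; exact ⟨h4, by norm_num⟩
  have h4d : Nat.divisors 4 = {1, 2, 4} := by decide
  rw [h4d] at hdiv
  simp only [Finset.mem_insert, Finset.mem_singleton] at hdiv
  rcases hdiv with h | h | h
  · exact absurd (by rw [h]; decide) h2
  · exact absurd (by rw [h]) h2
  · exact h

/-- the commutator of two translations -/
theorem qU_commutator (hm : 1 ≤ m) (hF : Fintype.card F = 2 ^ (2 * m + 1)) (a b c d : F) :
    ⁅qU hm hF a b, qU hm hF c d⁆ =
      qU hm hF 0 (a ^ (2 ^ (m + 1)) * c + c ^ (2 ^ (m + 1)) * a) := by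
  have h2 : (2 : F) = 0 := two_eq_zero_of_card hF
  rw [commutatorElement_def]
  have key : qU hm hF a b * qU hm hF c d =
      qU hm hF 0 (a ^ (2 ^ (m + 1)) * c + c ^ (2 ^ (m + 1)) * a) * (qU hm hF c d * qU hm hF a b) := by
    rw [qU_mul, qU_mul, qU_mul, zero_pow (by positivity)]
    congr 1
    · ring
    · linear_combination (-(c ^ (2 ^ (m + 1)) * a)) * h2
  rw [key]
  group

theorem unit_pow_sigma_ne (hF : Fintype.card F = 2 ^ (2 * m + 1)) {t : Fˣ} (ht : t ≠ 1) :
    (t : F) ^ (2 ^ (m + 1)) ≠ t := by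
  intro h
  apply ht
  have h1 : ((t : F) ^ (2 ^ (m + 1))) ^ (2 ^ (m + 1)) = (t : F) ^ 2 := pow_sigma_sigma hF _
  rw [h, h] at h1
  have h2 : (t : F) * 1 = (t : F) * t := by rw [mul_one, ← pow_two, ← h1]
  have := mul_left_cancel₀ t.ne_zero h2
  exact Units.ext (by rw [Units.val_one]; exact this.symm)

theorem mem_center_szQ_iff (hm : 1 ≤ m) (hF : Fintype.card F = 2 ^ (2 * m + 1)) (a b : F) :
    qU hm hF a b ∈ Subgroup.center (szQ hm hF) ↔ a = 0 := by
  rw [Subgroup.mem_center_iff]
  constructor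
  · intro h
    obtain ⟨t, ht⟩ := exists_unit_ne_one hm hF
    have h1 := h (qU hm hF 1 0)
    have ht' := h (qU hm hF (t : F) 0)
    rw [qU_mul, qU_mul] at h1 ht'
    have e1 := (qU_inj hm hF h1).2
    have e2 := (qU_inj hm hF ht').2
    rw [one_pow] at e1
    -- a = a^s and t^s a = a^s t
    have e3 : a ^ (2 ^ (m + 1)) = a := by linear_combination -e1
    rw [e3] at e2
    have e4 : ((t : F) ^ (2 ^ (m + 1)) - t) * a = 0 := by linear_combination e2
    rcases mul_eq_zero.1 e4 with h0 | h0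
    · exact absurd (sub_eq_zero.1 h0) (unit_pow_sigma_ne hF ht)
    · exact h0
  · rintro rfl x
    obtain ⟨c, d, rfl⟩ := qU_surj hm hF x
    rw [qU_mul, qU_mul, zero_pow (by positivity)]
    congr 1
    · ring
    · ring

theorem center_szQ_eq_commutator (hm : 1 ≤ m) (hF : Fintype.card F = 2 ^ (2 * m + 1)) :
    Subgroup.center (szQ hm hF) = commutator (szQ hm hF) := by
  apply le_antisymm
  · intro x hx
    obtain ⟨a, b, rfl⟩ := qU_surj hm hF x
    rw [mem_center_szQ_iff] at hx
    subst hx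
    -- write `b` as a commutator
    by_cases hb : b = 0
    · rw [hb, qU_zero]; exact Subgroup.one_mem _
    obtain ⟨t, ht⟩ := exists_unit_ne_one hm hF
    set l := (t : F) + (t : F) ^ (2 ^ (m + 1)) with hl
    have h2 : (2 : F) = 0 := two_eq_zero_of_card hF
    have hl0 : l ≠ 0 := by
      intro h0
      apply unit_pow_sigma_ne hF ht
      linear_combination h0 - (t : F) * h2
    obtain ⟨u, hu⟩ := exists_pow_sigma_succ hF (Units.mk0 (b / l) (div_ne_zero hb hl0))
    have hu' : (u : F) ^ (2 ^ (m + 1) + 1) * l = b := by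
      have := congrArg Units.val hu
      rw [Units.val_pow_eq_pow_val, Units.val_mk0] at this
      rw [this]; field_simp
    have : qU hm hF 0 b = ⁅qU hm hF (u : F) 0, qU hm hF ((u : F) * t) 0⁆ := by
      rw [qU_commutator]
      congr 1
      rw [← hu', hl, mul_pow, pow_succ]
      ring
    rw [this, commutator_def]
    exact Subgroup.commutator_mem_commutator (Subgroup.mem_top _) (Subgroup.mem_top _)
  · rw [commutator_def, Subgroup.commutator_le]
    intro x _ y _
    obtain ⟨a, b, rfl⟩ := qU_surj hm hF x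
    obtain ⟨c, d, rfl⟩ := qU_surj hm hF y
    rw [qU_commutator, mem_center_szQ_iff]

theorem card_center_szQ (hm : 1 ≤ m) (hF : Fintype.card F = 2 ^ (2 * m + 1)) :
    Nat.card (Subgroup.center (szQ hm hF)) = Fintype.card F := by
  have e : F ≃ Subgroup.center (szQ hm hF) :=
    Equiv.ofBijective (fun b => ⟨qU hm hF 0 b, (mem_center_szQ_iff hm hF 0 b).2 rfl⟩) ⟨by
      intro b b' h
      exact (qU_inj hm hF (congrArg Subtype.val h)).2, by
      rintro ⟨x, hx⟩
      obtain ⟨a, b, rfl⟩ := qU_surj hm hF x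
      rw [mem_center_szQ_iff] at hx
      subst hx
      exact ⟨b, rfl⟩⟩
  rw [← Nat.card_congr e, Nat.card_eq_fintype_card]

end Cfsg.Agent.Helper6
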