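import Cfsg.Agent.Helper6.Sz17

/-!
# Sylow 2-subgroups of the Suzuki group
-/

set_option autoImplicit false

namespace Cfsg.Agent.Helper6

open scoped Pointwise

variable {F : Type*} [Field F] [Fintype F] {m : ℕ}

theorem szQ_index_odd (hm : 1 ≤ m) (hF : Fintype.card F = 2 ^ (2 * m + 1)) :
    ¬ 2 ∣ (szQ hm hF).index := by
  have h1 := Subgroup.index_mul_card (szQ hm hF)
  rw [card_szQ, card_Sz hm hF] at h1
  have hq : 0 < (Fintype.card F) ^ 2 := by positivity
  have h2 : (szQ hm hF).index = ((Fintype.card F) ^ 2 + 1) * (Fintype.card F - 1) := by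
    have : (szQ hm hF).index * (Fintype.card F) ^ 2 =
        (((Fintype.card F) ^ 2 + 1) * (Fintype.card F - 1)) * (Fintype.card F) ^ 2 := by
      rw [h1]; ring
    exact Nat.eq_of_mul_eq_mul_right hq this
  rw [h2]
  intro hdvd
  rcases (Nat.Prime.dvd_mul Nat.prime_two).1 hdvd with h | h
  · exact two_dvd_card_F_sq hF h
  · rw [hF] at h
    have : 2 ∣ 2 ^ (2 * m + 1) := dvd_pow_self 2 (by omega)
    have hpos : 0 < 2 ^ (2 * m + 1) := by positivity
    omega

theorem sylow_two_sz (hm : 1 ≤ m) (hF : Fintype.card F = 2 ^ (2 * m + 1))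
    (P : Sylow 2 (Cfsg.Sz F m)) :
    Nat.card P = (Fintype.card F) ^ 2 ∧ Monoid.exponent P = 4 ∧
      Subgroup.center P = commutator P ∧ Nat.card (Subgroup.center P) = Fintype.card F := by
  have : Finite (Cfsg.Sz F m) := inferInstance
  have hQp : IsPGroup 2 (szQ hm hF) := by
    apply IsPGroup.of_card (n := 2 * (2 * m + 1))
    rw [card_szQ, hF, ← pow_mul, mul_comm]
  let QS : Sylow 2 (Cfsg.Sz F m) := hQp.toSylow (szQ_index_odd hm hF)
  have e : P ≃* szQ hm hF := Sylow.equiv P QS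
  refine ⟨?_, ?_, ?_, ?_⟩
  · rw [Nat.card_congr e.toEquiv, card_szQ]
  · rw [Monoid.exponent_eq_of_mulEquiv e, exponent_szQ]
  · exact center_eq_commutator_of_equiv e (center_szQ_eq_commutator hm hF)
  · rw [card_center_of_equiv e, card_center_szQ]

end Cfsg.Agent.Helper6
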