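import Cfsg.Agent.Helper6.Sz18
import Cfsg.Agent.Helper6.Singer

/-!
# Sylow subgroups of odd order in the Suzuki group are cyclic
-/

set_option autoImplicit false

namespace Cfsg.Agent.Helper6

open scoped Pointwise

variable {F : Type*} [Field F] [Fintype F] {m : ℕ}

theorem odd_prime_not_dvd_two_pow {p : ℕ} (hp : p.Prime) (hp2 : p ≠ 2) (n : ℕ) : ¬ p ∣ 2 ^ n := by
  intro h
  have := hp.dvd_of_dvd_pow h
  exact hp2 ((Nat.prime_dvd_prime_iff_eq hp Nat.prime_two).1 this)

theorem not_dvd_both {p q : ℕ} (hp : p.Prime) (hp2 : p ≠ 2) (h1 : p ∣ q - 1) (hq : 1 ≤ q)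
    (h2 : p ∣ q ^ 2 + 1) : False := by
  have hz1 : (p : ℤ) ∣ (q : ℤ) - 1 := by
    have : ((q - 1 : ℕ) : ℤ) = (q : ℤ) - 1 := by push_cast [Nat.cast_sub hq]; ring
    rw [← this]; exact_mod_cast h1
  have hz2 : (p : ℤ) ∣ (q : ℤ) ^ 2 + 1 := by exact_mod_cast h2
  have := hz2.linear_comb hz1 1 (-((q : ℤ) + 1))
  have e : (2 : ℤ) = 1 * ((q : ℤ) ^ 2 + 1) + (-((q : ℤ) + 1)) * ((q : ℤ) - 1) := by ring
  rw [← e] at this
  have h' : p ∣ 2 := by exact_mod_cast this
  exact hp2 ((Nat.prime_dvd_prime_iff_eq hp Nat.prime_two).1 h')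

theorem sz_sylow_odd_cyclic (hm : 1 ≤ m) (hF : Fintype.card F = 2 ^ (2 * m + 1)) {p : ℕ}
    [hp : Fact p.Prime] (hp2 : p ≠ 2) (P : Sylow p (Cfsg.Sz F m)) : IsCyclic P := by
  have : Finite (Cfsg.Sz F m) := inferInstance
  have hq1 : 1 ≤ Fintype.card F := Fintype.card_pos
  by_cases h1 : p ∣ Fintype.card F - 1
  · -- the torus
    let δ : Fˣ →* Cfsg.Sz F m := (szDHom F m).codRestrict (Cfsg.Sz F m) (szD_mem hF)
    have hδ : Function.Injective δ := by
      intro t t' h
      apply szD_injective (m := m)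
      exact congrArg Subtype.val h
    set D := δ.range with hD
    have hDcyc : IsCyclic D := isCyclic_of_surjective δ.rangeRestrict δ.rangeRestrict_surjective
    have hcardD : Nat.card D = Fintype.card F - 1 := by
      rw [← Nat.card_congr (MonoidHom.ofInjective hδ).toEquiv, Nat.card_units,
        Nat.card_eq_fintype_card]
    have hpos : 0 < Fintype.card F - 1 := by
      have : 2 ≤ Fintype.card F := Fintype.one_lt_card
      omega
    have hidx : D.index = (Fintype.card F) ^ 2 * ((Fintype.card F) ^ 2 + 1) := by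
      have h := Subgroup.index_mul_card D
      rw [hcardD, card_Sz hm hF] at h
      exact Nat.eq_of_mul_eq_mul_right hpos h
    have hnd : ¬ p ∣ D.index := by
      rw [hidx]
      intro h
      rcases (Nat.Prime.dvd_mul hp.out).1 h with h | h
      · rw [hF, ← pow_mul] at h
        exact odd_prime_not_dvd_two_pow hp.out hp2 _ h
      · exact not_dvd_both hp.out hp2 h1 hq1 h
    exact sylow_cyclic_of_cyclic_subgroup D hnd P
  · by_cases h2 : p ∣ (Fintype.card F) ^ 2 + 1
    · -- the Singer cycle of `GL₄`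
      have hchar : CharP F 2 :=
        CharTwo.of_one_ne_zero_of_two_eq_zero one_ne_zero (two_eq_zero_of_card hF)
      let f : Cfsg.Sz F m →* GL (Fin 4) F :=
        (Matrix.SpecialLinearGroup.toGL).comp (Cfsg.Sz F m).subtype
      have hf : Function.Injective f := by
        intro x y hxy
        apply Subtype.ext
        exact Matrix.SpecialLinearGroup.toGL_injective hxy
      exact sylow_cyclic_of_injective f hf (fun Q => gl4_sylow_cyclic hp2 h2 Q) P
    · -- `p` does not divide the order
      have hnd : ¬ p ∣ Nat.card (Cfsg.Sz F m) := by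
        rw [card_Sz hm hF]
        intro h
        rcases (Nat.Prime.dvd_mul hp.out).1 h with h | h
        · rcases (Nat.Prime.dvd_mul hp.out).1 h with h | h
          · rw [hF, ← pow_mul] at h
            exact odd_prime_not_dvd_two_pow hp.out hp2 _ h
          · exact h2 h
        · exact h1 h
      have hcard : Nat.card P = 1 := by
        rw [Sylow.card_eq_multiplicity, Nat.factorization_eq_zero_of_not_dvd hnd, pow_zero]
      have : Subsingleton P := (Nat.card_eq_one_iff_unique.1 hcard).1
      exact isCyclic_of_subsingleton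

end Cfsg.Agent.Helper6
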