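import Cfsg.Agent.Helper6.Sz19

/-!
# Real 2-elements of the Suzuki group
-/

set_option autoImplicit false

namespace Cfsg.Agent.Helper6

open scoped Pointwise

variable {F : Type*} [Field F] [Fintype F] {m : ℕ}

theorem mem_sylow_smul_iff {G : Type*} [Group G] {p : ℕ} (P : Sylow p G) (k x : G) :
    x ∈ (k • P : Sylow p G) ↔ k⁻¹ * x * k ∈ P := by
  rw [Sylow.smul_def]
  show x ∈ MulAut.conj k • (P : Subgroup G) ↔ _
  rw [Subgroup.mem_pointwise_smul_iff_inv_smul_mem]
  simp [MulAut.smul_def]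
  exact Iff.rfl

/-- a non-trivial translation fixes only the point at infinity -/
theorem szU_fix_only_infinity (hF : Fintype.card F = 2 ^ (2 * m + 1)) {a b : F}
    (hab : ¬ (a = 0 ∧ b = 0)) {o : Option (F × F)}
    (h : szU F m a b • ovPt F m o = ovPt F m o) : o = none := by
  rcases o with _ | ⟨x, y⟩
  · rfl
  · exfalso
    rw [szU_smul_some hF] at h
    have := Option.some_injective _ (ovPt_injective h)
    rw [Prod.mk.injEq] at this
    obtain ⟨h1, h2⟩ := this
    have ha : a = 0 := by linear_combination h1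
    rw [ha, zero_pow (by positivity), zero_mul, add_zero] at h2
    exact hab ⟨ha, by linear_combination h2⟩

/-- no solution of `x^σ + x = 1` -/
theorem no_sol_artin (hF : Fintype.card F = 2 ^ (2 * m + 1)) (x : F) :
    x ^ (2 ^ (m + 1)) + x ≠ 1 := by
  have h2 : (2 : F) = 0 := two_eq_zero_of_card hF
  intro h
  have h' := congrArg (fun z => z ^ (2 ^ (m + 1))) h
  simp only [one_pow] at h'
  rw [add_pow_sigma hF, pow_sigma_sigma hF] at h'
  have h3 : x * (x + 1) = 0 := by linear_combination h + h' + (1 - x ^ (2 ^ (m + 1))) * h2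
  rcases mul_eq_zero.1 h3 with h0 | h0
  · rw [h0, zero_pow (by positivity), zero_add] at h
    exact zero_ne_one h
  · have hx : x = 1 := by linear_combination h0 - h2
    rw [hx, one_pow] at h
    have : (1 : F) = 0 := by linear_combination h
    exact one_ne_zero this

/-- the key computation: a translation of order four is not conjugate to its inverse -/
theorem szU_not_real (hm : 1 ≤ m) (hF : Fintype.card F = 2 ^ (2 * m + 1)) {a b : F} (ha : a ≠ 0)
    {h : Matrix.SpecialLinearGroup (Fin 4) F} (hh : h ∈ Cfsg.Sz F m)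
    (hconj : h * szU F m a b * h⁻¹ = (szU F m a b)⁻¹) : False := by
  have h2 : (2 : F) = 0 := two_eq_zero_of_card hF
  -- `h` fixes the point at infinity
  have hfix : h • ovPt F m none = ovPt F m none := by
    obtain ⟨o, ho⟩ := smul_mem_of_mem_Sz hh none
    have : szU F m a b • ovPt F m o = ovPt F m o := by
      have e : szU F m a b = h * (szU F m a b)⁻¹ * h⁻¹ := by
        have h' := congrArg (fun z => z⁻¹) hconj
        simp only [mul_inv_rev, inv_inv] at h'
        rw [mul_assoc]
        exact h'.symm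
      rw [← ho]
      nth_rewrite 1 [e]
      rw [mul_smul, mul_smul, inv_smul_smul]
      congr 1
      rw [inv_smul_eq_iff, szU_smul_none]
    rw [ho, szU_fix_only_infinity hF (fun hab => ha hab.1) this]
  obtain ⟨c, d, t, rfl⟩ := borel_decomp hm hF hh hfix
  have key : szU F m c d * szD F m t * szU F m a b =
      (szU F m a b)⁻¹ * (szU F m c d * szD F m t) := by
    rw [← hconj]; group
  rw [szU_inv hm hF, mul_assoc, szD_conj_szU hm hF, ← mul_assoc, ← mul_assoc, szU_mul hm hF,
    szU_mul hm hF] at key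
  obtain ⟨e1, e2, -⟩ := borel_unique hF key
  have ht : (t : F) = 1 := by
    have : ((t : F) - 1) * a = 0 := by linear_combination e1
    rcases mul_eq_zero.1 this with h0 | h0
    · linear_combination h0
    · exact absurd h0 ha
  rw [ht, one_pow, one_mul, one_mul] at e2
  -- c^s a + a^s c = a^s a
  have e3 : c ^ (2 ^ (m + 1)) * a + a ^ (2 ^ (m + 1)) * c = a ^ (2 ^ (m + 1)) * a := by
    linear_combination e2 + (a ^ (2 ^ (m + 1)) * c) * h2
  apply no_sol_artin hF (c / a)
  rw [div_pow]
  have has : a ^ (2 ^ (m + 1)) ≠ 0 := pow_ne_zero _ ha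
  field_simp
  linear_combination e3

theorem szU_real_iff (hm : 1 ≤ m) (hF : Fintype.card F = 2 ^ (2 * m + 1)) {a b : F}
    (hab : ¬ (a = 0 ∧ b = 0)) :
    IsConj (⟨szU F m a b, szU_mem hF a b⟩ : Cfsg.Sz F m) (⟨szU F m a b, szU_mem hF a b⟩)⁻¹ ↔
      orderOf (⟨szU F m a b, szU_mem hF a b⟩ : Cfsg.Sz F m) = 2 := by
  have h2 : (2 : F) = 0 := two_eq_zero_of_card hF
  set u : Cfsg.Sz F m := ⟨szU F m a b, szU_mem hF a b⟩ with hu
  have hu1 : u ≠ 1 := by
    intro h
    have : szU F m a b = szU F m 0 0 := by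
      rw [szU_zero hm hF]; exact congrArg Subtype.val h
    exact hab (szU_injective hF this)
  have husq : u ^ 2 = 1 ↔ a = 0 := by
    rw [pow_two, ← Subtype.coe_inj]
    show szU F m a b * szU F m a b = 1 ↔ _
    rw [szU_mul hm hF, ← szU_zero hm hF]
    constructor
    · intro h
      have h4 := (szU_injective hF h).2
      have h5 : a ^ (2 ^ (m + 1)) * a = 0 := by linear_combination h4 - b * h2
      rcases mul_eq_zero.1 h5 with h0 | h0
      · exact pow_eq_zero_iff (by positivity) |>.1 h0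
      · exact h0
    · rintro rfl
      congr 1
      · ring
      · rw [zero_pow (by positivity)]; linear_combination b * h2
  constructor
  · intro hc
    by_contra hord
    have ha : a ≠ 0 := by
      intro ha
      apply hord
      exact orderOf_eq_prime (husq.2 ha) hu1
    rw [isConj_iff] at hc
    obtain ⟨⟨h, hh⟩, hconj⟩ := hc
    apply szU_not_real hm hF ha hh
    exact congrArg Subtype.val hconj
  · intro hord
    have : u ^ 2 = 1 := by rw [← hord]; exact pow_orderOf_eq_one u
    have hinv : u⁻¹ = u := by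
      rw [inv_eq_iff_mul_eq_one, ← pow_two]; exact this
    rw [hinv]

theorem isConj_inv_conj_iff {G : Type*} [Group G] (k u : G) :
    IsConj (k * u * k⁻¹) (k * u * k⁻¹)⁻¹ ↔ IsConj u u⁻¹ := by
  rw [isConj_iff, isConj_iff]
  constructor
  · rintro ⟨c, hc⟩
    refine ⟨k⁻¹ * c * k, ?_⟩
    have : k⁻¹ * c * k * u * (k⁻¹ * c * k)⁻¹ = k⁻¹ * (c * (k * u * k⁻¹) * c⁻¹) * k := by group
    rw [this, hc]
    group
  · rintro ⟨c, hc⟩
    refine ⟨k * c * k⁻¹, ?_⟩
    have : k * c * k⁻¹ * (k * u * k⁻¹) * (k * c * k⁻¹)⁻¹ = k * (c * u * c⁻¹) * k⁻¹ := by group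
    rw [this, hc]
    group

theorem orderOf_conj' {G : Type*} [Group G] (k u : G) : orderOf (k * u * k⁻¹) = orderOf u := by
  have := orderOf_injective (MulAut.conj k).toMonoidHom (MulAut.conj k).injective u
  simpa [MulAut.conj_apply] using this

/-- A non-identity element of a Sylow 2-subgroup of the Suzuki group is conjugate to its inverse
iff it is an involution. -/
theorem sz_real_two_elements (hm : 1 ≤ m) (hF : Fintype.card F = 2 ^ (2 * m + 1))
    (P : Sylow 2 (Cfsg.Sz F m)) (g : Cfsg.Sz F m) (hg : g ∈ (P : Subgroup (Cfsg.Sz F m)))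
    (h1 : g ≠ 1) : IsConj g g⁻¹ ↔ orderOf g = 2 := by
  have : Finite (Cfsg.Sz F m) := inferInstance
  have hQp : IsPGroup 2 (szQ hm hF) := by
    apply IsPGroup.of_card (n := 2 * (2 * m + 1))
    rw [card_szQ, hF, ← pow_mul, mul_comm]
  let QS : Sylow 2 (Cfsg.Sz F m) := hQp.toSylow (szQ_index_odd hm hF)
  obtain ⟨k, hk⟩ := MulAction.exists_smul_eq (Cfsg.Sz F m) QS P
  have hg' : g ∈ (k • QS : Sylow 2 (Cfsg.Sz F m)) := by rw [hk]; exact hg
  rw [mem_sylow_smul_iff] at hg'
  obtain ⟨a, b, hab⟩ : ∃ a b : F,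
      ((k⁻¹ * g * k : Cfsg.Sz F m) : Matrix.SpecialLinearGroup (Fin 4) F) = szU F m a b := hg'
  set u : Cfsg.Sz F m := ⟨szU F m a b, szU_mem hF a b⟩ with hu
  have hku : k⁻¹ * g * k = u := Subtype.ext hab
  have hgu : g = k * u * k⁻¹ := by rw [← hku]; group
  have hab0 : ¬ (a = 0 ∧ b = 0) := by
    rintro ⟨rfl, rfl⟩
    apply h1
    have hu1 : u = 1 := Subtype.ext (szU_zero hm hF)
    rw [hgu, hu1]
    group
  rw [hgu, isConj_inv_conj_iff, orderOf_conj']
  exact szU_real_iff hm hF hab0

end Cfsg.Agent.Helper6
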