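import Cfsg.Agent.Helper6.Sz20

/-!
# Overgroups of the Sylow 2-subgroup of the Suzuki group
-/

set_option autoImplicit false

namespace Cfsg.Agent.Helper6

open scoped Pointwise

variable {F : Type*} [Field F] [Fintype F] {m : ℕ}

/-- `x ↦ x^(r+1)`, `r = 2^m`, has trivial kernel -/
theorem eq_one_of_pow_r_succ (hF : Fintype.card F = 2 ^ (2 * m + 1)) {x : F}
    (hx : x ^ (2 ^ m + 1) = 1) : x = 1 := by
  set r := 2 ^ m with hr
  have hr1 : 1 ≤ r := Nat.one_le_two_pow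
  have hx0 : x ≠ 0 := by
    intro h0
    rw [h0, zero_pow (by omega)] at hx
    exact zero_ne_one hx
  -- x^(r^2) = x^((r+1)(r-1)+1) = x
  have h1 : x ^ (r * r) = x := by
    have e : r * r = (r + 1) * (r - 1) + 1 := by
      obtain ⟨k, hk⟩ : ∃ k, r = k + 1 := ⟨r - 1, by omega⟩
      rw [hk]; simp; ring
    rw [e, pow_succ, pow_mul, hx, one_pow, one_mul]
  -- x^(2 r^2) = x^q = x
  have h2 : x ^ (r * r * 2) = x := by
    have e : r * r * 2 = Fintype.card F := by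
      rw [hF, hr, ← pow_add, ← pow_succ]; congr 1; omega
    rw [e, FiniteField.pow_card]
  rw [pow_mul, h1] at h2
  -- x^2 = x
  have h3 : x * x = x * 1 := by rw [mul_one, ← pow_two, h2]
  exact mul_left_cancel₀ hx0 h3

/-- the `(3,0)` entry of a "big cell" element -/
theorem big_cell_entry (hF : Fintype.card F = 2 ^ (2 * m + 1)) (x y a b : F) (t : Fˣ) :
    ((szU F m x y * szT F * (szU F m a b * szD F m t) :
      Matrix.SpecialLinearGroup (Fin 4) F) : Matrix (Fin 4) (Fin 4) F).mulVec ![1, 0, 0, 0] 3 =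
      (t : F) ^ (2 ^ m + 1) := by
  simp only [Matrix.SpecialLinearGroup.coe_mul]
  rw [← Matrix.mulVec_mulVec, ← Matrix.mulVec_mulVec, ← Matrix.mulVec_mulVec]
  have e0 : (![1, 0, 0, 0] : Fin 4 → F) = ovVecOpt F m none := rfl
  rw [e0, szD_mulVec_none, Matrix.mulVec_smul, szU_mulVec_none, Matrix.mulVec_smul,
    Matrix.mulVec_smul]
  have e1 : (szT F : Matrix (Fin 4) (Fin 4) F).mulVec (ovVecOpt F m none) =
      ovVecOpt F m (some (0, 0)) := by
    show (tMat F).mulVec ![1, 0, 0, 0] = ovVec F m 0 0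
    rw [tMat_mulVec]
    unfold ovVec
    rw [ovF_zero]
    simp
  rw [e1, szU_mulVec_some hF]
  simp [ovVecOpt, ovVec]

/-- the `(3,0)` entry of a conjugate of a central translation by `szT * szD t` -/
theorem conj_entry (hF : Fintype.card F = 2 ^ (2 * m + 1)) (z : F) (t : Fˣ) :
    ((szT F * szD F m t * szU F m 0 z * (szD F m t⁻¹ * szT F) :
      Matrix.SpecialLinearGroup (Fin 4) F) : Matrix (Fin 4) (Fin 4) F).mulVec ![1, 0, 0, 0] 3 =
      (((t : F) ^ (2 ^ (m + 1) + 1) * z) ^ (2 ^ (m + 1))) := by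
  simp only [Matrix.SpecialLinearGroup.coe_mul]
  rw [← Matrix.mulVec_mulVec, ← Matrix.mulVec_mulVec, ← Matrix.mulVec_mulVec,
    ← Matrix.mulVec_mulVec]
  have e1 : (szT F : Matrix (Fin 4) (Fin 4) F).mulVec ![1, 0, 0, 0] =
      ovVecOpt F m (some (0, 0)) := by
    show (tMat F).mulVec ![1, 0, 0, 0] = ovVec F m 0 0
    rw [tMat_mulVec]
    unfold ovVec
    rw [ovF_zero]
    simp
  rw [e1, szD_mulVec_some hF, Matrix.mulVec_smul, szU_mulVec_some hF, Matrix.mulVec_smul,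
    szD_mulVec_some hF, Matrix.mulVec_smul, Matrix.mulVec_smul]
  have e2 : ∀ v : Fin 4 → F,
      (szT F : Matrix (Fin 4) (Fin 4) F).mulVec v = ![v 3, v 2, v 1, v 0] := fun v => tMat_mulVec v
  rw [e2]
  have ht : (t : F) ≠ 0 := t.ne_zero
  simp only [Pi.smul_apply, smul_eq_mul, Matrix.cons_val, ovVecOpt, ovVec]
  have h1 : (t : F) ^ (2 ^ m + 1) ≠ 0 := pow_ne_zero _ ht
  have h0 : (t : F) * (((t⁻¹ : Fˣ) : F) * 0 + 0) = 0 := by ring
  have h2 : (t : F) ^ (2 ^ (m + 1) + 1) * (((t⁻¹ : Fˣ) : F) ^ (2 ^ (m + 1) + 1) * 0 + z +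
      0 ^ 2 ^ (m + 1) * (((t⁻¹ : Fˣ) : F) * 0)) = (t : F) ^ (2 ^ (m + 1) + 1) * z := by ring
  rw [h0, h2]
  unfold ovF
  rw [zero_mul, zero_pow (show (2 : ℕ) ^ (m + 1) + 2 ≠ 0 by positivity), zero_add, zero_add,
    Units.val_inv_eq_inv_val, inv_pow, inv_inv, ← mul_assoc, mul_inv_cancel₀ h1, one_mul]

theorem szU_mul_szD_comm (hm : 1 ≤ m) (hF : Fintype.card F = 2 ^ (2 * m + 1)) (a b : F) (t : Fˣ) :
    ∃ a' b' : F, szU F m a b * szD F m t = szD F m t * szU F m a' b' := by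
  refine ⟨((t⁻¹ : Fˣ) : F) * a, ((t⁻¹ : Fˣ) : F) ^ (2 ^ (m + 1) + 1) * b, ?_⟩
  rw [szD_conj_szU hm hF]
  have ht : (t : F) ≠ 0 := t.ne_zero
  have h1 : (t : F) * (((t⁻¹ : Fˣ) : F) * a) = a := by
    rw [Units.val_inv_eq_inv_val, ← mul_assoc, mul_inv_cancel₀ ht, one_mul]
  have h2 : (t : F) ^ (2 ^ (m + 1) + 1) * (((t⁻¹ : Fˣ) : F) ^ (2 ^ (m + 1) + 1) * b) = b := by
    rw [← mul_assoc, ← mul_pow, Units.val_inv_eq_inv_val, mul_inv_cancel₀ ht, one_pow, one_mul]
  rw [h1, h2]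

/-- the big cell element determines `szT * szD t` modulo translations -/
theorem szT_mul_szD_mem_of_big_cell (hm : 1 ≤ m) (hF : Fintype.card F = 2 ^ (2 * m + 1))
    (N' : Subgroup (Matrix.SpecialLinearGroup (Fin 4) F)) (hU : ∀ a b : F, szU F m a b ∈ N')
    {x y a b : F} {t : Fˣ} (hg : szU F m x y * szT F * (szU F m a b * szD F m t) ∈ N') :
    szT F * szD F m t ∈ N' := by
  obtain ⟨a', b', h⟩ := szU_mul_szD_comm hm hF a b t
  rw [h] at hg
  have h1 : szT F * szD F m t =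
      (szU F m x y)⁻¹ * (szU F m x y * szT F * (szD F m t * szU F m a' b')) *
        (szU F m a' b')⁻¹ := by group
  rw [h1]
  exact N'.mul_mem (N'.mul_mem (N'.inv_mem (hU _ _)) hg) (N'.inv_mem (hU _ _))

theorem exists_pow_sigma_eq (hF : Fintype.card F = 2 ^ (2 * m + 1)) (c : F) :
    ∃ y : F, y ^ (2 ^ (m + 1)) = c := by
  refine ⟨c ^ (2 ^ m), ?_⟩
  rw [← pow_mul, ← pow_add, show m + (m + 1) = 2 * m + 1 by ring, ← hF, FiniteField.pow_card]

/-- A subgroup of `SL₄` containing all translations and one element of the Suzuki group moving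
the point at infinity contains the whole Suzuki group. -/
theorem sz_le_of_szU_of_moving (hm : 1 ≤ m) (hF : Fintype.card F = 2 ^ (2 * m + 1))
    (N' : Subgroup (Matrix.SpecialLinearGroup (Fin 4) F)) (hU : ∀ a b : F, szU F m a b ∈ N')
    {g : Matrix.SpecialLinearGroup (Fin 4) F} (hgN : g ∈ N') (hgSz : g ∈ Cfsg.Sz F m)
    (hg : g • ovPt F m none ≠ ovPt F m none) : Cfsg.Sz F m ≤ N' := by
  -- first get some `szT * szD t` in `N'`
  obtain ⟨t, ht⟩ : ∃ t : Fˣ, szT F * szD F m t ∈ N' := by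
    rcases bruhat_decomp hm hF hgSz with ⟨a, b, t, h⟩ | ⟨x, y, a, b, t, h⟩
    · exfalso
      apply hg
      rw [h, mul_smul, szD_smul_none, szU_smul_none]
    · rw [h] at hgN
      exact ⟨t, szT_mul_szD_mem_of_big_cell hm hF N' hU hgN⟩
  -- then all of them
  have hall : ∀ τ : Fˣ, szT F * szD F m τ ∈ N' := by
    intro τ
    have htne : (t : F) ^ (2 ^ (m + 1) + 1) ≠ 0 := pow_ne_zero _ t.ne_zero
    obtain ⟨y, hy⟩ := exists_pow_sigma_eq (m := m) hF ((τ : F) ^ (2 ^ m + 1))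
    set z : F := ((t : F) ^ (2 ^ (m + 1) + 1))⁻¹ * y with hz
    have hzy : (t : F) ^ (2 ^ (m + 1) + 1) * z = y := by
      rw [hz, ← mul_assoc, mul_inv_cancel₀ htne, one_mul]
    set ℓ : Matrix.SpecialLinearGroup (Fin 4) F :=
      szT F * szD F m t * szU F m 0 z * (szD F m t⁻¹ * szT F) with hℓ
    have hℓN : ℓ ∈ N' := by
      have : ℓ = (szT F * szD F m t) * szU F m 0 z * (szT F * szD F m t)⁻¹ := by
        rw [hℓ, mul_inv_rev, szD_inv, szT_inv]
      rw [this]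
      exact N'.mul_mem (N'.mul_mem ht (hU _ _)) (N'.inv_mem ht)
    have hℓSz : ℓ ∈ Cfsg.Sz F m :=
      (Cfsg.Sz F m).mul_mem ((Cfsg.Sz F m).mul_mem ((Cfsg.Sz F m).mul_mem (szT_mem hF)
        (szD_mem hF t)) (szU_mem hF 0 z)) ((Cfsg.Sz F m).mul_mem (szD_mem hF _) (szT_mem hF))
    have hentry := conj_entry (m := m) hF z t
    rw [hzy, hy] at hentry
    rcases bruhat_decomp hm hF hℓSz with ⟨a, b, t', h⟩ | ⟨x, y', a, b, t', h⟩
    · exfalso
      rw [← hℓ, h] at hentry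
      simp only [Matrix.SpecialLinearGroup.coe_mul] at hentry
      rw [← Matrix.mulVec_mulVec] at hentry
      have e0 : (![1, 0, 0, 0] : Fin 4 → F) = ovVecOpt F m none := rfl
      rw [e0, szD_mulVec_none, Matrix.mulVec_smul, szU_mulVec_none] at hentry
      have : ((τ : F) ^ (2 ^ m + 1)) ≠ 0 := pow_ne_zero _ τ.ne_zero
      apply this
      rw [← hentry]
      simp [ovVecOpt]
    · have h' : ((szU F m x y' * szT F * (szU F m a b * szD F m t') :
          Matrix.SpecialLinearGroup (Fin 4) F) : Matrix (Fin 4) (Fin 4) F).mulVec ![1, 0, 0, 0] 3 =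
          (τ : F) ^ (2 ^ m + 1) := by
        rw [← h, hℓ]; exact hentry
      rw [big_cell_entry hF] at h'
      have htτ : t' = τ := by
        have h1 : ((t' * τ⁻¹ : Fˣ) : F) ^ (2 ^ m + 1) = 1 := by
          rw [Units.val_mul, mul_pow, h', Units.val_inv_eq_inv_val, ← mul_pow,
            mul_inv_cancel₀ τ.ne_zero, one_pow]
        have h2 := eq_one_of_pow_r_succ hF h1
        have h3 : t' * τ⁻¹ = 1 := Units.ext h2
        exact mul_inv_eq_one.1 h3
      rw [h, htτ] at hℓN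
      exact szT_mul_szD_mem_of_big_cell hm hF N' hU hℓN
  have hT : szT F ∈ N' := by
    have := hall 1
    rwa [szD_one, mul_one] at this
  have hD : ∀ τ : Fˣ, szD F m τ ∈ N' := by
    intro τ
    have h1 : szD F m τ = szT F * (szT F * szD F m τ) := by
      rw [← mul_assoc, szT_mul_self, one_mul]
    rw [h1]
    exact N'.mul_mem hT (hall τ)
  intro x hx
  rcases bruhat_decomp hm hF hx with ⟨a, b, t', h⟩ | ⟨x', y', a, b, t', h⟩
  · rw [h]; exact N'.mul_mem (hU _ _) (hD _)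
  · rw [h]
    exact N'.mul_mem (N'.mul_mem (hU _ _) hT) (N'.mul_mem (hU _ _) (hD _))

end Cfsg.Agent.Helper6
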