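import Cfsg.Agent.Helper6.Sz21

/-!
# The Borel subgroup of the Suzuki group is the unique maximal overgroup of a Sylow 2-subgroup
-/

set_option autoImplicit false

namespace Cfsg.Agent.Helper6

open scoped Pointwise

variable {F : Type*} [Field F] [Fintype F] {m : ℕ}

/-- Borel subgroup: the stabiliser of the point at infinity -/
def szB (F : Type*) [Field F] [Fintype F] (m : ℕ) : Subgroup (Cfsg.Sz F m) where
  carrier := {g | (g : Matrix.SpecialLinearGroup (Fin 4) F) • ovPt F m none = ovPt F m none}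
  mul_mem' := by
    intro a b ha hb
    show ((a : Matrix.SpecialLinearGroup (Fin 4) F) * (b : Matrix.SpecialLinearGroup (Fin 4) F)) •
      ovPt F m none = ovPt F m none
    rw [mul_smul, hb, ha]
  one_mem' := one_smul _ _
  inv_mem' := by
    intro a ha
    show ((a : Matrix.SpecialLinearGroup (Fin 4) F))⁻¹ • ovPt F m none = ovPt F m none
    rw [inv_smul_eq_iff]
    exact ha.symm

theorem mem_szB_iff (g : Cfsg.Sz F m) :
    g ∈ szB F m ↔ (g : Matrix.SpecialLinearGroup (Fin 4) F) • ovPt F m none = ovPt F m none :=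
  Iff.rfl

theorem szQ_le_szB (hm : 1 ≤ m) (hF : Fintype.card F = 2 ^ (2 * m + 1)) :
    szQ hm hF ≤ szB F m := by
  rintro g ⟨a, b, h⟩
  rw [mem_szB_iff, h, szU_smul_none]

theorem szB_ne_top (hF : Fintype.card F = 2 ^ (2 * m + 1)) : szB F m ≠ ⊤ := by
  intro h
  have h0 : (⟨szT F, szT_mem hF⟩ : Cfsg.Sz F m) ∈ szB F m := by rw [h]; trivial
  have h1 : szT F • ovPt F m none = ovPt F m none := h0
  rw [szT_smul_none] at h1
  exact (Option.some_ne_none _) (ovPt_injective h1)

theorem le_szB_or_eq_top (hm : 1 ≤ m) (hF : Fintype.card F = 2 ^ (2 * m + 1))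
    (M : Subgroup (Cfsg.Sz F m)) (hQ : szQ hm hF ≤ M) : M ≤ szB F m ∨ M = ⊤ := by
  by_cases h : M ≤ szB F m
  · left; exact h
  · right
    obtain ⟨g, hgM, hgB⟩ := SetLike.not_le_iff_exists.1 h
    have hU : ∀ a b : F, szU F m a b ∈ M.map (Cfsg.Sz F m).subtype := by
      intro a b
      exact ⟨⟨szU F m a b, szU_mem hF a b⟩, hQ ⟨a, b, rfl⟩, rfl⟩
    have key := sz_le_of_szU_of_moving hm hF (M.map (Cfsg.Sz F m).subtype) hU
      (g := (g : Matrix.SpecialLinearGroup (Fin 4) F)) ⟨g, hgM, rfl⟩ g.2 hgB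
    rw [eq_top_iff]
    intro x _
    obtain ⟨y, hy, hyx⟩ := key x.2
    have hyx' : y = x := Subtype.ext hyx
    rwa [← hyx']

theorem normalizer_szQ (hm : 1 ≤ m) (hF : Fintype.card F = 2 ^ (2 * m + 1)) :
    Subgroup.normalizer ((szQ hm hF : Subgroup (Cfsg.Sz F m)) : Set (Cfsg.Sz F m)) = szB F m := by
  apply le_antisymm
  · intro n hn
    rw [Subgroup.mem_normalizer_iff] at hn
    have h1 := (hn (qU hm hF 1 0 : Cfsg.Sz F m)).1 (qU hm hF 1 0).2
    obtain ⟨a, b, hab⟩ := h1
    have hab' : (n : Matrix.SpecialLinearGroup (Fin 4) F) * szU F m 1 0 *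
        (n : Matrix.SpecialLinearGroup (Fin 4) F)⁻¹ = szU F m a b := hab
    have hab0 : ¬ (a = 0 ∧ b = 0) := by
      rintro ⟨rfl, rfl⟩
      rw [szU_zero hm hF] at hab'
      have h2 : szU F m 1 0 = 1 := by
        have : szU F m 1 0 = (n : Matrix.SpecialLinearGroup (Fin 4) F)⁻¹ *
            ((n : Matrix.SpecialLinearGroup (Fin 4) F) * szU F m 1 0 *
              (n : Matrix.SpecialLinearGroup (Fin 4) F)⁻¹) *
            (n : Matrix.SpecialLinearGroup (Fin 4) F) := by group
        rw [this, hab']; group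
      rw [← szU_zero hm hF] at h2
      exact one_ne_zero (szU_injective hF h2).1
    obtain ⟨o, ho⟩ := smul_mem_of_mem_Sz n.2 none
    have hfix : szU F m a b • ovPt F m o = ovPt F m o := by
      rw [← hab', ← ho, ← mul_smul, inv_mul_cancel_right, mul_smul, szU_smul_none]
    have ho' := szU_fix_only_infinity hF hab0 hfix
    subst ho'
    exact ho
  · have key : ∀ g ∈ szB F m, ∀ h ∈ szQ hm hF, g * h * g⁻¹ ∈ szQ hm hF := by
      rintro g hg h ⟨c, d, hcd⟩
      obtain ⟨a, b, t, hgt⟩ := borel_decomp hm hF g.2 hg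
      have h1 : ((g * h * g⁻¹ : Cfsg.Sz F m) : Matrix.SpecialLinearGroup (Fin 4) F) =
          szU F m a b * (szD F m t * szU F m c d * (szD F m t)⁻¹) * (szU F m a b)⁻¹ := by
        show (g : Matrix.SpecialLinearGroup (Fin 4) F) * (h : Matrix.SpecialLinearGroup (Fin 4) F) *
          (g : Matrix.SpecialLinearGroup (Fin 4) F)⁻¹ = _
        rw [hgt, hcd]; group
      rw [szD_conj_szU' hm hF, szU_inv hm hF, szU_mul hm hF, szU_mul hm hF] at h1
      exact ⟨_, _, h1⟩
    intro g hg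
    rw [Subgroup.mem_normalizer_iff]
    intro h
    constructor
    · exact key g hg h
    · intro hh
      have h1 := key g⁻¹ ((szB F m).inv_mem hg) _ hh
      have h2 : g⁻¹ * (g * h * g⁻¹) * g⁻¹⁻¹ = h := by group
      rwa [h2] at h1

/-- the statement for the standard Sylow 2-subgroup -/
theorem szQ_unique_maximal (hm : 1 ≤ m) (hF : Fintype.card F = 2 ^ (2 * m + 1)) :
    IsCoatom (Subgroup.normalizer ((szQ hm hF : Subgroup (Cfsg.Sz F m)) : Set (Cfsg.Sz F m))) ∧
    ∀ M : Subgroup (Cfsg.Sz F m), IsCoatom M → szQ hm hF ≤ M →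
      M = Subgroup.normalizer ((szQ hm hF : Subgroup (Cfsg.Sz F m)) : Set (Cfsg.Sz F m)) := by
  rw [normalizer_szQ hm hF]
  have hco : IsCoatom (szB F m) := by
    refine ⟨szB_ne_top hF, ?_⟩
    intro M hM
    rcases le_szB_or_eq_top hm hF M ((szQ_le_szB hm hF).trans hM.le) with h | h
    · exact absurd h (not_le_of_gt hM)
    · exact h
  refine ⟨hco, ?_⟩
  intro M hM hQM
  rcases le_szB_or_eq_top hm hF M hQM with h | h
  · rcases eq_or_lt_of_le h with h' | h'
    · exact h'
    · exact absurd (hM.2 _ h') (szB_ne_top hF)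
  · exact absurd h hM.1

/-- transport of the "unique maximal overgroup" property along conjugation -/
theorem unique_maximal_conj {G : Type*} [Group G] (Q : Subgroup G) (k : G)
    (h1 : IsCoatom (Subgroup.normalizer (Q : Set G)))
    (h2 : ∀ M : Subgroup G, IsCoatom M → Q ≤ M → M = Subgroup.normalizer (Q : Set G)) :
    IsCoatom (Subgroup.normalizer ((Q.map (MulAut.conj k).toMonoidHom : Subgroup G) : Set G)) ∧
    ∀ M : Subgroup G, IsCoatom M → Q.map (MulAut.conj k).toMonoidHom ≤ M →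
      M = Subgroup.normalizer ((Q.map (MulAut.conj k).toMonoidHom : Subgroup G) : Set G) := by
  set e : Subgroup G ≃o Subgroup G := (MulAut.conj k).mapSubgroup with he
  have hn : Subgroup.normalizer ((Q.map (MulAut.conj k).toMonoidHom : Subgroup G) : Set G) =
      e (Subgroup.normalizer (Q : Set G)) := (Subgroup.map_equiv_normalizer_eq Q (MulAut.conj k)).symm
  rw [hn]
  refine ⟨(OrderIso.isCoatom_iff e _).2 h1, ?_⟩
  intro M hM hQM
  have hM' : IsCoatom (e.symm M) := by
    rw [← OrderIso.isCoatom_iff e, OrderIso.apply_symm_apply]; exact hM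
  have hQM' : Q ≤ e.symm M := by
    rw [← e.le_iff_le, OrderIso.apply_symm_apply]; exact hQM
  have := h2 _ hM' hQM'
  rw [← this, OrderIso.apply_symm_apply]

theorem sz_sylow_unique_maximal (hm : 1 ≤ m) (hF : Fintype.card F = 2 ^ (2 * m + 1))
    (P : Sylow 2 (Cfsg.Sz F m)) :
    IsCoatom (Subgroup.normalizer ((P : Subgroup (Cfsg.Sz F m)) : Set (Cfsg.Sz F m))) ∧
    ∀ M : Subgroup (Cfsg.Sz F m), IsCoatom M → (P : Subgroup (Cfsg.Sz F m)) ≤ M →
      M = Subgroup.normalizer ((P : Subgroup (Cfsg.Sz F m)) : Set (Cfsg.Sz F m)) := by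
  have : Finite (Cfsg.Sz F m) := inferInstance
  have hQp : IsPGroup 2 (szQ hm hF) := by
    apply IsPGroup.of_card (n := 2 * (2 * m + 1))
    rw [card_szQ, hF, ← pow_mul, mul_comm]
  let QS : Sylow 2 (Cfsg.Sz F m) := hQp.toSylow (szQ_index_odd hm hF)
  obtain ⟨k, hk⟩ := MulAction.exists_smul_eq (Cfsg.Sz F m) QS P
  have hP : (P : Subgroup (Cfsg.Sz F m)) = (szQ hm hF).map (MulAut.conj k).toMonoidHom := by
    rw [← hk]
    rfl
  rw [hP]
  obtain ⟨h1, h2⟩ := szQ_unique_maximal hm hF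
  exact unique_maximal_conj (szQ hm hF) k h1 h2

end Cfsg.Agent.Helper6
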