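import Cfsg.Agent.Helper6.Sz22
import Cfsg.Prelude.Def_Sz

/-!
# The `star4` operation (action on `U/W ≤ Λ²V`) and the Suzuki condition
-/

set_option autoImplicit false

namespace Cfsg.Agent.Helper6

open Cfsg.Lie

variable {F : Type*} [Field F]

/-- a `2 × 2` minor -/
def minor2 (g : Matrix (Fin 4) (Fin 4) F) (k l i j : Fin 4) : F :=
  g k i * g l j - g l i * g k j

theorem star4_apply (g : Matrix (Fin 4) (Fin 4) F) (p r : Fin 4) :
    star4 g p r = minor2 g (pairOf p).1 (pairOf p).2 (pairOf r).1 (pairOf r).2 := rfl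

/-- Cauchy–Binet for `2 × 2` minors of `4 × 4` matrices -/
theorem minor2_mul (g h : Matrix (Fin 4) (Fin 4) F) (k l i j : Fin 4) :
    minor2 (g * h) k l i j =
      minor2 g k l 0 1 * minor2 h 0 1 i j + minor2 g k l 0 2 * minor2 h 0 2 i j +
      minor2 g k l 1 3 * minor2 h 1 3 i j + minor2 g k l 2 3 * minor2 h 2 3 i j +
      (minor2 g k l 0 3 * minor2 h 0 3 i j + minor2 g k l 1 2 * minor2 h 1 2 i j) := by
  unfold minor2
  simp only [Matrix.mul_apply, Fin.sum_univ_four]
  ring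

/-- the row condition: `g J gᵀ` vanishes at `(k, l)` -/
def RowIso (g : Matrix (Fin 4) (Fin 4) F) (k l : Fin 4) : Prop :=
  g k 0 * g l 3 + g k 1 * g l 2 + g k 2 * g l 1 + g k 3 * g l 0 = 0

/-- the column condition: `gᵀ J g` vanishes at `(i, j)` -/
def ColIso (g : Matrix (Fin 4) (Fin 4) F) (i j : Fin 4) : Prop :=
  g 0 i * g 3 j + g 1 i * g 2 j + g 2 i * g 1 j + g 3 i * g 0 j = 0

theorem star4_mul_apply (h2 : (2 : F) = 0) (g h : Matrix (Fin 4) (Fin 4) F) (p r : Fin 4)
    (hg : RowIso g (pairOf p).1 (pairOf p).2) (hh : ColIso h (pairOf r).1 (pairOf r).2) :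
    star4 (g * h) p r = (star4 g * star4 h) p r := by
  rw [Matrix.mul_apply, Fin.sum_univ_four]
  simp only [star4_apply]
  rw [minor2_mul]
  have e0 : pairOf 0 = (0, 1) := rfl
  have e1 : pairOf 1 = (0, 2) := rfl
  have e2 : pairOf 2 = (1, 3) := rfl
  have e3 : pairOf 3 = (2, 3) := rfl
  rw [e0, e1, e2, e3]
  simp only []
  have hc : minor2 g (pairOf p).1 (pairOf p).2 0 3 = minor2 g (pairOf p).1 (pairOf p).2 1 2 := by
    unfold RowIso at hg
    unfold minor2
    linear_combination hg - (g (pairOf p).2 0 * g (pairOf p).1 3 +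
      g (pairOf p).1 1 * g (pairOf p).2 2) * h2
  have hd : minor2 h 0 3 (pairOf r).1 (pairOf r).2 = minor2 h 1 2 (pairOf r).1 (pairOf r).2 := by
    unfold ColIso at hh
    unfold minor2
    linear_combination hh - (h 3 (pairOf r).1 * h 0 (pairOf r).2 +
      h 1 (pairOf r).1 * h 2 (pairOf r).2) * h2
  rw [hc, hd]
  linear_combination (minor2 g (pairOf p).1 (pairOf p).2 1 2 *
    minor2 h 1 2 (pairOf r).1 (pairOf r).2) * h2

end Cfsg.Agent.Helper6
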