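import Cfsg.Agent.Helper6.Sz23

/-!
# Suzuki matrices: the condition `g* = g^θ` for the generators
-/

set_option autoImplicit false

namespace Cfsg.Agent.Helper6

open Cfsg.Lie

variable {F : Type*} [Field F]

theorem presJ_entry (M : Matrix (Fin 4) (Fin 4) F) (i j : Fin 4) :
    (M.transpose * Cfsg.suzukiForm F * M) i j =
      M 0 i * M 3 j + M 1 i * M 2 j + M 2 i * M 1 j + M 3 i * M 0 j := by
  simp [Matrix.mul_apply, Fin.sum_univ_four, Cfsg.suzukiForm]
  ring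

theorem presJ_entry' (M : Matrix (Fin 4) (Fin 4) F) (i j : Fin 4) :
    (M * Cfsg.suzukiForm F * M.transpose) i j =
      M i 0 * M j 3 + M i 1 * M j 2 + M i 2 * M j 1 + M i 3 * M j 0 := by
  simp [Matrix.mul_apply, Fin.sum_univ_four, Cfsg.suzukiForm]
  ring

theorem suzukiForm_pairOf (r : Fin 4) : Cfsg.suzukiForm F (pairOf r).1 (pairOf r).2 = 0 := by
  fin_cases r <;> simp [Cfsg.suzukiForm, pairOf]

theorem suzukiForm_mul_self : Cfsg.suzukiForm F * Cfsg.suzukiForm F = 1 := by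
  ext i j
  fin_cases i <;> fin_cases j <;> simp [Matrix.mul_apply, Fin.sum_univ_four, Cfsg.suzukiForm]

theorem colIso_of_presJ {M : Matrix (Fin 4) (Fin 4) F} (h : PresJ M) (r : Fin 4) :
    ColIso M (pairOf r).1 (pairOf r).2 := by
  unfold ColIso
  rw [← presJ_entry, h, suzukiForm_pairOf]

theorem presJ_transpose {M : Matrix (Fin 4) (Fin 4) F} (h : PresJ M) :
    M * Cfsg.suzukiForm F * M.transpose = Cfsg.suzukiForm F := by
  unfold PresJ at h
  have h1 : (Cfsg.suzukiForm F * M.transpose * Cfsg.suzukiForm F) * M = 1 := by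
    rw [Matrix.mul_assoc, Matrix.mul_assoc, ← Matrix.mul_assoc M.transpose, h, suzukiForm_mul_self]
  have h2 := mul_eq_one_comm.1 h1
  calc M * Cfsg.suzukiForm F * M.transpose
      = M * (Cfsg.suzukiForm F * M.transpose * Cfsg.suzukiForm F) * Cfsg.suzukiForm F := by
        simp only [Matrix.mul_assoc, suzukiForm_mul_self, Matrix.mul_one]
    _ = Cfsg.suzukiForm F := by rw [h2, Matrix.one_mul]

theorem rowIso_of_presJ {M : Matrix (Fin 4) (Fin 4) F} (h : PresJ M) (r : Fin 4) :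
    RowIso M (pairOf r).1 (pairOf r).2 := by
  unfold RowIso
  rw [← presJ_entry', presJ_transpose h, suzukiForm_pairOf]

/-- the Suzuki condition on a matrix -/
def IsSzMat (m : ℕ) (M : Matrix (Fin 4) (Fin 4) F) : Prop :=
  PresJ M ∧ star4 M = M.map (fun x => x ^ (2 ^ (m + 1)))

theorem star4_mul (h2 : (2 : F) = 0) {M N : Matrix (Fin 4) (Fin 4) F} (hM : PresJ M)
    (hN : PresJ N) : star4 (M * N) = star4 M * star4 N := by
  ext p r
  exact star4_mul_apply h2 M N p r (rowIso_of_presJ hM p) (colIso_of_presJ hN r)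

variable [Fintype F] {m : ℕ}

theorem map_sigma_mul (hF : Fintype.card F = 2 ^ (2 * m + 1)) (M N : Matrix (Fin 4) (Fin 4) F) :
    (M * N).map (fun x => x ^ (2 ^ (m + 1))) =
      M.map (fun x => x ^ (2 ^ (m + 1))) * N.map (fun x => x ^ (2 ^ (m + 1))) := by
  ext i j
  simp only [Matrix.map_apply, Matrix.mul_apply, Fin.sum_univ_four]
  rw [add_pow_sigma hF, add_pow_sigma hF, add_pow_sigma hF, mul_pow, mul_pow, mul_pow, mul_pow]

theorem IsSzMat.mul (hF : Fintype.card F = 2 ^ (2 * m + 1)) {M N : Matrix (Fin 4) (Fin 4) F}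
    (hM : IsSzMat m M) (hN : IsSzMat m N) : IsSzMat m (M * N) := by
  refine ⟨hM.1.mul hN.1, ?_⟩
  rw [star4_mul (two_eq_zero_of_card hF) hM.1 hN.1, hM.2, hN.2, map_sigma_mul hF]

theorem isSzMat_tMat (hF : Fintype.card F = 2 ^ (2 * m + 1)) : IsSzMat m (tMat F) := by
  have h2 : (2 : F) = 0 := two_eq_zero_of_card hF
  have h3 : (-1 : F) = 1 := by linear_combination -h2
  refine ⟨presJ_tMat, ?_⟩
  ext p r
  fin_cases p <;> fin_cases r <;> simp [star4, pairOf, tMat, h3]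

theorem isSzMat_uMat (hF : Fintype.card F = 2 ^ (2 * m + 1)) (a b : F) :
    IsSzMat m (uMat a b (a ^ (2 ^ (m + 1))) (ovF F m a b)) := by
  have h2 : (2 : F) = 0 := two_eq_zero_of_card hF
  refine ⟨presJ_uMat h2 _ _ _ _, ?_⟩
  have hf := ovF_pow_sigma hF a b
  have hA := pow_sigma_sigma hF a
  ext p r
  fin_cases p <;> fin_cases r <;> simp [star4, pairOf, uMat]
  · rw [add_pow_sigma hF, mul_pow, hA, ovF_eq]
    linear_combination (-(a ^ 2 ^ (m + 1) * a ^ 2) - b ^ 2 ^ (m + 1)) * h2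
  · rw [hf, ovF_eq]
    linear_combination (-(a ^ 2 ^ (m + 1)) ^ 2 * a ^ 2 - a ^ 2 ^ (m + 1) * b ^ 2 ^ (m + 1)) * h2
  · rw [hA]; ring
  · rw [ovF_eq]
    linear_combination (-(b ^ 2 ^ (m + 1))) * h2

theorem pow_r_sigma (hF : Fintype.card F = 2 ^ (2 * m + 1)) (t : F) :
    (t ^ 2 ^ m) ^ 2 ^ (m + 1) = t := by
  rw [← pow_mul, ← pow_add, show m + (m + 1) = 2 * m + 1 by ring, ← hF, FiniteField.pow_card]

theorem isSzMat_dMat (hF : Fintype.card F = 2 ^ (2 * m + 1)) {t : F} (ht : t ≠ 0) :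
    IsSzMat m (dMat (2 ^ m) t) := by
  refine ⟨presJ_dMat _ ht, ?_⟩
  have h1 := pow_r_sigma hF t
  have hr : t ^ 2 ^ m ≠ 0 := pow_ne_zero _ ht
  ext p r
  have h3 : (t ^ (2 ^ m + 1)) ^ 2 ^ (m + 1) = t ^ (2 ^ m + 1) * t ^ 2 ^ m := by
    rw [pow_succ, mul_pow, h1, show (2 : ℕ) ^ (m + 1) = 2 ^ m * 2 by ring, pow_mul]
    ring
  fin_cases p <;> fin_cases r <;> simp [star4, pairOf, dMat]
  · exact h3.symm
  · rw [h1, pow_succ]
    field_simp
  · rw [h1, pow_succ]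
    field_simp
  · rw [h3, mul_inv, mul_comm]

end Cfsg.Agent.Helper6
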