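import Cfsg.Agent.Helper6.Sz24

/-!
# Suzuki matrices preserve the ovoid
-/

set_option autoImplicit false

namespace Cfsg.Agent.Helper6

open Cfsg.Lie

variable {F : Type*} [Field F] [Fintype F] {m : ℕ}

theorem isSzMat_szU (hF : Fintype.card F = 2 ^ (2 * m + 1)) (a b : F) :
    IsSzMat m (szU F m a b : Matrix (Fin 4) (Fin 4) F) := isSzMat_uMat hF a b

theorem isSzMat_szD (hF : Fintype.card F = 2 ^ (2 * m + 1)) (t : Fˣ) :
    IsSzMat m (szD F m t : Matrix (Fin 4) (Fin 4) F) := isSzMat_dMat hF t.ne_zero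

theorem isSzMat_szT (hF : Fintype.card F = 2 ^ (2 * m + 1)) :
    IsSzMat m (szT F : Matrix (Fin 4) (Fin 4) F) := isSzMat_tMat hF

theorem isSzMat_of_mem_Sz (hm : 1 ≤ m) (hF : Fintype.card F = 2 ^ (2 * m + 1))
    {g : Matrix.SpecialLinearGroup (Fin 4) F} (hg : g ∈ Cfsg.Sz F m) :
    IsSzMat m (g : Matrix (Fin 4) (Fin 4) F) := by
  rcases bruhat_decomp hm hF hg with ⟨a, b, t, h⟩ | ⟨x, y, a, b, t, h⟩
  · rw [h, Matrix.SpecialLinearGroup.coe_mul]
    exact (isSzMat_szU hF a b).mul hF (isSzMat_szD hF t)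
  · rw [h]
    simp only [Matrix.SpecialLinearGroup.coe_mul]
    exact (((isSzMat_szU hF x y).mul hF (isSzMat_szT hF)).mul hF
      ((isSzMat_szU hF a b).mul hF (isSzMat_szD hF t)))

omit [Fintype F] in
/-- the key elimination: the first column of a Suzuki matrix satisfies the ovoid equation -/
theorem ovoid_elim (h2 : (2 : F) = 0) (u0 u1 u2 c v0 v1 v2 v3 U1s U2s Cs : F)
    (E2 : u0 * v2 - u2 * v0 = U1s) (E3 : u1 * v3 - c * v1 = U2s) (E4 : u2 * v3 - c * v2 = Cs)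
    (E5 : u0 * v3 + u1 * v2 + u2 * v1 + c * v0 = 0) :
    u0 * (c * Cs) = u1 * u2 * Cs + u2 ^ 2 * U2s + U1s * c ^ 2 := by
  linear_combination c ^ 2 * E2 + (u1 * u2 - c * u0) * E4 + c * u2 * E5 + u2 ^ 2 * E3 -
    (c ^ 2 * u0 * v2 + u1 * u2 ^ 2 * v3) * h2

theorem first_col (hF : Fintype.card F = 2 ^ (2 * m + 1)) {M : Matrix (Fin 4) (Fin 4) F}
    (hM : IsSzMat m M) : ∃ (o : Option (F × F)) (c : F),
      M.mulVec (ovVecOpt F m none) = c • ovVecOpt F m o := by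
  have h2 : (2 : F) = 0 := two_eq_zero_of_card hF
  have hs0 : (2 : ℕ) ^ (m + 1) ≠ 0 := by positivity
  have E2 : M 0 0 * M 2 1 - M 2 0 * M 0 1 = (M 1 0) ^ 2 ^ (m + 1) := by
    have := congrFun (congrFun hM.2 1) 0
    simpa [star4, pairOf] using this
  have E3 : M 1 0 * M 3 1 - M 3 0 * M 1 1 = (M 2 0) ^ 2 ^ (m + 1) := by
    have := congrFun (congrFun hM.2 2) 0
    simpa [star4, pairOf] using this
  have E4 : M 2 0 * M 3 1 - M 3 0 * M 2 1 = (M 3 0) ^ 2 ^ (m + 1) := by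
    have := congrFun (congrFun hM.2 3) 0
    simpa [star4, pairOf] using this
  have E5 : M 0 0 * M 3 1 + M 1 0 * M 2 1 + M 2 0 * M 1 1 + M 3 0 * M 0 1 = 0 :=
    colIso_of_presJ hM.1 0
  have hcol : M.mulVec (ovVecOpt F m none) = ![M 0 0, M 1 0, M 2 0, M 3 0] := by
    show M.mulVec ![1, 0, 0, 0] = _
    ext i
    fin_cases i <;> simp [mulVec_four]
  rw [hcol]
  by_cases hc : M 3 0 = 0
  · rw [hc] at E3 E4 E5 ⊢
    rw [zero_pow hs0, zero_mul, sub_zero] at E4
    rw [zero_mul, sub_zero] at E3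
    rw [zero_mul, add_zero] at E5
    have hu2 : M 2 0 = 0 := by
      by_contra hne
      have hv3 : M 3 1 = 0 := (mul_eq_zero.1 E4).resolve_left hne
      rw [hv3, mul_zero] at E3
      exact hne (pow_eq_zero_iff hs0 |>.1 E3.symm)
    rw [hu2] at E2 E3 E5 ⊢
    rw [zero_pow hs0] at E3
    rw [zero_mul, sub_zero] at E2
    rw [zero_mul, add_zero] at E5
    have hu1 : M 1 0 = 0 := by
      by_contra hne
      have hv3 : M 3 1 = 0 := (mul_eq_zero.1 E3).resolve_left hne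
      rw [hv3, mul_zero, zero_add] at E5
      have hv2 : M 2 1 = 0 := (mul_eq_zero.1 E5).resolve_left hne
      rw [hv2, mul_zero] at E2
      exact hne (pow_eq_zero_iff hs0 |>.1 E2.symm)
    rw [hu1]
    refine ⟨none, M 0 0, ?_⟩
    show _ = M 0 0 • ![1, 0, 0, 0]
    ext i
    fin_cases i <;> simp
  · have key := ovoid_elim h2 _ _ _ _ _ _ _ _ _ _ _ E2 E3 E4 E5
    refine ⟨some (M 2 0 / M 3 0, M 1 0 / M 3 0), M 3 0, ?_⟩
    show _ = M 3 0 • ovVec F m _ _
    have hcs : (M 3 0) ^ 2 ^ (m + 1) ≠ 0 := pow_ne_zero _ hc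
    unfold ovVec
    ext i
    fin_cases i
    · simp only [Fin.zero_eta, Fin.isValue, Matrix.cons_val_zero, Pi.smul_apply, smul_eq_mul]
      rw [ovF_eq, div_pow, div_pow, div_pow]
      field_simp
      linear_combination key
    · simp only [Fin.mk_one, Fin.isValue, Matrix.cons_val_one, Matrix.cons_val_zero,
        Pi.smul_apply, smul_eq_mul]
      field_simp
    · simp
      field_simp
    · simp

end Cfsg.Agent.Helper6
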