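import Cfsg.Agent.Helper6.Sz26

/-!
# Abstract consequences of a Bruhat decomposition with two double cosets
-/

set_option autoImplicit false

namespace Cfsg.Agent.Helper6

/-- A group with a "rank one Bruhat decomposition" `G = B ∪ Q t B` acts doubly transitively on the
cosets of `B`, and `Q` acts regularly on the cosets different from `B` (given the trivial
intersection condition `H5`). -/
theorem bruhat_quotient {G : Type*} [Group G] (Q B : Subgroup G) (t : G)
    (hQB : Q ≤ B)
    (H4 : ∀ g, g ∉ B → ∃ u ∈ Q, ∃ b ∈ B, g = u * t * b)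
    (H5 : ∀ v ∈ Q, t⁻¹ * v * t ∈ B → v = 1) :
    MulAction.IsMultiplyPretransitive G (G ⧸ B) 2 ∧
    ∀ x y : G ⧸ B, x ≠ QuotientGroup.mk 1 → y ≠ QuotientGroup.mk 1 →
      ∃! s : Q, (s : G) • x = y := by
  -- every coset other than the base is in the `Q`-orbit of `t B`
  have horb : ∀ x : G ⧸ B, x ≠ QuotientGroup.mk 1 → ∃ u ∈ Q, x = u • (QuotientGroup.mk t : G ⧸ B) := by
    intro x hx
    induction x using QuotientGroup.induction_on with
    | H g =>
      have hg : g ∉ B := by
        intro hgB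
        apply hx
        rw [QuotientGroup.eq]
        simpa using hgB
      obtain ⟨u, hu, b, hb, rfl⟩ := H4 g hg
      refine ⟨u, hu, ?_⟩
      rw [MulAction.Quotient.smul_mk, QuotientGroup.eq]
      have : (u * t * b)⁻¹ * (u • t) = b⁻¹ := by
        rw [smul_eq_mul]; group
      rw [this]
      exact B.inv_mem hb
  have hfixbase : ∀ u ∈ B, u • (QuotientGroup.mk 1 : G ⧸ B) = QuotientGroup.mk 1 := by
    intro u hu
    rw [MulAction.Quotient.smul_mk, QuotientGroup.eq]
    simpa using hu
  constructor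
  · rw [MulAction.is_two_pretransitive_iff]
    -- every pair of distinct points can be moved to `(B, tB)`
    have hstd : ∀ {a b : G ⧸ B}, a ≠ b → ∃ g : G, g • a = QuotientGroup.mk 1 ∧
        g • b = QuotientGroup.mk t := by
      intro a b hab
      induction a using QuotientGroup.induction_on with
      | H g1 =>
        have h1 : g1⁻¹ • (QuotientGroup.mk g1 : G ⧸ B) = QuotientGroup.mk 1 := by
          rw [MulAction.Quotient.smul_mk]; simp
        have h2 : g1⁻¹ • b ≠ QuotientGroup.mk 1 := by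
          intro h
          apply hab
          rw [← h1] at h
          exact (smul_left_cancel _ h).symm
        obtain ⟨u, hu, hub⟩ := horb _ h2
        refine ⟨u⁻¹ * g1⁻¹, ?_, ?_⟩
        · rw [mul_smul, h1]
          exact hfixbase _ (B.inv_mem (hQB hu))
        · rw [mul_smul, hub, inv_smul_smul]
    intro a b c d hab hcd
    obtain ⟨g1, e1, e2⟩ := hstd hab
    obtain ⟨g2, e3, e4⟩ := hstd hcd
    refine ⟨g2⁻¹ * g1, ?_, ?_⟩
    · rw [mul_smul, e1, ← e3, inv_smul_smul]
    · rw [mul_smul, e2, ← e4, inv_smul_smul]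
  · intro x y hx hy
    obtain ⟨u, hu, rfl⟩ := horb x hx
    obtain ⟨u', hu', rfl⟩ := horb y hy
    refine ⟨⟨u' * u⁻¹, Q.mul_mem hu' (Q.inv_mem hu)⟩, ?_, ?_⟩
    · show (u' * u⁻¹) • u • (QuotientGroup.mk t : G ⧸ B) = _
      rw [← mul_smul, inv_mul_cancel_right]
    · rintro ⟨s, hs⟩ hs'
      have hs'' : s • u • (QuotientGroup.mk t : G ⧸ B) = u' • QuotientGroup.mk t := hs'
      apply Subtype.ext
      show s = u' * u⁻¹
      have hv : t⁻¹ * (u'⁻¹ * s * u) * t ∈ B := by
        have h1 : (u'⁻¹ * s * u) • (QuotientGroup.mk t : G ⧸ B) = QuotientGroup.mk t := by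
          rw [mul_smul, mul_smul, hs'', inv_smul_smul]
        rw [MulAction.Quotient.smul_mk, QuotientGroup.eq] at h1
        have h2 : ((u'⁻¹ * s * u) • t)⁻¹ * t = (t⁻¹ * (u'⁻¹ * s * u) * t)⁻¹ := by
          rw [smul_eq_mul]; group
        rw [h2] at h1
        exact (B.inv_mem_iff).1 h1
      have hv1 := H5 _ (Q.mul_mem (Q.mul_mem (Q.inv_mem hu') hs) hu) hv
      have : s = u' * (u'⁻¹ * s * u) * u⁻¹ := by group
      rw [this, hv1, mul_one]

end Cfsg.Agent.Helper6
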