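import Cfsg.Agent.Helper6.Sz27

/-!
# Order, Sylow normaliser and the doubly transitive coset action for any model of `Sz(q)`
-/

set_option autoImplicit false

namespace Cfsg.Agent.Helper6

variable {F : Type*} [Field F] [Fintype F] {m : ℕ}

theorem szB_eq_stabilizer :
    szB F m = MulAction.stabilizer (Cfsg.Sz F m) (Cfsg.suzukiPointInfinity F) := by
  ext g
  rfl

theorem card_szB (hm : 1 ≤ m) (hF : Fintype.card F = 2 ^ (2 * m + 1)) :
    Nat.card (szB F m) = (Fintype.card F) ^ 2 * (Fintype.card F - 1) := by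
  rw [szB_eq_stabilizer]
  exact card_point_stab hm hF

theorem sz_model_structure (hm : 1 ≤ m) (hF : Fintype.card F = 2 ^ (2 * m + 1))
    {G' : Type*} [Group G'] (e : Cfsg.Sz F m ≃* G') :
    Nat.card G' = (2 ^ (2 * m + 1)) ^ 2 * (2 ^ (2 * m + 1) - 1) * ((2 ^ (2 * m + 1)) ^ 2 + 1) ∧
    ∃ S : Sylow 2 G',
      Nat.card (Subgroup.normalizer ((S : Subgroup G') : Set G')) =
        (2 ^ (2 * m + 1)) ^ 2 * (2 ^ (2 * m + 1) - 1) ∧
      (Subgroup.normalizer ((S : Subgroup G') : Set G')).index = (2 ^ (2 * m + 1)) ^ 2 + 1 ∧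
      MulAction.IsMultiplyPretransitive G'
        (G' ⧸ Subgroup.normalizer ((S : Subgroup G') : Set G')) 2 ∧
      ∀ x y : G' ⧸ Subgroup.normalizer ((S : Subgroup G') : Set G'),
        x ≠ (QuotientGroup.mk 1) → y ≠ (QuotientGroup.mk 1) →
          ∃! s : ↥(S : Subgroup G'), (s : G') • x = y := by
  have : Finite (Cfsg.Sz F m) := inferInstance
  have : Finite G' := Finite.of_equiv _ e.toEquiv
  have hq1 : 1 ≤ 2 ^ (2 * m + 1) - 1 := by
    have : 2 ^ 1 ≤ 2 ^ (2 * m + 1) := Nat.pow_le_pow_right (by norm_num) (by omega)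
    omega
  have hcard : Nat.card G' =
      (2 ^ (2 * m + 1)) ^ 2 * (2 ^ (2 * m + 1) - 1) * ((2 ^ (2 * m + 1)) ^ 2 + 1) := by
    rw [← Nat.card_congr e.toEquiv, card_Sz hm hF, hF]
    ring
  refine ⟨hcard, ?_⟩
  -- the Sylow subgroup
  have hQp : IsPGroup 2 (szQ hm hF) := by
    apply IsPGroup.of_card (n := 2 * (2 * m + 1))
    rw [card_szQ, hF, ← pow_mul, mul_comm]
  have hQ'p : IsPGroup 2 ((szQ hm hF).map (e : Cfsg.Sz F m →* G')) := hQp.map _
  have hQ'i : ¬ 2 ∣ ((szQ hm hF).map (e : Cfsg.Sz F m →* G')).index := by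
    rw [Subgroup.index_map_equiv]
    exact szQ_index_odd hm hF
  let S : Sylow 2 G' := hQ'p.toSylow hQ'i
  have hS : (S : Subgroup G') = (szQ hm hF).map (e : Cfsg.Sz F m →* G') := rfl
  have hN : Subgroup.normalizer ((S : Subgroup G') : Set G') =
      (szB F m).map (e : Cfsg.Sz F m →* G') := by
    rw [hS, ← normalizer_szQ hm hF]
    exact (Subgroup.map_equiv_normalizer_eq (szQ hm hF) e).symm
  have hNcard : Nat.card (Subgroup.normalizer ((S : Subgroup G') : Set G')) =
      (2 ^ (2 * m + 1)) ^ 2 * (2 ^ (2 * m + 1) - 1) := by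
    rw [hN, Subgroup.card_map_of_injective e.injective, card_szB hm hF, hF]
  refine ⟨S, hNcard, ?_, ?_⟩
  · have h1 := Subgroup.index_mul_card (Subgroup.normalizer ((S : Subgroup G') : Set G'))
    rw [hNcard, hcard, mul_comm] at h1
    have hpos : 0 < (2 ^ (2 * m + 1)) ^ 2 * (2 ^ (2 * m + 1) - 1) := by positivity
    exact Nat.eq_of_mul_eq_mul_left hpos h1
  · -- the coset action
    have hS_le : (S : Subgroup G') ≤ Subgroup.normalizer ((S : Subgroup G') : Set G') :=
      Subgroup.le_normalizer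
    have H4 : ∀ g, g ∉ Subgroup.normalizer ((S : Subgroup G') : Set G') →
        ∃ u ∈ (S : Subgroup G'), ∃ b ∈ Subgroup.normalizer ((S : Subgroup G') : Set G'),
          g = u * e ⟨szT F, szT_mem hF⟩ * b := by
      intro g' hg'
      rw [hN] at hg'
      obtain ⟨g, rfl⟩ := e.surjective g'
      have hg : g ∉ szB F m := fun h => hg' ⟨g, h, rfl⟩
      rcases bruhat_decomp hm hF g.2 with ⟨a, b, t, h⟩ | ⟨x, y, a, b, t, h⟩
      · exfalso
        apply hg
        rw [mem_szB_iff, h, mul_smul, szD_smul_none, szU_smul_none]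
      · have hbmem : szU F m a b * szD F m t ∈ Cfsg.Sz F m :=
          (Cfsg.Sz F m).mul_mem (szU_mem hF a b) (szD_mem hF t)
        have hbB : (⟨szU F m a b * szD F m t, hbmem⟩ : Cfsg.Sz F m) ∈ szB F m := by
          rw [mem_szB_iff]
          show (szU F m a b * szD F m t) • _ = _
          rw [mul_smul, szD_smul_none, szU_smul_none]
        refine ⟨e (qU hm hF x y : Cfsg.Sz F m), ⟨_, (qU hm hF x y).2, rfl⟩,
          e ⟨szU F m a b * szD F m t, hbmem⟩, ?_, ?_⟩
        · rw [hN]; exact ⟨_, hbB, rfl⟩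
        · rw [← map_mul, ← map_mul]
          congr 1
          exact Subtype.ext h
    have H5 : ∀ v ∈ (S : Subgroup G'),
        (e ⟨szT F, szT_mem hF⟩)⁻¹ * v * e ⟨szT F, szT_mem hF⟩ ∈
          Subgroup.normalizer ((S : Subgroup G') : Set G') → v = 1 := by
      rintro _ ⟨v, ⟨a, b, hv⟩, rfl⟩ hvB
      rw [hN] at hvB
      have hvB2 : (e : Cfsg.Sz F m →* G') ((⟨szT F, szT_mem hF⟩ : Cfsg.Sz F m)⁻¹ * v *
          ⟨szT F, szT_mem hF⟩) ∈ Subgroup.map (e : Cfsg.Sz F m →* G') (szB F m) := by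
        rw [map_mul, map_mul, map_inv]; exact hvB
      have hvB' : (⟨szT F, szT_mem hF⟩ : Cfsg.Sz F m)⁻¹ * v * ⟨szT F, szT_mem hF⟩ ∈ szB F m :=
        (Subgroup.mem_map_iff_mem (f := (e : Cfsg.Sz F m →* G')) e.injective).1 hvB2
      rw [mem_szB_iff] at hvB'
      have h1 : ((szT F)⁻¹ * szU F m a b * szT F) • ovPt F m none = ovPt F m none := by
        rw [← hv]; exact hvB'
      rw [mul_smul, mul_smul, szT_smul_none, inv_smul_eq_iff, szT_smul_none] at h1
      by_cases hab : a = 0 ∧ b = 0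
      · obtain ⟨rfl, rfl⟩ := hab
        rw [szU_zero hm hF] at hv
        have : v = 1 := Subtype.ext hv
        rw [this, map_one]
      · exact absurd (szU_fix_only_infinity hF hab h1) (Option.some_ne_none _)
    exact bruhat_quotient (S : Subgroup G') _ _ hS_le H4 H5

end Cfsg.Agent.Helper6
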