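import Cfsg.Agent.Helper6.Sz28
import Cfsg.Prelude.Def_Transfer

/-!
# Elementary abelian TI subgroups of the Suzuki group: existence from subfields
-/

set_option autoImplicit false

namespace Cfsg.Agent.Helper6

variable {F : Type*} [Field F] [Fintype F] {m : ℕ}

theorem exists_subfield_hom (hF : Fintype.card F = 2 ^ (2 * m + 1)) {n : ℕ} (hn0 : n ≠ 0)
    (hn : n ∣ 2 * m + 1) :
    ∃ (K0 : Type) (_ : Field K0) (_ : Finite K0) (_ : K0 →+* F), Nat.card K0 = 2 ^ n := by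
  have : Fact (Nat.Prime 2) := ⟨Nat.prime_two⟩
  have : CharP F 2 := CharTwo.of_one_ne_zero_of_two_eq_zero one_ne_zero (two_eq_zero_of_card hF)
  let _ : Algebra (ZMod 2) F := ZMod.algebra F 2
  have hfr : Module.finrank (ZMod 2) F = 2 * m + 1 := by
    have := FiniteField.pow_finrank_eq_card 2 F
    rw [hF] at this
    exact Nat.pow_right_injective (le_refl 2) this
  obtain ⟨f⟩ := FiniteField.nonempty_algHom_of_finrank_dvd (F := ZMod 2) (K := GaloisField 2 n)
    (L := F) (by rw [GaloisField.finrank 2 hn0, hfr]; exact hn)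
  exact ⟨GaloisField 2 n, inferInstance, inferInstance, f.toRingHom, GaloisField.card 2 n hn0⟩

/-- the group of central translations with parameter in the image of a ring homomorphism -/
def szE (hm : 1 ≤ m) (hF : Fintype.card F = 2 ^ (2 * m + 1)) {K0 : Type*} [Field K0]
    (φ : K0 →+* F) : Subgroup (Cfsg.Sz F m) where
  carrier := {g | ∃ x : K0, (g : Matrix.SpecialLinearGroup (Fin 4) F) = szU F m 0 (φ x)}
  mul_mem' := by
    rintro g g' ⟨x, h⟩ ⟨y, h'⟩
    refine ⟨x + y, ?_⟩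
    rw [Subgroup.coe_mul, h, h', szU_mul_central hm hF, map_add]
  one_mem' := ⟨0, by rw [map_zero, szU_zero hm hF]; rfl⟩
  inv_mem' := by
    rintro g ⟨x, h⟩
    refine ⟨x, ?_⟩
    rw [Subgroup.coe_inv, h, szU_inv hm hF]
    congr 1
    rw [zero_pow (by positivity)]
    ring

theorem mem_szE_iff (hm : 1 ≤ m) (hF : Fintype.card F = 2 ^ (2 * m + 1)) {K0 : Type*} [Field K0]
    (φ : K0 →+* F) (g : Cfsg.Sz F m) :
    g ∈ szE hm hF φ ↔ ∃ x : K0, (g : Matrix.SpecialLinearGroup (Fin 4) F) = szU F m 0 (φ x) :=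
  Iff.rfl

theorem card_szE (hm : 1 ≤ m) (hF : Fintype.card F = 2 ^ (2 * m + 1)) {K0 : Type*} [Field K0]
    (φ : K0 →+* F) : Nat.card (szE hm hF φ) = Nat.card K0 := by
  symm
  apply Nat.card_congr
  refine Equiv.ofBijective (fun x => ⟨⟨szU F m 0 (φ x), szU_mem hF _ _⟩, x, rfl⟩) ⟨?_, ?_⟩
  · intro x y h
    have h1 : szU F m 0 (φ x) = szU F m 0 (φ y) :=
      congrArg (fun g : szE hm hF φ => ((g : Cfsg.Sz F m) :
        Matrix.SpecialLinearGroup (Fin 4) F)) h
    exact φ.injective (szU_injective hF h1).2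
  · rintro ⟨g, x, hx⟩
    exact ⟨x, Subtype.ext (Subtype.ext hx.symm)⟩

theorem szE_elementary (hm : 1 ≤ m) (hF : Fintype.card F = 2 ^ (2 * m + 1)) {K0 : Type*}
    [Field K0] (φ : K0 →+* F) : Cfsg.IsElementaryAbelian 2 (szE hm hF φ) := by
  have h2 : (2 : F) = 0 := two_eq_zero_of_card hF
  refine ⟨⟨⟨?_⟩⟩, ?_⟩
  · rintro ⟨a, x, hx⟩ ⟨b, y, hy⟩
    apply Subtype.ext
    apply Subtype.ext
    show (a : Matrix.SpecialLinearGroup (Fin 4) F) * b = b * a
    rw [hx, hy, szU_central hm hF]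
  · rintro a ⟨x, hx⟩
    apply Subtype.ext
    show (a : Matrix.SpecialLinearGroup (Fin 4) F) ^ 2 = 1
    rw [hx, pow_two, szU_mul_central hm hF, ← szU_zero hm hF]
    congr 1
    linear_combination (φ x) * h2

/-- conjugation of a central translation by an element of the Borel subgroup -/
theorem borel_conj_central (hm : 1 ≤ m) (hF : Fintype.card F = 2 ^ (2 * m + 1)) (a b y : F)
    (t : Fˣ) :
    (szU F m a b * szD F m t) * szU F m 0 y * (szU F m a b * szD F m t)⁻¹ =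
      szU F m 0 ((t : F) ^ (2 ^ (m + 1) + 1) * y) := by
  have h1 : (szU F m a b * szD F m t) * szU F m 0 y * (szU F m a b * szD F m t)⁻¹ =
      szU F m a b * (szD F m t * szU F m 0 y * (szD F m t)⁻¹) * (szU F m a b)⁻¹ := by group
  rw [h1, szD_conj_szU' hm hF, mul_zero, ← szU_central hm hF, mul_assoc, mul_inv_cancel, mul_one]

theorem szE_TI (hm : 1 ≤ m) (hF : Fintype.card F = 2 ^ (2 * m + 1)) {K0 : Type*} [Field K0]
    (φ : K0 →+* F) (x : Cfsg.Sz F m)
    (h : szE hm hF φ ⊓ (szE hm hF φ).map (MulAut.conj x).toMonoidHom ≠ ⊥) :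
    x ∈ Subgroup.normalizer ((szE hm hF φ : Subgroup (Cfsg.Sz F m)) : Set (Cfsg.Sz F m)) := by
  obtain ⟨g, hgE, hgx⟩ : ∃ g : Cfsg.Sz F m, g ∈ szE hm hF φ ∧
      g ∈ (szE hm hF φ).map (MulAut.conj x).toMonoidHom ∧ g ≠ 1 := by
    obtain ⟨⟨g, hg⟩, hg1⟩ := (Subgroup.ne_bot_iff_exists_ne_one).1 h
    exact ⟨g, (Subgroup.mem_inf.1 hg).1, (Subgroup.mem_inf.1 hg).2,
      fun h1 => hg1 (Subtype.ext h1)⟩
  obtain ⟨⟨h', hh'E, hh'g⟩, hg1⟩ := hgx
  obtain ⟨c, hc⟩ := hgE
  obtain ⟨c', hc'⟩ := hh'E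
  have hgconj : (g : Matrix.SpecialLinearGroup (Fin 4) F) =
      (x : Matrix.SpecialLinearGroup (Fin 4) F) * (h' : Matrix.SpecialLinearGroup (Fin 4) F) *
        (x : Matrix.SpecialLinearGroup (Fin 4) F)⁻¹ := by
    rw [← hh'g]; rfl
  have hc0 : φ c ≠ 0 := by
    intro h0
    apply hg1
    apply Subtype.ext
    rw [hc, h0, szU_zero hm hF]; rfl
  -- `x` fixes the point at infinity
  obtain ⟨o, ho⟩ := smul_mem_of_mem_Sz x.2 none
  have hfix : szU F m 0 (φ c) • ovPt F m o = ovPt F m o := by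
    rw [← hc, hgconj, ← ho, ← mul_smul, inv_mul_cancel_right, mul_smul, hc', szU_smul_none]
  have ho' : o = none := szU_fix_only_infinity hF (fun hh => hc0 hh.2) hfix
  subst ho'
  obtain ⟨a, b, t, hx⟩ := borel_decomp hm hF x.2 ho
  -- the multiplier lies in the subfield
  rw [hc, hc', hx, borel_conj_central hm hF] at hgconj
  have hκ := (szU_injective hF hgconj).2
  have hc'0 : φ c' ≠ 0 := by
    intro h0
    rw [h0, mul_zero] at hκ
    exact hc0 hκ
  have hc'ne : c' ≠ 0 := fun h0 => hc'0 (by rw [h0, map_zero])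
  have hcne : c ≠ 0 := fun h0 => hc0 (by rw [h0, map_zero])
  have hκ' : (t : F) ^ (2 ^ (m + 1) + 1) = φ (c / c') := by
    rw [map_div₀, eq_div_iff hc'0, ← hκ]
  rw [Subgroup.mem_normalizer_iff]
  intro e
  have hconj : ∀ y : K0, (x : Matrix.SpecialLinearGroup (Fin 4) F) * szU F m 0 (φ y) *
      (x : Matrix.SpecialLinearGroup (Fin 4) F)⁻¹ = szU F m 0 (φ (c / c' * y)) := by
    intro y
    rw [hx, borel_conj_central hm hF, hκ', ← map_mul]
  constructor
  · rintro ⟨y, hy⟩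
    refine ⟨c / c' * y, ?_⟩
    show (x : Matrix.SpecialLinearGroup (Fin 4) F) * (e : Matrix.SpecialLinearGroup (Fin 4) F) *
      (x : Matrix.SpecialLinearGroup (Fin 4) F)⁻¹ = _
    rw [hy, hconj]
  · rintro ⟨y, hy⟩
    refine ⟨c' / c * y, ?_⟩
    have hy' : (x : Matrix.SpecialLinearGroup (Fin 4) F) *
        (e : Matrix.SpecialLinearGroup (Fin 4) F) *
        (x : Matrix.SpecialLinearGroup (Fin 4) F)⁻¹ = szU F m 0 (φ y) := hy
    have h1 := hconj (c' / c * y)
    have h2 : c / c' * (c' / c * y) = y := by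
      rw [← mul_assoc, div_mul_div_comm, mul_comm c c', div_self (mul_ne_zero hc'ne hcne),
        one_mul]
    rw [h2, ← hy'] at h1
    have h3 : szU F m 0 (φ (c' / c * y)) = (e : Matrix.SpecialLinearGroup (Fin 4) F) :=
      mul_left_cancel (mul_right_cancel h1)
    exact h3.symm

end Cfsg.Agent.Helper6
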