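import Cfsg.Agent.Helper6.Sz2

/-!
# The two-point stabiliser in the Suzuki group
-/

set_option autoImplicit false

namespace Cfsg.Agent.Helper6

open scoped Pointwise

section poly

variable {F : Type*} [Field F] [Fintype F]

/-- a polynomial function with few monomials of small degree vanishing identically has zero
coefficients -/
theorem coeffs_zero_of_forall_eval (I : Finset ℕ) (c : ℕ → F)
    (hI : ∀ i ∈ I, i < Fintype.card F) (h : ∀ y : F, ∑ i ∈ I, c i * y ^ i = 0) :
    ∀ i ∈ I, c i = 0 := by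
  classical
  set P : Polynomial F := ∑ i ∈ I, Polynomial.C (c i) * Polynomial.X ^ i with hPdef
  have hdeg : P.natDegree < Fintype.card F := by
    have hpos : 0 < Fintype.card F := Fintype.card_pos
    have h1 : P.natDegree ≤ I.sup id := by
      apply Polynomial.natDegree_sum_le_of_forall_le
      intro i hi
      apply le_trans (Polynomial.natDegree_C_mul_X_pow_le _ _)
      exact Finset.le_sup (f := id) hi
    apply lt_of_le_of_lt h1
    rw [Finset.sup_lt_iff (by simpa using hpos)]
    intro i hi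
    exact hI i hi
  have heval : ∀ y : F, P.eval (id y) = 0 := by
    intro y
    rw [hPdef, Polynomial.eval_finset_sum]
    simpa using h y
  have hP : P = 0 :=
    Polynomial.eq_zero_of_natDegree_lt_card_of_eval_eq_zero P Function.injective_id heval hdeg
  intro i hi
  have hc : P.coeff i = c i := by
    rw [hPdef, Polynomial.finset_sum_coeff]
    simp only [Polynomial.coeff_C_mul_X_pow]
    rw [Finset.sum_eq_single i]
    · simp
    · intro j _ hji
      rw [if_neg (Ne.symm hji)]
    · intro hni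
      exact absurd hi hni
  rw [← hc, hP, Polynomial.coeff_zero]

/-- four-monomial version -/
theorem four_monomials {e1 e2 e3 e4 : ℕ} {c1 c2 c3 c4 : F}
    (h12 : e1 ≠ e2) (h13 : e1 ≠ e3) (h14 : e1 ≠ e4) (h23 : e2 ≠ e3) (h24 : e2 ≠ e4)
    (h34 : e3 ≠ e4) (hq1 : e1 < Fintype.card F) (hq2 : e2 < Fintype.card F)
    (hq3 : e3 < Fintype.card F) (hq4 : e4 < Fintype.card F)
    (h : ∀ y : F, c1 * y ^ e1 + c2 * y ^ e2 + c3 * y ^ e3 + c4 * y ^ e4 = 0) :
    c1 = 0 ∧ c2 = 0 ∧ c3 = 0 ∧ c4 = 0 := by
  classical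
  set c : ℕ → F := fun i => if i = e1 then c1 else if i = e2 then c2 else if i = e3 then c3
    else if i = e4 then c4 else 0 with hc
  have hc1 : c e1 = c1 := by simp [hc]
  have hc2 : c e2 = c2 := by simp [hc, h12.symm]
  have hc3 : c e3 = c3 := by simp [hc, h13.symm, h23.symm]
  have hc4 : c e4 = c4 := by simp [hc, h14.symm, h24.symm, h34.symm]
  have key := coeffs_zero_of_forall_eval ({e1, e2, e3, e4} : Finset ℕ) c
    (by
      intro i hi
      simp only [Finset.mem_insert, Finset.mem_singleton] at hi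
      rcases hi with rfl | rfl | rfl | rfl <;> assumption)
    (by
      intro y
      rw [Finset.sum_insert (by simp [h12, h13, h14]), Finset.sum_insert (by simp [h23, h24]),
        Finset.sum_insert (by simp [h34]), Finset.sum_singleton, hc1, hc2, hc3, hc4]
      rw [← h y]; ring)
  refine ⟨?_, ?_, ?_, ?_⟩
  · rw [← hc1]; exact key e1 (by simp)
  · rw [← hc2]; exact key e2 (by simp)
  · rw [← hc3]; exact key e3 (by simp)
  · rw [← hc4]; exact key e4 (by simp)

end poly

section stab

variable {F : Type*} [Field F] [Fintype F] {m : ℕ}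

omit [Fintype F] in
theorem mulVec_four (M : Matrix (Fin 4) (Fin 4) F) (v : Fin 4 → F) (i : Fin 4) :
    M.mulVec v i = M i 0 * v 0 + M i 1 * v 1 + M i 2 * v 2 + M i 3 * v 3 := by
  simp [Matrix.mulVec, dotProduct, Fin.sum_univ_four]

theorem sigma_lt_card (hm : 1 ≤ m) (hF : Fintype.card F = 2 ^ (2 * m + 1)) :
    2 ^ (m + 1) + 2 < Fintype.card F := by
  rw [hF]
  have h2 : 2 ≤ 2 ^ m := by
    calc 2 = 2 ^ 1 := by norm_num
      _ ≤ 2 ^ m := Nat.pow_le_pow_right (by norm_num) hm
  have e1 : 2 ^ (m + 1) = 2 * 2 ^ m := by rw [pow_succ]; ring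
  have e2 : 2 ^ (2 * m + 1) = 2 * (2 ^ m * 2 ^ m) := by
    rw [pow_succ, two_mul, pow_add]; ring
  rw [e1, e2]
  generalize 2 ^ m = a at h2
  nlinarith

theorem four_le_sigma (hm : 1 ≤ m) : 4 ≤ 2 ^ (m + 1) := by
  calc 4 = 2 ^ 2 := by norm_num
    _ ≤ 2 ^ (m + 1) := Nat.pow_le_pow_right (by norm_num) (by omega)

/-- the image of an affine point under an element of the Suzuki group fixing the point at infinity
is again an affine point: the corresponding identity on coordinates -/
theorem affine_image {g : Matrix.SpecialLinearGroup (Fin 4) F} (hg : g ∈ Cfsg.Sz F m)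
    (h1 : g • ovPt F m none = ovPt F m none) (x y : F) :
    (g : Matrix (Fin 4) (Fin 4) F).mulVec (ovVec F m x y) 3 ≠ 0 ∧
      (g : Matrix (Fin 4) (Fin 4) F).mulVec (ovVec F m x y) 0 =
        (g : Matrix (Fin 4) (Fin 4) F).mulVec (ovVec F m x y) 3 *
          ovF F m ((g : Matrix (Fin 4) (Fin 4) F).mulVec (ovVec F m x y) 2 /
              (g : Matrix (Fin 4) (Fin 4) F).mulVec (ovVec F m x y) 3)
            ((g : Matrix (Fin 4) (Fin 4) F).mulVec (ovVec F m x y) 1 /
              (g : Matrix (Fin 4) (Fin 4) F).mulVec (ovVec F m x y) 3) := by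
  obtain ⟨o', ho'⟩ := smul_mem_of_mem_Sz hg (some (x, y))
  rcases o' with _ | ⟨x', y'⟩
  · exfalso
    rw [← h1] at ho'
    have := ovPt_injective (MulAction.injective g ho')
    exact Option.some_ne_none _ this
  · obtain ⟨c, hc, hw⟩ := exists_of_smul_ovPt g ho'
    change (g : Matrix (Fin 4) (Fin 4) F).mulVec (ovVec F m x y) = c • ovVec F m x' y' at hw
    rw [hw]
    have e3 : (c • ovVec F m x' y') 3 = c := by simp [ovVec]
    have e2 : (c • ovVec F m x' y') 2 = c * x' := by simp [ovVec]
    have e1 : (c • ovVec F m x' y') 1 = c * y' := by simp [ovVec]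
    have e0 : (c • ovVec F m x' y') 0 = c * ovF F m x' y' := by simp [ovVec]
    rw [e3, e2, e1, e0, mul_div_cancel_left₀ _ hc, mul_div_cancel_left₀ _ hc]
    exact ⟨hc, rfl⟩

end stab

end Cfsg.Agent.Helper6
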