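import Cfsg.Agent.Helper6.Sz29

/-!
# Additive subgroups of a finite field with the "TI" scaling property are lines over a subfield
-/

set_option autoImplicit false

namespace Cfsg.Agent.Helper6

variable {F : Type*} [Field F] [Fintype F] {m : ℕ}

/-- the subfield of multipliers of an additive subgroup with the TI scaling property -/
def tiSubfield (V : AddSubgroup F)
    (hP : ∀ κ : Fˣ, (∃ b ∈ V, b ≠ 0 ∧ (κ : F) * b ∈ V) → ∀ b ∈ V, (κ : F) * b ∈ V)
    (hV : ∃ b ∈ V, b ≠ 0) : Subfield F where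
  carrier := {κ | ∀ b ∈ V, κ * b ∈ V}
  mul_mem' := by
    intro a b ha hb v hv
    rw [mul_assoc]
    exact ha _ (hb _ hv)
  one_mem' := by
    intro v hv
    rwa [one_mul]
  add_mem' := by
    intro a b ha hb v hv
    rw [add_mul]
    exact V.add_mem (ha _ hv) (hb _ hv)
  zero_mem' := by
    intro v _
    rw [zero_mul]
    exact V.zero_mem
  neg_mem' := by
    intro a ha v hv
    rw [neg_mul]
    exact V.neg_mem (ha _ hv)
  inv_mem' := by
    intro a ha
    by_cases ha0 : a = 0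
    · subst ha0
      intro v _
      rw [inv_zero, zero_mul]
      exact V.zero_mem
    · obtain ⟨b0, hb0, hb0ne⟩ := hV
      have := hP (Units.mk0 a ha0)⁻¹ ⟨a * b0, ha _ hb0, mul_ne_zero ha0 hb0ne, by
        rw [Units.val_inv_eq_inv_val, Units.val_mk0, inv_mul_cancel_left₀ ha0]
        exact hb0⟩
      rw [Units.val_inv_eq_inv_val, Units.val_mk0] at this
      exact this

omit [Fintype F] in
theorem mem_tiSubfield_iff (V : AddSubgroup F)
    (hP : ∀ κ : Fˣ, (∃ b ∈ V, b ≠ 0 ∧ (κ : F) * b ∈ V) → ∀ b ∈ V, (κ : F) * b ∈ V)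
    (hV : ∃ b ∈ V, b ≠ 0) (κ : F) : κ ∈ tiSubfield V hP hV ↔ ∀ b ∈ V, κ * b ∈ V := Iff.rfl

omit [Fintype F] in
theorem card_tiSubfield (V : AddSubgroup F)
    (hP : ∀ κ : Fˣ, (∃ b ∈ V, b ≠ 0 ∧ (κ : F) * b ∈ V) → ∀ b ∈ V, (κ : F) * b ∈ V)
    (hV : ∃ b ∈ V, b ≠ 0) : Nat.card (tiSubfield V hP hV) = Nat.card V := by
  obtain ⟨v0, hv0, hv0ne⟩ := hV
  apply Nat.card_congr
  refine Equiv.ofBijective (fun κ => ⟨(κ : F) * v0, κ.2 v0 hv0⟩) ⟨?_, ?_⟩
  · intro a b hab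
    have h1 : (a : F) * v0 = (b : F) * v0 := congrArg Subtype.val hab
    exact Subtype.ext (mul_right_cancel₀ hv0ne h1)
  · rintro ⟨w, hw⟩
    by_cases hw0 : w = 0
    · refine ⟨⟨0, (tiSubfield V hP ⟨v0, hv0, hv0ne⟩).zero_mem⟩, ?_⟩
      apply Subtype.ext
      show (0 : F) * v0 = w
      rw [zero_mul, hw0]
    · have hκ0 : w / v0 ≠ 0 := div_ne_zero hw0 hv0ne
      have hmem : w / v0 ∈ tiSubfield V hP ⟨v0, hv0, hv0ne⟩ := by
        have := hP (Units.mk0 _ hκ0) ⟨v0, hv0, hv0ne, by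
          rw [Units.val_mk0, div_mul_cancel₀ _ hv0ne]; exact hw⟩
        rw [Units.val_mk0] at this
        exact this
      refine ⟨⟨w / v0, hmem⟩, ?_⟩
      apply Subtype.ext
      show w / v0 * v0 = w
      rw [div_mul_cancel₀ _ hv0ne]

theorem dvd_of_TI_additive (hF : Fintype.card F = 2 ^ (2 * m + 1)) (V : AddSubgroup F) {n : ℕ}
    (hcard : Nat.card V = 2 ^ n) (hn : 1 ≤ n)
    (hP : ∀ κ : Fˣ, (∃ b ∈ V, b ≠ 0 ∧ (κ : F) * b ∈ V) → ∀ b ∈ V, (κ : F) * b ∈ V) :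
    n ∣ 2 * m + 1 := by
  have hV : ∃ b ∈ V, b ≠ 0 := by
    by_contra hcon
    push Not at hcon
    have hsub : Subsingleton V := ⟨fun a b => Subtype.ext (by rw [hcon a a.2, hcon b b.2])⟩
    have h1 : Nat.card V ≤ 1 := Finite.card_le_one_iff_subsingleton.2 hsub
    rw [hcard] at h1
    have h2 : 2 ^ 1 ≤ 2 ^ n := Nat.pow_le_pow_right (by norm_num) hn
    omega
  set K := tiSubfield V hP hV with hK
  have hKcard : Nat.card K = 2 ^ n := by rw [card_tiSubfield, hcard]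
  have h1 := Module.natCard_eq_pow_finrank (K := K) (V := F)
  rw [hKcard, Nat.card_eq_fintype_card, hF, ← pow_mul] at h1
  have h2 := Nat.pow_right_injective (le_refl 2) h1
  exact ⟨_, h2⟩

end Cfsg.Agent.Helper6
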