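import Cfsg.Agent.Helper6.Sz30

/-!
# Elementary abelian TI subgroups of the Suzuki group have order `2^n` with `n ∣ 2m+1`
-/

set_option autoImplicit false

namespace Cfsg.Agent.Helper6

open scoped Pointwise

variable {F : Type*} [Field F] [Fintype F] {m : ℕ}

/-- the central translation `szU 0 b` as an element of the Suzuki group -/
noncomputable def szZ (F : Type*) [Field F] [Fintype F] (m : ℕ)
    (hF : Fintype.card F = 2 ^ (2 * m + 1)) (b : F) : Cfsg.Sz F m :=
  ⟨szU F m 0 b, szU_mem hF 0 b⟩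

theorem szZ_add (hm : 1 ≤ m) (hF : Fintype.card F = 2 ^ (2 * m + 1)) (b b' : F) :
    szZ F m hF (b + b') = szZ F m hF b * szZ F m hF b' := by
  apply Subtype.ext
  show szU F m 0 (b + b') = szU F m 0 b * szU F m 0 b'
  rw [szU_mul_central hm hF]

theorem szZ_zero (hm : 1 ≤ m) (hF : Fintype.card F = 2 ^ (2 * m + 1)) : szZ F m hF 0 = 1 := by
  apply Subtype.ext
  exact szU_zero hm hF

theorem szZ_injective (hF : Fintype.card F = 2 ^ (2 * m + 1)) :
    Function.Injective (szZ F m hF) := by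
  intro b b' h
  exact (szU_injective hF (congrArg Subtype.val h)).2

theorem ti_dvd (hm : 1 ≤ m) (hF : Fintype.card F = 2 ^ (2 * m + 1)) {n : ℕ} (hn : 1 ≤ n)
    (E : Subgroup (Cfsg.Sz F m)) (hE2 : ∀ a ∈ E, a ^ 2 = 1) (hcard : Nat.card E = 2 ^ n)
    (hTI : ∀ x : Cfsg.Sz F m, E ⊓ E.map (MulAut.conj x).toMonoidHom ≠ ⊥ →
      x ∈ Subgroup.normalizer (E : Set (Cfsg.Sz F m))) : n ∣ 2 * m + 1 := by
  have h2 : (2 : F) = 0 := two_eq_zero_of_card hF
  have : Finite (Cfsg.Sz F m) := inferInstance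
  have : Fact (Nat.Prime 2) := ⟨Nat.prime_two⟩
  -- `E` lies in a conjugate of the standard Sylow subgroup
  have hQp : IsPGroup 2 (szQ hm hF) := by
    apply IsPGroup.of_card (n := 2 * (2 * m + 1))
    rw [card_szQ, hF, ← pow_mul, mul_comm]
  let QS : Sylow 2 (Cfsg.Sz F m) := hQp.toSylow (szQ_index_odd hm hF)
  have hEp : IsPGroup 2 E := IsPGroup.of_card hcard
  obtain ⟨P, hEP⟩ := hEp.exists_le_sylow
  obtain ⟨k, hk⟩ := MulAction.exists_smul_eq (Cfsg.Sz F m) QS P
  -- every element of `E` is `k * szZ b * k⁻¹`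
  have hform : ∀ e ∈ E, ∃ b : F, e = k * szZ F m hF b * k⁻¹ := by
    intro e he
    have he' : e ∈ (k • QS : Sylow 2 (Cfsg.Sz F m)) := by rw [hk]; exact hEP he
    rw [mem_sylow_smul_iff] at he'
    obtain ⟨a, b, hab⟩ : ∃ a b : F,
        ((k⁻¹ * e * k : Cfsg.Sz F m) : Matrix.SpecialLinearGroup (Fin 4) F) = szU F m a b := he'
    have hsq : (k⁻¹ * e * k) ^ 2 = 1 := by
      have : (k⁻¹ * e * k) ^ 2 = k⁻¹ * e ^ 2 * k := by
        rw [pow_two, pow_two]; group
      rw [this, hE2 e he]; group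
    have hsq' : szU F m a b * szU F m a b = 1 := by
      have := congrArg (fun g : Cfsg.Sz F m => (g : Matrix.SpecialLinearGroup (Fin 4) F)) hsq
      simp only [pow_two, Subgroup.coe_mul, Subgroup.coe_one] at this
      rw [← hab]
      exact this
    rw [szU_mul hm hF, ← szU_zero hm hF] at hsq'
    have ha : a = 0 := by
      have h3 := (szU_injective hF hsq').2
      have h4 : a ^ 2 ^ (m + 1) * a = 0 := by linear_combination h3 - b * h2
      rcases mul_eq_zero.1 h4 with h5 | h5
      · exact pow_eq_zero_iff (by positivity) |>.1 h5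
      · exact h5
    subst ha
    refine ⟨b, ?_⟩
    have h5 : k⁻¹ * e * k = szZ F m hF b := Subtype.ext hab
    rw [← h5]; group
  -- the additive group of parameters
  let V : AddSubgroup F :=
    { carrier := {b | k * szZ F m hF b * k⁻¹ ∈ E}
      add_mem' := by
        intro b b' hb hb'
        show k * szZ F m hF (b + b') * k⁻¹ ∈ E
        have : k * szZ F m hF (b + b') * k⁻¹ =
            (k * szZ F m hF b * k⁻¹) * (k * szZ F m hF b' * k⁻¹) := by
          rw [szZ_add hm hF]; group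
        rw [this]
        exact E.mul_mem hb hb'
      zero_mem' := by
        show k * szZ F m hF 0 * k⁻¹ ∈ E
        rw [szZ_zero hm hF, mul_one, mul_inv_cancel]
        exact E.one_mem
      neg_mem' := by
        intro b hb
        have : -b = b := by linear_combination (-b) * h2
        rw [this]
        exact hb }
  have hVmem : ∀ b : F, b ∈ V ↔ k * szZ F m hF b * k⁻¹ ∈ E := fun b => Iff.rfl
  have hVcard : Nat.card V = 2 ^ n := by
    rw [← hcard]
    apply Nat.card_congr
    refine Equiv.ofBijective (fun b => ⟨k * szZ F m hF b * k⁻¹, b.2⟩) ⟨?_, ?_⟩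
    · intro b b' hbb
      have h1 : k * szZ F m hF b * k⁻¹ = k * szZ F m hF b' * k⁻¹ := congrArg Subtype.val hbb
      have h3 : szZ F m hF (b : F) = szZ F m hF (b' : F) :=
        mul_left_cancel (mul_right_cancel h1)
      exact Subtype.ext (szZ_injective hF h3)
    · rintro ⟨e, he⟩
      obtain ⟨b, hb⟩ := hform e he
      exact ⟨⟨b, by rw [hVmem, ← hb]; exact he⟩, Subtype.ext hb.symm⟩
  -- the scaling property
  have hP : ∀ κ : Fˣ, (∃ b ∈ V, b ≠ 0 ∧ (κ : F) * b ∈ V) → ∀ b ∈ V, (κ : F) * b ∈ V := by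
    intro κ hκ
    obtain ⟨t, ht⟩ := exists_pow_sigma_succ (m := m) hF κ
    have htF : (t : F) ^ (2 ^ (m + 1) + 1) = (κ : F) := by
      rw [← ht]; simp
    set d : Cfsg.Sz F m := ⟨szD F m t, szD_mem hF t⟩ with hd
    set x : Cfsg.Sz F m := k * d * k⁻¹ with hx
    have hconj : ∀ b : F, x * (k * szZ F m hF b * k⁻¹) * x⁻¹ =
        k * szZ F m hF ((κ : F) * b) * k⁻¹ := by
      intro b
      have h1 : d * szZ F m hF b * d⁻¹ = szZ F m hF ((κ : F) * b) := by
        apply Subtype.ext
        show szD F m t * szU F m 0 b * (szD F m t)⁻¹ = szU F m 0 ((κ : F) * b)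
        rw [szD_conj_szU' hm hF, mul_zero, htF]
      rw [← h1, hx]; group
    have hxN : x ∈ Subgroup.normalizer (E : Set (Cfsg.Sz F m)) := by
      apply hTI
      obtain ⟨b, hbV, hb0, hκb⟩ := hκ
      intro hbot
      have hmem : k * szZ F m hF ((κ : F) * b) * k⁻¹ ∈
          E ⊓ E.map (MulAut.conj x).toMonoidHom := by
        refine Subgroup.mem_inf.2 ⟨hκb, ?_⟩
        refine ⟨k * szZ F m hF b * k⁻¹, hbV, ?_⟩
        show x * (k * szZ F m hF b * k⁻¹) * x⁻¹ = _
        exact hconj b
      rw [hbot, Subgroup.mem_bot] at hmem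
      have h3 : szZ F m hF ((κ : F) * b) = 1 := by
        have : szZ F m hF ((κ : F) * b) =
            k⁻¹ * (k * szZ F m hF ((κ : F) * b) * k⁻¹) * k := by group
        rw [this, hmem]; group
      rw [← szZ_zero hm hF] at h3
      exact mul_ne_zero κ.ne_zero hb0 (szZ_injective hF h3)
    intro b hb
    rw [Subgroup.mem_normalizer_iff] at hxN
    have := (hxN _).1 hb
    rw [hconj] at this
    exact this
  exact dvd_of_TI_additive hF V hVcard hn hP

end Cfsg.Agent.Helper6
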