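import Cfsg.Agent.Helper6.Sz32
import Cfsg.Agent.Helper6.Singer2

/-!
# The Suzuki group is a CN-group
-/

set_option autoImplicit false

namespace Cfsg.Agent.Helper6

open scoped Pointwise

variable {F : Type*} [Field F] [Fintype F] {m : ℕ}

theorem isNilpotent_of_forall_comm {G : Type*} [Group G] (h : ∀ a b : G, a * b = b * a) :
    Group.IsNilpotent G := by
  let _ : CommGroup G := { (inferInstance : Group G) with mul_comm := h }
  exact CommGroup.isNilpotent

/-- centralisers of elements of odd prime order dividing `q² + 1` are commutative -/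
theorem sz_centralizer_comm_singer (hF : Fintype.card F = 2 ^ (2 * m + 1)) {p : ℕ}
    [hp : Fact p.Prime] (hp2 : p ≠ 2) (hq : p ∣ (Fintype.card F) ^ 2 + 1)
    (x : Cfsg.Sz F m) (hx : orderOf x = p) (g h : Cfsg.Sz F m) (hg : g * x = x * g)
    (hh : h * x = x * h) : g * h = h * g := by
  have : CharP F 2 := CharTwo.of_one_ne_zero_of_two_eq_zero one_ne_zero (two_eq_zero_of_card hF)
  let ι : Cfsg.Sz F m →* GL (Fin 4) F :=
    (Matrix.SpecialLinearGroup.toGL).comp (Cfsg.Sz F m).subtype
  have hι : Function.Injective ι :=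
    Matrix.SpecialLinearGroup.toGL_injective.comp (Cfsg.Sz F m).subtype_injective
  have hx' : orderOf (ι x) = p := by rw [orderOf_injective ι hι, hx]
  have h1 : ι g * ι x = ι x * ι g := by rw [← map_mul, ← map_mul, hg]
  have h3 : ι h * ι x = ι x * ι h := by rw [← map_mul, ← map_mul, hh]
  have := gl4_centralizer_comm hp2 hq (ι x) hx' (ι g) (ι h) h1 h3
  apply hι
  rw [map_mul, map_mul, this]

/-- the centraliser of a non-trivial `2`-element lies in its Sylow `2`-subgroup -/
theorem sz_centralizer_two (hm : 1 ≤ m) (hF : Fintype.card F = 2 ^ (2 * m + 1))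
    (P : Sylow 2 (Cfsg.Sz F m)) (x : Cfsg.Sz F m) (hx1 : x ≠ 1)
    (hxP : x ∈ (P : Subgroup (Cfsg.Sz F m))) :
    Subgroup.centralizer ({x} : Set (Cfsg.Sz F m)) ≤ (P : Subgroup (Cfsg.Sz F m)) := by
  have h2 : (2 : F) = 0 := two_eq_zero_of_card hF
  have : Finite (Cfsg.Sz F m) := inferInstance
  have hQp : IsPGroup 2 (szQ hm hF) := by
    apply IsPGroup.of_card (n := 2 * (2 * m + 1))
    rw [card_szQ, hF, ← pow_mul, mul_comm]
  let QS : Sylow 2 (Cfsg.Sz F m) := hQp.toSylow (szQ_index_odd hm hF)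
  obtain ⟨k, hk⟩ := MulAction.exists_smul_eq (Cfsg.Sz F m) QS P
  have hx' : x ∈ (k • QS : Sylow 2 (Cfsg.Sz F m)) := by rw [hk]; exact hxP
  rw [mem_sylow_smul_iff] at hx'
  obtain ⟨a, b, hab⟩ : ∃ a b : F,
      ((k⁻¹ * x * k : Cfsg.Sz F m) : Matrix.SpecialLinearGroup (Fin 4) F) = szU F m a b := hx'
  have hab0 : ¬ (a = 0 ∧ b = 0) := by
    rintro ⟨rfl, rfl⟩
    apply hx1
    rw [szU_zero hm hF] at hab
    have h1 : k⁻¹ * x * k = 1 := Subtype.ext hab
    have : x = k * (k⁻¹ * x * k) * k⁻¹ := by group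
    rw [this, h1]; group
  intro h hh
  rw [Subgroup.mem_centralizer_singleton_iff] at hh
  show h ∈ P
  rw [← hk, mem_sylow_smul_iff]
  -- `h' = k⁻¹ h k` commutes with `x' = k⁻¹ x k`
  set h' : Cfsg.Sz F m := k⁻¹ * h * k with hh'
  have hcomm : h' * (k⁻¹ * x * k) = (k⁻¹ * x * k) * h' := by
    rw [hh']
    calc k⁻¹ * h * k * (k⁻¹ * x * k) = k⁻¹ * (h * x) * k := by group
      _ = k⁻¹ * (x * h) * k := by rw [hh]
      _ = k⁻¹ * x * k * (k⁻¹ * h * k) := by group
  have hcomm' : (h' : Matrix.SpecialLinearGroup (Fin 4) F) * szU F m a b =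
      szU F m a b * (h' : Matrix.SpecialLinearGroup (Fin 4) F) := by
    rw [← hab]
    exact congrArg (fun g : Cfsg.Sz F m => (g : Matrix.SpecialLinearGroup (Fin 4) F)) hcomm
  -- `h'` fixes infinity
  obtain ⟨o, ho⟩ := smul_mem_of_mem_Sz h'.2 none
  have hfix : szU F m a b • ovPt F m o = ovPt F m o := by
    rw [← ho, ← mul_smul, ← hcomm', mul_smul, szU_smul_none]
  have ho' := szU_fix_only_infinity hF hab0 hfix
  subst ho'
  obtain ⟨c, d, t, hcdt⟩ := borel_decomp hm hF h'.2 ho
  -- the torus part is trivial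
  rw [hcdt, mul_assoc, szD_conj_szU hm hF, ← mul_assoc, ← mul_assoc] at hcomm'
  have h3 := mul_right_cancel hcomm'
  rw [szU_mul hm hF, szU_mul hm hF] at h3
  obtain ⟨e1, e2⟩ := szU_injective hF h3
  have ht : t = 1 := by
    by_cases ha : a = 0
    · have hb : b ≠ 0 := fun hb => hab0 ⟨ha, hb⟩
      rw [ha] at e2
      have h4 : (t : F) ^ (2 ^ (m + 1) + 1) * b = 1 * b := by
        rw [zero_pow (by positivity)] at e2
        linear_combination e2
      have h5 := mul_right_cancel₀ hb h4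
      exact Units.ext (eq_one_of_pow_sigma_succ hF h5)
    · have h4 : (t : F) * a = 1 * a := by linear_combination e1
      exact Units.ext (mul_right_cancel₀ ha h4)
  rw [ht, szD_one, mul_one] at hcdt
  exact ⟨c, d, hcdt⟩

/-- anything commuting with a non-trivial torus element `szD t` lies in the torus -/
theorem comm_szD_mem_torus (hm : 1 ≤ m) (hF : Fintype.card F = 2 ^ (2 * m + 1)) {t : Fˣ}
    (ht : t ≠ 1) {g : Matrix.SpecialLinearGroup (Fin 4) F} (hg : g ∈ Cfsg.Sz F m)
    (hcomm : g * szD F m t = szD F m t * g) : ∃ t' : Fˣ, g = szD F m t' := by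
  have h2 : (2 : F) = 0 := two_eq_zero_of_card hF
  have hfixed : ∀ o : Option (F × F), szD F m t • ovPt F m o = ovPt F m o →
      o = none ∨ o = some (0, 0) := by
    rintro (_ | ⟨x, y⟩) ho
    · exact Or.inl rfl
    · right
      by_contra hne
      apply ht
      apply szD_eq_one_of_fix hF (x := x) (y := y) _ ho
      rintro ⟨rfl, rfl⟩
      exact hne rfl
  have hperm : ∀ o : Option (F × F), szD F m t • ovPt F m o = ovPt F m o →
      ∃ o', g • ovPt F m o = ovPt F m o' ∧ (o' = none ∨ o' = some (0, 0)) := by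
    intro o ho
    obtain ⟨o', ho'⟩ := smul_mem_of_mem_Sz hg o
    refine ⟨o', ho', hfixed o' ?_⟩
    rw [← ho', ← mul_smul, ← hcomm, mul_smul, ho]
  obtain ⟨o1, ho1, ho1'⟩ := hperm none (szD_smul_none t)
  obtain ⟨o2, ho2, ho2'⟩ := hperm (some (0, 0)) (szD_smul_zero hF t)
  have hne : o1 ≠ o2 := by
    intro h
    rw [h, ← ho2] at ho1
    have := ovPt_injective (smul_left_cancel g ho1)
    exact (Option.some_ne_none _) this.symm
  rcases ho1' with rfl | rfl
  · have : o2 = some (0, 0) := by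
      rcases ho2' with h | h
      · exact absurd h.symm hne
      · exact h
    subst this
    exact two_point_stab hm hF hg ho1 ho2
  · have : o2 = none := by
      rcases ho2' with h | h
      · exact h
      · exact absurd h.symm hne
    subst this
    exfalso
    have hg' : szT F * g ∈ Cfsg.Sz F m := (Cfsg.Sz F m).mul_mem (szT_mem hF) hg
    have f1 : (szT F * g) • ovPt F m none = ovPt F m none := by
      rw [mul_smul, ho1, szT_smul_zero]
    have f2 : (szT F * g) • ovPt F m (some (0, 0)) = ovPt F m (some (0, 0)) := by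
      rw [mul_smul, ho2, szT_smul_none]
    obtain ⟨t', ht'⟩ := two_point_stab hm hF hg' f1 f2
    have hg2 : g = szT F * szD F m t' := by
      rw [← ht', ← mul_assoc, szT_mul_self, one_mul]
    rw [hg2] at hcomm
    have h3 : szD F m t * szT F = szT F * szD F m t⁻¹ := by
      have := szT_mul_szD (F := F) (m := m) t⁻¹
      rw [inv_inv] at this
      exact this.symm
    rw [← mul_assoc, h3, mul_assoc, mul_assoc, ← szD_mul, ← szD_mul] at hcomm
    have h4 := szD_injective (mul_left_cancel hcomm)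
    have h5 : t * t = 1 := by
      have : t = t⁻¹ := by
        have h6 : t' * t = t' * t⁻¹ := by rw [h4, mul_comm]
        exact mul_left_cancel h6
      calc t * t = t * t⁻¹ := by rw [← this]
        _ = 1 := mul_inv_cancel t
    apply ht
    apply Units.ext
    have h6 : (t : F) * t = 1 := by
      have := congrArg (fun u : Fˣ => (u : F)) h5
      simpa using this
    have h7 : ((t : F) - 1) * ((t : F) - 1) = 0 := by
      linear_combination h6 + (1 - (t : F)) * h2
    have h8 : (t : F) - 1 = 0 := by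
      rcases mul_eq_zero.1 h7 with h | h <;> exact h
    rw [Units.val_one]
    linear_combination h8

/-- the centraliser of a non-trivial element with two fixed points is commutative -/
theorem sz_centralizer_comm_torus (hm : 1 ≤ m) (hF : Fintype.card F = 2 ^ (2 * m + 1))
    (x : Cfsg.Sz F m) (hx1 : x ≠ 1) {o1 o2 : Option (F × F)} (hne : o1 ≠ o2)
    (h1 : (x : Matrix.SpecialLinearGroup (Fin 4) F) • ovPt F m o1 = ovPt F m o1)
    (h2 : (x : Matrix.SpecialLinearGroup (Fin 4) F) • ovPt F m o2 = ovPt F m o2)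
    (g h : Cfsg.Sz F m) (hg : g * x = x * g) (hh : h * x = x * h) : g * h = h * g := by
  obtain ⟨k, hk, e1, e2⟩ := exists_smul_base hF hne
  set k' : Cfsg.Sz F m := ⟨k, hk⟩ with hk'
  -- `x' = k⁻¹ x k` is a torus element
  have hx'mem : k⁻¹ * (x : Matrix.SpecialLinearGroup (Fin 4) F) * k ∈ Cfsg.Sz F m :=
    (k'⁻¹ * x * k').2
  have f1 : (k⁻¹ * (x : Matrix.SpecialLinearGroup (Fin 4) F) * k) • ovPt F m none =
      ovPt F m none := by
    rw [mul_smul, mul_smul, e1, h1, ← e1, inv_smul_smul]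
  have f2 : (k⁻¹ * (x : Matrix.SpecialLinearGroup (Fin 4) F) * k) • ovPt F m (some (0, 0)) =
      ovPt F m (some (0, 0)) := by
    rw [mul_smul, mul_smul, e2, h2, ← e2, inv_smul_smul]
  obtain ⟨t, ht⟩ := two_point_stab hm hF hx'mem f1 f2
  have ht1 : t ≠ 1 := by
    intro h
    apply hx1
    rw [h, szD_one] at ht
    apply Subtype.ext
    have : (x : Matrix.SpecialLinearGroup (Fin 4) F) =
        k * (k⁻¹ * (x : Matrix.SpecialLinearGroup (Fin 4) F) * k) * k⁻¹ := by group
    rw [this, ht]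
    show k * 1 * k⁻¹ = 1
    group
  have key : ∀ g : Cfsg.Sz F m, g * x = x * g →
      ∃ t' : Fˣ, k⁻¹ * (g : Matrix.SpecialLinearGroup (Fin 4) F) * k = szD F m t' := by
    intro g hg
    have hg' : (g : Matrix.SpecialLinearGroup (Fin 4) F) * x = x * g :=
      congrArg (fun y : Cfsg.Sz F m => (y : Matrix.SpecialLinearGroup (Fin 4) F)) hg
    apply comm_szD_mem_torus hm hF ht1 (k'⁻¹ * g * k').2
    rw [← ht]
    calc k⁻¹ * (g : Matrix.SpecialLinearGroup (Fin 4) F) * k *
          (k⁻¹ * (x : Matrix.SpecialLinearGroup (Fin 4) F) * k)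
        = k⁻¹ * ((g : Matrix.SpecialLinearGroup (Fin 4) F) * x) * k := by group
      _ = k⁻¹ * ((x : Matrix.SpecialLinearGroup (Fin 4) F) * g) * k := by rw [hg']
      _ = k⁻¹ * (x : Matrix.SpecialLinearGroup (Fin 4) F) * k *
          (k⁻¹ * (g : Matrix.SpecialLinearGroup (Fin 4) F) * k) := by group
  obtain ⟨t1, ht1'⟩ := key g hg
  obtain ⟨t2, ht2'⟩ := key h hh
  apply Subtype.ext
  show (g : Matrix.SpecialLinearGroup (Fin 4) F) * h = h * g
  have hc : (k⁻¹ * (g : Matrix.SpecialLinearGroup (Fin 4) F) * k) *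
      (k⁻¹ * (h : Matrix.SpecialLinearGroup (Fin 4) F) * k) =
      (k⁻¹ * (h : Matrix.SpecialLinearGroup (Fin 4) F) * k) *
      (k⁻¹ * (g : Matrix.SpecialLinearGroup (Fin 4) F) * k) := by
    rw [ht1', ht2', ← szD_mul, ← szD_mul, mul_comm]
  calc (g : Matrix.SpecialLinearGroup (Fin 4) F) * h
      = k * ((k⁻¹ * (g : Matrix.SpecialLinearGroup (Fin 4) F) * k) *
          (k⁻¹ * (h : Matrix.SpecialLinearGroup (Fin 4) F) * k)) * k⁻¹ := by group
    _ = k * ((k⁻¹ * (h : Matrix.SpecialLinearGroup (Fin 4) F) * k) *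
          (k⁻¹ * (g : Matrix.SpecialLinearGroup (Fin 4) F) * k)) * k⁻¹ := by rw [hc]
    _ = h * g := by group

end Cfsg.Agent.Helper6
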