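import Cfsg.Agent.Helper6.Sz33

/-!
# The Suzuki group is a CN-group: assembly
-/

set_option autoImplicit false

namespace Cfsg.Agent.Helper6

open scoped Pointwise

variable {F : Type*} [Field F] [Fintype F] {m : ℕ}

/-- an element of odd prime order dividing `q - 1` fixes two points of the ovoid -/
theorem exists_two_fixed_of_dvd {p : ℕ}
    [hp : Fact p.Prime] (hp2 : p ≠ 2) (hq : p ∣ Fintype.card F - 1) (x : Cfsg.Sz F m)
    (hx : orderOf x = p) : ∃ o1 o2 : Option (F × F), o1 ≠ o2 ∧
      (x : Matrix.SpecialLinearGroup (Fin 4) F) • ovPt F m o1 = ovPt F m o1 ∧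
      (x : Matrix.SpecialLinearGroup (Fin 4) F) • ovPt F m o2 = ovPt F m o2 := by
  have : Finite (Cfsg.suzukiOvoid F m) := by
    apply Nat.finite_of_card_ne_zero
    rw [card_suzukiOvoid]; omega
  have hxp : IsPGroup p (Subgroup.zpowers x) := by
    apply IsPGroup.of_card (n := 1)
    rw [Nat.card_zpowers, hx, pow_one]
  have hmod := hxp.card_modEq_card_fixedPoints (Cfsg.suzukiOvoid F m)
  rw [card_suzukiOvoid] at hmod
  have hq1 : 1 ≤ Fintype.card F := Fintype.card_pos
  have hqmod : Fintype.card F ≡ 1 [MOD p] := by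
    have := (Nat.modEq_iff_dvd' hq1).2 hq
    exact this.symm
  have h2mod : (Fintype.card F) ^ 2 + 1 ≡ 2 [MOD p] := by
    have := (hqmod.pow 2).add_right 1
    simpa using this
  have hN : 2 ≡ Nat.card (MulAction.fixedPoints (Subgroup.zpowers x) (Cfsg.suzukiOvoid F m))
      [MOD p] := h2mod.symm.trans hmod
  have hp3 : 3 ≤ p := by
    have := hp.out.two_le
    omega
  have hNge : 1 < Nat.card (MulAction.fixedPoints (Subgroup.zpowers x) (Cfsg.suzukiOvoid F m)) := by
    by_contra hlt
    have hle : Nat.card (MulAction.fixedPoints (Subgroup.zpowers x) (Cfsg.suzukiOvoid F m)) ≤ 1 := by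
      omega
    have h2lt : 2 < p := by omega
    have h2p : 2 % p = 2 := Nat.mod_eq_of_lt h2lt
    have hNp : Nat.card (MulAction.fixedPoints (Subgroup.zpowers x) (Cfsg.suzukiOvoid F m)) % p =
        Nat.card (MulAction.fixedPoints (Subgroup.zpowers x) (Cfsg.suzukiOvoid F m)) :=
      Nat.mod_eq_of_lt (by omega)
    unfold Nat.ModEq at hN
    rw [h2p, hNp] at hN
    omega
  have : Finite (MulAction.fixedPoints (Subgroup.zpowers x) (Cfsg.suzukiOvoid F m)) :=
    Finite.of_injective _ Subtype.val_injective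
  have hnt := Finite.one_lt_card_iff_nontrivial.1 hNge
  obtain ⟨a, b, hab⟩ := exists_pair_ne
    (MulAction.fixedPoints (Subgroup.zpowers x) (Cfsg.suzukiOvoid F m))
  obtain ⟨o1, ho1⟩ := exists_ovΩ (a : Cfsg.suzukiOvoid F m)
  obtain ⟨o2, ho2⟩ := exists_ovΩ (b : Cfsg.suzukiOvoid F m)
  refine ⟨o1, o2, ?_, ?_, ?_⟩
  · intro h
    apply hab
    apply Subtype.ext
    rw [ho1, ho2, h]
  · have := a.2 ⟨x, Subgroup.mem_zpowers x⟩
    rw [ho1] at this
    exact (smul_ovΩ_eq_iff x o1 o1).1 this
  · have := b.2 ⟨x, Subgroup.mem_zpowers x⟩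
    rw [ho2] at this
    exact (smul_ovΩ_eq_iff x o2 o2).1 this

theorem sz_prime_centralizer_nilpotent (hm : 1 ≤ m) (hF : Fintype.card F = 2 ^ (2 * m + 1))
    (x : Cfsg.Sz F m) {p : ℕ} (hp : p.Prime) (hx : orderOf x = p) :
    Group.IsNilpotent (Subgroup.centralizer ({x} : Set (Cfsg.Sz F m))) := by
  have : Finite (Cfsg.Sz F m) := inferInstance
  have : Fact p.Prime := ⟨hp⟩
  have hx1 : x ≠ 1 := by
    intro h
    rw [h, orderOf_one] at hx
    exact hp.one_lt.ne hx
  have hq2 : 2 ≤ Fintype.card F := Fintype.one_lt_card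
  have hdvd : p ∣ Nat.card (Cfsg.Sz F m) := by rw [← hx]; exact orderOf_dvd_natCard x
  rw [card_Sz hm hF] at hdvd
  by_cases hp2 : p = 2
  · subst hp2
    have hxp : IsPGroup 2 (Subgroup.zpowers x) := by
      apply IsPGroup.of_card (n := 1)
      rw [Nat.card_zpowers, hx, pow_one]
    obtain ⟨P, hP⟩ := hxp.exists_le_sylow
    have hle := sz_centralizer_two hm hF P x hx1 (hP (Subgroup.mem_zpowers x))
    have hpg : IsPGroup 2 (Subgroup.centralizer ({x} : Set (Cfsg.Sz F m))) := P.isPGroup'.to_le hle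
    exact hpg.isNilpotent
  · have hcomm : ∀ g h : Cfsg.Sz F m, g * x = x * g → h * x = x * h → g * h = h * g := by
      rcases (Nat.Prime.dvd_mul hp).1 hdvd with h | h
      · rcases (Nat.Prime.dvd_mul hp).1 h with h | h
        · exfalso
          have h1 : p ∣ Fintype.card F := hp.dvd_of_dvd_pow h
          rw [hF] at h1
          have h3 : p ∣ 2 := hp.dvd_of_dvd_pow h1
          exact hp2 ((Nat.prime_dvd_prime_iff_eq hp Nat.prime_two).1 h3)
        · intro g h' hg hh
          exact sz_centralizer_comm_singer hF hp2 h x hx g h' hg hh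
      · obtain ⟨o1, o2, hne, h1, h3⟩ := exists_two_fixed_of_dvd hp2 h x hx
        intro g h' hg hh
        exact sz_centralizer_comm_torus hm hF x hx1 hne h1 h3 g h' hg hh
    apply isNilpotent_of_forall_comm
    rintro ⟨a, ha⟩ ⟨b, hb⟩
    apply Subtype.ext
    exact hcomm a b (Subgroup.mem_centralizer_singleton_iff.1 ha)
      (Subgroup.mem_centralizer_singleton_iff.1 hb)

theorem sz_isCNGroup (hm : 1 ≤ m) (hF : Fintype.card F = 2 ^ (2 * m + 1)) :
    Cfsg.IsCNGroup (Cfsg.Sz F m) := by
  have : Finite (Cfsg.Sz F m) := inferInstance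
  intro g hg
  -- a power of `g` of prime order
  have hn1 : orderOf g ≠ 1 := fun h => hg (orderOf_eq_one_iff.1 h)
  have hn0 : orderOf g ≠ 0 := (orderOf_pos g).ne'
  set p := (orderOf g).minFac with hp
  have hpp : p.Prime := Nat.minFac_prime hn1
  have hpd : p ∣ orderOf g := Nat.minFac_dvd _
  set x := g ^ (orderOf g / p) with hx
  have hxo : orderOf x = p := orderOf_pow_orderOf_div hn0 hpd
  have hnil := sz_prime_centralizer_nilpotent hm hF x hpp hxo
  have hle : Subgroup.centralizer ({g} : Set (Cfsg.Sz F m)) ≤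
      Subgroup.centralizer ({x} : Set (Cfsg.Sz F m)) := by
    intro h hh
    rw [Subgroup.mem_centralizer_singleton_iff] at hh ⊢
    rw [hx]
    exact ((Commute.pow_right (show Commute h g from hh) _)).eq
  have hker : (Subgroup.inclusion hle).ker ≤
      Subgroup.center (Subgroup.centralizer ({g} : Set (Cfsg.Sz F m))) := by
    rw [(Subgroup.inclusion hle).ker_eq_bot_iff.2 (Subgroup.inclusion_injective hle)]
    exact bot_le
  exact Subgroup.isNilpotent_of_ker_le_center (Subgroup.inclusion hle) hker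

end Cfsg.Agent.Helper6
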