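import Cfsg.Agent.Helper6.Sz34

/-!
# Minimal covers of the Suzuki group are not made of nilpotent subgroups
-/

set_option autoImplicit false

namespace Cfsg.Agent.Helper6

open scoped Pointwise

/-- abstract replacement argument: two nilpotent members of a cover inside a proper subgroup `B`
can be replaced by `B`. -/
theorem no_min_nilpotent_cover {G : Type*} [Group G] (B : Subgroup G) (hB : B ≠ ⊤) (u d : G)
    (h1 : ∀ A : Subgroup G, Group.IsNilpotent A → u ∈ A → A ≤ B)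
    (h2 : ∀ A : Subgroup G, Group.IsNilpotent A → d ∈ A → A ≤ B)
    (h3 : ∀ A : Subgroup G, Group.IsNilpotent A → u ∈ A → d ∈ A → False) :
    ¬ ∃ 𝓐 : Finset (Subgroup G), ((∀ A ∈ 𝓐, A ≠ ⊤) ∧ (∀ g : G, ∃ A ∈ 𝓐, g ∈ A)) ∧
      (∀ 𝓑 : Finset (Subgroup G), (∀ A ∈ 𝓑, A ≠ ⊤) ∧ (∀ g : G, ∃ A ∈ 𝓑, g ∈ A) →
        𝓐.card ≤ 𝓑.card) ∧
      (∀ A ∈ 𝓐, Group.IsNilpotent A) := by
  classical
  rintro ⟨𝓐, ⟨hprop, hcov⟩, hmin, hnil⟩
  obtain ⟨A1, hA1, hu⟩ := hcov u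
  obtain ⟨A2, hA2, hd⟩ := hcov d
  have hne : A2 ≠ A1 := fun h => h3 A1 (hnil A1 hA1) hu (h ▸ hd)
  have hA1B := h1 A1 (hnil _ hA1) hu
  have hA2B := h2 A2 (hnil _ hA2) hd
  set 𝓑 : Finset (Subgroup G) := insert B ((𝓐.erase A1).erase A2) with h𝓑
  have hA2' : A2 ∈ 𝓐.erase A1 := Finset.mem_erase.2 ⟨hne, hA2⟩
  have hc1 : (𝓐.erase A1).card = 𝓐.card - 1 := Finset.card_erase_of_mem hA1
  have hc2 : ((𝓐.erase A1).erase A2).card = (𝓐.erase A1).card - 1 := Finset.card_erase_of_mem hA2'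
  have hpos : 0 < (𝓐.erase A1).card := Finset.card_pos.2 ⟨A2, hA2'⟩
  have hcard : 𝓑.card < 𝓐.card := by
    rw [h𝓑]
    have := Finset.card_insert_le B ((𝓐.erase A1).erase A2)
    have hpos' : 0 < 𝓐.card := Finset.card_pos.2 ⟨A1, hA1⟩
    omega
  have hB' : (∀ A ∈ 𝓑, A ≠ ⊤) ∧ (∀ g : G, ∃ A ∈ 𝓑, g ∈ A) := by
    constructor
    · intro A hA
      rcases Finset.mem_insert.1 hA with rfl | hA
      · exact hB
      · exact hprop A (Finset.mem_of_mem_erase (Finset.mem_of_mem_erase hA))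
    · intro g
      obtain ⟨A, hA, hg⟩ := hcov g
      by_cases e1 : A = A1
      · exact ⟨B, Finset.mem_insert_self _ _, hA1B (e1 ▸ hg)⟩
      · by_cases e2 : A = A2
        · exact ⟨B, Finset.mem_insert_self _ _, hA2B (e2 ▸ hg)⟩
        · exact ⟨A, Finset.mem_insert_of_mem
            (Finset.mem_erase.2 ⟨e2, Finset.mem_erase.2 ⟨e1, hA⟩⟩), hg⟩
  exact absurd (hmin 𝓑 hB') (not_le.2 hcard)

variable {F : Type*} [Field F] [Fintype F] {m : ℕ}

/-- a nilpotent subgroup containing a non-trivial translation consists of translations -/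
theorem nilpotent_le_szQ (hm : 1 ≤ m) (hF : Fintype.card F = 2 ^ (2 * m + 1))
    (A : Subgroup (Cfsg.Sz F m)) (hA : Group.IsNilpotent A) (x : Cfsg.Sz F m) (hxA : x ∈ A)
    (hxQ : x ∈ szQ hm hF) (hx1 : x ≠ 1) : A ≤ szQ hm hF := by
  have : Finite (Cfsg.Sz F m) := inferInstance
  have hQp : IsPGroup 2 (szQ hm hF) := by
    apply IsPGroup.of_card (n := 2 * (2 * m + 1))
    rw [card_szQ, hF, ← pow_mul, mul_comm]
  let QS : Sylow 2 (Cfsg.Sz F m) := hQp.toSylow (szQ_index_odd hm hF)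
  have hQS : (QS : Subgroup (Cfsg.Sz F m)) = szQ hm hF := rfl
  have hnt : Nontrivial A := ⟨⟨⟨x, hxA⟩, 1, fun h => hx1 (congrArg Subtype.val h)⟩⟩
  have hcen := Group.IsNilpotent.center_ne_bot A
  obtain ⟨⟨z, hzc⟩, hz1⟩ := (Subgroup.ne_bot_iff_exists_ne_one).1 hcen
  have hz1' : (z : Cfsg.Sz F m) ≠ 1 := by
    intro h
    apply hz1
    apply Subtype.ext
    apply Subtype.ext
    exact h
  -- `z` commutes with `x`, hence is a translation
  have hzx : (z : Cfsg.Sz F m) * x = x * z := by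
    have := Subgroup.mem_center_iff.1 hzc ⟨x, hxA⟩
    have h' := congrArg (fun a : A => (a : Cfsg.Sz F m)) this
    exact h'.symm
  have hzQ : (z : Cfsg.Sz F m) ∈ szQ hm hF := by
    rw [← hQS]
    apply sz_centralizer_two hm hF QS x hx1 (by rw [hQS]; exact hxQ)
    exact Subgroup.mem_centralizer_singleton_iff.2 hzx
  intro a ha
  rw [← hQS]
  apply sz_centralizer_two hm hF QS (z : Cfsg.Sz F m) hz1' (by rw [hQS]; exact hzQ)
  rw [Subgroup.mem_centralizer_singleton_iff]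
  have := Subgroup.mem_center_iff.1 hzc ⟨a, ha⟩
  exact congrArg (fun a : A => (a : Cfsg.Sz F m)) this

/-- a nilpotent subgroup containing a non-trivial torus element lies in the torus -/
theorem nilpotent_le_torus (hm : 1 ≤ m) (hF : Fintype.card F = 2 ^ (2 * m + 1))
    (A : Subgroup (Cfsg.Sz F m)) (hA : Group.IsNilpotent A) {t : Fˣ} (ht : t ≠ 1)
    (hdA : (⟨szD F m t, szD_mem hF t⟩ : Cfsg.Sz F m) ∈ A) :
    ∀ a ∈ A, ∃ t' : Fˣ, (a : Matrix.SpecialLinearGroup (Fin 4) F) = szD F m t' := by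
  have hd1 : (⟨szD F m t, szD_mem hF t⟩ : Cfsg.Sz F m) ≠ 1 := by
    intro h
    apply ht
    have h' : szD F m t = 1 := congrArg Subtype.val h
    rw [← szD_one (F := F) (m := m)] at h'
    exact szD_injective h'
  have hnt : Nontrivial A := ⟨⟨⟨_, hdA⟩, 1, fun h => hd1 (congrArg Subtype.val h)⟩⟩
  have hcen := Group.IsNilpotent.center_ne_bot A
  obtain ⟨⟨z, hzc⟩, hz1⟩ := (Subgroup.ne_bot_iff_exists_ne_one).1 hcen
  have hz1' : (z : Cfsg.Sz F m) ≠ 1 := by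
    intro h
    apply hz1
    apply Subtype.ext
    apply Subtype.ext
    exact h
  have hzd : ((z : Cfsg.Sz F m) : Matrix.SpecialLinearGroup (Fin 4) F) * szD F m t =
      szD F m t * ((z : Cfsg.Sz F m) : Matrix.SpecialLinearGroup (Fin 4) F) := by
    have := Subgroup.mem_center_iff.1 hzc ⟨_, hdA⟩
    have h' := congrArg (fun a : A => ((a : Cfsg.Sz F m) :
      Matrix.SpecialLinearGroup (Fin 4) F)) this
    exact h'.symm
  obtain ⟨tz, htz⟩ := comm_szD_mem_torus hm hF ht (z : Cfsg.Sz F m).2 hzd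
  have htz1 : tz ≠ 1 := by
    intro h
    apply hz1'
    apply Subtype.ext
    rw [htz, h, szD_one]
    rfl
  intro a ha
  apply comm_szD_mem_torus hm hF htz1 a.2
  rw [← htz]
  have := Subgroup.mem_center_iff.1 hzc ⟨a, ha⟩
  exact congrArg (fun a : A => ((a : Cfsg.Sz F m) :
    Matrix.SpecialLinearGroup (Fin 4) F)) this

theorem sz_model_no_min_nilpotent_cover (hm : 1 ≤ m) (hF : Fintype.card F = 2 ^ (2 * m + 1))
    {G' : Type*} [Group G'] (e : Cfsg.Sz F m ≃* G') :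
    ¬ ∃ 𝓐 : Finset (Subgroup G'), ((∀ A ∈ 𝓐, A ≠ ⊤) ∧ (∀ g : G', ∃ A ∈ 𝓐, g ∈ A)) ∧
      (∀ 𝓑 : Finset (Subgroup G'), (∀ A ∈ 𝓑, A ≠ ⊤) ∧ (∀ g : G', ∃ A ∈ 𝓑, g ∈ A) →
        𝓐.card ≤ 𝓑.card) ∧
      (∀ A ∈ 𝓐, Group.IsNilpotent A) := by
  obtain ⟨t, ht⟩ := exists_unit_ne_one hm hF
  set u : Cfsg.Sz F m := (qU hm hF 1 0 : Cfsg.Sz F m) with hu
  set d : Cfsg.Sz F m := ⟨szD F m t, szD_mem hF t⟩ with hd
  have huQ : u ∈ szQ hm hF := (qU hm hF 1 0).2
  have hu1 : u ≠ 1 := by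
    intro h
    have h1 : qU hm hF 1 0 = 1 := Subtype.ext h
    exact one_ne_zero ((qU_eq_one_iff hm hF 1 0).1 h1).1
  -- pulling back a nilpotent subgroup
  have pull : ∀ A' : Subgroup G', Group.IsNilpotent A' →
      Group.IsNilpotent (A'.map (e.symm : G' →* Cfsg.Sz F m)) := by
    intro A' hA'
    exact Group.nilpotent_of_mulEquiv (e.symm.subgroupMap A')
  have memA : ∀ (A' : Subgroup G') (x : Cfsg.Sz F m),
      x ∈ A'.map (e.symm : G' →* Cfsg.Sz F m) ↔ e x ∈ A' := by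
    intro A' x
    constructor
    · rintro ⟨y, hy, rfl⟩
      show e (e.symm y) ∈ A'
      rw [MulEquiv.apply_symm_apply]; exact hy
    · intro h
      exact ⟨e x, h, e.symm_apply_apply x⟩
  have toB : ∀ (A' : Subgroup G'), A'.map (e.symm : G' →* Cfsg.Sz F m) ≤ szB F m →
      A' ≤ (szB F m).map (e : Cfsg.Sz F m →* G') := by
    intro A' hle a' ha'
    refine ⟨e.symm a', hle ⟨a', ha', rfl⟩, ?_⟩
    show e (e.symm a') = a'
    exact e.apply_symm_apply a'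
  have hBtop : (szB F m).map (e : Cfsg.Sz F m →* G') ≠ ⊤ := by
    intro h
    apply szB_ne_top (m := m) hF
    rw [eq_top_iff]
    intro x _
    have hx : e x ∈ (szB F m).map (e : Cfsg.Sz F m →* G') := by rw [h]; trivial
    exact (Subgroup.mem_map_iff_mem (f := (e : Cfsg.Sz F m →* G')) e.injective).1 hx
  apply no_min_nilpotent_cover ((szB F m).map (e : Cfsg.Sz F m →* G')) hBtop (e u) (e d)
  · intro A' hA' huA'
    apply toB
    exact (nilpotent_le_szQ hm hF _ (pull A' hA') u ((memA A' u).2 huA') huQ hu1).trans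
      (szQ_le_szB hm hF)
  · intro A' hA' hdA'
    apply toB
    intro a ha
    obtain ⟨t', ht'⟩ := nilpotent_le_torus hm hF _ (pull A' hA') ht ((memA A' d).2 hdA') a ha
    rw [mem_szB_iff, ht', szD_smul_none]
  · intro A' hA' huA' hdA'
    have hle := nilpotent_le_szQ hm hF _ (pull A' hA') u ((memA A' u).2 huA') huQ hu1
    obtain ⟨a, b, hab⟩ := hle ((memA A' d).2 hdA')
    have hab' : szD F m t = szU F m a b := hab
    have h1 : szD F m t • ovPt F m (some (0, 0)) = ovPt F m (some (0, 0)) := szD_smul_zero hF t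
    rw [hab', szU_smul_some hF] at h1
    have h3 := Option.some_injective _ (ovPt_injective h1)
    rw [Prod.mk.injEq] at h3
    obtain ⟨ha, hb⟩ := h3
    have ha0 : a = 0 := by linear_combination ha
    have hb0 : b = 0 := by
      rw [ha0] at hb
      linear_combination hb
    rw [ha0, hb0, szU_zero hm hF, ← szD_one (F := F) (m := m)] at hab'
    exact ht (szD_injective hab')

theorem lieSz_no_min_nilpotent_cover (hm : 1 ≤ m) (hF : Fintype.card F = 2 ^ (2 * m + 1)) :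
    ¬ ∃ 𝓐 : Finset (Subgroup (Cfsg.Lie.Sz F (2 ^ (m + 1)))),
      ((∀ A ∈ 𝓐, A ≠ ⊤) ∧ (∀ g : Cfsg.Lie.Sz F (2 ^ (m + 1)), ∃ A ∈ 𝓐, g ∈ A)) ∧
      (∀ 𝓑 : Finset (Subgroup (Cfsg.Lie.Sz F (2 ^ (m + 1)))),
        (∀ A ∈ 𝓑, A ≠ ⊤) ∧ (∀ g : Cfsg.Lie.Sz F (2 ^ (m + 1)), ∃ A ∈ 𝓑, g ∈ A) →
        𝓐.card ≤ 𝓑.card) ∧
      (∀ A ∈ 𝓐, Group.IsNilpotent A) :=
  sz_model_no_min_nilpotent_cover hm hF (lieSzEquiv hm hF)

end Cfsg.Agent.Helper6
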