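import Cfsg.Agent.Helper6.Sz35
import Cfsg.Agent.Helper6.Singer3

/-!
# Elements of odd prime order in the Suzuki group have no non-zero fixed vector
-/

set_option autoImplicit false

namespace Cfsg.Agent.Helper6

open scoped Pointwise

variable {F : Type*} [Field F] [Fintype F] {m : ℕ}

/-- a non-trivial element with two fixed points is conjugate to a torus element -/
theorem exists_conj_torus (hm : 1 ≤ m) (hF : Fintype.card F = 2 ^ (2 * m + 1))
    (x : Cfsg.Sz F m) (hx1 : x ≠ 1) {o1 o2 : Option (F × F)} (hne : o1 ≠ o2)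
    (h1 : (x : Matrix.SpecialLinearGroup (Fin 4) F) • ovPt F m o1 = ovPt F m o1)
    (h2 : (x : Matrix.SpecialLinearGroup (Fin 4) F) • ovPt F m o2 = ovPt F m o2) :
    ∃ (k : Matrix.SpecialLinearGroup (Fin 4) F) (t : Fˣ), t ≠ 1 ∧
      k⁻¹ * (x : Matrix.SpecialLinearGroup (Fin 4) F) * k = szD F m t := by
  obtain ⟨k, hk, e1, e2⟩ := exists_smul_base hF hne
  set k' : Cfsg.Sz F m := ⟨k, hk⟩ with hk'
  have hx'mem : k⁻¹ * (x : Matrix.SpecialLinearGroup (Fin 4) F) * k ∈ Cfsg.Sz F m :=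
    (k'⁻¹ * x * k').2
  have f1 : (k⁻¹ * (x : Matrix.SpecialLinearGroup (Fin 4) F) * k) • ovPt F m none =
      ovPt F m none := by
    rw [mul_smul, mul_smul, e1, h1, ← e1, inv_smul_smul]
  have f2 : (k⁻¹ * (x : Matrix.SpecialLinearGroup (Fin 4) F) * k) • ovPt F m (some (0, 0)) =
      ovPt F m (some (0, 0)) := by
    rw [mul_smul, mul_smul, e2, h2, ← e2, inv_smul_smul]
  obtain ⟨t, ht⟩ := two_point_stab hm hF hx'mem f1 f2
  refine ⟨k, t, ?_, ht⟩
  intro h
  apply hx1
  rw [h, szD_one] at ht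
  apply Subtype.ext
  have : (x : Matrix.SpecialLinearGroup (Fin 4) F) =
      k * (k⁻¹ * (x : Matrix.SpecialLinearGroup (Fin 4) F) * k) * k⁻¹ := by group
  rw [this, ht]
  show k * 1 * k⁻¹ = 1
  group

/-- a non-trivial torus element has no non-zero fixed vector -/
theorem szD_no_fixed_vector (hF : Fintype.card F = 2 ^ (2 * m + 1)) {t : Fˣ} (ht : t ≠ 1)
    (w : Fin 4 → F) (hw : (szD F m t : Matrix (Fin 4) (Fin 4) F).mulVec w = w) : w = 0 := by
  have ht' : (t : F) ≠ 1 := fun h => ht (Units.ext h)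
  have hc1 : (t : F) ^ 2 ^ m ≠ 1 := by
    intro h
    apply ht'
    have := pow_r_sigma (m := m) hF (t : F)
    rw [h, one_pow] at this
    exact this.symm
  have hc0 : (t : F) ^ (2 ^ m + 1) ≠ 1 := fun h => ht' (eq_one_of_pow_r_succ hF h)
  have hw' : (dMat (2 ^ m) (t : F)).mulVec w = w := hw
  unfold dMat at hw'
  have key : ∀ (c x : F), c ≠ 1 → c * x = x → x = 0 := by
    intro c x hc hx
    have : (c - 1) * x = 0 := by rw [sub_mul, one_mul, hx, sub_self]
    rcases mul_eq_zero.1 this with h | h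
    · exact absurd (sub_eq_zero.1 h) hc
    · exact h
  ext i
  have hi := congrFun hw' i
  rw [Matrix.mulVec_diagonal] at hi
  fin_cases i
  · exact key _ _ hc0 (by simpa using hi)
  · exact key _ _ hc1 (by simpa using hi)
  · refine key _ _ (fun h => hc1 ?_) (by simpa using hi)
    exact inv_eq_one.1 h
  · refine key _ _ (fun h => hc0 ?_) (by simpa using hi)
    exact inv_eq_one.1 h

theorem sz_odd_prime_no_fixed_vector (hm : 1 ≤ m) (hF : Fintype.card F = 2 ^ (2 * m + 1))
    (x : Cfsg.Sz F m) {p : ℕ} (hp : p.Prime) (hp2 : p ≠ 2) (hx : orderOf x = p)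
    (w : Fin 4 → F)
    (hw : ((x : Matrix.SpecialLinearGroup (Fin 4) F) : Matrix (Fin 4) (Fin 4) F).mulVec w = w) :
    w = 0 := by
  have : Finite (Cfsg.Sz F m) := inferInstance
  have : Fact p.Prime := ⟨hp⟩
  have hx1 : x ≠ 1 := by
    intro h
    rw [h, orderOf_one] at hx
    exact hp.one_lt.ne hx
  have hdvd : p ∣ Nat.card (Cfsg.Sz F m) := by rw [← hx]; exact orderOf_dvd_natCard x
  rw [card_Sz hm hF] at hdvd
  rcases (Nat.Prime.dvd_mul hp).1 hdvd with h | h
  · rcases (Nat.Prime.dvd_mul hp).1 h with h | h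
    · exfalso
      have h1 : p ∣ Fintype.card F := hp.dvd_of_dvd_pow h
      rw [hF] at h1
      have h3 : p ∣ 2 := hp.dvd_of_dvd_pow h1
      exact hp2 ((Nat.prime_dvd_prime_iff_eq hp Nat.prime_two).1 h3)
    · have : CharP F 2 :=
        CharTwo.of_one_ne_zero_of_two_eq_zero one_ne_zero (two_eq_zero_of_card hF)
      let ι : Cfsg.Sz F m →* GL (Fin 4) F :=
        (Matrix.SpecialLinearGroup.toGL).comp (Cfsg.Sz F m).subtype
      have hι : Function.Injective ι :=
        Matrix.SpecialLinearGroup.toGL_injective.comp (Cfsg.Sz F m).subtype_injective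
      have hx' : orderOf (ι x) = p := by rw [orderOf_injective ι hι, hx]
      exact gl4_no_fixed_vector hp2 h (ι x) hx' w hw
  · obtain ⟨o1, o2, hne, h1, h3⟩ := exists_two_fixed_of_dvd hp2 h x hx
    obtain ⟨k, t, ht, hk⟩ := exists_conj_torus hm hF x hx1 hne h1 h3
    set w' : Fin 4 → F := ((k⁻¹ : Matrix.SpecialLinearGroup (Fin 4) F) :
      Matrix (Fin 4) (Fin 4) F).mulVec w with hw'
    have hfix : (szD F m t : Matrix (Fin 4) (Fin 4) F).mulVec w' = w' := by
      rw [← hk, hw']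
      simp only [Matrix.SpecialLinearGroup.coe_mul]
      rw [Matrix.mulVec_mulVec, Matrix.mul_assoc, Matrix.mul_assoc,
        ← Matrix.SpecialLinearGroup.coe_mul k, mul_inv_cancel, Matrix.SpecialLinearGroup.coe_one,
        Matrix.mul_one, ← Matrix.mulVec_mulVec, hw]
    have hw'0 := szD_no_fixed_vector hF ht w' hfix
    have : w = ((k : Matrix.SpecialLinearGroup (Fin 4) F) :
        Matrix (Fin 4) (Fin 4) F).mulVec w' := by
      rw [hw', Matrix.mulVec_mulVec, ← Matrix.SpecialLinearGroup.coe_mul, mul_inv_cancel,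
        Matrix.SpecialLinearGroup.coe_one, Matrix.one_mulVec]
    rw [this, hw'0, Matrix.mulVec_zero]

end Cfsg.Agent.Helper6
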