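import Cfsg.Agent.Helper6.Sz36

/-!
# Semidirect products with a fixed-point-free elementary abelian kernel: element orders
-/

set_option autoImplicit false

namespace Cfsg.Agent.Helper6

open SemidirectProduct

section abstract

variable {N G : Type*} [Group N] [Group G] (φ : G →* MulAut N)

theorem semidirect_order_aux (hN2 : ∀ n : N, n * n = 1) (hNc : ∀ a b : N, a * b = b * a)
    (hfpf : ∀ (g : G) (p : ℕ), p.Prime → p ≠ 2 → orderOf g = p → ∀ n : N, φ g n = n → n = 1)
    {r s : ℕ} (hr : r.Prime) (hs : s.Prime) (hrs : r ≠ s)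
    (y : N ⋊[φ] G) (hy : orderOf y = r * s) (hg : orderOf y.right = r) : False := by
  set z := y ^ r with hz
  have hzr : z.right = 1 := by
    have h1 : z.right = y.right ^ r := by
      rw [hz, ← rightHom_eq_right, map_pow]
    rw [h1, ← hg, pow_orderOf_eq_one]
  have hzo : orderOf z = s := by
    rw [hz, orderOf_pow' y hr.ne_zero, hy, Nat.gcd_mul_right_left, Nat.mul_div_cancel_left _ hr.pos]
  have hzz : z * z = 1 := by
    ext
    · rw [mul_left, hzr, map_one, MulAut.one_apply, hN2, one_left]
    · rw [mul_right, hzr, mul_one, one_right]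
  have hs2 : s = 2 := by
    have h1 : orderOf z ∣ 2 := orderOf_dvd_of_pow_eq_one (by rw [pow_two, hzz])
    rw [hzo] at h1
    exact (Nat.prime_dvd_prime_iff_eq hs Nat.prime_two).1 h1
  have hr2 : r ≠ 2 := fun h => hrs (h.trans hs2.symm)
  have hz1 : z.left ≠ 1 := by
    intro h
    have : z = 1 := by
      ext
      · rw [h, one_left]
      · rw [hzr, one_right]
    rw [this, orderOf_one] at hzo
    exact hs.one_lt.ne hzo
  have hcomm : y * z = z * y := by
    rw [hz, ← pow_succ', ← pow_succ]
  have hl := congrArg SemidirectProduct.left hcomm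
  rw [mul_left, mul_left, hzr, map_one, MulAut.one_apply, hNc z.left y.left] at hl
  have hfix : φ y.right z.left = z.left := mul_left_cancel hl
  exact hz1 (hfpf y.right r hr hr2 hg z.left hfix)

theorem semidirect_order_rs (hN2 : ∀ n : N, n * n = 1) (hNc : ∀ a b : N, a * b = b * a)
    (hfpf : ∀ (g : G) (p : ℕ), p.Prime → p ≠ 2 → orderOf g = p → ∀ n : N, φ g n = n → n = 1)
    {r s : ℕ} (hr : r.Prime) (hs : s.Prime) (hrs : r ≠ s)
    (y : N ⋊[φ] G) (hy : orderOf y = r * s) : ∃ x : G, orderOf x = r * s := by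
  have hdvd : orderOf y.right ∣ r * s := by
    rw [← hy, ← rightHom_eq_right]
    exact orderOf_map_dvd _ y
  obtain ⟨k1, k2, hk1, hk2, hk⟩ := (Nat.dvd_mul).1 hdvd
  rcases (Nat.dvd_prime hr).1 hk1 with h1 | h1 <;> rcases (Nat.dvd_prime hs).1 hk2 with h2 | h2
  · -- order 1
    exfalso
    rw [h1, h2, mul_one] at hk
    have hg1 : y.right = 1 := orderOf_eq_one_iff.1 hk.symm
    have hyy : y * y = 1 := by
      ext
      · rw [mul_left, hg1, map_one, MulAut.one_apply, hN2, one_left]
      · rw [mul_right, hg1, mul_one, one_right]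
    have h3 : orderOf y ∣ 2 := orderOf_dvd_of_pow_eq_one (by rw [pow_two, hyy])
    rw [hy] at h3
    have h4 := Nat.le_of_dvd (by norm_num) h3
    have := hr.two_le
    have := hs.two_le
    nlinarith
  · exfalso
    rw [h1, h2, one_mul] at hk
    exact semidirect_order_aux φ hN2 hNc hfpf hs hr hrs.symm y (by rw [hy, mul_comm]) hk.symm
  · exfalso
    rw [h1, h2, mul_one] at hk
    exact semidirect_order_aux φ hN2 hNc hfpf hr hs hrs y hy hk.symm
  · exact ⟨y.right, by rw [← hk, h1, h2]⟩

end abstract

end Cfsg.Agent.Helper6
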