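import Cfsg.Agent.Helper6.Sz37
import Cfsg.Agent.Helper6.Sz26

/-!
# Split extensions of the Suzuki group by powers of its natural module
-/

set_option autoImplicit false

namespace Cfsg.Agent.Helper6

open SemidirectProduct

universe u

variable {F : Type u} [Field F] [Fintype F] {m : ℕ}

/-- the direct sum of `k` copies of the natural module, written multiplicatively -/
abbrev szMod (F : Type u) (k : ℕ) : Type u := Multiplicative (Fin k → Fin 4 → F)

/-- the automorphism of the module induced by a matrix of determinant one -/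
def szModAut (k : ℕ) (g : Matrix.SpecialLinearGroup (Fin 4) F) : MulAut (szMod F k) where
  toFun v := Multiplicative.ofAdd
    (fun i => (g : Matrix (Fin 4) (Fin 4) F).mulVec (Multiplicative.toAdd v i))
  invFun v := Multiplicative.ofAdd
    (fun i => ((g⁻¹ : Matrix.SpecialLinearGroup (Fin 4) F) :
      Matrix (Fin 4) (Fin 4) F).mulVec (Multiplicative.toAdd v i))
  left_inv v := by
    apply Multiplicative.toAdd.injective
    funext i
    simp only [toAdd_ofAdd, Matrix.mulVec_mulVec]
    rw [← Matrix.SpecialLinearGroup.coe_mul, inv_mul_cancel,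
      Matrix.SpecialLinearGroup.coe_one, Matrix.one_mulVec]
  right_inv v := by
    apply Multiplicative.toAdd.injective
    funext i
    simp only [toAdd_ofAdd, Matrix.mulVec_mulVec]
    rw [← Matrix.SpecialLinearGroup.coe_mul, mul_inv_cancel,
      Matrix.SpecialLinearGroup.coe_one, Matrix.one_mulVec]
  map_mul' v w := by
    apply Multiplicative.toAdd.injective
    funext i
    simp only [toAdd_ofAdd, toAdd_mul, Pi.add_apply, Matrix.mulVec_add]

theorem szModAut_apply (k : ℕ) (g : Matrix.SpecialLinearGroup (Fin 4) F) (v : szMod F k) :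
    szModAut k g v = Multiplicative.ofAdd
      (fun i => (g : Matrix (Fin 4) (Fin 4) F).mulVec (Multiplicative.toAdd v i)) := rfl

/-- the action of the Suzuki group on the module -/
def szModHom (F : Type u) [Field F] [Fintype F] (m k : ℕ) : Cfsg.Sz F m →* MulAut (szMod F k) where
  toFun g := szModAut k (g : Matrix.SpecialLinearGroup (Fin 4) F)
  map_one' := by
    refine MulEquiv.ext fun v => ?_
    rw [szModAut_apply, MulAut.one_apply]
    apply Multiplicative.toAdd.injective
    funext i
    simp
  map_mul' a b := by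
    refine MulEquiv.ext fun v => ?_
    rw [MulAut.mul_apply, szModAut_apply, szModAut_apply, szModAut_apply]
    apply Multiplicative.toAdd.injective
    funext i
    simp only [toAdd_ofAdd, Matrix.mulVec_mulVec, Subgroup.coe_mul,
      Matrix.SpecialLinearGroup.coe_mul]

theorem szModHom_apply (k : ℕ) (g : Cfsg.Sz F m) (v : szMod F k) :
    szModHom F m k g v = Multiplicative.ofAdd
      (fun i => ((g : Matrix.SpecialLinearGroup (Fin 4) F) :
        Matrix (Fin 4) (Fin 4) F).mulVec (Multiplicative.toAdd v i)) := rfl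

theorem szMod_sq (hF : Fintype.card F = 2 ^ (2 * m + 1)) (k : ℕ) (v : szMod F k) : v * v = 1 := by
  apply Multiplicative.toAdd.injective
  funext i j
  have h2 : (2 : F) = 0 := two_eq_zero_of_card hF
  simp only [toAdd_mul, Pi.add_apply, toAdd_one, Pi.zero_apply]
  rw [← two_mul, h2, zero_mul]

theorem szMod_comm (k : ℕ) (a b : szMod F k) : a * b = b * a := mul_comm a b

theorem szModHom_fpf (hm : 1 ≤ m) (hF : Fintype.card F = 2 ^ (2 * m + 1)) (k : ℕ)
    (g : Cfsg.Sz F m) (p : ℕ) (hp : p.Prime) (hp2 : p ≠ 2) (hg : orderOf g = p)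
    (v : szMod F k) (hv : szModHom F m k g v = v) : v = 1 := by
  apply Multiplicative.toAdd.injective
  funext i
  rw [szModHom_apply] at hv
  have h1 := congrFun (congrArg Multiplicative.toAdd hv) i
  simp only [toAdd_ofAdd] at h1
  have := sz_odd_prime_no_fixed_vector hm hF g hp hp2 hg _ h1
  rw [this]
  rfl

theorem card_szMod (k : ℕ) : Nat.card (szMod F k) = (Fintype.card F ^ 4) ^ k := by
  show Nat.card (Fin k → Fin 4 → F) = _
  rw [Nat.card_eq_fintype_card]
  simp

/-- a finite group has a model in `Type` -/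
theorem exists_type0_model (H : Type u) [Group H] [Finite H] :
    ∃ (H' : Type) (_ : Group H') (_ : Fintype H'), Nonempty (H' ≃* H) := by
  classical
  have : Fintype H := Fintype.ofFinite H
  let e : H ≃ Fin (Fintype.card H) := Fintype.equivFin H
  let _ : Group (Fin (Fintype.card H)) := e.symm.group
  exact ⟨Fin (Fintype.card H), e.symm.group, inferInstance, ⟨e.symm.mulEquiv⟩⟩

theorem sz_same_prime_graph (hm : 1 ≤ m) (hF : Fintype.card F = 2 ^ (2 * m + 1)) (N : ℕ) :
    ∃ (H : Type) (_ : Group H) (_ : Fintype H), N < Fintype.card H ∧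
      ((∀ r : ℕ, r.Prime → (r ∣ Nat.card (Cfsg.Sz F m) ↔ r ∣ Nat.card H)) ∧
      (∀ r s : ℕ, r.Prime → s.Prime → r ≠ s →
        ((∃ x : Cfsg.Sz F m, orderOf x = r * s) ↔ (∃ y : H, orderOf y = r * s)))) := by
  classical
  have hfin : Finite (szMod F (N + 1) ⋊[szModHom F m (N + 1)] Cfsg.Sz F m) := by
    have : Finite (szMod F (N + 1)) := inferInstanceAs (Finite (Fin (N + 1) → Fin 4 → F))
    exact Finite.of_equiv _ SemidirectProduct.equivProd.symm
  obtain ⟨H, iG, iF, ⟨e⟩⟩ :=
    exists_type0_model (szMod F (N + 1) ⋊[szModHom F m (N + 1)] Cfsg.Sz F m)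
  have hcard : Nat.card H = (Fintype.card F ^ 4) ^ (N + 1) * Nat.card (Cfsg.Sz F m) := by
    rw [Nat.card_congr e.toEquiv, SemidirectProduct.card, card_szMod]
  refine ⟨H, iG, iF, ?_, ?_, ?_⟩
  · rw [← Nat.card_eq_fintype_card, hcard]
    have h1 : 0 < Nat.card (Cfsg.Sz F m) := Nat.card_pos
    have h2 : N < (Fintype.card F ^ 4) ^ (N + 1) := by
      have h3 : 2 ≤ Fintype.card F ^ 4 := by
        have h4 : 1 < Fintype.card F := Fintype.one_lt_card
        calc 2 ≤ Fintype.card F := h4
          _ ≤ Fintype.card F ^ 4 := Nat.le_self_pow (by norm_num) _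
      calc N < 2 ^ N := Nat.lt_two_pow_self
        _ ≤ 2 ^ (N + 1) := Nat.pow_le_pow_right (by norm_num) (by omega)
        _ ≤ (Fintype.card F ^ 4) ^ (N + 1) := Nat.pow_le_pow_left h3 _
    calc N < (Fintype.card F ^ 4) ^ (N + 1) := h2
      _ ≤ _ := Nat.le_mul_of_pos_right _ h1
  · intro r hr
    rw [hcard]
    constructor
    · intro h
      exact Dvd.dvd.mul_left h _
    · intro h
      rcases (Nat.Prime.dvd_mul hr).1 h with h | h
      · have h1 := hr.dvd_of_dvd_pow (hr.dvd_of_dvd_pow h)
        rw [hF] at h1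
        have h2 := hr.dvd_of_dvd_pow h1
        have h3 : r = 2 := (Nat.prime_dvd_prime_iff_eq hr Nat.prime_two).1 h2
        rw [card_Sz hm hF, h3, hF, mul_assoc]
        apply Dvd.dvd.mul_right
        exact dvd_pow (dvd_pow_self 2 (by omega)) (by norm_num)
      · exact h
  · intro r s hr hs hrs
    constructor
    · rintro ⟨x, hx⟩
      refine ⟨e.symm (SemidirectProduct.inr x), ?_⟩
      rw [MulEquiv.orderOf_eq, orderOf_injective _ SemidirectProduct.inr_injective, hx]
    · rintro ⟨y, hy⟩
      refine semidirect_order_rs (szModHom F m (N + 1)) (szMod_sq hF _) (szMod_comm _)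
        (szModHom_fpf hm hF _) hr hs hrs (e y) ?_
      rw [MulEquiv.orderOf_eq, hy]

end Cfsg.Agent.Helper6
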