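import Cfsg.Agent.Helper6.Sz38

/-!
# Elements of the Suzuki group as a group: unipotent, torus and Weyl elements
-/

set_option autoImplicit false

namespace Cfsg.Agent.Helper6

variable {F : Type*} [Field F] [Fintype F] {m : ℕ}

/-- the translation `szU a b` as an element of the Suzuki group -/
noncomputable def sU (hF : Fintype.card F = 2 ^ (2 * m + 1)) (a b : F) : Cfsg.Sz F m :=
  ⟨szU F m a b, szU_mem hF a b⟩

/-- the torus element `szD t` as an element of the Suzuki group -/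
noncomputable def sD (hF : Fintype.card F = 2 ^ (2 * m + 1)) (t : Fˣ) : Cfsg.Sz F m :=
  ⟨szD F m t, szD_mem hF t⟩

/-- the Weyl element `szT` as an element of the Suzuki group -/
noncomputable def sW (hF : Fintype.card F = 2 ^ (2 * m + 1)) : Cfsg.Sz F m :=
  ⟨szT F, szT_mem hF⟩

theorem coe_sU (hF : Fintype.card F = 2 ^ (2 * m + 1)) (a b : F) :
    ((sU hF a b : Cfsg.Sz F m) : Matrix.SpecialLinearGroup (Fin 4) F) = szU F m a b := rfl

theorem coe_sD (hF : Fintype.card F = 2 ^ (2 * m + 1)) (t : Fˣ) :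
    ((sD hF t : Cfsg.Sz F m) : Matrix.SpecialLinearGroup (Fin 4) F) = szD F m t := rfl

theorem coe_sW (hF : Fintype.card F = 2 ^ (2 * m + 1)) :
    ((sW hF : Cfsg.Sz F m) : Matrix.SpecialLinearGroup (Fin 4) F) = szT F := rfl

theorem sU_mul (hm : 1 ≤ m) (hF : Fintype.card F = 2 ^ (2 * m + 1)) (a b c d : F) :
    sU hF a b * sU hF c d = sU hF (a + c) (b + d + a ^ (2 ^ (m + 1)) * c) :=
  Subtype.ext (szU_mul hm hF a b c d)

theorem sU_zero (hm : 1 ≤ m) (hF : Fintype.card F = 2 ^ (2 * m + 1)) : sU hF 0 0 = 1 :=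
  Subtype.ext (szU_zero hm hF)

theorem sU_inj (hF : Fintype.card F = 2 ^ (2 * m + 1)) {a b c d : F}
    (h : sU hF a b = sU hF c d) : a = c ∧ b = d :=
  szU_injective hF (congrArg Subtype.val h)

theorem sU_inv (hm : 1 ≤ m) (hF : Fintype.card F = 2 ^ (2 * m + 1)) (a b : F) :
    (sU hF a b)⁻¹ = sU hF a (b + a ^ (2 ^ (m + 1)) * a) :=
  Subtype.ext (szU_inv hm hF a b)

theorem sU_eq_one_iff (hm : 1 ≤ m) (hF : Fintype.card F = 2 ^ (2 * m + 1)) (a b : F) :
    sU hF a b = 1 ↔ a = 0 ∧ b = 0 := by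
  rw [← sU_zero hm hF]
  constructor
  · exact sU_inj hF
  · rintro ⟨rfl, rfl⟩; rfl

theorem sU_sq (hm : 1 ≤ m) (hF : Fintype.card F = 2 ^ (2 * m + 1)) (a b : F) :
    sU hF a b * sU hF a b = sU hF 0 (a ^ (2 ^ (m + 1)) * a) := by
  have h2 : (2 : F) = 0 := two_eq_zero_of_card hF
  rw [sU_mul hm hF]
  congr 1
  · linear_combination a * h2
  · linear_combination b * h2

theorem sU_split (hm : 1 ≤ m) (hF : Fintype.card F = 2 ^ (2 * m + 1)) (a b : F) :
    sU hF a b = sU hF a 0 * sU hF 0 b := by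
  rw [sU_mul hm hF]
  congr 1
  · ring
  · ring

theorem sD_mul (hF : Fintype.card F = 2 ^ (2 * m + 1)) (t t' : Fˣ) :
    sD hF (t * t') = sD hF t * sD hF t' :=
  Subtype.ext (szD_mul t t')

theorem sD_one (hF : Fintype.card F = 2 ^ (2 * m + 1)) : sD hF (1 : Fˣ) = 1 :=
  Subtype.ext szD_one

theorem sD_inv (hF : Fintype.card F = 2 ^ (2 * m + 1)) (t : Fˣ) : (sD hF t)⁻¹ = sD hF t⁻¹ :=
  Subtype.ext (szD_inv t)

theorem sD_inj (hF : Fintype.card F = 2 ^ (2 * m + 1)) {t t' : Fˣ} (h : sD hF t = sD hF t') :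
    t = t' :=
  szD_injective (congrArg Subtype.val h)

theorem sD_pow (hF : Fintype.card F = 2 ^ (2 * m + 1)) (t : Fˣ) (n : ℕ) :
    sD hF (t ^ n) = sD hF t ^ n := by
  induction n with
  | zero => rw [pow_zero, pow_zero, sD_one]
  | succ k ih => rw [pow_succ, pow_succ, sD_mul, ih]

theorem sD_conj_sU (hm : 1 ≤ m) (hF : Fintype.card F = 2 ^ (2 * m + 1)) (t : Fˣ) (a b : F) :
    sD hF t * sU hF a b * (sD hF t)⁻¹ =
      sU hF ((t : F) * a) ((t : F) ^ (2 ^ (m + 1) + 1) * b) :=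
  Subtype.ext (szD_conj_szU' hm hF t a b)

theorem sW_mul_self (hF : Fintype.card F = 2 ^ (2 * m + 1)) : sW hF * sW hF = 1 :=
  Subtype.ext szT_mul_self

theorem sW_inv (hF : Fintype.card F = 2 ^ (2 * m + 1)) : (sW hF)⁻¹ = sW hF :=
  Subtype.ext szT_inv

theorem sW_mul_sD (hF : Fintype.card F = 2 ^ (2 * m + 1)) (t : Fˣ) :
    sW hF * sD hF t = sD hF t⁻¹ * sW hF :=
  Subtype.ext (szT_mul_szD t)

theorem mem_szB_iff_exists (hm : 1 ≤ m) (hF : Fintype.card F = 2 ^ (2 * m + 1))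
    (g : Cfsg.Sz F m) :
    g ∈ szB F m ↔ ∃ (a b : F) (t : Fˣ), g = sU hF a b * sD hF t := by
  constructor
  · intro h
    obtain ⟨a, b, t, h'⟩ := borel_decomp hm hF g.2 h
    exact ⟨a, b, t, Subtype.ext h'⟩
  · rintro ⟨a, b, t, rfl⟩
    rw [mem_szB_iff]
    show (szU F m a b * szD F m t) • ovPt F m none = ovPt F m none
    rw [mul_smul, szD_smul_none, szU_smul_none]

theorem sB_unique (hF : Fintype.card F = 2 ^ (2 * m + 1)) {a b a' b' : F} {t t' : Fˣ}
    (h : sU hF a b * sD hF t = sU hF a' b' * sD hF t') : a = a' ∧ b = b' ∧ t = t' :=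
  borel_unique hF (congrArg Subtype.val h)

theorem sU_mem_szB (hm : 1 ≤ m) (hF : Fintype.card F = 2 ^ (2 * m + 1)) (a b : F) :
    sU hF a b ∈ szB F m :=
  (mem_szB_iff_exists hm hF _).2 ⟨a, b, 1, by rw [sD_one, mul_one]⟩

theorem sD_mem_szB (hm : 1 ≤ m) (hF : Fintype.card F = 2 ^ (2 * m + 1)) (t : Fˣ) :
    sD hF t ∈ szB F m :=
  (mem_szB_iff_exists hm hF _).2 ⟨0, 0, t, by rw [sU_zero hm hF, one_mul]⟩

theorem mem_szQ_iff (hm : 1 ≤ m) (hF : Fintype.card F = 2 ^ (2 * m + 1)) (g : Cfsg.Sz F m) :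
    g ∈ szQ hm hF ↔ ∃ a b : F, g = sU hF a b := by
  constructor
  · rintro ⟨a, b, h⟩
    exact ⟨a, b, Subtype.ext h⟩
  · rintro ⟨a, b, rfl⟩
    exact ⟨a, b, rfl⟩

/-- Frobenius-type conjugation: if `d` normalises the finite subgroup `Q` and centralises no
non-trivial element of it, then every element of `Q d` is `Q`-conjugate to `d`. -/
theorem exists_conj_of_fpf {G : Type*} [Group G] (Q : Subgroup G) [Finite Q] (d : G)
    (hd : ∀ v ∈ Q, d * v * d⁻¹ ∈ Q) (hc : ∀ v ∈ Q, v * d = d * v → v = 1) (u : G)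
    (hu : u ∈ Q) : ∃ v ∈ Q, v * (u * d) * v⁻¹ = d := by
  let ψ : Q → Q := fun v => ⟨(v : G)⁻¹ * (d * v * d⁻¹), Q.mul_mem (Q.inv_mem v.2) (hd v v.2)⟩
  have hinj : Function.Injective ψ := by
    intro v v' h
    have h1 : (v : G)⁻¹ * (d * v * d⁻¹) = (v' : G)⁻¹ * (d * v' * d⁻¹) := congrArg Subtype.val h
    have h1' : (v : G)⁻¹ * d * v = (v' : G)⁻¹ * d * v' := by
      have := congrArg (· * d) h1
      simpa [mul_assoc] using this
    have h2 : ((v' : G) * (v : G)⁻¹) * d = d * ((v' : G) * (v : G)⁻¹) := by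
      calc (v' : G) * (v : G)⁻¹ * d = v' * ((v : G)⁻¹ * d * v) * (v : G)⁻¹ := by group
        _ = v' * ((v' : G)⁻¹ * d * v') * (v : G)⁻¹ := by rw [h1']
        _ = d * ((v' : G) * (v : G)⁻¹) := by group
    have h3 := hc _ (Q.mul_mem v'.2 (Q.inv_mem v.2)) h2
    apply Subtype.ext
    have : (v' : G) = v := by
      calc (v' : G) = (v' * (v : G)⁻¹) * v := by group
        _ = v := by rw [h3, one_mul]
    exact this.symm
  have hsurj := Finite.injective_iff_surjective.1 hinj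
  obtain ⟨v, hv⟩ := hsurj ⟨u, hu⟩
  refine ⟨v, v.2, ?_⟩
  have h1 : (v : G)⁻¹ * (d * v * d⁻¹) = u := congrArg Subtype.val hv
  rw [← h1]
  group

end Cfsg.Agent.Helper6
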