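import Cfsg.Agent.Helper6.Sz3

/-!
# The two-point stabiliser in the Suzuki group: shape of the matrices
-/

set_option autoImplicit false

namespace Cfsg.Agent.Helper6

open scoped Pointwise

variable {F : Type*} [Field F] [Fintype F] {m : ℕ}

/-- pure algebra: the shape of a matrix fixing both base points and preserving the affine ovoid -/
theorem shape (hm : 1 ≤ m) (hF : Fintype.card F = 2 ^ (2 * m + 1))
    (M : Matrix (Fin 4) (Fin 4) F)
    (h10 : M 1 0 = 0) (h20 : M 2 0 = 0) (h30 : M 3 0 = 0)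
    (h03 : M 0 3 = 0) (h13 : M 1 3 = 0) (h23 : M 2 3 = 0)
    (aff : ∀ x y : F, M.mulVec (ovVec F m x y) 3 ≠ 0 ∧
      M.mulVec (ovVec F m x y) 0 = M.mulVec (ovVec F m x y) 3 *
        ovF F m (M.mulVec (ovVec F m x y) 2 / M.mulVec (ovVec F m x y) 3)
          (M.mulVec (ovVec F m x y) 1 / M.mulVec (ovVec F m x y) 3)) :
    M 3 1 = 0 ∧ M 3 2 = 0 ∧ M 0 1 = 0 ∧ M 0 2 = 0 ∧ M 2 1 = 0 ∧ M 1 2 = 0 ∧ M 3 3 ≠ 0 ∧
      M 0 0 = M 3 3 * ((M 2 2 / M 3 3) ^ (2 ^ (m + 1)) * (M 2 2 / M 3 3) ^ 2) ∧
      M 0 0 = M 3 3 * (M 1 1 / M 3 3) ^ (2 ^ (m + 1)) ∧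
      M 0 0 = M 3 3 * ((M 2 2 / M 3 3) * (M 1 1 / M 3 3)) := by
  have h2 : (2 : F) = 0 := two_eq_zero_of_card hF
  set s := 2 ^ (m + 1) with hs
  have hs4 : 4 ≤ s := four_le_sigma hm
  have hsq : s + 2 < Fintype.card F := sigma_lt_card hm hF
  have hs0 : s ≠ 0 := by omega
  -- components
  have w3 : ∀ x y : F, M.mulVec (ovVec F m x y) 3 = M 3 1 * y + M 3 2 * x + M 3 3 := by
    intro x y
    rw [mulVec_four, h30]
    simp [ovVec]
  have hδ : M 3 3 ≠ 0 := by
    have := (aff 0 0).1
    rw [w3] at this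
    simpa using this
  have h31 : M 3 1 = 0 := by
    by_contra h
    have := (aff 0 (-(M 3 3) / M 3 1)).1
    rw [w3] at this
    apply this
    field_simp
    ring
  have h32 : M 3 2 = 0 := by
    by_contra h
    have := (aff (-(M 3 3) / M 3 2) 0).1
    rw [w3] at this
    apply this
    field_simp
    ring
  have w3' : ∀ x y : F, M.mulVec (ovVec F m x y) 3 = M 3 3 := by
    intro x y
    rw [w3, h31, h32]; ring
  have w2 : ∀ x y : F, M.mulVec (ovVec F m x y) 2 = M 2 1 * y + M 2 2 * x := by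
    intro x y
    rw [mulVec_four, h20, h23]
    simp [ovVec]
  have w1 : ∀ x y : F, M.mulVec (ovVec F m x y) 1 = M 1 1 * y + M 1 2 * x := by
    intro x y
    rw [mulVec_four, h10, h13]
    simp [ovVec]
  have w0 : ∀ x y : F, M.mulVec (ovVec F m x y) 0 =
      M 0 0 * ovF F m x y + M 0 1 * y + M 0 2 * x := by
    intro x y
    rw [mulVec_four, h03]
    simp [ovVec]
  set δ := M 3 3 with hδdef
  set A := M 2 1 / δ with hA
  set B := M 2 2 / δ with hB
  set C := M 1 1 / δ with hC
  set D := M 1 2 / δ with hD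
  have ident : ∀ x y : F, M 0 0 * ovF F m x y + M 0 1 * y + M 0 2 * x =
      δ * ovF F m (A * y + B * x) (C * y + D * x) := by
    intro x y
    have := (aff x y).2
    rw [w0, w3', w2, w1] at this
    rw [this]
    congr 2
    · rw [hA, hB]; field_simp
    · rw [hC, hD]; field_simp
  -- x = 0
  have id0 : ∀ y : F, M 0 1 * y ^ 1 + (-(δ * A * C)) * y ^ 2 + (M 0 0 - δ * C ^ s) * y ^ s +
      (-(δ * (A ^ s * A ^ 2))) * y ^ (s + 2) = 0 := by
    intro y
    have := ident 0 y
    rw [ovF_eq, ovF_eq] at this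
    simp only [mul_zero, add_zero, zero_add] at this
    rw [zero_pow hs0] at this
    linear_combination this
  obtain ⟨c1, c2, c3, c4⟩ := four_monomials (by omega) (by omega) (by omega) (by omega)
    (by omega) (by omega) (by omega) (by omega) (by omega) hsq id0
  have hA0 : A = 0 := by
    have : δ * (A ^ s * A ^ 2) = 0 := by linear_combination -c4
    rcases mul_eq_zero.1 this with h | h
    · exact absurd h hδ
    · rcases mul_eq_zero.1 h with h | h
      · exact pow_eq_zero_iff hs0 |>.1 h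
      · exact pow_eq_zero_iff (by norm_num) |>.1 h
  -- y = 0
  have id1 : ∀ x : F, M 0 2 * x ^ 1 + (-(δ * B * D)) * x ^ 2 + (-(δ * D ^ s)) * x ^ s +
      (M 0 0 - δ * (B ^ s * B ^ 2)) * x ^ (s + 2) = 0 := by
    intro x
    have := ident x 0
    rw [ovF_eq, ovF_eq] at this
    simp only [mul_zero, add_zero, zero_add] at this
    rw [zero_pow hs0] at this
    linear_combination this
  obtain ⟨d1, d2, d3, d4⟩ := four_monomials (by omega) (by omega) (by omega) (by omega)
    (by omega) (by omega) (by omega) (by omega) (by omega) hsq id1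
  have hD0 : D = 0 := by
    have : δ * D ^ s = 0 := by linear_combination -d3
    rcases mul_eq_zero.1 this with h | h
    · exact absurd h hδ
    · exact pow_eq_zero_iff hs0 |>.1 h
  have e1 : M 0 0 = δ * (B ^ s * B ^ 2) := by linear_combination d4
  have e2 : M 0 0 = δ * C ^ s := by linear_combination c3
  have e3 : M 0 0 = δ * (B * C) := by
    have := ident 1 1
    rw [ovF_eq, ovF_eq, hA0, hD0, c1, d1] at this
    simp only [mul_one, one_pow, zero_mul, zero_add, add_zero] at this
    rw [← hs] at this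
    linear_combination this - e1 - e2
  have hM21 : M 2 1 = 0 := by
    rw [hA, div_eq_zero_iff] at hA0
    exact hA0.resolve_right hδ
  have hM12 : M 1 2 = 0 := by
    rw [hD, div_eq_zero_iff] at hD0
    exact hD0.resolve_right hδ
  exact ⟨h31, h32, c1, d1, hM21, hM12, hδ, e1, e2, e3⟩

end Cfsg.Agent.Helper6
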