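import Cfsg.Agent.Helper6.Sz39

/-!
# Field automorphisms acting on the Suzuki group
-/

set_option autoImplicit false

namespace Cfsg.Agent.Helper6

open Cfsg.Lie

variable {F : Type*} [Field F] [Fintype F] {m : ℕ}

omit [Fintype F] in
theorem suzukiForm_map (σ : F →+* F) : (Cfsg.suzukiForm F).map σ = Cfsg.suzukiForm F := by
  ext i j
  fin_cases i <;> fin_cases j <;> simp [Cfsg.suzukiForm]

omit [Fintype F] in
theorem presJ_map (σ : F →+* F) {M : Matrix (Fin 4) (Fin 4) F} (h : PresJ M) :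
    PresJ (M.map σ) := by
  unfold PresJ at *
  have h1 := congrArg (fun X : Matrix (Fin 4) (Fin 4) F => X.map σ) h
  simp only [Matrix.map_mul, suzukiForm_map, Matrix.transpose_map] at h1
  exact h1

omit [Fintype F] in
theorem star4_map (σ : F →+* F) (M : Matrix (Fin 4) (Fin 4) F) :
    star4 (M.map σ) = (star4 M).map σ := by
  ext p r
  simp only [star4_apply, minor2, Matrix.map_apply, map_sub, map_mul]

omit [Fintype F] in
theorem isSzMat_map (σ : F →+* F) {M : Matrix (Fin 4) (Fin 4) F} (h : IsSzMat m M) :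
    IsSzMat m (M.map σ) := by
  refine ⟨presJ_map σ h.1, ?_⟩
  rw [star4_map, h.2]
  ext i j
  simp only [Matrix.map_apply, map_pow]

theorem map_mem_Sz (hm : 1 ≤ m) (hF : Fintype.card F = 2 ^ (2 * m + 1)) (σ : F →+* F)
    (g : Cfsg.Sz F m) :
    Matrix.SpecialLinearGroup.map σ (g : Matrix.SpecialLinearGroup (Fin 4) F) ∈ Cfsg.Sz F m := by
  apply mem_Sz_of_isSzMat hm hF
  have := isSzMat_map σ (isSzMat_of_mem_Sz hm hF g.2)
  exact this

/-- the automorphism of the Suzuki group induced by a field automorphism -/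
noncomputable def szFieldAut (hm : 1 ≤ m) (hF : Fintype.card F = 2 ^ (2 * m + 1))
    (σ : F ≃+* F) : MulAut (Cfsg.Sz F m) where
  toFun g := ⟨Matrix.SpecialLinearGroup.map (σ : F →+* F) g, map_mem_Sz hm hF _ g⟩
  invFun g := ⟨Matrix.SpecialLinearGroup.map (σ.symm : F →+* F) g, map_mem_Sz hm hF _ g⟩
  left_inv g := by
    apply Subtype.ext
    apply Subtype.ext
    ext i j
    simp
  right_inv g := by
    apply Subtype.ext
    apply Subtype.ext
    ext i j
    simp
  map_mul' a b := by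
    apply Subtype.ext
    simp

theorem coe_szFieldAut (hm : 1 ≤ m) (hF : Fintype.card F = 2 ^ (2 * m + 1)) (σ : F ≃+* F)
    (g : Cfsg.Sz F m) :
    ((szFieldAut hm hF σ g : Cfsg.Sz F m) : Matrix.SpecialLinearGroup (Fin 4) F) =
      Matrix.SpecialLinearGroup.map (σ : F →+* F) g := rfl

/-- field automorphisms act as a group -/
noncomputable def szFieldHom (hm : 1 ≤ m) (hF : Fintype.card F = 2 ^ (2 * m + 1)) :
    (F ≃+* F) →* MulAut (Cfsg.Sz F m) where
  toFun := szFieldAut hm hF
  map_one' := by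
    refine MulEquiv.ext fun g => ?_
    apply Subtype.ext
    apply Subtype.ext
    ext i j
    simp [coe_szFieldAut]
  map_mul' σ τ := by
    refine MulEquiv.ext fun g => ?_
    apply Subtype.ext
    apply Subtype.ext
    ext i j
    simp [coe_szFieldAut]

theorem szFieldHom_apply (hm : 1 ≤ m) (hF : Fintype.card F = 2 ^ (2 * m + 1)) (σ : F ≃+* F) :
    szFieldHom hm hF σ = szFieldAut hm hF σ := rfl

omit [Fintype F] in
theorem sl_map_apply (σ : F →+* F) (g : Matrix.SpecialLinearGroup (Fin 4) F) (i j : Fin 4) :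
    ((Matrix.SpecialLinearGroup.map σ g : Matrix.SpecialLinearGroup (Fin 4) F) :
      Matrix (Fin 4) (Fin 4) F) i j = σ ((g : Matrix (Fin 4) (Fin 4) F) i j) := rfl

theorem szFieldAut_sU (hm : 1 ≤ m) (hF : Fintype.card F = 2 ^ (2 * m + 1)) (σ : F ≃+* F)
    (a b : F) : szFieldAut hm hF σ (sU hF a b) = sU hF (σ a) (σ b) := by
  apply Subtype.ext
  apply Subtype.ext
  rw [coe_szFieldAut, coe_sU, coe_sU]
  ext i j
  rw [sl_map_apply]
  fin_cases i <;> fin_cases j <;>
    simp [szU, uMat, ovF, map_add, map_mul, map_pow]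

theorem szFieldAut_sD (hm : 1 ≤ m) (hF : Fintype.card F = 2 ^ (2 * m + 1)) (σ : F ≃+* F)
    (t : Fˣ) : szFieldAut hm hF σ (sD hF t) =
      sD hF (Units.map (σ : F →* F) t) := by
  apply Subtype.ext
  apply Subtype.ext
  rw [coe_szFieldAut, coe_sD, coe_sD]
  ext i j
  rw [sl_map_apply]
  fin_cases i <;> fin_cases j <;>
    simp [szD, dMat, map_inv₀, map_pow]

theorem szFieldAut_sW (hm : 1 ≤ m) (hF : Fintype.card F = 2 ^ (2 * m + 1)) (σ : F ≃+* F) :
    szFieldAut hm hF σ (sW hF) = sW hF := by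
  apply Subtype.ext
  apply Subtype.ext
  rw [coe_szFieldAut, coe_sW]
  ext i j
  rw [sl_map_apply]
  fin_cases i <;> fin_cases j <;>
    simp [szT, tMat]

end Cfsg.Agent.Helper6
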