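import Cfsg.Agent.Helper6.Sz40

/-!
# Automorphisms of the Suzuki group: normalising the Sylow 2-subgroup and the torus
-/

set_option autoImplicit false

namespace Cfsg.Agent.Helper6

open scoped Pointwise

variable {F : Type*} [Field F] [Fintype F] {m : ℕ}

/-- every automorphism maps the translation subgroup to a conjugate of itself -/
theorem exists_conj_szQ (hm : 1 ≤ m) (hF : Fintype.card F = 2 ^ (2 * m + 1))
    (α : MulAut (Cfsg.Sz F m)) :
    ∃ k : Cfsg.Sz F m, ∀ a b : F, ∃ a' b' : F, α (sU hF a b) = k * sU hF a' b' * k⁻¹ := by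
  have : Finite (Cfsg.Sz F m) := inferInstance
  have hQp : IsPGroup 2 (szQ hm hF) := by
    apply IsPGroup.of_card (n := 2 * (2 * m + 1))
    rw [card_szQ, hF, ← pow_mul, mul_comm]
  let QS : Sylow 2 (Cfsg.Sz F m) := hQp.toSylow (szQ_index_odd hm hF)
  have hmap : IsPGroup 2 ((szQ hm hF).map α.toMonoidHom) := hQp.map _
  obtain ⟨P', hP'⟩ := hmap.exists_le_sylow
  obtain ⟨k, hk⟩ := MulAction.exists_smul_eq (Cfsg.Sz F m) QS P'
  refine ⟨k, fun a b => ?_⟩
  have h1 : α (sU hF a b) ∈ (k • QS : Sylow 2 (Cfsg.Sz F m)) := by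
    rw [hk]
    apply hP'
    exact ⟨sU hF a b, (mem_szQ_iff hm hF _).2 ⟨a, b, rfl⟩, rfl⟩
  rw [mem_sylow_smul_iff] at h1
  have h2 : k⁻¹ * α (sU hF a b) * k ∈ szQ hm hF := h1
  obtain ⟨a', b', h3⟩ := (mem_szQ_iff hm hF _).1 h2
  refine ⟨a', b', ?_⟩
  rw [← h3]
  group

/-- an element conjugating a non-trivial translation to a translation fixes the point at
infinity -/
theorem mem_szB_of_conj (hm : 1 ≤ m) (hF : Fintype.card F = 2 ^ (2 * m + 1)) (x : Cfsg.Sz F m)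
    {a b a' b' : F} (hab : ¬ (a = 0 ∧ b = 0))
    (h : x * sU hF a b * x⁻¹ = sU hF a' b') : x ∈ szB F m := by
  have hab' : ¬ (a' = 0 ∧ b' = 0) := by
    intro h0
    apply hab
    rw [← sU_eq_one_iff hm hF]
    have h1 : sU hF a' b' = 1 := (sU_eq_one_iff hm hF _ _).2 h0
    rw [h1] at h
    have : sU hF a b = x⁻¹ * (x * sU hF a b * x⁻¹) * x := by group
    rw [this, h]
    group
  rw [mem_szB_iff]
  obtain ⟨o, ho⟩ := smul_mem_of_mem_Sz x.2 none
  have h1 : szU F m a' b' • ovPt F m o = ovPt F m o := by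
    have h2 := congrArg (fun g : Cfsg.Sz F m => (g : Matrix.SpecialLinearGroup (Fin 4) F)) h
    simp only [Subgroup.coe_mul, Subgroup.coe_inv, coe_sU] at h2
    rw [← h2, ← ho, mul_smul, mul_smul, inv_smul_smul, szU_smul_none]
  have := szU_fix_only_infinity hF hab' h1
  rw [ho, this]

theorem sU_pow_four (hm : 1 ≤ m) (hF : Fintype.card F = 2 ^ (2 * m + 1)) (a b : F) :
    sU hF a b ^ 4 = 1 := by
  have h : sU hF a b ^ 4 = (sU hF a b * sU hF a b) * (sU hF a b * sU hF a b) := by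
    rw [← pow_two, ← pow_two, ← pow_mul]
  rw [h, sU_sq hm hF, sU_sq hm hF, zero_pow (by positivity), zero_mul, sU_zero hm hF]

/-- Step 2: after a conjugation, an automorphism preserves the translations and the torus -/
theorem exists_normalize (hm : 1 ≤ m) (hF : Fintype.card F = 2 ^ (2 * m + 1))
    (α : MulAut (Cfsg.Sz F m)) :
    ∃ k : Cfsg.Sz F m,
      (∀ a b : F, ∃ a' b' : F, (MulAut.conj k * α) (sU hF a b) = sU hF a' b') ∧
      (∀ t : Fˣ, ∃ t' : Fˣ, (MulAut.conj k * α) (sD hF t) = sD hF t') := by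
  have h2 : (2 : F) = 0 := two_eq_zero_of_card hF
  have : Finite (Cfsg.Sz F m) := inferInstance
  obtain ⟨k₀, hk₀⟩ := exists_conj_szQ hm hF α
  set β : MulAut (Cfsg.Sz F m) := MulAut.conj k₀⁻¹ * α with hβ
  have hβQ : ∀ a b : F, ∃ a' b' : F, β (sU hF a b) = sU hF a' b' := by
    intro a b
    obtain ⟨a', b', h⟩ := hk₀ a b
    refine ⟨a', b', ?_⟩
    rw [hβ, MulAut.mul_apply, MulAut.conj_apply, h]
    group
  -- `β` preserves the Borel subgroup
  have hβB : ∀ g ∈ szB F m, β g ∈ szB F m := by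
    intro g hg
    have hn : g ∈ Subgroup.normalizer ((szQ hm hF : Subgroup (Cfsg.Sz F m)) : Set (Cfsg.Sz F m)) := by
      rw [normalizer_szQ hm hF]; exact hg
    rw [Subgroup.mem_normalizer_iff] at hn
    have h1 : g * sU hF 1 0 * g⁻¹ ∈ szQ hm hF :=
      (hn _).1 ((mem_szQ_iff hm hF _).2 ⟨1, 0, rfl⟩)
    obtain ⟨c, e, hce⟩ := (mem_szQ_iff hm hF _).1 h1
    obtain ⟨a', b', hab⟩ := hβQ 1 0
    obtain ⟨c', e', hce'⟩ := hβQ c e
    have h3 : β g * sU hF a' b' * (β g)⁻¹ = sU hF c' e' := by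
      rw [← hab, ← hce', ← hce, map_mul, map_mul, map_inv]
    refine mem_szB_of_conj hm hF (β g) ?_ h3
    intro h0
    have h4 : β (sU hF 1 0) = 1 := by rw [hab]; exact (sU_eq_one_iff hm hF _ _).2 h0
    have h5 : sU hF (1 : F) 0 = 1 := by
      apply β.injective
      rw [h4, map_one]
    exact one_ne_zero ((sU_eq_one_iff hm hF _ _).1 h5).1
  -- a generator of the torus
  obtain ⟨t₀, ht₀⟩ := IsCyclic.exists_monoid_generator (α := Fˣ)
  obtain ⟨a, b, s, hs⟩ := (mem_szB_iff_exists hm hF _).1 (hβB _ (sD_mem_szB hm hF t₀))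
  have hs1 : s ≠ 1 := by
    intro h
    rw [h, sD_one, mul_one] at hs
    have h3 : β (sD hF (t₀ ^ 4)) = 1 := by
      rw [sD_pow, map_pow, hs, sU_pow_four hm hF]
    have h4 : sD hF (t₀ ^ 4) = 1 := by
      apply β.injective
      rw [h3, map_one]
    rw [← sD_one hF] at h4
    have h5 : t₀ ^ 4 = 1 := sD_inj hF h4
    have h6 : (t₀ : F) ^ 4 = 1 := by
      rw [← Units.val_pow_eq_pow_val, h5, Units.val_one]
    have h7 : t₀ = 1 := Units.ext (eq_one_of_pow_four h2 h6)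
    obtain ⟨t, ht⟩ := exists_unit_ne_one hm hF
    apply ht
    obtain ⟨n, hn⟩ := (Submonoid.mem_powers_iff _ _).1 (ht₀ t)
    rw [← hn, h7, one_pow]
  have hs1' : (s : F) ≠ 1 := fun h => hs1 (Units.ext h)
  -- Frobenius conjugation
  obtain ⟨v, hvQ, hv⟩ := exists_conj_of_fpf (szQ hm hF) (sD hF s)
    (by
      intro v hv
      obtain ⟨c, e, rfl⟩ := (mem_szQ_iff hm hF _).1 hv
      rw [sD_conj_sU hm hF]
      exact (mem_szQ_iff hm hF _).2 ⟨_, _, rfl⟩)
    (by
      intro v hv hcomm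
      obtain ⟨c, e, rfl⟩ := (mem_szQ_iff hm hF _).1 hv
      have h3 : sD hF s * sU hF c e * (sD hF s)⁻¹ = sU hF c e := by
        rw [← hcomm]; group
      rw [sD_conj_sU hm hF] at h3
      obtain ⟨h4, h5⟩ := sU_inj hF h3
      rw [sU_eq_one_iff hm hF]
      constructor
      · have : ((s : F) - 1) * c = 0 := by rw [sub_mul, one_mul, h4, sub_self]
        rcases mul_eq_zero.1 this with h | h
        · exact absurd (sub_eq_zero.1 h) hs1'
        · exact h
      · have : ((s : F) ^ (2 ^ (m + 1) + 1) - 1) * e = 0 := by rw [sub_mul, one_mul, h5, sub_self]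
        rcases mul_eq_zero.1 this with h | h
        · exact absurd (eq_one_of_pow_sigma_succ hF (sub_eq_zero.1 h)) hs1'
        · exact h)
    (sU hF a b) ((mem_szQ_iff hm hF _).2 ⟨a, b, rfl⟩)
  refine ⟨v * k₀⁻¹, ?_, ?_⟩
  · intro a₁ b₁
    obtain ⟨a', b', h⟩ := hβQ a₁ b₁
    have h3 : (MulAut.conj (v * k₀⁻¹) * α) (sU hF a₁ b₁) = v * β (sU hF a₁ b₁) * v⁻¹ := by
      rw [hβ, map_mul, mul_assoc, MulAut.mul_apply, MulAut.conj_apply]
    rw [h3, h]
    have h4 : v * sU hF a' b' * v⁻¹ ∈ szQ hm hF :=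
      (szQ hm hF).mul_mem ((szQ hm hF).mul_mem hvQ ((mem_szQ_iff hm hF _).2 ⟨a', b', rfl⟩))
        ((szQ hm hF).inv_mem hvQ)
    exact (mem_szQ_iff hm hF _).1 h4
  · intro t
    obtain ⟨n, hn⟩ := (Submonoid.mem_powers_iff _ _).1 (ht₀ t)
    refine ⟨s ^ n, ?_⟩
    have h3 : (MulAut.conj (v * k₀⁻¹) * α) (sD hF t₀) = sD hF s := by
      rw [map_mul, mul_assoc, MulAut.mul_apply, MulAut.conj_apply, ← hβ, hs]
      exact hv
    rw [← hn, sD_pow, map_pow, h3, ← sD_pow]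

end Cfsg.Agent.Helper6
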