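import Cfsg.Agent.Helper6.Sz42

/-!
# Automorphisms of the Suzuki group: rigidity
-/

set_option autoImplicit false

namespace Cfsg.Agent.Helper6

variable {F : Type*} [Field F] [Fintype F] {m : ℕ}

/-- Step 4: an automorphism which is trivial on the torus and on the translations modulo the
centre is trivial on the translations -/
theorem aut_trivial_on_szQ (hm : 1 ≤ m) (hF : Fintype.card F = 2 ^ (2 * m + 1))
    (ε : MulAut (Cfsg.Sz F m))
    (hU : ∀ a b : F, ∃ b' : F, ε (sU hF a b) = sU hF a b')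
    (hD : ∀ t : Fˣ, ε (sD hF t) = sD hF t) :
    ∀ a b : F, ε (sU hF a b) = sU hF a b := by
  have h2 : (2 : F) = 0 := two_eq_zero_of_card hF
  have hs0 : (2 : ℕ) ^ (m + 1) ≠ 0 := by positivity
  choose k hk using hU
  -- (i) trivial on the centre
  have K1 : ∀ z : F, k 0 z = z := by
    intro z
    obtain ⟨a, ha⟩ := exists_pow_sigma_mul hF z
    have h1 : ε (sU hF 0 z) = ε (sU hF a 0) * ε (sU hF a 0) := by
      rw [← map_mul, sU_sq hm hF, ha]
    rw [hk, hk, sU_sq hm hF, ha] at h1
    exact (sU_inj hF h1).2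
  -- (ii)
  have K2 : ∀ a b : F, k a b = k a 0 + b := by
    intro a b
    have h1 : ε (sU hF a b) = ε (sU hF a 0) * ε (sU hF 0 b) := by
      rw [← map_mul, ← sU_split hm hF]
    rw [hk, hk, hk, K1, sU_mul hm hF, mul_zero, add_zero] at h1
    have h3 := (sU_inj hF h1).2
    rwa [add_zero] at h3
  -- (iii)
  have K3 : ∀ a c : F, k (a + c) 0 = k a 0 + k c 0 := by
    intro a c
    have h1 : ε (sU hF a 0 * sU hF c 0) = ε (sU hF a 0) * ε (sU hF c 0) := map_mul _ _ _
    rw [sU_mul hm hF, hk, hk, hk, sU_mul hm hF, K2 (a + c)] at h1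
    have h3 := (sU_inj hF h1).2
    simp only [add_zero, zero_add] at h3
    exact add_right_cancel h3
  -- (iv)
  have K4 : ∀ (t : Fˣ) (a : F), k ((t : F) * a) 0 = (t : F) ^ (2 ^ (m + 1) + 1) * k a 0 := by
    intro t a
    have h1 : ε (sD hF t * sU hF a 0 * (sD hF t)⁻¹) =
        ε (sD hF t) * ε (sU hF a 0) * (ε (sD hF t))⁻¹ := by
      rw [map_mul, map_mul, map_inv]
    rw [sD_conj_sU hm hF, hk, hk, hD, sD_conj_sU hm hF, K2 ((t : F) * a), mul_zero, add_zero] at h1
    exact (sU_inj hF h1).2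
  -- (v)
  have K0 : k 0 0 = 0 := K1 0
  have hc : k 1 0 = 0 := by
    obtain ⟨s, hs⟩ := exists_unit_ne_one hm hF
    have hs1 : (s : F) + 1 ≠ 0 := by
      intro h
      apply hs
      apply Units.ext
      rw [Units.val_one]
      linear_combination h - h2
    have e1 : k (s : F) 0 = (s : F) ^ (2 ^ (m + 1) + 1) * k 1 0 := by
      have := K4 s 1
      rwa [mul_one] at this
    have e2 : k ((s : F) + 1) 0 = ((s : F) + 1) ^ (2 ^ (m + 1) + 1) * k 1 0 := by
      have := K4 (Units.mk0 _ hs1) 1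
      rwa [Units.val_mk0, mul_one] at this
    have e3 : k ((s : F) + 1) 0 = k (s : F) 0 + k 1 0 := K3 _ _
    rw [e1, e2, pow_succ, add_pow_sigma hF, one_pow, pow_succ] at e3
    have e4 : ((s : F) ^ (2 ^ (m + 1)) - (s : F)) * k 1 0 = 0 := by
      linear_combination e3 - (s : F) * k 1 0 * h2
    rcases mul_eq_zero.1 e4 with h | h
    · exact absurd (sub_eq_zero.1 h) (unit_pow_sigma_ne hF hs)
    · exact h
  have K5 : ∀ a : F, k a 0 = 0 := by
    intro a
    by_cases ha : a = 0
    · rw [ha, K0]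
    · have := K4 (Units.mk0 a ha) 1
      rw [Units.val_mk0, mul_one, hc, mul_zero] at this
      exact this
  intro a b
  rw [hk, K2, K5, zero_add]

/-- the action of the Suzuki group on the ovoid points -/
theorem smul_coe (g : Cfsg.Sz F m) (o : Option (F × F)) :
    g • ovPt F m o = (g : Matrix.SpecialLinearGroup (Fin 4) F) • ovPt F m o := rfl

theorem sU_smul_some (hF : Fintype.card F = 2 ^ (2 * m + 1)) (a b x y : F) :
    sU hF a b • ovPt F m (some (x, y)) =
      ovPt F m (some (x + a, y + b + a ^ (2 ^ (m + 1)) * x)) :=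
  szU_smul_some hF a b x y

theorem sU_smul_none (hF : Fintype.card F = 2 ^ (2 * m + 1)) (a b : F) :
    sU hF a b • ovPt F m none = ovPt F m none :=
  szU_smul_none a b

theorem sD_smul_some (hF : Fintype.card F = 2 ^ (2 * m + 1)) (t : Fˣ) (x y : F) :
    sD hF t • ovPt F m (some (x, y)) =
      ovPt F m (some ((t : F) * x, (t : F) ^ (2 ^ (m + 1) + 1) * y)) :=
  szD_smul_some hF t x y

theorem sD_smul_none (hF : Fintype.card F = 2 ^ (2 * m + 1)) (t : Fˣ) :
    sD hF t • ovPt F m none = ovPt F m none :=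
  szD_smul_none t

theorem sW_smul_none (hF : Fintype.card F = 2 ^ (2 * m + 1)) :
    sW hF • ovPt F m none = ovPt F m (some (0, 0)) :=
  szT_smul_none

theorem mem_szB_iff' (g : Cfsg.Sz F m) : g ∈ szB F m ↔ g • ovPt F m none = ovPt F m none :=
  Iff.rfl

theorem exists_smul_eq_ovPt (g : Cfsg.Sz F m) (o : Option (F × F)) :
    ∃ o', g • ovPt F m o = ovPt F m o' :=
  smul_mem_of_mem_Sz g.2 o

theorem eq_one_of_forall_smul' (hm : 1 ≤ m) (hF : Fintype.card F = 2 ^ (2 * m + 1))
    (g : Cfsg.Sz F m) (h : ∀ o, g • ovPt F m o = ovPt F m o) : g = 1 :=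
  Subtype.ext (eq_one_of_forall_smul hm hF g.2 h)

theorem exists_smul_none_eq (hF : Fintype.card F = 2 ^ (2 * m + 1)) (o : Option (F × F)) :
    ∃ h : Cfsg.Sz F m, h • ovPt F m none = ovPt F m o := by
  rcases o with _ | ⟨x, y⟩
  · exact ⟨1, one_smul _ _⟩
  · refine ⟨sU hF x y * sW hF, ?_⟩
    rw [mul_smul, sW_smul_none, sU_smul_some]
    simp

/-- Step 5: an automorphism fixing the Borel subgroup pointwise is trivial -/
theorem aut_eq_one_of_fix_szB (hm : 1 ≤ m) (hF : Fintype.card F = 2 ^ (2 * m + 1))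
    (ε : MulAut (Cfsg.Sz F m)) (hB : ∀ g ∈ szB F m, ε g = g) : ε = 1 := by
  obtain ⟨t₁, ht₁⟩ := exists_unit_ne_one hm hF
  -- (b)
  have hb : ∀ g : Cfsg.Sz F m, g⁻¹ * ε g ∈ szB F m := by
    intro g
    by_cases hg : g ∈ szB F m
    · rw [hB g hg, inv_mul_cancel]; exact (szB F m).one_mem
    obtain ⟨o, ho⟩ := exists_smul_eq_ovPt g none
    rcases o with _ | ⟨x, y⟩
    · exact absurd ho hg
    set v := sU hF x y with hv
    have hv0 : v • ovPt F m (some (0, 0)) = ovPt F m (some (x, y)) := by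
      rw [hv, sU_smul_some]; simp
    set dp := v * sD hF t₁ * v⁻¹ with hdp
    have hdpB : dp ∈ szB F m :=
      (szB F m).mul_mem ((szB F m).mul_mem (sU_mem_szB hm hF x y) (sD_mem_szB hm hF t₁))
        ((szB F m).inv_mem (sU_mem_szB hm hF x y))
    have hdpp : dp • ovPt F m (some (x, y)) = ovPt F m (some (x, y)) := by
      rw [hdp, mul_smul, mul_smul, ← hv0, inv_smul_smul, sD_smul_some]
      simp
    have heB : g⁻¹ * dp * g ∈ szB F m := by
      rw [mem_szB_iff', mul_smul, mul_smul, ho, hdpp, ← ho, inv_smul_smul]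
    have h1 : (ε g)⁻¹ * dp * ε g = g⁻¹ * dp * g := by
      rw [← hB _ heB, map_mul, map_mul, map_inv, hB dp hdpB]
    obtain ⟨o', ho'⟩ := exists_smul_eq_ovPt (ε g) none
    have hfix : dp • ovPt F m o' = ovPt F m o' := by
      have h3 : ((ε g)⁻¹ * dp * ε g) • ovPt F m none = ovPt F m none := by rw [h1]; exact heB
      rw [mul_smul, mul_smul, ho'] at h3
      have := congrArg (fun p => ε g • p) h3
      simp only [smul_inv_smul] at this
      rw [this, ho']
    rcases o' with _ | ⟨x', y'⟩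
    · -- `ε g` fixes infinity: impossible
      exfalso
      have h3 : ε g ∈ szB F m := ho'
      have h4 : ε (ε g) = ε g := hB _ h3
      have h5 : ε g = g := ε.injective h4
      rw [h5] at h3
      exact hg h3
    · -- the other fixed point of `dp`
      obtain ⟨o'', ho''⟩ := exists_smul_eq_ovPt v⁻¹ (some (x', y'))
      have h3 : sD hF t₁ • ovPt F m o'' = ovPt F m o'' := by
        rw [← ho'']
        have : sD hF t₁ = v⁻¹ * dp * v := by rw [hdp]; group
        rw [this, mul_smul, mul_smul, smul_inv_smul, hfix]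
      rcases o'' with _ | ⟨x'', y''⟩
      · exfalso
        have h4 : v • ovPt F m none = ovPt F m (some (x', y')) := by
          rw [← ho'', smul_inv_smul]
        rw [hv, sU_smul_none] at h4
        exact Option.some_ne_none _ (ovPt_injective h4).symm
      · have h4 : x'' = 0 ∧ y'' = 0 := by
          by_contra hne
          exact ht₁ (szD_eq_one_of_fix hF hne h3)
        obtain ⟨rfl, rfl⟩ := h4
        have h5 : ovPt F m (some (x', y')) = ovPt F m (some (x, y)) := by
          rw [← hv0, ← ho'', smul_inv_smul]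
        rw [mem_szB_iff', mul_smul, ho', h5, ← ho, inv_smul_smul]
  -- (c)
  refine MulEquiv.ext fun g => ?_
  rw [MulAut.one_apply]
  have h1 : g⁻¹ * ε g = 1 := by
    apply eq_one_of_forall_smul' hm hF
    intro o
    obtain ⟨h, hh⟩ := exists_smul_none_eq hF o
    have h3 : h⁻¹ * (g⁻¹ * ε g) * h ∈ szB F m := by
      have : h⁻¹ * (g⁻¹ * ε g) * h = ((g * h)⁻¹ * ε (g * h)) * (h⁻¹ * ε h)⁻¹ := by
        rw [map_mul]; group
      rw [this]
      exact (szB F m).mul_mem (hb _) ((szB F m).inv_mem (hb _))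
    rw [mem_szB_iff', mul_smul, mul_smul, hh] at h3
    have := congrArg (fun p => h • p) h3
    simp only [smul_inv_smul] at this
    rw [this, hh]
  have : ε g = g * (g⁻¹ * ε g) := by group
  rw [this, h1, mul_one]

end Cfsg.Agent.Helper6
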