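import Cfsg.Agent.Helper6.Sz43
import Cfsg.Prelude.Def_KGroupFacts

/-!
# The outer automorphism group of the Suzuki group
-/

set_option autoImplicit false

namespace Cfsg.Agent.Helper6

variable {F : Type*} [Field F] [Fintype F] {m : ℕ}

/-- every automorphism of the Suzuki group is an inner automorphism times a field automorphism -/
theorem aut_eq_conj_mul_field (hm : 1 ≤ m) (hF : Fintype.card F = 2 ^ (2 * m + 1))
    (α : MulAut (Cfsg.Sz F m)) :
    ∃ (g : Cfsg.Sz F m) (σ : F ≃+* F), α = MulAut.conj g * szFieldAut hm hF σ := by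
  obtain ⟨k, hkQ, hkT⟩ := exists_normalize hm hF α
  obtain ⟨c, σ, hU, hD⟩ := exists_field_normalize hm hF (MulAut.conj k * α) hkQ hkT
  have hQ' := aut_trivial_on_szQ hm hF _ hU hD
  have hB : ∀ g ∈ szB F m,
      ((szFieldAut hm hF σ)⁻¹ * (MulAut.conj (sD hF c) * (MulAut.conj k * α))) g = g := by
    intro g hg
    obtain ⟨a, b, t, rfl⟩ := (mem_szB_iff_exists hm hF g).1 hg
    rw [map_mul, hQ', hD]
  have h1 := aut_eq_one_of_fix_szB hm hF _ hB
  refine ⟨(sD hF c * k)⁻¹, σ, ?_⟩
  have h2 : MulAut.conj (sD hF c) * (MulAut.conj k * α) = szFieldAut hm hF σ := by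
    have := congrArg (fun x => szFieldAut hm hF σ * x) h1
    simpa [mul_assoc] using this
  rw [← h2, map_inv, map_mul]
  group

/-- a field automorphism inducing an inner automorphism is trivial -/
theorem field_aut_inner (hm : 1 ≤ m) (hF : Fintype.card F = 2 ^ (2 * m + 1)) (σ : F ≃+* F)
    (g : Cfsg.Sz F m) (h : szFieldAut hm hF σ = MulAut.conj g) : σ = 1 := by
  have hgB : g ∈ szB F m := by
    have h1 : g * sU hF 1 0 * g⁻¹ = sU hF (σ 1) (σ 0) := by
      rw [← szFieldAut_sU hm hF, h, MulAut.conj_apply]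
    exact mem_szB_of_conj hm hF g (fun h0 => one_ne_zero h0.1) h1
  obtain ⟨a₀, b₀, s, rfl⟩ := (mem_szB_iff_exists hm hF g).1 hgB
  have key : ∀ t : Fˣ, Units.map (σ : F →* F) t = t := by
    intro t
    have h1 : sU hF a₀ b₀ * sD hF s * sD hF t * (sU hF a₀ b₀ * sD hF s)⁻¹ =
        sD hF (Units.map (σ : F →* F) t) := by
      rw [← szFieldAut_sD hm hF, h, MulAut.conj_apply]
    have h3 : sU hF a₀ b₀ * sD hF s * sD hF t =
        sD hF (Units.map (σ : F →* F) t) * (sU hF a₀ b₀ * sD hF s) := by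
      rw [← h1]; group
    have h4 : sD hF (Units.map (σ : F →* F) t) * sU hF a₀ b₀ =
        sU hF (((Units.map (σ : F →* F) t : Fˣ) : F) * a₀)
          (((Units.map (σ : F →* F) t : Fˣ) : F) ^ (2 ^ (m + 1) + 1) * b₀) *
          sD hF (Units.map (σ : F →* F) t) := by
      rw [← sD_conj_sU hm hF]; group
    rw [mul_assoc, ← sD_mul, ← mul_assoc, h4, mul_assoc, ← sD_mul] at h3
    obtain ⟨-, -, h5⟩ := sB_unique hF h3
    rw [mul_comm] at h5
    exact (mul_right_cancel h5).symm
  apply RingEquiv.ext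
  intro x
  rw [RingAut.one_apply]
  by_cases hx : x = 0
  · rw [hx, map_zero]
  · have := congrArg (fun u : Fˣ => (u : F)) (key (Units.mk0 x hx))
    simpa using this

/-- the number of automorphisms of a field with `2 ^ (2 m + 1)` elements -/
theorem card_ringAut (hF : Fintype.card F = 2 ^ (2 * m + 1)) :
    Nat.card (F ≃+* F) = 2 * m + 1 := by
  have : CharP F 2 := CharTwo.of_one_ne_zero_of_two_eq_zero one_ne_zero (two_eq_zero_of_card hF)
  letI : Algebra (ZMod 2) F := ZMod.algebra F 2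
  have e : (F ≃ₐ[ZMod 2] F) ≃ (F ≃+* F) :=
    { toFun := fun f => f.toRingEquiv
      invFun := fun f => AlgEquiv.ofRingEquiv (f := f) (fun x => by
        have h1 : (f : F →+* F).comp (algebraMap (ZMod 2) F) = algebraMap (ZMod 2) F :=
          Subsingleton.elim _ _
        exact RingHom.congr_fun h1 x)
      left_inv := fun f => by ext x; rfl
      right_inv := fun f => by ext x; rfl }
  rw [← Nat.card_congr e]
  have hb := FiniteField.bijective_frobeniusAlgEquivOfAlgebraic_pow (ZMod 2) F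
  rw [← Nat.card_congr (Equiv.ofBijective _ hb), Nat.card_fin]
  have h1 := Module.card_eq_pow_finrank (K := ZMod 2) (V := F)
  rw [hF, ZMod.card] at h1
  exact (Nat.pow_right_injective le_rfl h1).symm

/-- the order of the outer automorphism group of the Suzuki group (ovoid model) -/
theorem card_out_Sz (hm : 1 ≤ m) (hF : Fintype.card F = 2 ^ (2 * m + 1)) :
    Nat.card (Cfsg.Out (Cfsg.Sz F m)) = 2 * m + 1 := by
  let Ψ : (F ≃+* F) →* Cfsg.Out (Cfsg.Sz F m) :=
    (QuotientGroup.mk' (Cfsg.Inn (Cfsg.Sz F m))).comp (szFieldHom hm hF)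
  have hinj : Function.Injective Ψ := by
    rw [injective_iff_map_eq_one]
    intro σ hσ
    have h1 : szFieldHom hm hF σ ∈ Cfsg.Inn (Cfsg.Sz F m) :=
      (QuotientGroup.eq_one_iff _).1 hσ
    obtain ⟨g, hg⟩ := h1
    exact field_aut_inner hm hF σ g hg.symm
  have hsurj : Function.Surjective Ψ := by
    intro x
    obtain ⟨α, rfl⟩ := QuotientGroup.mk_surjective x
    obtain ⟨g, σ, rfl⟩ := aut_eq_conj_mul_field hm hF α
    refine ⟨σ, ?_⟩
    show (QuotientGroup.mk (szFieldAut hm hF σ) : Cfsg.Out (Cfsg.Sz F m)) = _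
    rw [QuotientGroup.mk_mul]
    have h1 : (QuotientGroup.mk (MulAut.conj g) : Cfsg.Out (Cfsg.Sz F m)) = 1 :=
      (QuotientGroup.eq_one_iff _).2 ⟨g, rfl⟩
    rw [h1, one_mul]
  rw [← Nat.card_congr (Equiv.ofBijective Ψ ⟨hinj, hsurj⟩), card_ringAut hF]

/-- isomorphic groups have outer automorphism groups of the same order -/
theorem card_out_congr {G H : Type*} [Group G] [Group H] (e : G ≃* H) :
    Nat.card (Cfsg.Out G) = Nat.card (Cfsg.Out H) := by
  have he : (Cfsg.Inn G).map (MulAut.congr e : MulAut G →* MulAut H) = Cfsg.Inn H := by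
    ext f
    constructor
    · rintro ⟨_, ⟨g, rfl⟩, rfl⟩
      refine ⟨e g, ?_⟩
      ext x
      simp [MulAut.congr, MulAut.conj_apply]
    · rintro ⟨h, rfl⟩
      refine ⟨MulAut.conj (e.symm h), ⟨e.symm h, rfl⟩, ?_⟩
      ext x
      simp [MulAut.congr, MulAut.conj_apply]
  exact Nat.card_congr (QuotientGroup.congr _ _ (MulAut.congr e) he).toEquiv

/-- the order of the outer automorphism group of the Suzuki group (Lie model) -/
theorem card_out_lieSz (hm : 1 ≤ m) (hF : Fintype.card F = 2 ^ (2 * m + 1)) :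
    Nat.card (Cfsg.Out ↥(Cfsg.Lie.Sz F (2 ^ (m + 1)))) = 2 * m + 1 := by
  rw [← card_out_congr (lieSzEquiv hm hF), card_out_Sz hm hF]

end Cfsg.Agent.Helper6
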