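import Cfsg.Agent.Helper6.Sz44

/-!
# Subfield embeddings of Suzuki groups
-/

set_option autoImplicit false

namespace Cfsg.Agent.Helper6

open Cfsg.Lie

variable {F : Type*} [Field F] [Fintype F] {m : ℕ} {K : Type*} [Field K] [Fintype K] {k : ℕ}

omit [Fintype F] [Fintype K] in
theorem suzukiForm_map' (ι : K →+* F) : (Cfsg.suzukiForm K).map ι = Cfsg.suzukiForm F := by
  ext i j
  fin_cases i <;> fin_cases j <;> simp [Cfsg.suzukiForm]

omit [Fintype F] [Fintype K] in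
theorem presJ_map' (ι : K →+* F) {M : Matrix (Fin 4) (Fin 4) K} (h : PresJ M) :
    PresJ (M.map ι) := by
  unfold PresJ at *
  have h1 := congrArg (fun X : Matrix (Fin 4) (Fin 4) K => X.map ι) h
  simp only [Matrix.map_mul, suzukiForm_map', Matrix.transpose_map] at h1
  exact h1

omit [Fintype F] [Fintype K] in
theorem star4_map' (ι : K →+* F) (M : Matrix (Fin 4) (Fin 4) K) :
    star4 (M.map ι) = (star4 M).map ι := by
  ext p r
  simp only [star4_apply, minor2, Matrix.map_apply, map_sub, map_mul]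

theorem exists_frob_period (hK : Fintype.card K = 2 ^ (2 * k + 1))
    (hdiv : 2 * k + 1 ∣ 2 * m + 1) : ∃ P : ℕ, m = P + k ∧ ∀ x : K, x ^ (2 ^ P) = x := by
  obtain ⟨d, hd⟩ := hdiv
  have hodd : d % 2 = 1 := by
    rcases Nat.mod_two_eq_zero_or_one d with h | h
    · exfalso
      have : (2 * k + 1) * d % 2 = 0 := by rw [Nat.mul_mod, h]; simp
      omega
    · exact h
  obtain ⟨e, he⟩ : ∃ e, d = 2 * e + 1 := ⟨d / 2, by omega⟩
  rw [he] at hd
  have h1 : (2 * k + 1) * (2 * e + 1) = 2 * ((2 * k + 1) * e) + (2 * k + 1) := by ring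
  obtain ⟨P, hP⟩ : ∃ P, P = (2 * k + 1) * e := ⟨_, rfl⟩
  rw [h1, ← hP] at hd
  refine ⟨P, by omega, fun x => ?_⟩
  rw [hP, pow_mul, ← hK]
  exact FiniteField.pow_card_pow e x

/-- the Tits endomorphisms of a field and of a subfield agree on the subfield -/
theorem pow_sigma_compat (hK : Fintype.card K = 2 ^ (2 * k + 1)) (hdiv : 2 * k + 1 ∣ 2 * m + 1)
    (x : K) : x ^ (2 ^ (m + 1)) = x ^ (2 ^ (k + 1)) := by
  obtain ⟨P, hP, h3⟩ := exists_frob_period (m := m) hK hdiv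
  have h2 : m + 1 = P + (k + 1) := by omega
  rw [h2, pow_add, pow_mul, h3]

theorem pow_r_compat (hK : Fintype.card K = 2 ^ (2 * k + 1)) (hdiv : 2 * k + 1 ∣ 2 * m + 1)
    (x : K) : x ^ (2 ^ m) = x ^ (2 ^ k) := by
  obtain ⟨P, hP, h3⟩ := exists_frob_period (m := m) hK hdiv
  rw [hP, pow_add, pow_mul, h3]

theorem isSzMat_map' (hK : Fintype.card K = 2 ^ (2 * k + 1)) (hdiv : 2 * k + 1 ∣ 2 * m + 1)
    (ι : K →+* F) {M : Matrix (Fin 4) (Fin 4) K} (h : IsSzMat k M) : IsSzMat m (M.map ι) := by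
  refine ⟨presJ_map' ι h.1, ?_⟩
  rw [star4_map', h.2]
  ext i j
  simp only [Matrix.map_apply]
  rw [← map_pow, pow_sigma_compat hK hdiv]

theorem map_mem_Sz' (hm : 1 ≤ m) (hF : Fintype.card F = 2 ^ (2 * m + 1)) (hk : 1 ≤ k)
    (hK : Fintype.card K = 2 ^ (2 * k + 1)) (hdiv : 2 * k + 1 ∣ 2 * m + 1) (ι : K →+* F)
    (g : Cfsg.Sz K k) :
    Matrix.SpecialLinearGroup.map ι (g : Matrix.SpecialLinearGroup (Fin 4) K) ∈ Cfsg.Sz F m := by
  apply mem_Sz_of_isSzMat hm hF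
  have := isSzMat_map' (m := m) hK hdiv ι (isSzMat_of_mem_Sz hk hK g.2)
  exact this

/-- the embedding of a Suzuki group over a subfield -/
noncomputable def szEmb (hm : 1 ≤ m) (hF : Fintype.card F = 2 ^ (2 * m + 1)) (hk : 1 ≤ k)
    (hK : Fintype.card K = 2 ^ (2 * k + 1)) (hdiv : 2 * k + 1 ∣ 2 * m + 1) (ι : K →+* F) :
    Cfsg.Sz K k →* Cfsg.Sz F m where
  toFun g := ⟨Matrix.SpecialLinearGroup.map ι g, map_mem_Sz' hm hF hk hK hdiv ι g⟩
  map_one' := by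
    apply Subtype.ext
    simp
  map_mul' a b := by
    apply Subtype.ext
    simp

theorem coe_szEmb (hm : 1 ≤ m) (hF : Fintype.card F = 2 ^ (2 * m + 1)) (hk : 1 ≤ k)
    (hK : Fintype.card K = 2 ^ (2 * k + 1)) (hdiv : 2 * k + 1 ∣ 2 * m + 1) (ι : K →+* F)
    (g : Cfsg.Sz K k) :
    ((szEmb hm hF hk hK hdiv ι g : Cfsg.Sz F m) : Matrix.SpecialLinearGroup (Fin 4) F) =
      Matrix.SpecialLinearGroup.map ι g := rfl

omit [Fintype F] [Fintype K] in
theorem sl_map_apply' (ι : K →+* F) (g : Matrix.SpecialLinearGroup (Fin 4) K) (i j : Fin 4) :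
    ((Matrix.SpecialLinearGroup.map ι g : Matrix.SpecialLinearGroup (Fin 4) F) :
      Matrix (Fin 4) (Fin 4) F) i j = ι ((g : Matrix (Fin 4) (Fin 4) K) i j) := rfl

theorem szEmb_injective (hm : 1 ≤ m) (hF : Fintype.card F = 2 ^ (2 * m + 1)) (hk : 1 ≤ k)
    (hK : Fintype.card K = 2 ^ (2 * k + 1)) (hdiv : 2 * k + 1 ∣ 2 * m + 1) (ι : K →+* F) :
    Function.Injective (szEmb hm hF hk hK hdiv ι) := by
  intro a b h
  apply Subtype.ext
  apply Subtype.ext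
  ext i j
  have h1 := congrArg (fun g : Cfsg.Sz F m =>
    ((g : Matrix.SpecialLinearGroup (Fin 4) F) : Matrix (Fin 4) (Fin 4) F) i j) h
  simp only [coe_szEmb, sl_map_apply'] at h1
  exact ι.injective h1

omit [Fintype F] [Fintype K] in
theorem uMat_map (ι : K →+* F) (a b A f : K) :
    (uMat a b A f).map ι = uMat (ι a) (ι b) (ι A) (ι f) := by
  ext i j
  fin_cases i <;> fin_cases j <;> simp [uMat]

theorem map_pow_sigma_compat (hK : Fintype.card K = 2 ^ (2 * k + 1))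
    (hdiv : 2 * k + 1 ∣ 2 * m + 1) (ι : K →+* F) (x : K) :
    (ι x) ^ (2 ^ (m + 1)) = (ι x) ^ (2 ^ (k + 1)) := by
  rw [← map_pow, pow_sigma_compat hK hdiv, map_pow]

theorem szEmb_sU (hm : 1 ≤ m) (hF : Fintype.card F = 2 ^ (2 * m + 1)) (hk : 1 ≤ k)
    (hK : Fintype.card K = 2 ^ (2 * k + 1)) (hdiv : 2 * k + 1 ∣ 2 * m + 1) (ι : K →+* F)
    (a b : K) : szEmb hm hF hk hK hdiv ι (sU hK a b) = sU hF (ι a) (ι b) := by
  apply Subtype.ext
  apply Subtype.ext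
  rw [coe_szEmb, coe_sU, coe_sU]
  show (uMat a b (a ^ (2 ^ (k + 1))) (ovF K k a b)).map ι =
    uMat (ι a) (ι b) ((ι a) ^ (2 ^ (m + 1))) (ovF F m (ι a) (ι b))
  rw [uMat_map]
  have h1 : ι (a ^ (2 ^ (k + 1))) = (ι a) ^ (2 ^ (m + 1)) := by
    rw [map_pow_sigma_compat hK hdiv, map_pow]
  have h2 : ι (ovF K k a b) = ovF F m (ι a) (ι b) := by
    unfold ovF
    rw [map_add, map_add, map_mul, map_pow, map_pow, pow_add, pow_add (ι a),
      map_pow_sigma_compat hK hdiv, map_pow_sigma_compat hK hdiv]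
  rw [h1, h2]

omit [Fintype F] [Fintype K] in
theorem dMat_map (ι : K →+* F) (r : ℕ) (t : K) :
    (dMat r t).map ι = dMat r (ι t) := by
  ext i j
  fin_cases i <;> fin_cases j <;> simp [dMat, map_inv₀, map_pow]

theorem szEmb_sD (hm : 1 ≤ m) (hF : Fintype.card F = 2 ^ (2 * m + 1)) (hk : 1 ≤ k)
    (hK : Fintype.card K = 2 ^ (2 * k + 1)) (hdiv : 2 * k + 1 ∣ 2 * m + 1) (ι : K →+* F)
    (t : Kˣ) : szEmb hm hF hk hK hdiv ι (sD hK t) = sD hF (Units.map (ι : K →* F) t) := by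
  apply Subtype.ext
  apply Subtype.ext
  rw [coe_szEmb, coe_sD, coe_sD]
  show (dMat (2 ^ k) (t : K)).map ι = dMat (2 ^ m) (ι (t : K))
  rw [dMat_map]
  have h1 : (ι (t : K)) ^ (2 ^ m) = (ι (t : K)) ^ (2 ^ k) := by
    rw [← map_pow, pow_r_compat hK hdiv, map_pow]
  unfold dMat
  rw [pow_succ, pow_succ (ι (t : K)), h1]

theorem szEmb_sW (hm : 1 ≤ m) (hF : Fintype.card F = 2 ^ (2 * m + 1)) (hk : 1 ≤ k)
    (hK : Fintype.card K = 2 ^ (2 * k + 1)) (hdiv : 2 * k + 1 ∣ 2 * m + 1) (ι : K →+* F) :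
    szEmb hm hF hk hK hdiv ι (sW hK) = sW hF := by
  apply Subtype.ext
  apply Subtype.ext
  rw [coe_szEmb, coe_sW, coe_sW]
  ext i j
  rw [sl_map_apply']
  fin_cases i <;> fin_cases j <;>
    simp [szT, tMat]

end Cfsg.Agent.Helper6
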