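import Cfsg.Agent.Helper6.Sz45

/-!
# Embeddings of Suzuki groups: normalising the Sylow 2-subgroup and the torus
-/

set_option autoImplicit false

namespace Cfsg.Agent.Helper6

open scoped Pointwise

variable {F : Type*} [Field F] [Fintype F] {m : ℕ} {K : Type*} [Field K] [Fintype K] {k : ℕ}

/-- a homomorphism followed by a conjugation -/
def conjHom (g : Cfsg.Sz F m) (ψ : Cfsg.Sz K k →* Cfsg.Sz F m) : Cfsg.Sz K k →* Cfsg.Sz F m :=
  (MulAut.conj g).toMonoidHom.comp ψ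

omit [Fintype F] [Fintype K] in
theorem conjHom_apply (g : Cfsg.Sz F m) (ψ : Cfsg.Sz K k →* Cfsg.Sz F m) (x : Cfsg.Sz K k) :
    conjHom g ψ x = g * ψ x * g⁻¹ := rfl

omit [Fintype F] [Fintype K] in
theorem conjHom_injective (g : Cfsg.Sz F m) {ψ : Cfsg.Sz K k →* Cfsg.Sz F m}
    (hψ : Function.Injective ψ) : Function.Injective (conjHom g ψ) := by
  intro x y h
  rw [conjHom_apply, conjHom_apply] at h
  exact hψ (mul_left_cancel (mul_right_cancel h))

omit [Fintype F] [Fintype K] in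
theorem conjHom_conjHom (g h : Cfsg.Sz F m) (ψ : Cfsg.Sz K k →* Cfsg.Sz F m) :
    conjHom g (conjHom h ψ) = conjHom (g * h) ψ := by
  ext x
  rw [conjHom_apply, conjHom_apply, conjHom_apply]
  simp only [Subgroup.coe_mul, Subgroup.coe_inv]
  group

/-- every homomorphism maps the translation subgroup into a conjugate of the translation
subgroup -/
theorem exists_conj_szQ' (hm : 1 ≤ m) (hF : Fintype.card F = 2 ^ (2 * m + 1)) (hk : 1 ≤ k)
    (hK : Fintype.card K = 2 ^ (2 * k + 1)) (ψ : Cfsg.Sz K k →* Cfsg.Sz F m) :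
    ∃ g : Cfsg.Sz F m, ∀ a b : K, ∃ a' b' : F, ψ (sU hK a b) = g * sU hF a' b' * g⁻¹ := by
  have : Finite (Cfsg.Sz F m) := inferInstance
  have : Finite (Cfsg.Sz K k) := inferInstance
  have hQp : IsPGroup 2 (szQ hm hF) := by
    apply IsPGroup.of_card (n := 2 * (2 * m + 1))
    rw [card_szQ, hF, ← pow_mul, mul_comm]
  have hQpK : IsPGroup 2 (szQ hk hK) := by
    apply IsPGroup.of_card (n := 2 * (2 * k + 1))
    rw [card_szQ, hK, ← pow_mul, mul_comm]
  let QS : Sylow 2 (Cfsg.Sz F m) := hQp.toSylow (szQ_index_odd hm hF)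
  have hmap : IsPGroup 2 ((szQ hk hK).map ψ) := hQpK.map _
  obtain ⟨P', hP'⟩ := hmap.exists_le_sylow
  obtain ⟨g, hg⟩ := MulAction.exists_smul_eq (Cfsg.Sz F m) QS P'
  refine ⟨g, fun a b => ?_⟩
  have h1 : ψ (sU hK a b) ∈ (g • QS : Sylow 2 (Cfsg.Sz F m)) := by
    rw [hg]
    apply hP'
    exact ⟨sU hK a b, (mem_szQ_iff hk hK _).2 ⟨a, b, rfl⟩, rfl⟩
  rw [mem_sylow_smul_iff] at h1
  have h2 : g⁻¹ * ψ (sU hK a b) * g ∈ szQ hm hF := h1
  obtain ⟨a', b', h3⟩ := (mem_szQ_iff hm hF _).1 h2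
  refine ⟨a', b', ?_⟩
  rw [← h3]
  group

/-- Step 2: after a conjugation, an embedding preserves the translations and the torus -/
theorem exists_normalize' (hm : 1 ≤ m) (hF : Fintype.card F = 2 ^ (2 * m + 1)) (hk : 1 ≤ k)
    (hK : Fintype.card K = 2 ^ (2 * k + 1)) (ψ : Cfsg.Sz K k →* Cfsg.Sz F m)
    (hψ : Function.Injective ψ) :
    ∃ g : Cfsg.Sz F m,
      (∀ a b : K, ∃ a' b' : F, conjHom g ψ (sU hK a b) = sU hF a' b') ∧
      (∀ t : Kˣ, ∃ t' : Fˣ, conjHom g ψ (sD hK t) = sD hF t') := by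
  have h2K : (2 : K) = 0 := two_eq_zero_of_card hK
  have : Finite (Cfsg.Sz F m) := inferInstance
  obtain ⟨k₀, hk₀⟩ := exists_conj_szQ' hm hF hk hK ψ
  obtain ⟨β, hβ⟩ : ∃ β : Cfsg.Sz K k →* Cfsg.Sz F m, β = conjHom k₀⁻¹ ψ := ⟨_, rfl⟩
  have hβinj : Function.Injective β := by rw [hβ]; exact conjHom_injective _ hψ
  have hβQ : ∀ a b : K, ∃ a' b' : F, β (sU hK a b) = sU hF a' b' := by
    intro a b
    obtain ⟨a', b', h⟩ := hk₀ a b
    refine ⟨a', b', ?_⟩
    rw [hβ, conjHom_apply, h]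
    group
  -- `β` maps the Borel subgroup into the Borel subgroup
  have hβB : ∀ g ∈ szB K k, β g ∈ szB F m := by
    intro g hg
    have hn : g ∈ Subgroup.normalizer ((szQ hk hK : Subgroup (Cfsg.Sz K k)) : Set (Cfsg.Sz K k)) := by
      rw [normalizer_szQ hk hK]; exact hg
    rw [Subgroup.mem_normalizer_iff] at hn
    have h1 : g * sU hK 1 0 * g⁻¹ ∈ szQ hk hK :=
      (hn _).1 ((mem_szQ_iff hk hK _).2 ⟨1, 0, rfl⟩)
    obtain ⟨c, e, hce⟩ := (mem_szQ_iff hk hK _).1 h1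
    obtain ⟨a', b', hab⟩ := hβQ 1 0
    obtain ⟨c', e', hce'⟩ := hβQ c e
    have h3 : β g * sU hF a' b' * (β g)⁻¹ = sU hF c' e' := by
      rw [← hab, ← hce', ← hce, map_mul, map_mul, map_inv]
    refine mem_szB_of_conj hm hF (β g) ?_ h3
    intro h0
    have h4 : β (sU hK 1 0) = 1 := by rw [hab]; exact (sU_eq_one_iff hm hF _ _).2 h0
    have h5 : sU hK (1 : K) 0 = 1 := by
      apply hβinj
      rw [h4, map_one]
    exact one_ne_zero ((sU_eq_one_iff hk hK _ _).1 h5).1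
  -- a generator of the torus
  obtain ⟨t₀, ht₀⟩ := IsCyclic.exists_monoid_generator (α := Kˣ)
  obtain ⟨a, b, s, hs⟩ := (mem_szB_iff_exists hm hF _).1 (hβB _ (sD_mem_szB hk hK t₀))
  have hs1 : s ≠ 1 := by
    intro h
    rw [h, sD_one, mul_one] at hs
    have h3 : β (sD hK (t₀ ^ 4)) = 1 := by
      rw [sD_pow, map_pow, hs, sU_pow_four hm hF]
    have h4 : sD hK (t₀ ^ 4) = 1 := by
      apply hβinj
      rw [h3, map_one]
    rw [← sD_one hK] at h4
    have h5 : t₀ ^ 4 = 1 := sD_inj hK h4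
    have h6 : (t₀ : K) ^ 4 = 1 := by
      rw [← Units.val_pow_eq_pow_val, h5, Units.val_one]
    have h7 : t₀ = 1 := Units.ext (eq_one_of_pow_four h2K h6)
    obtain ⟨t, ht⟩ := exists_unit_ne_one hk hK
    apply ht
    obtain ⟨n, hn⟩ := (Submonoid.mem_powers_iff _ _).1 (ht₀ t)
    rw [← hn, h7, one_pow]
  have hs1' : (s : F) ≠ 1 := fun h => hs1 (Units.ext h)
  -- Frobenius conjugation
  obtain ⟨v, hvQ, hv⟩ := exists_conj_of_fpf (szQ hm hF) (sD hF s)
    (by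
      intro v hv
      obtain ⟨c, e, rfl⟩ := (mem_szQ_iff hm hF _).1 hv
      rw [sD_conj_sU hm hF]
      exact (mem_szQ_iff hm hF _).2 ⟨_, _, rfl⟩)
    (by
      intro v hv hcomm
      obtain ⟨c, e, rfl⟩ := (mem_szQ_iff hm hF _).1 hv
      have h3 : sD hF s * sU hF c e * (sD hF s)⁻¹ = sU hF c e := by
        rw [← hcomm]; group
      rw [sD_conj_sU hm hF] at h3
      obtain ⟨h4, h5⟩ := sU_inj hF h3
      rw [sU_eq_one_iff hm hF]
      constructor
      · have : ((s : F) - 1) * c = 0 := by rw [sub_mul, one_mul, h4, sub_self]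
        rcases mul_eq_zero.1 this with h | h
        · exact absurd (sub_eq_zero.1 h) hs1'
        · exact h
      · have : ((s : F) ^ (2 ^ (m + 1) + 1) - 1) * e = 0 := by rw [sub_mul, one_mul, h5, sub_self]
        rcases mul_eq_zero.1 this with h | h
        · exact absurd (eq_one_of_pow_sigma_succ hF (sub_eq_zero.1 h)) hs1'
        · exact h)
    (sU hF a b) ((mem_szQ_iff hm hF _).2 ⟨a, b, rfl⟩)
  refine ⟨v * k₀⁻¹, ?_, ?_⟩
  · intro a₁ b₁
    obtain ⟨a', b', h⟩ := hβQ a₁ b₁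
    rw [← conjHom_conjHom, ← hβ, conjHom_apply, h]
    have h4 : v * sU hF a' b' * v⁻¹ ∈ szQ hm hF :=
      (szQ hm hF).mul_mem ((szQ hm hF).mul_mem hvQ ((mem_szQ_iff hm hF _).2 ⟨a', b', rfl⟩))
        ((szQ hm hF).inv_mem hvQ)
    exact (mem_szQ_iff hm hF _).1 h4
  · intro t
    obtain ⟨n, hn⟩ := (Submonoid.mem_powers_iff _ _).1 (ht₀ t)
    refine ⟨s ^ n, ?_⟩
    have h3 : conjHom (v * k₀⁻¹) ψ (sD hK t₀) = sD hF s := by
      rw [← conjHom_conjHom, ← hβ, conjHom_apply, hs]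
      exact hv
    rw [← hn, sD_pow, map_pow, h3, ← sD_pow]

end Cfsg.Agent.Helper6
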