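import Cfsg.Agent.Helper6.Sz46

/-!
# Embeddings of Suzuki groups: extracting the field embedding
-/

set_option autoImplicit false

namespace Cfsg.Agent.Helper6

variable {F : Type*} [Field F] [Fintype F] {m : ℕ} {K : Type*} [Field K] [Fintype K] {k : ℕ}

/-- Lemma A': the shape of an embedding preserving the translations and the torus -/
theorem hom_shape (hm : 1 ≤ m) (hF : Fintype.card F = 2 ^ (2 * m + 1)) (hk : 1 ≤ k)
    (hK : Fintype.card K = 2 ^ (2 * k + 1)) (γ : Cfsg.Sz K k →* Cfsg.Sz F m)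
    (hγ : Function.Injective γ)
    (hQ : ∀ a b : K, ∃ a' b' : F, γ (sU hK a b) = sU hF a' b')
    (hT : ∀ t : Kˣ, ∃ t' : Fˣ, γ (sD hK t) = sD hF t') :
    ∃ (g₁ : K → F) (τ : Kˣ → Fˣ),
      (∀ a b : K, ∃ b' : F, γ (sU hK a b) = sU hF (g₁ a) b') ∧
      (∀ t : Kˣ, γ (sD hK t) = sD hF (τ t)) ∧
      (∀ a c : K, g₁ (a + c) = g₁ a + g₁ c) ∧
      (∀ (t : Kˣ) (a : K), g₁ ((t : K) * a) = (τ t : F) * g₁ a) ∧
      (∀ a : K, g₁ a = 0 → a = 0) := by
  have hs0 : (2 : ℕ) ^ (m + 1) ≠ 0 := by positivity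
  have hs0K : (2 : ℕ) ^ (k + 1) ≠ 0 := by positivity
  choose fA fB hf using hQ
  choose τ hτ using hT
  have F1 : ∀ b : K, fA 0 b = 0 := by
    intro b
    obtain ⟨a', ha'⟩ := exists_pow_sigma_mul hK b
    have h1 : γ (sU hK 0 b) = γ (sU hK a' 0) * γ (sU hK a' 0) := by
      rw [← map_mul, sU_sq hk hK, ha']
    rw [hf, hf, sU_sq hm hF] at h1
    exact (sU_inj hF h1).1
  have F2 : ∀ a b : K, fA a b = fA a 0 := by
    intro a b
    have h1 : γ (sU hK a b) = γ (sU hK a 0) * γ (sU hK 0 b) := by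
      rw [← map_mul, ← sU_split hk hK]
    rw [hf, hf, hf, sU_mul hm hF, F1, add_zero] at h1
    exact (sU_inj hF h1).1
  refine ⟨fun a => fA a 0, τ, ?_, hτ, ?_, ?_, ?_⟩
  · intro a b
    exact ⟨fB a b, by rw [hf, F2]⟩
  · intro a c
    have h1 : γ (sU hK a 0 * sU hK c 0) = γ (sU hK a 0) * γ (sU hK c 0) := map_mul _ _ _
    rw [sU_mul hk hK, hf, hf, hf, sU_mul hm hF, F2] at h1
    exact (sU_inj hF h1).1
  · intro t a
    have h1 : γ (sD hK t * sU hK a 0 * (sD hK t)⁻¹) =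
        γ (sD hK t) * γ (sU hK a 0) * (γ (sD hK t))⁻¹ := by
      rw [map_mul, map_mul, map_inv]
    rw [sD_conj_sU hk hK, hf, hf, hτ, sD_conj_sU hm hF, F2] at h1
    exact (sU_inj hF h1).1
  · intro a ha
    have h1 : γ (sU hK a 0 * sU hK a 0) = γ (sU hK a 0) * γ (sU hK a 0) := map_mul _ _ _
    simp only at ha
    rw [hf, ha, sU_sq hk hK, sU_sq hm hF, zero_pow hs0, zero_mul, sU_zero hm hF] at h1
    have h2 : sU hK 0 (a ^ (2 ^ (k + 1)) * a) = 1 := by
      apply hγ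
      rw [h1, map_one]
    have h3 := ((sU_eq_one_iff hk hK _ _).1 h2).2
    rcases mul_eq_zero.1 h3 with h | h
    · exact pow_eq_zero_iff hs0K |>.1 h
    · exact h

omit [Fintype F] [Fintype K] in
/-- Lemma B': a normalised additive map compatible with the torus is a field embedding -/
theorem exists_ringHom_of_shape (g₁ : K → F) (τ : Kˣ → Fˣ)
    (hadd : ∀ a c : K, g₁ (a + c) = g₁ a + g₁ c)
    (hmul : ∀ (t : Kˣ) (a : K), g₁ ((t : K) * a) = (τ t : F) * g₁ a)
    (hone : g₁ 1 = 1) :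
    ∃ ι : K →+* F, (∀ a : K, ι a = g₁ a) ∧ (∀ t : Kˣ, ι (t : K) = (τ t : F)) := by
  have h0 : g₁ 0 = 0 := by
    have := hadd 0 0
    rw [add_zero] at this
    exact left_eq_add.1 this
  have hτ : ∀ t : Kˣ, g₁ (t : K) = (τ t : F) := by
    intro t
    have := hmul t 1
    rwa [mul_one, hone, mul_one] at this
  let f : K →+* F :=
    { toFun := g₁
      map_one' := hone
      map_mul' := by
        intro a b
        by_cases ha : a = 0
        · rw [ha, zero_mul, h0, zero_mul]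
        · have := hmul (Units.mk0 a ha) b
          rw [Units.val_mk0] at this
          rw [this, ← hτ, Units.val_mk0]
      map_zero' := h0
      map_add' := hadd }
  exact ⟨f, fun a => rfl, fun t => hτ t⟩

/-- Step 3': after a torus conjugation, the embedding is governed by a field embedding -/
theorem exists_field_normalize' (hm : 1 ≤ m) (hF : Fintype.card F = 2 ^ (2 * m + 1)) (hk : 1 ≤ k)
    (hK : Fintype.card K = 2 ^ (2 * k + 1)) (γ : Cfsg.Sz K k →* Cfsg.Sz F m)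
    (hγ : Function.Injective γ)
    (hQ : ∀ a b : K, ∃ a' b' : F, γ (sU hK a b) = sU hF a' b')
    (hT : ∀ t : Kˣ, ∃ t' : Fˣ, γ (sD hK t) = sD hF t') :
    ∃ (c : Fˣ) (ι : K →+* F),
      (∀ a b : K, ∃ b' : F, conjHom (sD hF c) γ (sU hK a b) = sU hF (ι a) b') ∧
      (∀ t : Kˣ, conjHom (sD hF c) γ (sD hK t) = sD hF (Units.map (ι : K →* F) t)) := by
  obtain ⟨g₁, τ, h1, h2, -, -, h5⟩ := hom_shape hm hF hk hK γ hγ hQ hT
  have hg1 : g₁ 1 ≠ 0 := fun h => one_ne_zero (h5 1 h)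
  obtain ⟨c, hc⟩ : ∃ c : Fˣ, c = (Units.mk0 (g₁ 1) hg1)⁻¹ := ⟨_, rfl⟩
  obtain ⟨δ, hδ⟩ : ∃ δ : Cfsg.Sz K k →* Cfsg.Sz F m, δ = conjHom (sD hF c) γ := ⟨_, rfl⟩
  have hδinj : Function.Injective δ := by rw [hδ]; exact conjHom_injective _ hγ
  have hδU : ∀ a b : K, ∃ b' : F, δ (sU hK a b) = sU hF ((c : F) * g₁ a) b' := by
    intro a b
    obtain ⟨b', hb'⟩ := h1 a b
    refine ⟨(c : F) ^ (2 ^ (m + 1) + 1) * b', ?_⟩
    rw [hδ, conjHom_apply, hb', sD_conj_sU hm hF]
  have hδD : ∀ t : Kˣ, δ (sD hK t) = sD hF (τ t) := by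
    intro t
    rw [hδ, conjHom_apply, h2, sD_comm, mul_assoc, mul_inv_cancel, mul_one]
  obtain ⟨g₁', τ', k1, k2, k3, k4, -⟩ := hom_shape hm hF hk hK δ hδinj
    (fun a b => by obtain ⟨b', h⟩ := hδU a b; exact ⟨_, b', h⟩)
    (fun t => ⟨_, hδD t⟩)
  have hone : g₁' 1 = 1 := by
    obtain ⟨b', hb'⟩ := k1 1 0
    obtain ⟨b'', hb''⟩ := hδU 1 0
    rw [hb''] at hb'
    have := (sU_inj hF hb').1
    rw [← this, hc, Units.val_inv_eq_inv_val, Units.val_mk0, inv_mul_cancel₀ hg1]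
  obtain ⟨ι, hι1, hι2⟩ := exists_ringHom_of_shape g₁' τ' k3 k4 hone
  refine ⟨c, ι, ?_, ?_⟩
  · intro a b
    obtain ⟨b', hb'⟩ := k1 a b
    exact ⟨b', by rw [← hδ, hb', hι1]⟩
  · intro t
    rw [← hδ, k2]
    congr 1
    apply Units.ext
    rw [Units.coe_map]
    exact (hι2 t).symm

/-- Step 4': an embedding governed by a field embedding is standard on the translations -/
theorem hom_standard_on_szQ (hm : 1 ≤ m) (hF : Fintype.card F = 2 ^ (2 * m + 1)) (hk : 1 ≤ k)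
    (hK : Fintype.card K = 2 ^ (2 * k + 1)) (hdiv : 2 * k + 1 ∣ 2 * m + 1)
    (ε : Cfsg.Sz K k →* Cfsg.Sz F m) (ι : K →+* F)
    (hU : ∀ a b : K, ∃ b' : F, ε (sU hK a b) = sU hF (ι a) b')
    (hD : ∀ t : Kˣ, ε (sD hK t) = sD hF (Units.map (ι : K →* F) t)) :
    ∀ a b : K, ε (sU hK a b) = sU hF (ι a) (ι b) := by
  have h2 : (2 : F) = 0 := two_eq_zero_of_card hF
  have h2K : (2 : K) = 0 := two_eq_zero_of_card hK
  choose kk hkk using hU
  have K1 : ∀ z : K, kk 0 z = ι z := by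
    intro z
    obtain ⟨a, ha⟩ := exists_pow_sigma_mul hK z
    have h1 : ε (sU hK 0 z) = ε (sU hK a 0) * ε (sU hK a 0) := by
      rw [← map_mul, sU_sq hk hK, ha]
    rw [hkk, hkk, sU_sq hm hF, map_zero] at h1
    have h3 := (sU_inj hF h1).2
    rw [h3, map_pow_sigma_compat hK hdiv, ← ha, map_mul, map_pow]
  have K2 : ∀ a b : K, kk a b = kk a 0 + ι b := by
    intro a b
    have h1 : ε (sU hK a b) = ε (sU hK a 0) * ε (sU hK 0 b) := by
      rw [← map_mul, ← sU_split hk hK]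
    rw [hkk, hkk, hkk, K1, sU_mul hm hF, map_zero, mul_zero, add_zero] at h1
    have h3 := (sU_inj hF h1).2
    rwa [add_zero] at h3
  have K3 : ∀ a c : K, kk (a + c) 0 = kk a 0 + kk c 0 := by
    intro a c
    have h1 : ε (sU hK a 0 * sU hK c 0) = ε (sU hK a 0) * ε (sU hK c 0) := map_mul _ _ _
    rw [sU_mul hk hK, hkk, hkk, hkk, sU_mul hm hF, K2 (a + c)] at h1
    have h3 := (sU_inj hF h1).2
    simp only [add_zero, zero_add] at h3
    rw [map_mul, map_pow, ← map_pow_sigma_compat (m := m) hK hdiv] at h3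
    exact add_right_cancel h3
  have K4 : ∀ (t : Kˣ) (a : K),
      kk ((t : K) * a) 0 = (ι (t : K)) ^ (2 ^ (m + 1) + 1) * kk a 0 := by
    intro t a
    have h1 : ε (sD hK t * sU hK a 0 * (sD hK t)⁻¹) =
        ε (sD hK t) * ε (sU hK a 0) * (ε (sD hK t))⁻¹ := by
      rw [map_mul, map_mul, map_inv]
    rw [sD_conj_sU hk hK, hkk, hkk, hD, sD_conj_sU hm hF, K2 ((t : K) * a), mul_zero, map_zero,
      add_zero] at h1
    exact (sU_inj hF h1).2
  have K0 : kk 0 0 = 0 := by rw [K1, map_zero]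
  have hc : kk 1 0 = 0 := by
    obtain ⟨s, hs⟩ := exists_unit_ne_one hk hK
    have hs1 : (s : K) + 1 ≠ 0 := by
      intro h
      apply hs
      apply Units.ext
      rw [Units.val_one]
      linear_combination h - h2K
    have e1 : kk (s : K) 0 = (ι (s : K)) ^ (2 ^ (m + 1) + 1) * kk 1 0 := by
      have := K4 s 1
      rwa [mul_one] at this
    have e2 : kk ((s : K) + 1) 0 = (ι (s : K) + 1) ^ (2 ^ (m + 1) + 1) * kk 1 0 := by
      have := K4 (Units.mk0 _ hs1) 1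
      rwa [Units.val_mk0, mul_one, map_add, map_one] at this
    have e3 : kk ((s : K) + 1) 0 = kk (s : K) 0 + kk 1 0 := K3 _ _
    rw [e1, e2, pow_succ, add_pow_sigma hF, one_pow, pow_succ] at e3
    have e4 : ((ι (s : K)) ^ (2 ^ (m + 1)) - ι (s : K)) * kk 1 0 = 0 := by
      linear_combination e3 - ι (s : K) * kk 1 0 * h2
    rcases mul_eq_zero.1 e4 with h | h
    · exfalso
      have hs' : Units.map (ι : K →* F) s ≠ 1 := by
        intro h'
        apply hs
        apply Units.ext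
        have := congrArg (fun u : Fˣ => (u : F)) h'
        simp only [Units.coe_map, MonoidHom.coe_coe, Units.val_one] at this
        rw [Units.val_one]
        exact ι.injective (by rw [this, map_one])
      have := unit_pow_sigma_ne hF hs'
      rw [Units.coe_map] at this
      exact this (sub_eq_zero.1 h)
    · exact h
  have K5 : ∀ a : K, kk a 0 = 0 := by
    intro a
    by_cases ha : a = 0
    · rw [ha, K0]
    · have := K4 (Units.mk0 a ha) 1
      rw [Units.val_mk0, mul_one, hc, mul_zero] at this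
      exact this
  intro a b
  rw [hkk, K2, K5, zero_add]

end Cfsg.Agent.Helper6
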