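import Cfsg.Agent.Helper6.Sz4

/-!
# The two-point stabiliser in the Suzuki group is the torus
-/

set_option autoImplicit false

namespace Cfsg.Agent.Helper6

open scoped Pointwise

variable {F : Type*} [Field F] [Fintype F] {m : ℕ}

omit [Fintype F] in
theorem eq_one_of_pow_four (h2 : (2 : F) = 0) {z : F} (hz : z ^ 4 = 1) : z = 1 := by
  have h : (z + 1) ^ 4 = 0 := by
    have : (z + 1) ^ 4 = z ^ 4 + 1 + 2 * (2 * z ^ 3 + 3 * z ^ 2 + 2 * z) := by ring
    rw [this, hz, h2]; ring_nf; exact h2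
  have := pow_eq_zero_iff (by norm_num) |>.1 h
  linear_combination this - h2

theorem two_point_stab (hm : 1 ≤ m) (hF : Fintype.card F = 2 ^ (2 * m + 1))
    {g : Matrix.SpecialLinearGroup (Fin 4) F} (hg : g ∈ Cfsg.Sz F m)
    (h1 : g • ovPt F m none = ovPt F m none)
    (h2 : g • ovPt F m (some (0, 0)) = ovPt F m (some (0, 0))) :
    ∃ t : Fˣ, g = szD F m t := by
  have h2F : (2 : F) = 0 := two_eq_zero_of_card hF
  set M : Matrix (Fin 4) (Fin 4) F := (g : Matrix (Fin 4) (Fin 4) F) with hM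
  -- column 0
  obtain ⟨c, hc, hw⟩ := exists_of_smul_ovPt g h1
  change M.mulVec ![1, 0, 0, 0] = c • ![1, 0, 0, 0] at hw
  have col0 : ∀ i, M i 0 = (c • (![1, 0, 0, 0] : Fin 4 → F)) i := by
    intro i
    rw [← hw, mulVec_four]
    simp
  have h10 : M 1 0 = 0 := by rw [col0]; simp
  have h20 : M 2 0 = 0 := by rw [col0]; simp
  have h30 : M 3 0 = 0 := by rw [col0]; simp
  -- column 3
  obtain ⟨c', hc', hw'⟩ := exists_of_smul_ovPt g h2
  change M.mulVec (ovVec F m 0 0) = c' • ovVec F m 0 0 at hw'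
  have hv0 : ovVec F m (0 : F) 0 = ![0, 0, 0, 1] := by
    unfold ovVec; rw [ovF_zero]
  rw [hv0] at hw'
  have col3 : ∀ i, M i 3 = (c' • (![0, 0, 0, 1] : Fin 4 → F)) i := by
    intro i
    rw [← hw', mulVec_four]
    simp
  have h03 : M 0 3 = 0 := by rw [col3]; simp
  have h13 : M 1 3 = 0 := by rw [col3]; simp
  have h23 : M 2 3 = 0 := by rw [col3]; simp
  obtain ⟨h31, h32, h01, h02, h21, h12, hδ, e1, e2, e3⟩ :=
    shape hm hF M h10 h20 h30 h03 h13 h23 (affine_image hg h1)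
  -- the matrix is diagonal
  have hdiag : M = Matrix.diagonal ![M 0 0, M 1 1, M 2 2, M 3 3] := by
    ext i j
    fin_cases i <;> fin_cases j <;>
      simp [h10, h20, h30, h03, h13, h23, h31, h32, h01, h02, h21, h12]
  have hdet : M 0 0 * M 1 1 * M 2 2 * M 3 3 = 1 := by
    have := g.2
    change M.det = 1 at this
    rw [hdiag, Matrix.det_diagonal, Fin.prod_univ_four] at this
    simpa using this
  set δ := M 3 3 with hδdef
  set B := M 2 2 / δ with hB
  set C := M 1 1 / δ with hC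
  set s := 2 ^ (m + 1) with hs
  set r := 2 ^ m with hr
  have hsr : s = r + r := by rw [hs, hr, pow_succ]; ring
  have h22 : M 2 2 = δ * B := by rw [hB]; field_simp
  have h11 : M 1 1 = δ * C := by rw [hC]; field_simp
  have hB0 : B ≠ 0 := by
    intro h0
    rw [h22, h0] at hdet
    simp at hdet
  have hCB : C = B ^ s * B := by
    have : δ * (B * C) = δ * (B ^ s * B ^ 2) := by rw [← e3, ← e1]
    have h' := mul_left_cancel₀ hδ this
    have h'' : B * C = B * (B ^ s * B) := by rw [h']; ring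
    exact mul_left_cancel₀ hB0 h''
  have hz : (δ * B ^ (r + 1)) ^ 4 = 1 := by
    rw [← hdet, e1, h11, h22, hCB, hsr]
    ring
  have hz1 : δ * B ^ (r + 1) = 1 := eq_one_of_pow_four h2F hz
  have hδ' : δ = (B ^ (r + 1))⁻¹ := eq_inv_of_mul_eq_one_left hz1
  refine ⟨Units.mk0 B hB0, ?_⟩
  apply Subtype.ext
  show M = dMat (2 ^ m) B
  rw [hdiag]
  unfold dMat
  rw [← hr]
  have hBr : B ^ r ≠ 0 := pow_ne_zero _ hB0
  have g00 : M 0 0 = B ^ (r + 1) := by
    rw [e1, hδ', hsr]; field_simp; ring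
  have g11 : M 1 1 = B ^ r := by
    rw [h11, hCB, hδ', hsr]; field_simp; ring
  have g22 : M 2 2 = (B ^ r)⁻¹ := by
    rw [h22, hδ']; field_simp; ring
  rw [g00, g11, g22, ← hδ']

end Cfsg.Agent.Helper6
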