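import Mathlib

/-!
# A polynomial recurrence used to show that laws fail in large Suzuki groups
-/

set_option autoImplicit false

namespace Cfsg.Agent.Helper6

open Polynomial

variable {F : Type*} [Field F]

/-- one step of the recurrence: left multiplication of a column by `sU 0 b * sW` -/
noncomputable def lawStep (θ : ℕ) (b : F[X]) (c : Fin 4 → F[X]) : Fin 4 → F[X] :=
  ![b ^ θ * c 0 + b * c 1 + c 3, c 2 + b * c 0, c 1, c 0]

/-- the invariant of the recurrence -/
def LawInv (θ N : ℕ) (c : Fin 4 → F[X]) : Prop :=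
  (c 0).Monic ∧ (c 0).natDegree = N ∧ ∀ i : Fin 4, i ≠ 0 → (c i).natDegree < N + θ

theorem lawInv_init (θ : ℕ) (hθ : 2 ≤ θ) : LawInv θ 0 (![1, 0, 0, 0] : Fin 4 → F[X]) := by
  refine ⟨monic_one, natDegree_one, ?_⟩
  intro i hi
  fin_cases i
  · exact absurd rfl hi
  · show (0 : F[X]).natDegree < 0 + θ
    rw [natDegree_zero]; omega
  · show (0 : F[X]).natDegree < 0 + θ
    rw [natDegree_zero]; omega
  · show (0 : F[X]).natDegree < 0 + θ
    rw [natDegree_zero]; omega

theorem lawInv_step {θ N : ℕ} (hθ : 2 ≤ θ) {b : F[X]} (hb : b.Monic) (hbd : 2 ≤ b.natDegree)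
    {c : Fin 4 → F[X]} (hc : LawInv θ N c) :
    LawInv θ (N + θ * b.natDegree) (lawStep θ b c) := by
  obtain ⟨hc0, hcN, hci⟩ := hc
  set e := b.natDegree with he
  have h1 := hci 1 (by decide)
  have h2 := hci 2 (by decide)
  have h3 := hci 3 (by decide)
  have hp : (b ^ θ * c 0).Monic := (hb.pow θ).mul hc0
  have hpd : (b ^ θ * c 0).natDegree = θ * e + N := by
    rw [(hb.pow θ).natDegree_mul hc0, hb.natDegree_pow, hcN]
  have hkey : e + θ ≤ θ * e := by
    obtain ⟨e', he'⟩ : ∃ e', e = e' + 2 := ⟨e - 2, by omega⟩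
    obtain ⟨θ', hθ'⟩ : ∃ θ', θ = θ' + 2 := ⟨θ - 2, by omega⟩
    rw [he', hθ']
    nlinarith
  have hq : (b * c 1 + c 3).natDegree < θ * e + N := by
    have h4 : (b * c 1).natDegree ≤ e + (c 1).natDegree := natDegree_mul_le
    have h5 := natDegree_add_le (b * c 1) (c 3)
    have h6 : max (b * c 1).natDegree (c 3).natDegree < θ * e + N := by
      rw [max_lt_iff]
      constructor
      · omega
      · have : θ ≤ θ * e := by nlinarith
        omega
    omega
  have e0 : lawStep θ b c 0 = b ^ θ * c 0 + (b * c 1 + c 3) := by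
    show b ^ θ * c 0 + b * c 1 + c 3 = _
    ring
  refine ⟨?_, ?_, ?_⟩
  · rw [e0]
    apply hp.add_of_left
    apply degree_lt_degree
    rw [hpd]; exact hq
  · rw [e0, natDegree_add_eq_left_of_natDegree_lt (by rw [hpd]; exact hq), hpd]
    ring
  · intro i hi
    fin_cases i
    · exact absurd rfl hi
    · show (c 2 + b * c 0).natDegree < N + θ * e + θ
      have h4 : (b * c 0).natDegree ≤ e + (c 0).natDegree := natDegree_mul_le
      have h5 := natDegree_add_le (c 2) (b * c 0)
      have h6 : max (c 2).natDegree (b * c 0).natDegree < N + θ * e + θ := by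
        rw [max_lt_iff]
        constructor
        · have : 0 ≤ θ * e := Nat.zero_le _
          omega
        · omega
      omega
    · show (c 1).natDegree < N + θ * e + θ
      have : 0 ≤ θ * e := Nat.zero_le _
      omega
    · show (c 0).natDegree < N + θ * e + θ
      have : 0 ≤ θ * e := Nat.zero_le _
      omega

/-- the invariant after a list of good steps -/
theorem lawInv_foldr {θ : ℕ} (hθ : 2 ≤ θ) (E : ℕ) (bs : List F[X])
    (hbs : ∀ b ∈ bs, b.Monic ∧ 2 ≤ b.natDegree ∧ b.natDegree ≤ E) :
    ∃ N, 2 * θ * bs.length ≤ N ∧ N ≤ θ * E * bs.length ∧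
      LawInv θ N (bs.foldr (lawStep θ) ![1, 0, 0, 0]) := by
  induction bs with
  | nil => exact ⟨0, by simp, by simp, lawInv_init θ hθ⟩
  | cons b bs ih =>
    obtain ⟨N, hN1, hN2, hN⟩ := ih (fun b' hb' => hbs b' (List.mem_cons_of_mem _ hb'))
    obtain ⟨hb1, hb2, hb3⟩ := hbs b List.mem_cons_self
    refine ⟨N + θ * b.natDegree, ?_, ?_, ?_⟩
    · rw [List.length_cons]
      have : θ * 2 ≤ θ * b.natDegree := Nat.mul_le_mul_left _ hb2
      nlinarith
    · rw [List.length_cons]
      have : θ * b.natDegree ≤ θ * E := Nat.mul_le_mul_left _ hb3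
      nlinarith
    · rw [List.foldr_cons]
      exact lawInv_step hθ hb1 hb2 hN

/-- a monic polynomial of positive degree less than the size of the field is not constantly `1` -/
theorem exists_eval_ne_one [Fintype F] {p : F[X]} (hp : p.Monic) (hp0 : 0 < p.natDegree)
    (hpd : p.natDegree < Fintype.card F) : ∃ x : F, p.eval x ≠ 1 := by
  classical
  by_contra hcon
  push Not at hcon
  have h1 : p - 1 = 0 := by
    apply eq_zero_of_natDegree_lt_card_of_eval_eq_zero' (p - 1) Finset.univ
    · intro x _
      rw [eval_sub, eval_one, hcon x, sub_self]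
    · rw [Finset.card_univ]
      have : (p - 1).natDegree ≤ p.natDegree := by
        have := natDegree_sub_le p 1
        rw [natDegree_one] at this
        simpa using this
      omega
  have h2 : p = 1 := sub_eq_zero.1 h1
  rw [h2, natDegree_one] at hp0
  exact lt_irrefl _ hp0

/-- sum of two distinct powers of `X` -/
theorem monic_X_pow_add_X_pow {p p' : ℕ} (h : p ≠ p') :
    ((X : F[X]) ^ p + X ^ p').Monic ∧ ((X : F[X]) ^ p + X ^ p').natDegree = max p p' := by
  rcases lt_or_gt_of_ne h with h' | h'
  · have h1 : ((X : F[X]) ^ p).degree < ((X : F[X]) ^ p').degree := by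
      rw [degree_X_pow, degree_X_pow]; exact_mod_cast h'
    constructor
    · rw [add_comm]
      exact (monic_X_pow p').add_of_left h1
    · rw [add_comm, natDegree_add_eq_left_of_natDegree_lt (by rw [natDegree_X_pow, natDegree_X_pow]; exact h'),
        natDegree_X_pow, max_eq_right h'.le]
  · have h1 : ((X : F[X]) ^ p').degree < ((X : F[X]) ^ p).degree := by
      rw [degree_X_pow, degree_X_pow]; exact_mod_cast h'
    constructor
    · exact (monic_X_pow p).add_of_left h1
    · rw [natDegree_add_eq_left_of_natDegree_lt (by rw [natDegree_X_pow, natDegree_X_pow]; exact h'),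
        natDegree_X_pow, max_eq_left h'.le]

end Cfsg.Agent.Helper6
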