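import Cfsg.Agent.Helper6.Sz52
import Cfsg.Agent.Helper6.Sz53

/-!
# Laws fail in large Suzuki groups
-/

set_option autoImplicit false

namespace Cfsg.Agent.Helper6

open Polynomial

variable {F : Type*} [Field F] [Fintype F] {m : ℕ}

/-- the matrix of an element of the Suzuki group -/
def szMat (g : Cfsg.Sz F m) : Matrix (Fin 4) (Fin 4) F :=
  ((g : Matrix.SpecialLinearGroup (Fin 4) F) : Matrix (Fin 4) (Fin 4) F)

theorem szMat_mul (g h : Cfsg.Sz F m) : szMat (g * h) = szMat g * szMat h := rfl

theorem szMat_one : szMat (1 : Cfsg.Sz F m) = 1 := rfl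

theorem szMat_sU_mulVec (hF : Fintype.card F = 2 ^ (2 * m + 1)) (b : F) (v : Fin 4 → F) :
    (szMat (sU hF 0 b)).mulVec v =
      ![v 0 + b * v 2 + b ^ (2 ^ (m + 1)) * v 3, v 1 + b * v 3, v 2, v 3] := by
  show (uMat 0 b ((0 : F) ^ (2 ^ (m + 1))) (ovF F m 0 b)).mulVec v = _
  have h0 : (0 : F) ^ (2 ^ (m + 1)) = 0 := zero_pow (by positivity)
  have h1 : ovF F m 0 b = b ^ (2 ^ (m + 1)) := by
    unfold ovF
    rw [zero_mul, zero_pow (by positivity), add_zero, zero_add]
  rw [h0, h1]
  ext i
  fin_cases i <;> simp [uMat, Matrix.mulVec, dotProduct, Fin.sum_univ_four]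

theorem szMat_sW_mulVec (hF : Fintype.card F = 2 ^ (2 * m + 1)) (v : Fin 4 → F) :
    (szMat (sW hF : Cfsg.Sz F m)).mulVec v = ![v 3, v 2, v 1, v 0] :=
  tMat_mulVec v

/-- the substitution -/
noncomputable def lawGen (hF : Fintype.card F = 2 ^ (2 * m + 1)) (x : F) (i : ℕ) : Cfsg.Sz F m :=
  sU hF 0 (x ^ (2 * i + 2)) * sW hF * sU hF 0 (x ^ (2 * i + 3))

/-- the parameter at the start of a letter -/
noncomputable def lawStartP (F : Type*) [Field F] (l : ℕ × Bool) : F[X] :=
  if l.2 then X ^ (2 * l.1 + 2) else X ^ (2 * l.1 + 3)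

/-- the parameter at the end of a letter -/
noncomputable def lawEndP (F : Type*) [Field F] (l : ℕ × Bool) : F[X] :=
  if l.2 then X ^ (2 * l.1 + 3) else X ^ (2 * l.1 + 2)

/-- the parameters of the blocks of a word -/
noncomputable def lawBlocks (F : Type*) [Field F] : F[X] → List (ℕ × Bool) → List F[X]
  | _, [] => []
  | e, l :: L => (e + lawStartP F l) :: lawBlocks F (lawEndP F l) L

theorem lawBlocks_length (e : F[X]) (L : List (ℕ × Bool)) : (lawBlocks F e L).length = L.length := by
  induction L generalizing e with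
  | nil => rfl
  | cons l L ih =>
    show ((e + lawStartP F l) :: lawBlocks F (lawEndP F l) L).length = _
    rw [List.length_cons, List.length_cons, ih]

theorem lawGen_cond (hm : 1 ≤ m) (hF : Fintype.card F = 2 ^ (2 * m + 1)) (x : F) (l : ℕ × Bool) :
    cond l.2 (lawGen hF x l.1) (lawGen hF x l.1)⁻¹ =
      sU hF 0 ((lawStartP F l).eval x) * sW hF * sU hF 0 ((lawEndP F l).eval x) := by
  obtain ⟨i, ε⟩ := l
  have hinv : ∀ b : F, (sU hF 0 b)⁻¹ = sU hF 0 b := by
    intro b
    rw [sU_inv hm hF, mul_zero, add_zero]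
  cases ε
  · show (lawGen hF x i)⁻¹ = _
    unfold lawGen lawStartP lawEndP
    simp only [Bool.false_eq_true, if_false, eval_pow, eval_X]
    rw [mul_inv_rev, mul_inv_rev, hinv, hinv, sW_inv, mul_assoc]
  · show lawGen hF x i = _
    unfold lawGen lawStartP lawEndP
    simp only [if_true, eval_pow, eval_X]

/-- the first column of the value of a word -/
theorem law_mulVec (hm : 1 ≤ m) (hF : Fintype.card F = 2 ^ (2 * m + 1)) (x : F) :
    ∀ (L : List (ℕ × Bool)) (e : F[X]),
      (szMat (sU hF 0 (e.eval x) *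
        (L.map fun l => cond l.2 (lawGen hF x l.1) (lawGen hF x l.1)⁻¹).prod)).mulVec ![1, 0, 0, 0] =
      fun i => ((lawBlocks F e L).foldr (lawStep (2 ^ (m + 1))) ![1, 0, 0, 0] i).eval x := by
  intro L
  induction L with
  | nil =>
    intro e
    rw [List.map_nil, List.prod_nil, mul_one, szMat_sU_mulVec]
    ext i
    fin_cases i <;> simp [lawBlocks]
  | cons l L ih =>
    intro e
    rw [List.map_cons, List.prod_cons, lawGen_cond hm hF]
    have e1 : sU hF 0 (e.eval x) * (sU hF 0 ((lawStartP F l).eval x) * sW hF *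
        sU hF 0 ((lawEndP F l).eval x) *
        (L.map fun l => cond l.2 (lawGen hF x l.1) (lawGen hF x l.1)⁻¹).prod) =
        sU hF 0 ((e + lawStartP F l).eval x) * (sW hF * (sU hF 0 ((lawEndP F l).eval x) *
        (L.map fun l => cond l.2 (lawGen hF x l.1) (lawGen hF x l.1)⁻¹).prod)) := by
      rw [eval_add, ← sU_center_mul hm hF]
      simp only [mul_assoc]
    rw [e1, szMat_mul, szMat_mul, ← Matrix.mulVec_mulVec, ← Matrix.mulVec_mulVec, ih (lawEndP F l),
      szMat_sW_mulVec, szMat_sU_mulVec]
    show _ = fun i => (lawStep (2 ^ (m + 1)) (e + lawStartP F l)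
      ((lawBlocks F (lawEndP F l) L).foldr (lawStep (2 ^ (m + 1))) ![1, 0, 0, 0]) i).eval x
    set c := (lawBlocks F (lawEndP F l) L).foldr (lawStep (2 ^ (m + 1))) ![1, 0, 0, 0] with hc
    ext i
    fin_cases i
    · simp [lawStep]; ring
    · simp [lawStep]
    · simp [lawStep]
    · simp [lawStep]

omit [Fintype F] in
/-- goodness of the blocks of a reduced word -/
theorem lawBlocks_good (K : ℕ) : ∀ (L : List (ℕ × Bool)) (l₀ : ℕ × Bool),
    FreeGroup.IsReduced (l₀ :: L) → (∀ l ∈ l₀ :: L, l.1 ≤ K) →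
    ∀ b ∈ lawBlocks F (lawEndP F l₀) L, b.Monic ∧ 2 ≤ b.natDegree ∧ b.natDegree ≤ 2 * K + 3 := by
  intro L
  induction L with
  | nil =>
    intro l₀ _ _ b hb
    simp [lawBlocks] at hb
  | cons l L ih =>
    intro l₀ hred hK b hb
    rw [FreeGroup.isReduced_cons_cons] at hred
    have hb' : b = lawEndP F l₀ + lawStartP F l ∨ b ∈ lawBlocks F (lawEndP F l) L := by
      simpa [lawBlocks] using hb
    rcases hb' with rfl | hb'
    · have h0 : l₀.1 ≤ K := hK l₀ List.mem_cons_self
      have h1 : l.1 ≤ K := hK l (List.mem_cons_of_mem _ List.mem_cons_self)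
      obtain ⟨i₀, ε₀⟩ := l₀
      obtain ⟨i, ε⟩ := l
      have hr : i₀ = i → ε₀ = ε := hred.1
      simp only at h0 h1
      cases ε₀ <;> cases ε
      · have hne : 2 * i₀ + 2 ≠ 2 * i + 3 := by omega
        obtain ⟨h3, h4⟩ := monic_X_pow_add_X_pow (F := F) hne
        refine ⟨by simpa [lawEndP, lawStartP] using h3, ?_, ?_⟩
        · have : (lawEndP F (i₀, false) + lawStartP F (i, false)).natDegree =
              max (2 * i₀ + 2) (2 * i + 3) := by simpa [lawEndP, lawStartP] using h4
          rw [this]; omega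
        · have : (lawEndP F (i₀, false) + lawStartP F (i, false)).natDegree =
              max (2 * i₀ + 2) (2 * i + 3) := by simpa [lawEndP, lawStartP] using h4
          rw [this]; omega
      · have hii : i₀ ≠ i := fun h => by simpa using hr h
        have hne : 2 * i₀ + 2 ≠ 2 * i + 2 := by omega
        obtain ⟨h3, h4⟩ := monic_X_pow_add_X_pow (F := F) hne
        refine ⟨by simpa [lawEndP, lawStartP] using h3, ?_, ?_⟩
        · have : (lawEndP F (i₀, false) + lawStartP F (i, true)).natDegree =
              max (2 * i₀ + 2) (2 * i + 2) := by simpa [lawEndP, lawStartP] using h4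
          rw [this]; omega
        · have : (lawEndP F (i₀, false) + lawStartP F (i, true)).natDegree =
              max (2 * i₀ + 2) (2 * i + 2) := by simpa [lawEndP, lawStartP] using h4
          rw [this]; omega
      · have hii : i₀ ≠ i := fun h => by simpa using hr h
        have hne : 2 * i₀ + 3 ≠ 2 * i + 3 := by omega
        obtain ⟨h3, h4⟩ := monic_X_pow_add_X_pow (F := F) hne
        refine ⟨by simpa [lawEndP, lawStartP] using h3, ?_, ?_⟩
        · have : (lawEndP F (i₀, true) + lawStartP F (i, false)).natDegree =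
              max (2 * i₀ + 3) (2 * i + 3) := by simpa [lawEndP, lawStartP] using h4
          rw [this]; omega
        · have : (lawEndP F (i₀, true) + lawStartP F (i, false)).natDegree =
              max (2 * i₀ + 3) (2 * i + 3) := by simpa [lawEndP, lawStartP] using h4
          rw [this]; omega
      · have hne : 2 * i₀ + 3 ≠ 2 * i + 2 := by omega
        obtain ⟨h3, h4⟩ := monic_X_pow_add_X_pow (F := F) hne
        refine ⟨by simpa [lawEndP, lawStartP] using h3, ?_, ?_⟩
        · have : (lawEndP F (i₀, true) + lawStartP F (i, true)).natDegree =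
              max (2 * i₀ + 3) (2 * i + 2) := by simpa [lawEndP, lawStartP] using h4
          rw [this]; omega
        · have : (lawEndP F (i₀, true) + lawStartP F (i, true)).natDegree =
              max (2 * i₀ + 3) (2 * i + 2) := by simpa [lawEndP, lawStartP] using h4
          rw [this]; omega
    · exact ih l hred.2 (fun l' hl' => hK l' (List.mem_cons_of_mem _ hl')) b hb'

omit [Fintype F] in
/-- goodness of all the blocks of a non-empty reduced word -/
theorem lawBlocks_good' (K : ℕ) (L : List (ℕ × Bool)) (hred : FreeGroup.IsReduced L)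
    (hK : ∀ l ∈ L, l.1 ≤ K) :
    ∀ b ∈ lawBlocks F 0 L, b.Monic ∧ 2 ≤ b.natDegree ∧ b.natDegree ≤ 2 * K + 3 := by
  cases L with
  | nil =>
    intro b hb
    simp [lawBlocks] at hb
  | cons l L =>
    intro b hb
    have hb' : b = 0 + lawStartP F l ∨ b ∈ lawBlocks F (lawEndP F l) L := by
      simpa [lawBlocks] using hb
    rcases hb' with rfl | hb'
    · have h1 : l.1 ≤ K := hK l List.mem_cons_self
      obtain ⟨i, ε⟩ := l
      simp only at h1
      rw [zero_add]
      cases ε
      · refine ⟨by simpa [lawStartP] using monic_X_pow (R := F) (2 * i + 3), ?_, ?_⟩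
        · have : (lawStartP F (i, false)).natDegree = 2 * i + 3 := by simp [lawStartP]
          rw [this]; omega
        · have : (lawStartP F (i, false)).natDegree = 2 * i + 3 := by simp [lawStartP]
          rw [this]; omega
      · refine ⟨by simpa [lawStartP] using monic_X_pow (R := F) (2 * i + 2), ?_, ?_⟩
        · have : (lawStartP F (i, true)).natDegree = 2 * i + 2 := by simp [lawStartP]
          rw [this]; omega
        · have : (lawStartP F (i, true)).natDegree = 2 * i + 2 := by simp [lawStartP]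
          rw [this]; omega
    · exact lawBlocks_good K L l hred hK b hb'

theorem fst_le_sum_fst (L : List (ℕ × Bool)) : ∀ l ∈ L, l.1 ≤ (L.map Prod.fst).sum := by
  induction L with
  | nil => intro l hl; simp at hl
  | cons a L ih =>
    intro l hl
    rw [List.map_cons, List.sum_cons]
    rcases List.mem_cons.1 hl with rfl | hl'
    · omega
    · have := ih l hl'
      omega

/-- a non-trivial word is not a law in a large Suzuki group -/
theorem sz_law_fails (w : FreeGroup ℕ) (hw : w ≠ 1) :
    ∀ (F : Type*) [Field F] [Fintype F] (m : ℕ), 1 ≤ m →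
      2 * (2 * (w.toWord.map Prod.fst).sum + 3) * w.toWord.length ≤ m →
      Fintype.card F = 2 ^ (2 * m + 1) →
      ∃ f : ℕ → Cfsg.Sz F m, FreeGroup.lift f w ≠ 1 := by
  intro F _ _ m hm hN hF
  classical
  by_contra hcon
  push Not at hcon
  set L := w.toWord with hL
  set K := (L.map Prod.fst).sum with hK
  have hLne : L ≠ [] := fun h => hw (FreeGroup.toWord_eq_nil_iff.1 h)
  have hlen : 1 ≤ L.length := List.length_pos_iff.2 hLne
  have hred : FreeGroup.IsReduced L := FreeGroup.isReduced_toWord
  have hθ : 2 ≤ 2 ^ (m + 1) := by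
    calc 2 = 2 ^ 1 := by norm_num
      _ ≤ 2 ^ (m + 1) := Nat.pow_le_pow_right (by norm_num) (by omega)
  obtain ⟨N, hN1, hN2, hmon, hdeg, -⟩ := lawInv_foldr (F := F) hθ (2 * K + 3) (lawBlocks F 0 L)
    (lawBlocks_good' K L hred (fst_le_sum_fst L))
  rw [lawBlocks_length] at hN1 hN2
  set p := (lawBlocks F 0 L).foldr (lawStep (2 ^ (m + 1))) ![1, 0, 0, 0] 0 with hp
  have hp0 : 0 < p.natDegree := by
    rw [hdeg]
    have : 0 < 2 * 2 ^ (m + 1) * L.length := by positivity
    omega
  have hpq : p.natDegree < Fintype.card F := by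
    rw [hdeg, hF]
    have h1 : m + 1 < 2 ^ (m + 1) := Nat.lt_two_pow_self
    have h2 : 2 * ((2 * K + 3) * L.length) < 2 ^ (m + 1) := by
      have : 2 * (2 * K + 3) * L.length = 2 * ((2 * K + 3) * L.length) := by ring
      omega
    have h3 : (2 * K + 3) * L.length < 2 ^ m := by
      have : 2 ^ (m + 1) = 2 * 2 ^ m := by rw [pow_succ]; ring
      omega
    calc N ≤ 2 ^ (m + 1) * (2 * K + 3) * L.length := hN2
      _ = 2 ^ (m + 1) * ((2 * K + 3) * L.length) := by ring
      _ < 2 ^ (m + 1) * 2 ^ m := Nat.mul_lt_mul_of_pos_left h3 (by positivity)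
      _ = 2 ^ (2 * m + 1) := by rw [← pow_add]; congr 1; omega
  obtain ⟨x, hx⟩ := exists_eval_ne_one hmon hp0 hpq
  apply hx
  have h1 := hcon (lawGen hF x)
  rw [← FreeGroup.mk_toWord (x := w), FreeGroup.lift_mk] at h1
  have h2 := law_mulVec hm hF x L 0
  rw [h1, eval_zero, sU_zero hm hF, mul_one, szMat_one, Matrix.one_mulVec] at h2
  have h3 := congrFun h2 0
  exact h3.symm

end Cfsg.Agent.Helper6
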