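import Cfsg.Agent.Helper6.Sz7

/-!
# Bruhat decomposition of the Suzuki group, and the invariant alternating form
-/

set_option autoImplicit false

namespace Cfsg.Agent.Helper6

open scoped Pointwise

variable {F : Type*} [Field F] [Fintype F] {m : ℕ}

/-- elements of the Suzuki group fixing the point at infinity -/
theorem borel_decomp (hm : 1 ≤ m) (hF : Fintype.card F = 2 ^ (2 * m + 1))
    {g : Matrix.SpecialLinearGroup (Fin 4) F} (hg : g ∈ Cfsg.Sz F m)
    (h1 : g • ovPt F m none = ovPt F m none) :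
    ∃ (a b : F) (t : Fˣ), g = szU F m a b * szD F m t := by
  obtain ⟨o', ho'⟩ := smul_mem_of_mem_Sz hg (some (0, 0))
  rcases o' with _ | ⟨x, y⟩
  · exfalso
    rw [← h1] at ho'
    have := ovPt_injective (MulAction.injective g ho')
    exact Option.some_ne_none _ this
  · set h := (szU F m x y)⁻¹ * g with hh
    have hhSz : h ∈ Cfsg.Sz F m :=
      (Cfsg.Sz F m).mul_mem ((Cfsg.Sz F m).inv_mem (szU_mem hF x y)) hg
    have hh1 : h • ovPt F m none = ovPt F m none := by
      rw [hh, mul_smul, h1, inv_smul_eq_iff, szU_smul_none]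
    have hh2 : h • ovPt F m (some (0, 0)) = ovPt F m (some (0, 0)) := by
      rw [hh, mul_smul, ho', inv_smul_eq_iff, szU_smul_some hF]
      simp
    obtain ⟨t, ht⟩ := two_point_stab hm hF hhSz hh1 hh2
    refine ⟨x, y, t, ?_⟩
    rw [← ht, hh, mul_inv_cancel_left]

/-- Bruhat decomposition -/
theorem bruhat_decomp (hm : 1 ≤ m) (hF : Fintype.card F = 2 ^ (2 * m + 1))
    {g : Matrix.SpecialLinearGroup (Fin 4) F} (hg : g ∈ Cfsg.Sz F m) :
    (∃ (a b : F) (t : Fˣ), g = szU F m a b * szD F m t) ∨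
    (∃ (x y a b : F) (t : Fˣ), g = szU F m x y * szT F * (szU F m a b * szD F m t)) := by
  obtain ⟨o', ho'⟩ := smul_mem_of_mem_Sz hg none
  rcases o' with _ | ⟨x, y⟩
  · exact Or.inl (borel_decomp hm hF hg ho')
  · right
    set h := (szU F m x y * szT F)⁻¹ * g with hh
    have hk : szU F m x y * szT F ∈ Cfsg.Sz F m :=
      (Cfsg.Sz F m).mul_mem (szU_mem hF x y) (szT_mem hF)
    have hhSz : h ∈ Cfsg.Sz F m := (Cfsg.Sz F m).mul_mem ((Cfsg.Sz F m).inv_mem hk) hg
    have hh1 : h • ovPt F m none = ovPt F m none := by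
      rw [hh, mul_smul, ho', inv_smul_eq_iff, mul_smul, szT_smul_none, szU_smul_some hF]
      simp
    obtain ⟨a, b, t, ht⟩ := borel_decomp hm hF hhSz hh1
    refine ⟨x, y, a, b, t, ?_⟩
    rw [← ht, hh, mul_inv_cancel_left]

/-! ### the alternating form -/

/-- preservation of the antidiagonal form -/
def PresJ (M : Matrix (Fin 4) (Fin 4) F) : Prop :=
  M.transpose * Cfsg.suzukiForm F * M = Cfsg.suzukiForm F

omit [Fintype F] in
theorem PresJ.mul {M N : Matrix (Fin 4) (Fin 4) F} (hM : PresJ M) (hN : PresJ N) :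
    PresJ (M * N) := by
  unfold PresJ at *
  rw [Matrix.transpose_mul]
  calc N.transpose * M.transpose * Cfsg.suzukiForm F * (M * N)
      = N.transpose * (M.transpose * Cfsg.suzukiForm F * M) * N := by
        simp only [Matrix.mul_assoc]
    _ = Cfsg.suzukiForm F := by rw [hM, hN]

omit [Fintype F] in
theorem presJ_uMat (h2 : (2 : F) = 0) (a b A fab : F) : PresJ (uMat a b A fab) := by
  unfold PresJ
  ext i j
  fin_cases i <;> fin_cases j <;>
    simp [Matrix.mul_apply, Fin.sum_univ_four, uMat, Cfsg.suzukiForm]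
  · linear_combination a * h2
  · linear_combination A * h2
  · linear_combination (b + A * a) * h2
  · linear_combination a * h2
  · linear_combination (b + A * a) * h2
  · linear_combination (fab + a * b) * h2

omit [Fintype F] in
theorem presJ_tMat : PresJ (tMat F) := by
  unfold PresJ
  ext i j
  fin_cases i <;> fin_cases j <;>
    simp [Matrix.mul_apply, Fin.sum_univ_four, tMat, Cfsg.suzukiForm]

omit [Fintype F] in
theorem presJ_dMat (r : ℕ) {t : F} (ht : t ≠ 0) : PresJ (dMat r t) := by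
  unfold PresJ dMat
  have h1 : t ^ (r + 1) ≠ 0 := pow_ne_zero _ ht
  have h2 : t ^ r ≠ 0 := pow_ne_zero _ ht
  ext i j
  fin_cases i <;> fin_cases j <;>
    simp [Matrix.mul_apply, Fin.sum_univ_four, Cfsg.suzukiForm, Matrix.diagonal_apply, h1, h2, ht]

/-- every element of the Suzuki group preserves the alternating form -/
theorem presJ_of_mem_Sz (hm : 1 ≤ m) (hF : Fintype.card F = 2 ^ (2 * m + 1))
    {g : Matrix.SpecialLinearGroup (Fin 4) F} (hg : g ∈ Cfsg.Sz F m) :
    PresJ (g : Matrix (Fin 4) (Fin 4) F) := by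
  have h2 : (2 : F) = 0 := two_eq_zero_of_card hF
  have hU : ∀ a b : F, PresJ (szU F m a b : Matrix (Fin 4) (Fin 4) F) :=
    fun a b => presJ_uMat h2 _ _ _ _
  have hD : ∀ t : Fˣ, PresJ (szD F m t : Matrix (Fin 4) (Fin 4) F) :=
    fun t => presJ_dMat _ t.ne_zero
  have hT : PresJ (szT F : Matrix (Fin 4) (Fin 4) F) := presJ_tMat
  rcases bruhat_decomp hm hF hg with ⟨a, b, t, rfl⟩ | ⟨x, y, a, b, t, rfl⟩
  · rw [Matrix.SpecialLinearGroup.coe_mul]
    exact (hU a b).mul (hD t)
  · simp only [Matrix.SpecialLinearGroup.coe_mul]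
    exact ((hU x y).mul hT).mul ((hU a b).mul (hD t))

end Cfsg.Agent.Helper6
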