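import Cfsg.Agent.Helper6.Sz8

/-!
# Faithfulness, group laws and transitivity for the Suzuki group
-/

set_option autoImplicit false

namespace Cfsg.Agent.Helper6

open scoped Pointwise

variable {F : Type*} [Field F] [Fintype F] {m : ℕ}

/-- `t ↦ t^(σ+1)` has trivial kernel -/
theorem eq_one_of_pow_sigma_succ (hF : Fintype.card F = 2 ^ (2 * m + 1)) {t : F}
    (ht : t ^ (2 ^ (m + 1) + 1) = 1) : t = 1 := by
  set s := 2 ^ (m + 1) with hs
  have ht0 : t ≠ 0 := by
    intro h0
    rw [h0, zero_pow (by omega)] at ht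
    exact zero_ne_one ht
  have h1 : t ^ s * t = 1 := by rw [← pow_succ]; exact ht
  -- raise to the power `s`
  have h2 : (t ^ s) ^ s * t ^ s = 1 := by
    rw [← mul_pow, h1, one_pow]
  rw [pow_sigma_sigma hF] at h2
  -- t^2 * t^s = 1 and t^s * t = 1
  have h3 : t ^ 2 * t ^ s = t ^ s * t := by rw [h2, h1]
  have h4 : t ^ s * (t * t) = t ^ s * t := by rw [← h3]; ring
  have h5 := mul_left_cancel₀ (pow_ne_zero s ht0) h4
  have h6 : t * t = t * 1 := by rw [h5, mul_one]
  exact mul_left_cancel₀ ht0 h6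

/-- a torus element fixing a third point is trivial -/
theorem szD_eq_one_of_fix (hF : Fintype.card F = 2 ^ (2 * m + 1)) {t : Fˣ} {x y : F}
    (hxy : ¬ (x = 0 ∧ y = 0))
    (h : szD F m t • ovPt F m (some (x, y)) = ovPt F m (some (x, y))) : t = 1 := by
  rw [szD_smul_some hF] at h
  have := Option.some_injective _ (ovPt_injective h)
  rw [Prod.mk.injEq] at this
  obtain ⟨h1, h2⟩ := this
  apply Units.ext
  by_cases hx : x = 0
  · have hy : y ≠ 0 := fun hy => hxy ⟨hx, hy⟩
    have : (t : F) ^ (2 ^ (m + 1) + 1) = 1 := by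
      have h' : (t : F) ^ (2 ^ (m + 1) + 1) * y = 1 * y := by rw [h2, one_mul]
      exact mul_right_cancel₀ hy h'
    exact eq_one_of_pow_sigma_succ hF this
  · have h' : (t : F) * x = 1 * x := by rw [h1, one_mul]
    exact mul_right_cancel₀ hx h'

/-- faithfulness: an element of the Suzuki group fixing all points of the ovoid is trivial -/
theorem eq_one_of_forall_smul (hm : 1 ≤ m) (hF : Fintype.card F = 2 ^ (2 * m + 1))
    {g : Matrix.SpecialLinearGroup (Fin 4) F} (hg : g ∈ Cfsg.Sz F m)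
    (h : ∀ o, g • ovPt F m o = ovPt F m o) : g = 1 := by
  obtain ⟨t, rfl⟩ := two_point_stab hm hF hg (h none) (h (some (0, 0)))
  have : t = 1 := szD_eq_one_of_fix hF (x := 1) (y := 0) (by simp) (h (some (1, 0)))
  rw [this, szD_one]

theorem eq_of_forall_smul (hm : 1 ≤ m) (hF : Fintype.card F = 2 ^ (2 * m + 1))
    {g g' : Matrix.SpecialLinearGroup (Fin 4) F} (hg : g ∈ Cfsg.Sz F m)
    (hg' : g' ∈ Cfsg.Sz F m) (h : ∀ o, g • ovPt F m o = g' • ovPt F m o) : g = g' := by
  have : g'⁻¹ * g = 1 := by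
    apply eq_one_of_forall_smul hm hF ((Cfsg.Sz F m).mul_mem ((Cfsg.Sz F m).inv_mem hg') hg)
    intro o
    rw [mul_smul, h o, inv_smul_smul]
  rw [inv_mul_eq_one] at this
  exact this.symm

/-- the group law of the translations -/
theorem szU_mul (hm : 1 ≤ m) (hF : Fintype.card F = 2 ^ (2 * m + 1)) (a b c d : F) :
    szU F m a b * szU F m c d = szU F m (a + c) (b + d + a ^ (2 ^ (m + 1)) * c) := by
  apply eq_of_forall_smul hm hF
    ((Cfsg.Sz F m).mul_mem (szU_mem hF a b) (szU_mem hF c d)) (szU_mem hF _ _)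
  rintro (_ | ⟨x, y⟩)
  · rw [mul_smul, szU_smul_none, szU_smul_none, szU_smul_none]
  · rw [mul_smul, szU_smul_some hF, szU_smul_some hF, szU_smul_some hF, add_pow_sigma hF]
    congr 3
    · ring
    · ring

theorem szU_zero (hm : 1 ≤ m) (hF : Fintype.card F = 2 ^ (2 * m + 1)) : szU F m 0 0 = 1 := by
  apply eq_of_forall_smul hm hF (szU_mem hF 0 0) (Cfsg.Sz F m).one_mem
  rintro (_ | ⟨x, y⟩)
  · rw [szU_smul_none, one_smul]
  · rw [szU_smul_some hF, one_smul, zero_pow (by positivity)]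
    simp

theorem szU_injective (hF : Fintype.card F = 2 ^ (2 * m + 1)) {a b c d : F}
    (h : szU F m a b = szU F m c d) : a = c ∧ b = d := by
  have h1 : szU F m a b • ovPt F m (some (0, 0)) = szU F m c d • ovPt F m (some (0, 0)) := by
    rw [h]
  rw [szU_smul_some hF, szU_smul_some hF] at h1
  have := Option.some_injective _ (ovPt_injective h1)
  simpa using this

/-- conjugation of a translation by a torus element -/
theorem szD_conj_szU (hm : 1 ≤ m) (hF : Fintype.card F = 2 ^ (2 * m + 1)) (t : Fˣ) (a b : F) :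
    szD F m t * szU F m a b =
      szU F m ((t : F) * a) ((t : F) ^ (2 ^ (m + 1) + 1) * b) * szD F m t := by
  apply eq_of_forall_smul hm hF
    ((Cfsg.Sz F m).mul_mem (szD_mem hF t) (szU_mem hF a b))
    ((Cfsg.Sz F m).mul_mem (szU_mem hF _ _) (szD_mem hF t))
  rintro (_ | ⟨x, y⟩)
  · rw [mul_smul, mul_smul, szU_smul_none, szD_smul_none, szU_smul_none]
  · rw [mul_smul, mul_smul, szU_smul_some hF, szD_smul_some hF, szD_smul_some hF,
      szU_smul_some hF]
    congr 3
    · ring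
    · rw [mul_pow, pow_succ]; ring

/-- two-transitivity, base case: moving the base points anywhere -/
theorem exists_smul_base (hF : Fintype.card F = 2 ^ (2 * m + 1)) {o1 o2 : Option (F × F)}
    (hne : o1 ≠ o2) :
    ∃ g ∈ Cfsg.Sz F m, g • ovPt F m none = ovPt F m o1 ∧ g • ovPt F m (some (0, 0)) = ovPt F m o2 := by
  -- first move infinity to `o1`
  obtain ⟨g1, hg1, h1⟩ : ∃ g1 ∈ Cfsg.Sz F m, g1 • ovPt F m none = ovPt F m o1 := by
    rcases o1 with _ | ⟨x, y⟩
    · exact ⟨1, (Cfsg.Sz F m).one_mem, one_smul _ _⟩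
    · refine ⟨szU F m x y * szT F, (Cfsg.Sz F m).mul_mem (szU_mem hF x y) (szT_mem hF), ?_⟩
      rw [mul_smul, szT_smul_none, szU_smul_some hF]
      simp
  obtain ⟨o', ho'⟩ := smul_mem_of_mem_Sz ((Cfsg.Sz F m).inv_mem hg1) o2
  rcases o' with _ | ⟨x, y⟩
  · exfalso
    rw [inv_smul_eq_iff, h1] at ho'
    exact hne (ovPt_injective ho').symm
  · refine ⟨g1 * szU F m x y, (Cfsg.Sz F m).mul_mem hg1 (szU_mem hF x y), ?_, ?_⟩
    · rw [mul_smul, szU_smul_none, h1]
    · rw [mul_smul, szU_smul_some hF]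
      simp only [zero_add, mul_zero, add_zero]
      rw [← ho', smul_inv_smul]

end Cfsg.Agent.Helper6
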