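import Cfsg.Agent.Helper6.SzCharA

/-!
# The character degrees of the Suzuki groups: the concrete group satisfies the hypotheses
-/

set_option autoImplicit false

namespace Cfsg.Agent.Helper6

open Cfsg

universe u

variable {F : Type u} [Field F] [Fintype F] {m : ℕ}

/-- the concrete group satisfies the hypotheses -/
theorem szc_szHyp' (hm : 1 ≤ m) (hF : Fintype.card F = 2 ^ (2 * m + 1)) :
    ∃ (Q H B K₁ K₂ : Subgroup (Cfsg.Sz F m)) (w : Cfsg.Sz F m), SzHyp Q H B K₁ K₂ w (2 ^ m) := by
  obtain ⟨hG, hQB, hHB, hQn, hinf, hsup, hfpf, hcQ, hcH, hcomm⟩ := szc_conc_borel hm hF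
  obtain ⟨hw, hbru, hwinv, hwint⟩ := szc_conc_weyl hm hF
  obtain ⟨K₁, K₂, a1, a2, a3, a4, a5, a6, b1, b2, b3, b4, b5, b6, hd⟩ := szc_conc_tori hm hF
  exact ⟨szQ hm hF, szK hF, szB F m, K₁, K₂, sW hF,
    { pow := ⟨m, hm, rfl⟩
      cardG := hG
      QB := hQB
      HB := hHB
      Qnormal := hQn
      inf := hinf
      sup := hsup
      fpf := hfpf
      cardQ := hcQ
      cardH := hcH
      comm := hcomm
      classesQ := szc_conc_classesQ hm hF
      nonreal := szc_conc_nonreal hm hF
      TI := szc_conc_TI hm hF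
      wB := hw
      bruhat := hbru
      winv := hwinv
      wint := hwint
      classesG := szc_conc_classesG hm hF
      hC₁ := a1
      hab₁ := a2
      hTI₁ := a3
      cardK₁ := a4
      idx₁ := a5
      offB₁ := a6
      hC₂ := b1
      hab₂ := b2
      hTI₂ := b3
      cardK₂ := b4
      idx₂ := b5
      offB₂ := b6
      disj := hd }⟩

end Cfsg.Agent.Helper6
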