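import Cfsg.Agent.Helper6.SzCharA

/-!
# The character degrees of the Suzuki groups: the numerical data
-/

set_option autoImplicit false

namespace Cfsg.Agent.Helper6

open Cfsg
open scoped ComplexConjugate

universe u

section Main

variable {G : Type u} [Group G] [Fintype G] {Q H B K₁ K₂ : Subgroup G} {w : G} {T : ℕ}
  [Fintype ↥B]

theorem szc_mult_nat (χ : IrrCharacter G) {β : ↥B → ℂ} (hβ : IsIrrCharacter ↥B β) :
    ∃ n : ℕ, classInner (resFun B (χ : G → ℂ)) β = n :=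
  Helper74.isCharacter_inner_irr_nat
    (Helper74.isCharacter_restrict B (Helper74.irr_isCharacter χ)) ⟨β, hβ⟩

theorem szc_irrConj_irrConj (χ : IrrCharacter G) : Helper74.irrConj (Helper74.irrConj χ) = χ := by
  apply Subtype.ext
  funext g
  simp

theorem szc_resFun_irrConj (χ : IrrCharacter G) :
    resFun B ((Helper74.irrConj χ : IrrCharacter G) : G → ℂ)
      = fun b => conj (resFun B (χ : G → ℂ) b) := rfl

/-- the non-linear characters of `B` vanish off `Q` -/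
theorem szc_van_of_irr {Θ Ψ₁ Ψ₂ : ↥B → ℂ} (I : FrobIrr (Q.subgroupOf B) T Θ Ψ₁ Ψ₂) {β : ↥B → ℂ}
    (hβ : IsIrrCharacter ↥B β) (hk : ∃ n : ↥B, (n : G) ∈ Q ∧ β n ≠ β 1) :
    ∀ x : ↥B, (x : G) ∉ Q → β x = 0 := by
  obtain ⟨n, hn, hne⟩ := hk
  rcases I.all β hβ ⟨n, Subgroup.mem_subgroupOf.mpr hn, hne⟩ with rfl | rfl | rfl
  · exact fun x hx => I.vanΘ x (fun h => hx (Subgroup.mem_subgroupOf.mp h))
  · exact fun x hx => I.vanΨ₁ x (fun h => hx (Subgroup.mem_subgroupOf.mp h))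
  · exact fun x hx => I.vanΨ₂ x (fun h => hx (Subgroup.mem_subgroupOf.mp h))

theorem szc_ne_of_irr {Θ Ψ₁ Ψ₂ : ↥B → ℂ} (I : FrobIrr (Q.subgroupOf B) T Θ Ψ₁ Ψ₂)
    (hT : 2 ≤ T) :
    (∃ n : ↥B, (n : G) ∈ Q ∧ Θ n ≠ Θ 1) ∧ (∃ n : ↥B, (n : G) ∈ Q ∧ Ψ₁ n ≠ Ψ₁ 1) ∧
      (∃ n : ↥B, (n : G) ∈ Q ∧ Ψ₂ n ≠ Ψ₂ 1) := by
  have h1 : ∀ β : ↥B → ℂ, IsIrrCharacter ↥B β → β 1 ≠ 1 →
      ∃ n : ↥B, (n : G) ∈ Q ∧ β n ≠ β 1 := by
    intro β hβ h1
    by_contra hcon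
    push Not at hcon
    exact h1 (I.lin β hβ (fun n hn => hcon n (Subgroup.mem_subgroupOf.mp hn)))
  have hq : 7 ≤ 2 * T ^ 2 - 1 := by
    have : 4 ≤ T ^ 2 := by nlinarith
    omega
  refine ⟨h1 Θ I.irrΘ ?_, h1 Ψ₁ I.irrΨ₁ ?_, h1 Ψ₂ I.irrΨ₂ ?_⟩
  · rw [I.degΘ]
    intro h
    have : (2 * T ^ 2 - 1 : ℕ) = 1 := by exact_mod_cast h
    omega
  · rw [I.degΨ₁]
    intro h
    have : ((2 * T ^ 2 - 1) * T : ℕ) = 1 := by exact_mod_cast h
    nlinarith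
  · rw [I.degΨ₂]
    intro h
    have : ((2 * T ^ 2 - 1) * T : ℕ) = 1 := by exact_mod_cast h
    nlinarith

/-- the Gram relations on the complement of the known characters -/
theorem szc_gram_R [Fintype (IrrCharacter G)] [DecidableEq (IrrCharacter G)]
    (D : SzHyp Q H B K₁ K₂ w T) {Θ Ψ₁ Ψ₂ : ↥B → ℂ}
    (I : FrobIrr (Q.subgroupOf B) T Θ Ψ₁ Ψ₂) {𝓚 : Finset (IrrCharacter G)}
    (N : SzKnown Q B T 𝓚) {β β' : ↥B → ℂ} (hβ : IsIrrCharacter ↥B β)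
    (hk : ∃ n : ↥B, (n : G) ∈ Q ∧ β n ≠ β 1) (hβ' : IsIrrCharacter ↥B β')
    (hk' : ∃ n : ↥B, (n : G) ∈ Q ∧ β' n ≠ β' 1) (a a' : IrrCharacter G → ℕ)
    (ha : ∀ χ : IrrCharacter G, classInner (resFun B (χ : G → ℂ)) β = a χ)
    (ha' : ∀ χ : IrrCharacter G, classInner (resFun B (χ : G → ℂ)) β' = a' χ) (d d' e : ℕ)
    (hd : β 1 = (((2 * T ^ 2 - 1) * d : ℕ) : ℂ)) (hd' : β' 1 = (((2 * T ^ 2 - 1) * d' : ℕ) : ℂ))
    (he : classInner β' β = e) :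
    (∑ χ ∈ Finset.univ \ 𝓚, a χ * a' χ) + T ^ 2 * d * d' = e + (2 * T ^ 2 - 1) * d' * d := by
  obtain ⟨k, hk1, rfl⟩ := D.pow
  have hq : 1 ≤ 2 * (2 ^ k) ^ 2 - 1 := by
    have : 1 ≤ (2 ^ k) ^ 2 := Nat.one_le_pow _ _ (by positivity)
    omega
  have hq0 : (((2 * (2 ^ k) ^ 2 - 1 : ℕ)) : ℂ) ≠ 0 := by
    have : (2 * (2 ^ k) ^ 2 - 1 : ℕ) ≠ 0 := by omega
    exact_mod_cast this
  have hG := szc_gram D β β' (Helper74.irr_isClassFunction ⟨β, hβ⟩) (szc_van_of_irr I hβ hk)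
    (Helper74.irr_isClassFunction ⟨β', hβ'⟩) (szc_van_of_irr I hβ' hk')
  have hterm : ∀ χ : IrrCharacter G, classInner (resFun B (χ : G → ℂ)) β *
      conj (classInner (resFun B (χ : G → ℂ)) β') = ((a χ * a' χ : ℕ) : ℂ) := by
    intro χ
    rw [ha χ, ha' χ, Complex.conj_natCast]
    push_cast
    ring
  rw [Finset.sum_congr rfl (fun χ _ => hterm χ), ← Nat.cast_sum, he, hd, hd',
    Complex.conj_natCast] at hG
  have hsplit := Finset.sum_sdiff (Finset.subset_univ 𝓚) (f := fun χ => a χ * a' χ)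
  obtain ⟨χ₀, hχ₀, h0, hrest⟩ := N.mult
  have hval : ∀ χ ∈ 𝓚.erase χ₀, a χ * a' χ = d * d' := by
    intro χ hχ
    obtain ⟨hne, hmem⟩ := Finset.mem_erase.mp hχ
    have h1 := hrest χ hmem hne β hβ hk
    have h2 := hrest χ hmem hne β' hβ' hk'
    rw [ha χ, hd] at h1
    rw [ha' χ, hd'] at h2
    have h1' : (a χ : ℂ) = d := by
      rw [h1]
      push_cast
      field_simp
    have h2' : (a' χ : ℂ) = d' := by
      rw [h2]
      push_cast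
      field_simp
    have e1 : a χ = d := by exact_mod_cast h1'
    have e2 : a' χ = d' := by exact_mod_cast h2'
    rw [e1, e2]
  have h00 : a χ₀ * a' χ₀ = 0 := by
    have h1 := h0 β hβ hk
    rw [ha χ₀] at h1
    have : a χ₀ = 0 := by exact_mod_cast h1
    rw [this, zero_mul]
  have hK : ∑ χ ∈ 𝓚, a χ * a' χ = (2 ^ k) ^ 2 * (d * d') := by
    rw [← Finset.add_sum_erase 𝓚 _ hχ₀, h00, zero_add, Finset.sum_congr rfl hval,
      Finset.sum_const, smul_eq_mul, Finset.card_erase_of_mem hχ₀, N.card]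
    simp
  rw [hK] at hsplit
  have hG' : ((∑ χ : IrrCharacter G, a χ * a' χ : ℕ) : ℂ)
      = ((e + (2 * (2 ^ k) ^ 2 - 1) * d' * d : ℕ) : ℂ) := by
    rw [hG]
    push_cast
    field_simp
  have hG'' : ∑ χ : IrrCharacter G, a χ * a' χ = e + (2 * (2 ^ k) ^ 2 - 1) * d' * d := by
    exact_mod_cast hG'
  rw [← hG'', ← hsplit]
  ring

end Main

end Cfsg.Agent.Helper6
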