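import Cfsg.Agent.Helper6.SzChar2
import Cfsg.Agent.Helper80.Degree

/-!
# The character degrees of the Suzuki groups: the numerical data (assembly)
-/

set_option autoImplicit false

namespace Cfsg.Agent.Helper6

open Cfsg
open scoped ComplexConjugate

universe u

section Main

variable {G : Type u} [Group G] [Fintype G] {Q H B K₁ K₂ : Subgroup G} {w : G} {T : ℕ}
  [Fintype ↥B]

theorem szc_two_le (D : SzHyp Q H B K₁ K₂ w T) : 2 ≤ T := by
  obtain ⟨k, hk, rfl⟩ := D.pow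
  calc 2 = 2 ^ 1 := by norm_num
    _ ≤ 2 ^ k := Nat.pow_le_pow_right (by norm_num) hk

theorem szc_T_cases (D : SzHyp Q H B K₁ K₂ w T) : T = 2 ∨ 4 ≤ T := by
  obtain ⟨k, hk, rfl⟩ := D.pow
  rcases Nat.lt_or_ge k 2 with h | h
  · left
    have : k = 1 := by omega
    rw [this]
    norm_num
  · right
    calc 4 = 2 ^ 2 := by norm_num
      _ ≤ 2 ^ k := Nat.pow_le_pow_right (by norm_num) h

theorem szc_even_mul_succ (T : ℕ) : 2 * (T * (T + 1) / 2) = T * (T + 1) := by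
  have h : 2 ∣ T * (T + 1) := (Nat.even_mul_succ_self T).two_dvd
  omega

theorem szc_even_mul_pred (T : ℕ) (hT : 1 ≤ T) : 2 * (T * (T - 1) / 2) = T * (T - 1) := by
  obtain ⟨S, rfl⟩ : ∃ S, T = S + 1 := ⟨T - 1, by omega⟩
  have h : 2 ∣ (S + 1) * (S + 1 - 1) := by
    rw [Nat.add_sub_cancel, mul_comm]
    exact (Nat.even_mul_succ_self S).two_dvd
  omega

/-- the exceptional characters have the same multiplicities -/
theorem szc_mult_eq_of_res_eq {ψ ψ' : IrrCharacter G}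
    (h : ∀ b : ↥B, (ψ : G → ℂ) b = (ψ' : G → ℂ) b) (β : ↥B → ℂ) {a a' : ℕ}
    (ha : classInner (resFun B (ψ : G → ℂ)) β = a)
    (ha' : classInner (resFun B (ψ' : G → ℂ)) β = a') : a = a' := by
  have : resFun B (ψ : G → ℂ) = resFun B (ψ' : G → ℂ) := funext h
  rw [this, ha'] at ha
  exact_mod_cast ha.symm

/-- the numerical data -/
theorem szc_num (D : SzHyp Q H B K₁ K₂ w T) :
    ∃ (R : Finset (IrrCharacter G)) (m n₁ n₂ : IrrCharacter G → ℕ)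
      (cj : IrrCharacter G → IrrCharacter G) (F₁ F₂ : Finset (IrrCharacter G)),
      SzNum T R (fun χ => charDegree (χ : G → ℂ)) m n₁ n₂ cj F₁ F₂ ∧
      (∀ χ : IrrCharacter G, χ ∉ R → charDegree (χ : G → ℂ) = 1 ∨
        charDegree (χ : G → ℂ) = (2 * T ^ 2) ^ 2 ∨
        charDegree (χ : G → ℂ) = (2 * T ^ 2) ^ 2 + 1) ∧
      (∃ χ : IrrCharacter G, charDegree (χ : G → ℂ) = (2 * T ^ 2) ^ 2) ∧
      (∃ χ : IrrCharacter G, charDegree (χ : G → ℂ) = (2 * T ^ 2) ^ 2 + 1) := by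
  classical
  letI : Fintype (IrrCharacter G) := Helper74.irrFintype G
  have hT2 := szc_two_le D
  obtain ⟨Θ, Ψ₁, Ψ₂, I⟩ := szc_frob_irr (szc_frobHyp D)
  obtain ⟨𝓚, N⟩ := szc_known D I
  obtain ⟨hkΘ, hkΨ₁, hkΨ₂⟩ := szc_ne_of_irr I hT2
  choose m hm using fun χ : IrrCharacter G => szc_mult_nat (B := B) χ I.irrΘ
  choose n₁ hn₁ using fun χ : IrrCharacter G => szc_mult_nat (B := B) χ I.irrΨ₁
  choose n₂ hn₂ using fun χ : IrrCharacter G => szc_mult_nat (B := B) χ I.irrΨ₂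
  -- the two families
  have ht₁ : 2 ≤ T * (T + 1) / 2 := by
    have := szc_even_mul_succ T
    have : 6 ≤ T * (T + 1) := by nlinarith
    omega
  have hc₁ : Nat.card K₁ = 4 * (T * (T + 1) / 2) + 1 := by
    rw [D.cardK₁]
    have := szc_even_mul_succ T
    nlinarith
  obtain ⟨ε₁, c₁, E₁, hcard₁, hnot₁, hagree₁⟩ :=
    szc_family N K₁ D.hC₁ D.hab₁ D.hTI₁ D.idx₁ _ ht₁ hc₁ D.offB₁
  set F₁ : Finset (IrrCharacter G) :=
    Finset.univ.filter (fun ψ => (ψ : G → ℂ) ∈ Helper75.excFam K₁) with hF₁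
  have hF₁card : F₁.card = T * (T + 1) / 2 := by
    rw [← hcard₁, Nat.card_eq_fintype_card, Fintype.card_subtype]
  have hfam₂ : 4 ≤ T → ∃ (ε₂ c₂ : ℤ), Helper75.ExcData K₂ ε₂ c₂ ∧
      Nat.card {ψ : IrrCharacter G // (ψ : G → ℂ) ∈ Helper75.excFam K₂} = T * (T - 1) / 2 ∧
      (∀ ψ : IrrCharacter G, (ψ : G → ℂ) ∈ Helper75.excFam K₂ → ψ ∉ 𝓚) ∧
      (∀ ψ ψ' : IrrCharacter G, (ψ : G → ℂ) ∈ Helper75.excFam K₂ →
        (ψ' : G → ℂ) ∈ Helper75.excFam K₂ → ∀ b : ↥B, (ψ : G → ℂ) b = (ψ' : G → ℂ) b) := by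
    intro h4
    have ht₂ : 2 ≤ T * (T - 1) / 2 := by
      have := szc_even_mul_pred T (by omega)
      have h3 : 3 ≤ T - 1 := by omega
      have : 12 ≤ T * (T - 1) := by nlinarith
      omega
    have hc₂ : Nat.card K₂ = 4 * (T * (T - 1) / 2) + 1 := by
      rw [D.cardK₂]
      have h1 := szc_even_mul_pred T (by omega)
      obtain ⟨S, rfl⟩ : ∃ S, T = S + 1 := ⟨T - 1, by omega⟩
      rw [Nat.add_sub_cancel] at h1 ⊢
      have : 2 * (S + 1) ^ 2 - 2 * (S + 1) = 2 * ((S + 1) * S) := by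
        have : 2 * (S + 1) ^ 2 = 2 * ((S + 1) * S) + 2 * (S + 1) := by ring
        omega
      omega
    exact szc_family N K₂ D.hC₂ D.hab₂ D.hTI₂ D.idx₂ _ ht₂ hc₂ D.offB₂
  set F₂ : Finset (IrrCharacter G) :=
    if 4 ≤ T then Finset.univ.filter (fun ψ => (ψ : G → ℂ) ∈ Helper75.excFam K₂) else ∅ with hF₂
  -- auxiliary facts
  have hq1 : 1 ≤ T ^ 2 := Nat.one_le_pow _ _ (by omega)
  obtain ⟨u, hu⟩ : ∃ u, T ^ 2 = u + 1 := ⟨T ^ 2 - 1, by omega⟩
  have hdΘ : Θ 1 = (((2 * T ^ 2 - 1) * 1 : ℕ) : ℂ) := by rw [I.degΘ, mul_one]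
  have heΘ : classInner Θ Θ = ((1 : ℕ) : ℂ) := by
    rw [Helper74.irr_inner_self ⟨Θ, I.irrΘ⟩]; simp
  have heΨ₁ : classInner Ψ₁ Ψ₁ = ((1 : ℕ) : ℂ) := by
    rw [Helper74.irr_inner_self ⟨Ψ₁, I.irrΨ₁⟩]; simp
  have heΨ₂ : classInner Ψ₂ Ψ₂ = ((1 : ℕ) : ℂ) := by
    rw [Helper74.irr_inner_self ⟨Ψ₂, I.irrΨ₂⟩]; simp
  have hne : ∀ {β β' : ↥B → ℂ} (hβ : IsIrrCharacter ↥B β) (hβ' : IsIrrCharacter ↥B β'),
      β ≠ β' → classInner β β' = ((0 : ℕ) : ℂ) := by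
    intro β β' hβ hβ' h
    have : (⟨β, hβ⟩ : IrrCharacter ↥B) ≠ ⟨β', hβ'⟩ := fun hc => h (congrArg Subtype.val hc)
    rw [Helper74.irr_inner_ne this]; simp
  have hsq : ∀ f : IrrCharacter G → ℕ, ∑ χ ∈ Finset.univ \ 𝓚, f χ ^ 2
      = ∑ χ ∈ Finset.univ \ 𝓚, f χ * f χ :=
    fun f => Finset.sum_congr rfl (fun χ _ => pow_two _)
  have hconjΘ : Θ = fun b => conj (Θ b) := funext fun b => (I.conjΘ b).symm
  have hconjΨ₂ : Ψ₂ = fun b => conj (Ψ₁ b) := funext fun b => I.conjΨ b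
  have hconjΨ₁ : Ψ₁ = fun b => conj (Ψ₂ b) := by
    funext b
    rw [I.conjΨ b, Complex.conj_conj]
  refine ⟨Finset.univ \ 𝓚, m, n₁, n₂, Helper74.irrConj, F₁, F₂, ?_, ?_, ?_, ?_⟩
  · refine
      { card := ?_
        deg := ?_
        dvd := ?_
        sum_mm := ?_
        sum_mn₁ := ?_
        sum_mn₂ := ?_
        sum_n₁n₁ := ?_
        sum_n₂n₂ := ?_
        sum_n₁n₂ := ?_
        cj_mem := ?_
        cj_m := ?_
        cj_n₁ := ?_
        cj_n₂ := ?_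
        F₁R := ?_
        F₂R := ?_
        disj := ?_
        cardF₁ := ?_
        cardF₂ := ?_
        F₂empty := ?_
        const₁ := ?_
        const₂ := ?_ }
    · rw [Finset.card_sdiff_of_subset (Finset.subset_univ 𝓚), Finset.card_univ,
        ← Nat.card_eq_fintype_card, Helper74.card_irr_eq_card_conjClasses, D.classesG, N.card]
      omega
    · exact fun χ hχ => szc_deg_formula D I N χ (Finset.mem_sdiff.mp hχ).2 (m χ) (n₁ χ) (n₂ χ)
        (hm χ) (hn₁ χ) (hn₂ χ)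
    · intro χ _
      have := Helper80.IsIrrCharacter.charDegree_dvd_card χ.2
      rwa [D.cardG] at this
    · have h := szc_gram_R D I N I.irrΘ hkΘ I.irrΘ hkΘ m m hm hm 1 1 1 hdΘ hdΘ heΘ
      rw [hsq]
      omega
    · have h := szc_gram_R D I N I.irrΘ hkΘ I.irrΨ₁ hkΨ₁ m n₁ hm hn₁ 1 T 0 hdΘ I.degΨ₁
        (hne I.irrΨ₁ I.irrΘ I.ne₁.symm)
      rw [hu] at h ⊢
      rw [Nat.add_sub_cancel]
      have e : 2 * (u + 1) - 1 = 2 * u + 1 := by omega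
      rw [e] at h
      nlinarith
    · have h := szc_gram_R D I N I.irrΘ hkΘ I.irrΨ₂ hkΨ₂ m n₂ hm hn₂ 1 T 0 hdΘ I.degΨ₂
        (hne I.irrΨ₂ I.irrΘ I.ne₂.symm)
      rw [hu] at h ⊢
      rw [Nat.add_sub_cancel]
      have e : 2 * (u + 1) - 1 = 2 * u + 1 := by omega
      rw [e] at h
      nlinarith
    · have h := szc_gram_R D I N I.irrΨ₁ hkΨ₁ I.irrΨ₁ hkΨ₁ n₁ n₁ hn₁ hn₁ T T 1 I.degΨ₁ I.degΨ₁
        heΨ₁
      rw [hsq]
      rw [hu] at h ⊢
      rw [Nat.add_sub_cancel]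
      have e : 2 * (u + 1) - 1 = 2 * u + 1 := by omega
      rw [e] at h
      have hT : T * T = u + 1 := by rw [← hu]; ring
      nlinarith
    · have h := szc_gram_R D I N I.irrΨ₂ hkΨ₂ I.irrΨ₂ hkΨ₂ n₂ n₂ hn₂ hn₂ T T 1 I.degΨ₂ I.degΨ₂
        heΨ₂
      rw [hsq]
      rw [hu] at h ⊢
      rw [Nat.add_sub_cancel]
      have e : 2 * (u + 1) - 1 = 2 * u + 1 := by omega
      rw [e] at h
      have hT : T * T = u + 1 := by rw [← hu]; ring
      nlinarith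
    · have h := szc_gram_R D I N I.irrΨ₁ hkΨ₁ I.irrΨ₂ hkΨ₂ n₁ n₂ hn₁ hn₂ T T 0 I.degΨ₁ I.degΨ₂
        (hne I.irrΨ₂ I.irrΨ₁ I.ne₁₂.symm)
      rw [hu] at h ⊢
      rw [Nat.add_sub_cancel]
      have e : 2 * (u + 1) - 1 = 2 * u + 1 := by omega
      rw [e] at h
      have hT : T * T = u + 1 := by rw [← hu]; ring
      nlinarith
    · intro χ hχ
      refine Finset.mem_sdiff.mpr ⟨Finset.mem_univ _, fun h => (Finset.mem_sdiff.mp hχ).2 ?_⟩
      have := N.conj_mem _ h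
      rwa [szc_irrConj_irrConj] at this
    · intro χ _
      have h := hm (Helper74.irrConj χ)
      rw [szc_resFun_irrConj, hconjΘ, Helper74.classInner_conj_conj, hm χ,
        Complex.conj_natCast] at h
      exact_mod_cast h.symm
    · intro χ _
      have h := hn₁ (Helper74.irrConj χ)
      rw [szc_resFun_irrConj, hconjΨ₁, Helper74.classInner_conj_conj, hn₂ χ,
        Complex.conj_natCast] at h
      exact_mod_cast h.symm
    · intro χ _
      have h := hn₂ (Helper74.irrConj χ)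
      rw [szc_resFun_irrConj, hconjΨ₂, Helper74.classInner_conj_conj, hn₁ χ,
        Complex.conj_natCast] at h
      exact_mod_cast h.symm
    · intro ψ hψ
      rw [hF₁, Finset.mem_filter] at hψ
      exact Finset.mem_sdiff.mpr ⟨Finset.mem_univ _, hnot₁ ψ hψ.2⟩
    · intro ψ hψ
      by_cases h4 : 4 ≤ T
      · obtain ⟨ε₂, c₂, E₂, hcard₂, hnot₂, hagree₂⟩ := hfam₂ h4
        rw [hF₂, if_pos h4, Finset.mem_filter] at hψ
        exact Finset.mem_sdiff.mpr ⟨Finset.mem_univ _, hnot₂ ψ hψ.2⟩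
      · rw [hF₂, if_neg h4] at hψ
        exact absurd hψ (Finset.notMem_empty _)
    · by_cases h4 : 4 ≤ T
      · obtain ⟨ε₂, c₂, E₂, hcard₂, hnot₂, hagree₂⟩ := hfam₂ h4
        rw [Finset.disjoint_left]
        intro ψ hψ hψ'
        rw [hF₁, Finset.mem_filter] at hψ
        rw [hF₂, if_pos h4, Finset.mem_filter] at hψ'
        refine Helper75.ca_excFam_disjoint E₁ E₂ ?_ hψ.2 hψ'.2
        intro g hg hg'
        obtain ⟨hg1, h, hh⟩ := Helper75.mem_Kconj.mp hg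
        obtain ⟨-, h', hh'⟩ := Helper75.mem_Kconj.mp hg'
        have hk1 : h * g * h⁻¹ ≠ 1 := by
          intro hc
          apply hg1
          have : g = h⁻¹ * (h * g * h⁻¹) * h := by group
          rw [this, hc]
          group
        apply D.disj (h * g * h⁻¹) hh hk1 (h' * h⁻¹)
        have : h' * h⁻¹ * (h * g * h⁻¹) * (h' * h⁻¹)⁻¹ = h' * g * h'⁻¹ := by group
        rw [this]
        exact hh'
      · rw [hF₂, if_neg h4]
        exact Finset.disjoint_empty_right _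
    · rw [hF₁card]
      exact szc_even_mul_succ T
    · intro h4
      obtain ⟨ε₂, c₂, E₂, hcard₂, hnot₂, hagree₂⟩ := hfam₂ h4
      rw [hF₂, if_pos h4, ← szc_even_mul_pred T (by omega), ← hcard₂, Nat.card_eq_fintype_card,
        Fintype.card_subtype]
    · intro h4
      rw [hF₂, if_neg (by omega)]
    · intro ψ hψ ψ' hψ'
      rw [hF₁, Finset.mem_filter] at hψ hψ'
      have hag := hagree₁ ψ ψ' hψ.2 hψ'.2
      exact ⟨szc_mult_eq_of_res_eq hag Θ (hm ψ) (hm ψ'),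
        szc_mult_eq_of_res_eq hag Ψ₁ (hn₁ ψ) (hn₁ ψ'),
        szc_mult_eq_of_res_eq hag Ψ₂ (hn₂ ψ) (hn₂ ψ')⟩
    · intro ψ hψ ψ' hψ'
      by_cases h4 : 4 ≤ T
      · obtain ⟨ε₂, c₂, E₂, hcard₂, hnot₂, hagree₂⟩ := hfam₂ h4
        rw [hF₂, if_pos h4, Finset.mem_filter] at hψ hψ'
        have hag := hagree₂ ψ ψ' hψ.2 hψ'.2
        exact ⟨szc_mult_eq_of_res_eq hag Θ (hm ψ) (hm ψ'),
          szc_mult_eq_of_res_eq hag Ψ₁ (hn₁ ψ) (hn₁ ψ'),
          szc_mult_eq_of_res_eq hag Ψ₂ (hn₂ ψ) (hn₂ ψ')⟩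
      · rw [hF₂, if_neg h4] at hψ
        exact absurd hψ (Finset.notMem_empty _)
  · intro χ hχ
    have : χ ∈ 𝓚 := by
      by_contra hc
      exact hχ (Finset.mem_sdiff.mpr ⟨Finset.mem_univ _, hc⟩)
    exact N.deg χ this
  · obtain ⟨χ, -, h⟩ := N.deg_sq
    exact ⟨χ, h⟩
  · obtain ⟨χ, -, h⟩ := N.deg_sq1
    exact ⟨χ, h⟩

end Main

end Cfsg.Agent.Helper6
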