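import Cfsg.Agent.Helper6.SzChar3
import Cfsg.Agent.Helper6.SzChar1
import Cfsg.Agent.Helper80.Pullback

/-!
# The character degrees of the Suzuki groups
-/

set_option autoImplicit false

namespace Cfsg.Agent.Helper6

open Cfsg
open scoped ComplexConjugate

universe u v

section Main

variable {G : Type u} [Group G] [Fintype G] {Q H B K₁ K₂ : Subgroup G} {w : G} {T : ℕ}

omit [Fintype G] in
theorem szc_charDegree_one : charDegree (fun _ : G => (1 : ℂ)) = 1 := by
  simp [charDegree]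

/-- the set of character degrees -/
theorem szc_charDegrees (D : SzHyp Q H B K₁ K₂ w T) : charDegrees G = szDegreeSet T := by
  classical
  letI : Fintype ↥B := Fintype.ofFinite _
  obtain ⟨R, m, n₁, n₂, cj, F₁, F₂, N, hknown, hsq, hsq1⟩ := szc_num D
  have hdio : (∀ χ ∈ R, charDegree (χ : G → ℂ) = (2 * T ^ 2 - 1) * (2 * T ^ 2 - 2 * T + 1) ∨
      charDegree (χ : G → ℂ) = (2 * T ^ 2 - 1) * (2 * T ^ 2 + 2 * T + 1) ∨
      charDegree (χ : G → ℂ) = (2 * T ^ 2 - 1) * T) ∧
    (∃ χ ∈ R, charDegree (χ : G → ℂ) = (2 * T ^ 2 - 1) * (2 * T ^ 2 - 2 * T + 1)) ∧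
    (∃ χ ∈ R, charDegree (χ : G → ℂ) = (2 * T ^ 2 - 1) * (2 * T ^ 2 + 2 * T + 1)) ∧
    (∃ χ ∈ R, charDegree (χ : G → ℂ) = (2 * T ^ 2 - 1) * T) := by
    rcases szc_T_cases D with h2 | h4
    · subst h2
      exact szc_dioph_small N
    · exact szc_dioph_large D.pow h4 N
  obtain ⟨hall, ⟨χ₁, -, h₁⟩, ⟨χ₂, -, h₂⟩, ⟨χ₃, -, h₃⟩⟩ := hdio
  ext d
  constructor
  · rintro ⟨χ, rfl⟩
    by_cases hχ : χ ∈ R
    · rcases hall χ hχ with h | h | h <;> simp [szDegreeSet, h]
    · rcases hknown χ hχ with h | h | h <;> simp [szDegreeSet, h]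
  · intro hd
    simp only [szDegreeSet, Set.mem_insert_iff, Set.mem_singleton_iff] at hd
    rcases hd with rfl | rfl | rfl | rfl | rfl | rfl
    · exact ⟨⟨fun _ => 1, Helper79.isIrrCharacter_one⟩, szc_charDegree_one⟩
    · exact hsq
    · exact hsq1
    · exact ⟨χ₁, h₁⟩
    · exact ⟨χ₂, h₂⟩
    · exact ⟨χ₃, h₃⟩

end Main

section Transport

theorem szc_charDegrees_subset_of_equiv {S : Type u} {G : Type v} [Group S] [Group G]
    (e : S ≃* G) : charDegrees S ⊆ charDegrees G := by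
  rintro d ⟨χ, hχ⟩
  refine ⟨⟨fun g => (χ : S → ℂ) (e.symm g),
    Cfsg.Agent.Helper80.IsIrrCharacter.comp_surjective χ.2 e.symm.toMonoidHom
      e.symm.surjective⟩, ?_⟩
  rw [← hχ]
  unfold charDegree
  simp

theorem szc_charDegrees_congr {S : Type u} {G : Type v} [Group S] [Group G] (e : S ≃* G) :
    charDegrees S = charDegrees G :=
  Set.Subset.antisymm (szc_charDegrees_subset_of_equiv e)
    (szc_charDegrees_subset_of_equiv e.symm)

end Transport

section Final

variable {F : Type u} [Field F] [Fintype F] {m : ℕ}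

/-- the character degrees of the Suzuki groups -/
theorem szc_charDegrees_lieSz (hm : 1 ≤ m) (hF : Fintype.card F = 2 ^ (2 * m + 1))
    {S : Type v} [Group S] (e : S ≃* ↥(Cfsg.Lie.Sz F (2 ^ (m + 1)))) :
    charDegrees S = szDegreeSet (2 ^ m) := by
  classical
  obtain ⟨Q, H, B, K₁, K₂, w, D⟩ := szc_szHyp' hm hF
  letI : Fintype ↥(Cfsg.Sz F m) := Fintype.ofFinite _
  rw [szc_charDegrees_congr (e.trans (lieSzEquiv hm hF).symm)]
  exact szc_charDegrees D

end Final

end Cfsg.Agent.Helper6
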