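import Cfsg.Agent.Helper6.SzChar0

/-!
# The Diophantine analysis for `Sz(8)`
-/

set_option autoImplicit false

namespace Cfsg.Agent.Helper6

universe u

/-- the three characters outside the first family -/
theorem szc_db_three {ι : Type u} [DecidableEq ι] {S : Finset ι} (hS : S.card = 3) {a b : ι}
    (ha : a ∈ S) (hb : b ∈ S) (hab : a ≠ b) :
    ∃ c, c ≠ a ∧ c ≠ b ∧ S = {a, b, c} := by
  have h1 : ((S.erase a).erase b).card = 1 := by
    rw [Finset.card_erase_of_mem (Finset.mem_erase.mpr ⟨hab.symm, hb⟩),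
      Finset.card_erase_of_mem ha, hS]
  obtain ⟨c, hc⟩ := Finset.card_eq_one.mp h1
  have hcmem : c ∈ (S.erase a).erase b := by rw [hc]; exact Finset.mem_singleton_self c
  obtain ⟨hcb, hc2⟩ := Finset.mem_erase.mp hcmem
  obtain ⟨hca, hcS⟩ := Finset.mem_erase.mp hc2
  refine ⟨c, hca, hcb, ?_⟩
  ext x
  simp only [Finset.mem_insert, Finset.mem_singleton]
  constructor
  · intro hx
    by_cases hxa : x = a
    · exact Or.inl hxa
    by_cases hxb : x = b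
    · exact Or.inr (Or.inl hxb)
    right; right
    have : x ∈ (S.erase a).erase b :=
      Finset.mem_erase.mpr ⟨hxb, Finset.mem_erase.mpr ⟨hxa, hx⟩⟩
    rw [hc] at this
    exact Finset.mem_singleton.mp this
  · rintro (rfl | rfl | rfl)
    · exact ha
    · exact hb
    · exact hcS

/-- the arithmetic core for `T = 2` -/
theorem szc_db_arith (μ ν ω x ζ y dF dA dZ : ℕ) (h1 : 3 * μ ^ 2 + (ω ^ 2 + ω ^ 2 + ζ ^ 2) = 4)
    (h2 : 3 * (μ * ν) + (ω * (x + 1) + ω * x + ζ * y) = 6)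
    (h3 : 3 * (ν * ν) + ((x + 1) * x + x * (x + 1) + y * y) = 12)
    (hF : dF = 7 * (μ + 2 * (ν + ν))) (hA : dA = 7 * (ω + 2 * (x + 1 + x)))
    (hZ : dZ = 7 * (ζ + 2 * (y + y)))
    (hdF : dF ∣ 29120) (hdZ : dZ ∣ 29120) : dF = 35 ∧ dA = 14 ∧ dZ = 91 := by
  have hμ : μ ≤ 1 := by nlinarith
  have hω : ω ≤ 1 := by nlinarith
  have hζ : ζ ≤ 2 := by nlinarith
  have hx : x ≤ 2 := by nlinarith
  have hy : y ≤ 3 := by nlinarith
  have hν : ν ≤ 2 := by nlinarith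
  subst hF hA hZ
  interval_cases μ <;> interval_cases ω <;> interval_cases ζ <;> simp at h1 <;>
    interval_cases x <;> interval_cases y <;> interval_cases ν <;> simp at h3 <;>
    simp at h2 <;> first
      | exact ⟨rfl, rfl, rfl⟩
      | (exfalso; revert hdF; decide)
      | (exfalso; revert hdZ; decide)

/-- the Diophantine analysis, `T = 2` -/
theorem szc_dioph_small' {ι : Type u} [DecidableEq ι] {R : Finset ι} {d m n₁ n₂ : ι → ℕ}
    {cj : ι → ι} {F₁ F₂ : Finset ι} (N : SzNum 2 R d m n₁ n₂ cj F₁ F₂) :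
    (∀ χ ∈ R, d χ = 35 ∨ d χ = 91 ∨ d χ = 14) ∧
    (∃ χ ∈ R, d χ = 35) ∧ (∃ χ ∈ R, d χ = 91) ∧ (∃ χ ∈ R, d χ = 14) := by
  have hcard : R.card = 6 := by have := N.card; norm_num at this; exact this
  have hF₁ : F₁.card = 3 := by have := N.cardF₁; omega
  obtain ⟨χ₁, hχ₁⟩ : F₁.Nonempty := Finset.card_pos.mp (by omega)
  have hconst : ∀ χ ∈ F₁, m χ = m χ₁ ∧ n₁ χ = n₁ χ₁ ∧ n₂ χ = n₂ χ₁ :=
    fun χ hχ => N.const₁ χ hχ χ₁ hχ₁
  -- splitting sums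
  have hsplit : ∀ f : ℕ → ℕ → ℕ → ℤ, ∑ χ ∈ R, f (m χ) (n₁ χ) (n₂ χ)
      = ∑ χ ∈ R \ F₁, f (m χ) (n₁ χ) (n₂ χ) + 3 * f (m χ₁) (n₁ χ₁) (n₂ χ₁) := by
    intro f
    rw [← Finset.sum_sdiff N.F₁R]
    congr 1
    rw [Finset.sum_congr rfl (fun χ hχ => by
      obtain ⟨h1, h2, h3⟩ := hconst χ hχ
      rw [h1, h2, h3]), Finset.sum_const, hF₁]
    simp
  have hR' : (R \ F₁).card = 3 := by
    rw [Finset.card_sdiff_of_subset N.F₁R, hcard, hF₁]
  -- the sum of the squares of the differences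
  have hZ : ∑ χ ∈ R, ((n₁ χ : ℤ) - n₂ χ) ^ 2 = 2 := by
    have e : ∀ χ, ((n₁ χ : ℤ) - n₂ χ) ^ 2
        = ((n₁ χ ^ 2 : ℕ) : ℤ) + ((n₂ χ ^ 2 : ℕ) : ℤ) - 2 * ((n₁ χ * n₂ χ : ℕ) : ℤ) := fun χ => by
      push_cast; ring
    simp only [e, Finset.sum_add_distrib, Finset.sum_sub_distrib, ← Finset.mul_sum,
      ← Nat.cast_sum, N.sum_n₁n₁, N.sum_n₂n₂, N.sum_n₁n₂]
    norm_num
  have hZ' := hsplit (fun _ b c => ((b : ℤ) - c) ^ 2)
  rw [hZ] at hZ'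
  have hnonneg : 0 ≤ ∑ χ ∈ R \ F₁, ((n₁ χ : ℤ) - n₂ χ) ^ 2 :=
    Finset.sum_nonneg (fun χ _ => sq_nonneg _)
  have hνeq : n₁ χ₁ = n₂ χ₁ := by
    by_contra hne
    have : (1 : ℤ) ≤ ((n₁ χ₁ : ℤ) - n₂ χ₁) ^ 2 := by
      have h0 : ((n₁ χ₁ : ℤ) - n₂ χ₁) ≠ 0 := by
        intro h
        apply hne
        have : (n₁ χ₁ : ℤ) = n₂ χ₁ := by linarith
        exact_mod_cast this
      have := sq_pos_of_ne_zero h0
      linarith
    linarith
  have hsum' : ∑ χ ∈ R \ F₁, ((n₁ χ : ℤ) - n₂ χ) ^ 2 = 2 := by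
    rw [hνeq] at hZ'
    simp at hZ'
    linarith
  -- a character with `n₁ ≠ n₂`
  obtain ⟨W, hW, hWne⟩ : ∃ W ∈ R \ F₁, n₁ W ≠ n₂ W := by
    by_contra hcon
    push Not at hcon
    have : ∑ χ ∈ R \ F₁, ((n₁ χ : ℤ) - n₂ χ) ^ 2 = 0 := by
      apply Finset.sum_eq_zero
      intro χ hχ
      rw [hcon χ hχ]
      simp
    rw [this] at hsum'
    norm_num at hsum'
  have hWR : W ∈ R := (Finset.mem_sdiff.mp hW).1
  have hcW : cj W ∈ R \ F₁ := by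
    refine Finset.mem_sdiff.mpr ⟨N.cj_mem W hWR, fun hF => hWne ?_⟩
    obtain ⟨-, h2, h3⟩ := hconst _ hF
    rw [N.cj_n₁ W hWR] at h2
    rw [N.cj_n₂ W hWR] at h3
    rw [h3, h2, hνeq]
  have hcWne : W ≠ cj W := by
    intro h
    apply hWne
    have := N.cj_n₁ W hWR
    rw [← h] at this
    exact this
  obtain ⟨Z, hZW, hZcW, hR'eq⟩ := szc_db_three hR' hW hcW hcWne
  have hsum3 : ∀ f : ι → ℤ, ∑ χ ∈ R \ F₁, f χ = f W + (f (cj W) + f Z) := by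
    intro f
    rw [hR'eq, Finset.sum_insert (by
      simp only [Finset.mem_insert, Finset.mem_singleton]
      rintro (h | h)
      · exact hcWne h
      · exact hZW h.symm), Finset.sum_insert (by
      simp only [Finset.mem_singleton]
      exact fun h => hZcW h.symm), Finset.sum_singleton]
  have hZR : Z ∈ R := by
    have : Z ∈ R \ F₁ := by rw [hR'eq]; simp
    exact (Finset.mem_sdiff.mp this).1
  have hg := hsum3 (fun χ => ((n₁ χ : ℤ) - n₂ χ) ^ 2)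
  rw [hsum', N.cj_n₁ W hWR, N.cj_n₂ W hWR] at hg
  have hgW : (1 : ℤ) ≤ ((n₁ W : ℤ) - n₂ W) ^ 2 := by
    have h0 : ((n₁ W : ℤ) - n₂ W) ≠ 0 := by
      intro h
      apply hWne
      have : (n₁ W : ℤ) = n₂ W := by linarith
      exact_mod_cast this
    have := sq_pos_of_ne_zero h0
    linarith
  have hgW' : ((n₂ W : ℤ) - n₁ W) ^ 2 = ((n₁ W : ℤ) - n₂ W) ^ 2 := by ring
  have hgZ0 : 0 ≤ ((n₁ Z : ℤ) - n₂ Z) ^ 2 := sq_nonneg _
  have hgW1 : ((n₁ W : ℤ) - n₂ W) ^ 2 = 1 := by nlinarith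
  have hgZ : n₁ Z = n₂ Z := by
    have : ((n₁ Z : ℤ) - n₂ Z) ^ 2 = 0 := by nlinarith
    have h' : (n₁ Z : ℤ) - n₂ Z = 0 := by
      rcases sq_eq_zero_iff.mp this with h
      exact h
    have : (n₁ Z : ℤ) = n₂ Z := by linarith
    exact_mod_cast this
  -- the two characters `A, Bc` with `n₁ A = n₂ A + 1`
  obtain ⟨A, Bc, hAR, hBR, hAB, hABZ, x, hn₁A, hn₂A, hn₁B, hn₂B, hmAB⟩ :
      ∃ A Bc, A ∈ R ∧ Bc ∈ R ∧ A ≠ Bc ∧ R \ F₁ = {A, Bc, Z} ∧ ∃ x, n₁ A = x + 1 ∧ n₂ A = x ∧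
        n₁ Bc = x ∧ n₂ Bc = x + 1 ∧ m A = m Bc := by
    have hcases : (n₁ W : ℤ) - n₂ W = 1 ∨ (n₁ W : ℤ) - n₂ W = -1 := by
      have : ((n₁ W : ℤ) - n₂ W - 1) * ((n₁ W : ℤ) - n₂ W + 1) = 0 := by nlinarith
      rcases mul_eq_zero.mp this with h | h
      · left; linarith
      · right; linarith
    rcases hcases with h | h
    · refine ⟨W, cj W, hWR, N.cj_mem W hWR, hcWne, hR'eq, n₂ W, ?_, rfl, ?_, ?_, ?_⟩
      · have : (n₁ W : ℤ) = n₂ W + 1 := by linarith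
        exact_mod_cast this
      · exact N.cj_n₁ W hWR
      · rw [N.cj_n₂ W hWR]
        have : (n₁ W : ℤ) = n₂ W + 1 := by linarith
        exact_mod_cast this
      · exact (N.cj_m W hWR).symm
    · refine ⟨cj W, W, N.cj_mem W hWR, hWR, hcWne.symm, ?_, n₁ W, ?_, ?_, rfl, ?_, ?_⟩
      · rw [hR'eq]
        ext χ
        simp only [Finset.mem_insert, Finset.mem_singleton]
        tauto
      · rw [N.cj_n₁ W hWR]
        have : (n₂ W : ℤ) = n₁ W + 1 := by linarith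
        exact_mod_cast this
      · exact N.cj_n₂ W hWR
      · have : (n₂ W : ℤ) = n₁ W + 1 := by linarith
        exact_mod_cast this
      · exact N.cj_m W hWR
  have hAZ : A ≠ Z := by
    intro h
    rw [h] at hn₁A hn₂A
    omega
  have hBZ : Bc ≠ Z := by
    intro h
    rw [h] at hn₁B hn₂B
    omega
  have hsumN : ∀ f : ι → ℕ, ∑ χ ∈ R, f χ = ∑ χ ∈ F₁, f χ + (f A + (f Bc + f Z)) := by
    intro f
    rw [← Finset.sum_sdiff N.F₁R, hABZ, Finset.sum_insert (by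
      simp only [Finset.mem_insert, Finset.mem_singleton]
      rintro (h | h)
      · exact hAB h
      · exact hAZ h), Finset.sum_insert (by
      simp only [Finset.mem_singleton]
      exact hBZ), Finset.sum_singleton]
    ring
  have hsumF : ∀ f : ℕ → ℕ → ℕ → ℕ, ∑ χ ∈ F₁, f (m χ) (n₁ χ) (n₂ χ)
      = 3 * f (m χ₁) (n₁ χ₁) (n₂ χ₁) := by
    intro f
    rw [Finset.sum_congr rfl (fun χ hχ => by
      obtain ⟨h1, h2, h3⟩ := hconst χ hχ
      rw [h1, h2, h3]), Finset.sum_const, hF₁, smul_eq_mul]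
  have e1 := N.sum_mm
  rw [hsumN, hsumF (fun a _ _ => a ^ 2), hmAB] at e1
  have e2 := N.sum_mn₁
  rw [hsumN, hsumF (fun a b _ => a * b), hmAB, hn₁A, hn₁B] at e2
  have e3 := N.sum_n₁n₂
  rw [hsumN, hsumF (fun _ b c => b * c), hn₁A, hn₂A, hn₁B, hn₂B, ← hgZ, ← hνeq] at e3
  norm_num at e1 e2 e3
  have hχ₁R : χ₁ ∈ R := N.F₁R hχ₁
  have hdF := N.deg χ₁ hχ₁R
  have hdA := N.deg A hAR
  have hdB := N.deg Bc hBR
  have hdZ := N.deg Z hZR
  rw [← hνeq] at hdF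
  rw [hn₁A, hn₂A] at hdA
  rw [hn₁B, hn₂B, ← hmAB] at hdB
  rw [← hgZ] at hdZ
  norm_num at hdF hdA hdB hdZ
  have hvF := N.dvd χ₁ hχ₁R
  have hvZ := N.dvd Z hZR
  norm_num at hvF hvZ
  obtain ⟨r1, r2, r3⟩ := szc_db_arith (m χ₁) (n₁ χ₁) (m Bc) x (m Z) (n₁ Z) (d χ₁) (d A) (d Z)
    (by linarith) (by linarith) (by linarith) (by linarith) (by rw [hdA, hmAB]) (by linarith) hvF hvZ
  have hdB' : d Bc = 14 := by
    rw [hdB, ← r2, hdA]
    ring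
  have hdall : ∀ χ ∈ F₁, d χ = 35 := by
    intro χ hχ
    have := N.deg χ (N.F₁R hχ)
    obtain ⟨h1, h2, h3⟩ := hconst χ hχ
    rw [h1, h2, h3, ← hνeq] at this
    rw [this, ← r1, hdF]
    norm_num
  refine ⟨?_, ⟨χ₁, hχ₁R, r1⟩, ⟨Z, hZR, r3⟩, ⟨A, hAR, r2⟩⟩
  intro χ hχ
  by_cases hF : χ ∈ F₁
  · exact Or.inl (hdall χ hF)
  · have : χ ∈ R \ F₁ := Finset.mem_sdiff.mpr ⟨hχ, hF⟩
    rw [hABZ] at this
    simp only [Finset.mem_insert, Finset.mem_singleton] at this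
    rcases this with rfl | rfl | rfl
    · exact Or.inr (Or.inr r2)
    · exact Or.inr (Or.inr hdB')
    · exact Or.inr (Or.inl r3)

end Cfsg.Agent.Helper6
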