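import Cfsg.Agent.Helper6.SzCl2

/-!
# Class squares in the Suzuki groups: the product families and the main theorem
-/

set_option autoImplicit false

namespace Cfsg.Agent.Helper6

variable {F : Type*} [Field F] [Fintype F] {m : ℕ}

/-- square roots -/
theorem exists_sq_eq (hF : Fintype.card F = 2 ^ (2 * m + 1)) (d : F) : ∃ s : F, s ^ 2 = d := by
  obtain ⟨v, hv⟩ := exists_pow_sigma_eq hF d
  obtain ⟨u, hu⟩ := exists_pow_sigma_eq hF v
  exact ⟨u, by rw [← pow_sigma_sigma hF, hu, hv]⟩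

/-- an element different from two given ones -/
theorem exists_ne_ne (hF : Fintype.card F = 2 ^ (2 * m + 1)) (hm : 1 ≤ m) (x y : F) :
    ∃ z : F, z ≠ x ∧ z ≠ y := by
  classical
  have hq8 : 8 ≤ Fintype.card F := by
    rw [hF]
    calc 8 = 2 ^ 3 := by norm_num
      _ ≤ 2 ^ (2 * m + 1) := Nat.pow_le_pow_right (by norm_num) (by omega)
  by_contra hcon
  push Not at hcon
  have hsub : (Finset.univ : Finset F) ⊆ {x, y} := by
    intro z _
    by_cases hz : z = x
    · simp [hz]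
    · simp [hcon z hz]
  have := Finset.card_le_card hsub
  rw [Finset.card_univ] at this
  have h2 : ({x, y} : Finset F).card ≤ 2 := Finset.card_le_two
  omega

/-- (P1) -/
theorem exists_P1 (hm : 1 ≤ m) (hF : Fintype.card F = 2 ^ (2 * m + 1)) (c d : F) :
    ∃ y z : Cfsg.Sz F m, szTr y = c ∧ szTr z = c ∧ szTr (y * z) = d := by
  have h2 : (2 : F) = 0 := two_eq_zero_of_card hF
  obtain ⟨b, hb⟩ := exists_szTr_eq hF c
  obtain ⟨s, hs⟩ := exists_sq_eq hF d
  obtain ⟨w, hw⟩ := exists_pow_sigma_eq hF s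
  refine ⟨sU hF 0 b * sW hF, sU hF 0 (b + w) * (sU hF 0 b * sW hF) * (sU hF 0 (b + w))⁻¹, hb,
    ?_, ?_⟩
  · rw [szTr_conj, hb]
  · rw [szTr_P1 hm hF, show b + (b + w) = w by linear_combination b * h2, hw, hs]

/-- (P2) -/
theorem exists_P2 (hm : 1 ≤ m) (hF : Fintype.card F = 2 ^ (2 * m + 1)) (c : F) (hc : c ≠ 0) :
    ∃ y z : Cfsg.Sz F m, szTr y = c ∧ szTr z = c ∧ orderOf (y * z) = 2 := by
  have h2 : (2 : F) = 0 := two_eq_zero_of_card hF
  obtain ⟨b, hb⟩ := exists_pow_sigma_eq hF c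
  have hb0 : b ≠ 0 := by
    rintro rfl
    rw [zero_pow (by positivity)] at hb
    exact hc hb.symm
  have hY : szTr (sU hF 0 b * sW hF) = c := by
    rw [szTr_sU_mul_sW hF, hb, zero_mul, zero_pow (by positivity), zero_pow (by positivity)]
    ring
  obtain ⟨b₁, hb₁0, hb₁b⟩ := exists_ne_ne hF hm (0 : F) b
  set π : F := b₁ * (b + b₁) with hπ
  set D : F := 1 + π + π ^ (2 ^ (m + 1)) with hD
  set N : F := b₁ ^ (2 ^ (m + 1)) * b + b ^ (2 ^ (m + 1)) * b₁ with hN
  have hD0 : D ≠ 0 := by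
    intro h
    apply sigma_add_ne_one hF π
    linear_combination h - (1 + π + π ^ (2 ^ (m + 1))) * 0 - h2
  have hN0 : N ≠ 0 := by
    intro h
    -- `(b₁ / b)^θ = b₁ / b`
    have hb' : b ^ (2 ^ (m + 1)) ≠ 0 := pow_ne_zero _ hb0
    have h1 : (b₁ / b) ^ (2 ^ (m + 1)) = b₁ / b := by
      rw [div_pow, div_eq_div_iff hb' hb0]
      linear_combination h - (b ^ (2 ^ (m + 1)) * b₁) * h2
    have h3 : (b₁ / b) ^ 2 = b₁ / b := by
      rw [← pow_sigma_sigma hF, h1, h1]
    have h4 : b₁ / b * (b₁ / b - 1) = 0 := by linear_combination h3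
    rcases mul_eq_zero.1 h4 with h5 | h5
    · rw [div_eq_zero_iff] at h5
      rcases h5 with h5 | h5
      · exact hb₁0 h5
      · exact hb0 h5
    · rw [sub_eq_zero, div_eq_one_iff_eq hb0] at h5
      exact hb₁b h5
  set r : F := N / D with hr
  have hr0 : r ≠ 0 := div_ne_zero hN0 hD0
  set e : F := r ^ (2 ^ (m + 1) + 1) with he
  have he0 : e ≠ 0 := pow_ne_zero _ hr0
  have heq : e ^ (2 ^ (m + 1)) * D = e * N := by
    have h1 : e ^ (2 ^ (m + 1)) = e * r := by
      rw [he, pow_succ, mul_pow, pow_sigma_sigma hF]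
      ring
    rw [h1, hr]
    field_simp
  set t₀ : Cfsg.Sz F m := (sU hF 0 b₁ * sW hF) * sU hF 0 e * (sU hF 0 b₁ * sW hF)⁻¹ with ht₀
  have ht₀2 : orderOf t₀ = 2 := by
    rw [ht₀, orderOf_conj', orderOf_sU_eq_two_iff hm hF]
    exact ⟨rfl, he0⟩
  refine ⟨(sU hF 0 b * sW hF)⁻¹, (sU hF 0 b * sW hF) * t₀, ?_, ?_, ?_⟩
  · rw [szTr_inv hm hF, hY]
  · have key : e ^ (2 ^ (m + 1)) * (1 + b₁ * (b + b₁) + (b₁ * (b + b₁)) ^ (2 ^ (m + 1))) =
        e * (b₁ ^ (2 ^ (m + 1)) * b + b ^ (2 ^ (m + 1)) * b₁) := heq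
    rw [ht₀, szTr_P2 hm hF]
    linear_combination key + (e * (b₁ ^ (2 ^ (m + 1)) * b + b ^ (2 ^ (m + 1)) * b₁)) * h2 + hb
  · rw [inv_mul_cancel_left, ht₀2]

/-- (P3) -/
theorem exists_P3 (hm : 1 ≤ m) (hF : Fintype.card F = 2 ^ (2 * m + 1)) (c : F) :
    ∃ y z : Cfsg.Sz F m, szTr y = c ∧ szTr z = c ∧ orderOf (y * z) = 4 := by
  obtain ⟨a, b', ha, hab⟩ := exists_phi_eq hm hF c
  obtain ⟨b₀, hb₀⟩ := exists_szTr_eq hF c
  refine ⟨sU hF a b' * sW hF, (sU hF 0 b₀ * sW hF)⁻¹, ?_, ?_, ?_⟩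
  · rw [szTr_sU_mul_sW hF, hab]
  · rw [szTr_inv hm hF, hb₀]
  · have : sU hF a b' * sW hF * (sU hF 0 b₀ * sW hF)⁻¹ = sU hF a b' * (sU hF 0 b₀)⁻¹ := by
      group
    rw [this, sU_inv hm hF, sU_mul hm hF, orderOf_sU_eq_four_iff hm hF, add_zero]
    exact ha

/-- (Q1) -/
theorem exists_Q1 (hm : 1 ≤ m) (hF : Fintype.card F = 2 ^ (2 * m + 1)) (d : F) :
    ∃ y z : Cfsg.Sz F m, orderOf y = 4 ∧ IsCj y z ∧ szTr (y * z) = d := by
  obtain ⟨s, hs⟩ := exists_sq_eq hF d
  obtain ⟨a, b, ha, hab⟩ := exists_phi_eq hm hF s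
  refine ⟨sU hF a b, sW hF * sU hF a b * (sW hF)⁻¹, ?_, isCj_conj _ _, ?_⟩
  · rw [orderOf_sU_eq_four_iff hm hF]
    exact ha
  · have : sU hF a b * (sW hF * sU hF a b * (sW hF)⁻¹) =
        (sU hF a b * sW hF) * (sU hF a b * sW hF) := by
      rw [sW_inv hF]
      group
    rw [this, szTr_mul_self hF, szTr_sU_mul_sW hF, hab, hs]

/-- the order of a non-identity `2`-element -/
theorem orderOf_of_conjInto_szQ (hm : 1 ≤ m) (hF : Fintype.card F = 2 ^ (2 * m + 1))
    {g : Cfsg.Sz F m} (hg : ConjInto (szQ hm hF) g) : orderOf g = 2 ∨ orderOf g = 4 := by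
  obtain ⟨hg1, k, hk⟩ := hg
  obtain ⟨a, b, hab⟩ := (mem_szQ_iff hm hF _).1 hk
  rw [← orderOf_conj' k g, hab]
  by_cases ha : a = 0
  · left
    rw [orderOf_sU_eq_two_iff hm hF]
    refine ⟨ha, ?_⟩
    rintro rfl
    apply hg1
    rw [← conj_eq_one_iff (a := k), hab, ha, sU_zero hm hF]
  · right
    rw [orderOf_sU_eq_four_iff hm hF]
    exact ha

/-- conjugacy of elements which are not `2`-elements -/
theorem isCj_of_szTr_eq (hm : 1 ≤ m) (hF : Fintype.card F = 2 ^ (2 * m + 1))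
    {g g' : Cfsg.Sz F m} (hg : szTr g ≠ 0) (h : szTr g = szTr g') : IsCj g g' := by
  obtain ⟨h1, hQ⟩ := not_two_of_szTr_ne_zero hm hF hg
  obtain ⟨h1', hQ'⟩ := not_two_of_szTr_ne_zero hm hF (g := g') (by rw [← h]; exact hg)
  exact (szTr_classify hm hF).2 g g' h1 h1' hQ hQ' h

theorem isCj_four (hm : 1 ≤ m) (hF : Fintype.card F = 2 ^ (2 * m + 1)) {z w : Cfsg.Sz F m}
    (hz : orderOf z = 4) (hw : orderOf w = 4) : IsCj w z ∨ IsCj w z⁻¹ := by
  obtain ⟨g, hg | hg⟩ := four_conj hm hF hz hw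
  · exact Or.inl ⟨g, hg⟩
  · exact Or.inr ⟨g, hg⟩

theorem orderOf_inv_four {G : Type*} [Group G] {y : G} (h : orderOf y = 4) : orderOf y⁻¹ = 4 := by
  rw [orderOf_inv, h]

/-- the main theorem for the ovoid model -/
theorem sz_isProd2 (hm : 1 ≤ m) (hF : Fintype.card F = 2 ^ (2 * m + 1)) (x : Cfsg.Sz F m)
    (hx : 2 < orderOf x) (g : Cfsg.Sz F m) (hg : g ≠ 1) : IsProd2 x g := by
  have hx1 : x ≠ 1 := by
    rintro rfl
    rw [orderOf_one] at hx
    omega
  by_cases hxQ : ConjInto (szQ hm hF) x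
  · -- `x` has order four
    have hx4 : orderOf x = 4 := by
      rcases orderOf_of_conjInto_szQ hm hF hxQ with h | h
      · omega
      · exact h
    by_cases hgQ : ConjInto (szQ hm hF) g
    · rcases orderOf_of_conjInto_szQ hm hF hgQ with hg2 | hg4
      · -- `g` is an involution, conjugate to `x * x`
        have hxx : orderOf (x * x) = 2 := by
          have h := orderOf_pow' x (n := 2) (by norm_num)
          rw [hx4, pow_two] at h
          rw [h]
          norm_num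
        obtain ⟨k, hk⟩ := invol_conj hm hF hg2 hxx
        exact isProd2_cj (isProd2_of (isCj_refl x) (isCj_refl x)) ⟨k, hk⟩
      · -- `g` has order four
        rcases isCj_four hm hF hx4 hg4 with hgx | hgx
        · -- `g ~ x`
          obtain ⟨y, z, hy4, hyz, hyyz⟩ := exists_four_Q3 hm hF
          rcases isCj_four hm hF hx4 hy4 with hyx | hyx
          · -- `y ~ x`
            have h1 : IsProd2 x (y * z) :=
              isProd2_of (isCj_symm hyx) (isCj_trans (isCj_symm hyx) hyz)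
            exact isProd2_cj h1 (isCj_trans (isCj_symm hyyz) (isCj_trans hyx (isCj_symm hgx)))
          · -- `y ~ x⁻¹`
            have hyx' : IsCj y⁻¹ x := by simpa using isCj_inv hyx
            have h1 : IsProd2 x (z⁻¹ * y⁻¹) :=
              isProd2_of (isCj_trans (isCj_symm hyx') (isCj_inv hyz)) (isCj_symm hyx')
            have h2 : IsCj (z⁻¹ * y⁻¹) y⁻¹ := by
              have := isCj_inv (isCj_symm hyyz)
              rwa [mul_inv_rev] at this
            exact isProd2_cj h1 (isCj_trans h2 (isCj_trans hyx' (isCj_symm hgx)))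
        · -- `g ~ x⁻¹`
          obtain ⟨y, z, hy4, hyz, hyyz⟩ := exists_four_Q4 hm hF
          rcases isCj_four hm hF hx4 hy4 with hyx | hyx
          · -- `y ~ x`
            have h1 : IsProd2 x (y * z) :=
              isProd2_of (isCj_symm hyx) (isCj_trans (isCj_symm hyx) hyz)
            exact isProd2_cj h1 (isCj_trans (isCj_symm hyyz)
              (isCj_trans (isCj_inv hyx) (isCj_symm hgx)))
          · -- `y ~ x⁻¹`
            have hyx' : IsCj y⁻¹ x := by simpa using isCj_inv hyx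
            have h1 : IsProd2 x (z⁻¹ * y⁻¹) :=
              isProd2_of (isCj_trans (isCj_symm hyx') (isCj_inv hyz)) (isCj_symm hyx')
            have h2 : IsCj (z⁻¹ * y⁻¹) y := by
              have := isCj_inv (isCj_symm hyyz)
              rwa [mul_inv_rev, inv_inv] at this
            exact isProd2_cj h1 (isCj_trans h2 (isCj_trans hyx (isCj_symm hgx)))
    · -- `g` is not a `2`-element
      have hd : szTr g ≠ 0 := (szTr_classify hm hF).1 g hg hgQ
      obtain ⟨y, z, hy4, hyz, htr⟩ := exists_Q1 hm hF (szTr g)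
      rcases isCj_four hm hF hx4 hy4 with hyx | hyx
      · have h1 : IsProd2 x (y * z) :=
          isProd2_of (isCj_symm hyx) (isCj_trans (isCj_symm hyx) hyz)
        exact isProd2_cj h1 (isCj_of_szTr_eq hm hF (by rw [htr]; exact hd) htr)
      · have hyx' : IsCj y⁻¹ x := by simpa using isCj_inv hyx
        have h1 : IsProd2 x (z⁻¹ * y⁻¹) :=
          isProd2_of (isCj_trans (isCj_symm hyx') (isCj_inv hyz)) (isCj_symm hyx')
        have h2 : szTr (z⁻¹ * y⁻¹) = szTr g := by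
          rw [← mul_inv_rev, szTr_inv hm hF, htr]
        exact isProd2_cj h1 (isCj_of_szTr_eq hm hF (by rw [h2]; exact hd) h2)
  · -- `x` is not a `2`-element
    have hc : szTr x ≠ 0 := (szTr_classify hm hF).1 x hx1 hxQ
    by_cases hgQ : ConjInto (szQ hm hF) g
    · rcases orderOf_of_conjInto_szQ hm hF hgQ with hg2 | hg4
      · obtain ⟨y, z, hy, hz, hyz⟩ := exists_P2 hm hF (szTr x) hc
        obtain ⟨k, hk⟩ := invol_conj hm hF hg2 hyz
        have h1 : IsProd2 x (y * z) :=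
          isProd2_of (isCj_of_szTr_eq hm hF hc hy.symm) (isCj_of_szTr_eq hm hF hc hz.symm)
        exact isProd2_cj h1 ⟨k, hk⟩
      · obtain ⟨y, z, hy, hz, hyz⟩ := exists_P3 hm hF (szTr x)
        rcases isCj_four hm hF hg4 hyz with h | h
        · have h1 : IsProd2 x (y * z) :=
            isProd2_of (isCj_of_szTr_eq hm hF hc hy.symm) (isCj_of_szTr_eq hm hF hc hz.symm)
          exact isProd2_cj h1 h
        · have h1 : IsProd2 x (z⁻¹ * y⁻¹) :=
            isProd2_of (isCj_of_szTr_eq hm hF hc (by rw [szTr_inv hm hF, hz]))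
              (isCj_of_szTr_eq hm hF hc (by rw [szTr_inv hm hF, hy]))
          have h2 : IsCj (z⁻¹ * y⁻¹) g := by
            have := isCj_inv h
            rwa [mul_inv_rev, inv_inv] at this
          exact isProd2_cj h1 h2
    · have hd : szTr g ≠ 0 := (szTr_classify hm hF).1 g hg hgQ
      obtain ⟨y, z, hy, hz, hyz⟩ := exists_P1 hm hF (szTr x) (szTr g)
      have h1 : IsProd2 x (y * z) :=
        isProd2_of (isCj_of_szTr_eq hm hF hc hy.symm) (isCj_of_szTr_eq hm hF hc hz.symm)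
      exact isProd2_cj h1 (isCj_of_szTr_eq hm hF (by rw [hyz]; exact hd) hyz)

end Cfsg.Agent.Helper6
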