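import Cfsg.Agent.Helper6.Tor1
import Cfsg.Agent.Helper6.Sz43
import Cfsg.Agent.Helper6.Sz36
import Cfsg.Agent.Helper6.Sz34

/-!
# Elements of the Suzuki group with fixed points: counting
-/

set_option autoImplicit false

namespace Cfsg.Agent.Helper6

/-- a non-identity element conjugate into the subgroup `A` -/
def ConjInto {G : Type*} [Group G] (A : Subgroup G) (x : G) : Prop :=
  x ≠ 1 ∧ ∃ g : G, g * x * g⁻¹ ∈ A

variable {F : Type*} [Field F] [Fintype F] {m : ℕ}

/-- the torus -/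
def szK (hF : Fintype.card F = 2 ^ (2 * m + 1)) : Subgroup (Cfsg.Sz F m) where
  carrier := {g | ∃ t : Fˣ, g = sD hF t}
  mul_mem' := by
    rintro g g' ⟨t, rfl⟩ ⟨t', rfl⟩
    exact ⟨t * t', (sD_mul hF t t').symm⟩
  one_mem' := ⟨1, (sD_one hF).symm⟩
  inv_mem' := by
    rintro g ⟨t, rfl⟩
    exact ⟨t⁻¹, sD_inv hF t⟩

theorem mem_szK_iff (hF : Fintype.card F = 2 ^ (2 * m + 1)) (g : Cfsg.Sz F m) :
    g ∈ szK hF ↔ ∃ t : Fˣ, g = sD hF t := Iff.rfl

theorem card_szK (hF : Fintype.card F = 2 ^ (2 * m + 1)) :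
    Nat.card (szK hF) = Fintype.card F - 1 := by
  have e : Fˣ ≃ szK hF := Equiv.ofBijective (fun t => ⟨sD hF t, t, rfl⟩) ⟨by
    intro t t' h
    exact sD_inj hF (congrArg Subtype.val h), by
    rintro ⟨g, t, rfl⟩
    exact ⟨t, rfl⟩⟩
  rw [← Nat.card_congr e, Nat.card_units, Nat.card_eq_fintype_card]

/-- the centraliser of a non-trivial translation lies in the translation group -/
theorem centralizer_sU_le (hm : 1 ≤ m) (hF : Fintype.card F = 2 ^ (2 * m + 1)) {a b : F}
    (hab : ¬ (a = 0 ∧ b = 0)) (z : Cfsg.Sz F m) (hz : z * sU hF a b = sU hF a b * z) :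
    z ∈ szQ hm hF := by
  have : Finite (Cfsg.Sz F m) := inferInstance
  have hQp : IsPGroup 2 (szQ hm hF) := by
    apply IsPGroup.of_card (n := 2 * (2 * m + 1))
    rw [card_szQ, hF, ← pow_mul, mul_comm]
  let QS : Sylow 2 (Cfsg.Sz F m) := hQp.toSylow (szQ_index_odd hm hF)
  have h1 : sU hF a b ≠ 1 := fun h => hab ((sU_eq_one_iff hm hF a b).1 h)
  have h2 := sz_centralizer_two hm hF QS (sU hF a b) h1
    ((mem_szQ_iff hm hF _).2 ⟨a, b, rfl⟩)
  apply h2
  rw [Subgroup.mem_centralizer_iff]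
  intro h hh
  rw [Set.mem_singleton_iff] at hh
  rw [hh, hz]

/-- the centraliser of a non-trivial torus element is the torus -/
theorem centralizer_sD_le (hm : 1 ≤ m) (hF : Fintype.card F = 2 ^ (2 * m + 1)) {t : Fˣ}
    (ht : t ≠ 1) (z : Cfsg.Sz F m) (hz : z * sD hF t = sD hF t * z) : z ∈ szK hF := by
  obtain ⟨t', ht'⟩ := comm_szD_mem_torus hm hF ht z.2 (congrArg Subtype.val hz)
  exact ⟨t', Subtype.ext ht'⟩

/-- the trivial intersection property of the translation group -/
theorem szQ_TI (hm : 1 ≤ m) (hF : Fintype.card F = 2 ^ (2 * m + 1)) (g x : Cfsg.Sz F m)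
    (hx : x ∈ szQ hm hF) (hx1 : x ≠ 1) (hg : g * x * g⁻¹ ∈ szQ hm hF) :
    g ∈ Subgroup.normalizer ((szQ hm hF : Subgroup (Cfsg.Sz F m)) : Set (Cfsg.Sz F m)) := by
  rw [normalizer_szQ hm hF]
  obtain ⟨a, b, rfl⟩ := (mem_szQ_iff hm hF _).1 hx
  obtain ⟨a', b', h⟩ := (mem_szQ_iff hm hF _).1 hg
  refine mem_szB_of_conj hm hF g ?_ h
  intro h0
  exact hx1 ((sU_eq_one_iff hm hF a b).2 h0)

/-- the trivial intersection property of the torus -/
theorem szK_TI (hm : 1 ≤ m) (hF : Fintype.card F = 2 ^ (2 * m + 1)) (g x : Cfsg.Sz F m)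
    (hx : x ∈ szK hF) (hx1 : x ≠ 1) (hg : g * x * g⁻¹ ∈ szK hF) :
    g ∈ Subgroup.normalizer ((szK hF : Subgroup (Cfsg.Sz F m)) : Set (Cfsg.Sz F m)) := by
  obtain ⟨t, rfl⟩ := hx
  obtain ⟨t', ht'⟩ := hg
  have ht'1 : t' ≠ 1 := by
    rintro rfl
    rw [sD_one, conj_eq_one_iff] at ht'
    exact hx1 ht'
  have key : ∀ y ∈ szK hF, g * y * g⁻¹ ∈ szK hF := by
    rintro y ⟨s, rfl⟩
    apply centralizer_sD_le hm hF ht'1
    rw [← ht']
    calc g * sD hF s * g⁻¹ * (g * sD hF t * g⁻¹) = g * (sD hF s * sD hF t) * g⁻¹ := by group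
      _ = g * (sD hF t * sD hF s) * g⁻¹ := by rw [← sD_mul, ← sD_mul, mul_comm]
      _ = _ := by group
  have hfin : Finite (szK hF) := inferInstance
  rw [Subgroup.mem_normalizer_iff]
  intro y
  constructor
  · exact key y
  · intro hy
    -- conjugation by `g` is an injective self-map of the finite set `szK`
    let f : szK hF → szK hF := fun y => ⟨g * y.1 * g⁻¹, key y.1 y.2⟩
    have hf : Function.Injective f := by
      intro y y' h
      have h1 : g * y.1 * g⁻¹ = g * y'.1 * g⁻¹ := congrArg Subtype.val h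
      apply Subtype.ext
      have : y.1 = g⁻¹ * (g * y.1 * g⁻¹) * g := by group
      rw [this, h1]; group
    obtain ⟨y', hy'⟩ := (Finite.injective_iff_surjective.1 hf) ⟨g * y * g⁻¹, hy⟩
    have h1 : g * y'.1 * g⁻¹ = g * y * g⁻¹ := congrArg Subtype.val hy'
    have h2 : y = y'.1 := by
      have : y = g⁻¹ * (g * y * g⁻¹) * g := by group
      rw [this, ← h1]; group
    rw [h2]; exact y'.2

/-- the number of non-identity `2`-elements -/
theorem card_conjInto_szQ (hm : 1 ≤ m) (hF : Fintype.card F = 2 ^ (2 * m + 1)) :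
    Nat.card {x : Cfsg.Sz F m // ConjInto (szQ hm hF) x} =
      ((Fintype.card F) ^ 2 + 1) * ((Fintype.card F) ^ 2 - 1) := by
  have : Finite (Cfsg.Sz F m) := inferInstance
  have h1 := card_conj_union_mul (szQ hm hF) (fun g x hx hx1 hg => szQ_TI hm hF g x hx hx1 hg)
  rw [normalizer_szQ hm hF, card_szB hm hF, card_Sz hm hF, card_szQ hm hF] at h1
  have hq : 2 ≤ Fintype.card F := Fintype.one_lt_card
  have hpos : 0 < (Fintype.card F) ^ 2 * (Fintype.card F - 1) := by
    apply Nat.mul_pos (by positivity)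
    omega
  apply Nat.eq_of_mul_eq_mul_right hpos
  show Nat.card {x : Cfsg.Sz F m // x ≠ 1 ∧ ∃ g : Cfsg.Sz F m, g * x * g⁻¹ ∈ szQ hm hF} * _ = _
  rw [h1]
  ring

/-- a non-trivial torus element fixes only the two base points -/
theorem sD_fix_imp (hF : Fintype.card F = 2 ^ (2 * m + 1)) {t : Fˣ} (ht : t ≠ 1)
    (o : Option (F × F)) (h : sD hF t • ovPt F m o = ovPt F m o) :
    o = none ∨ o = some (0, 0) := by
  rcases o with _ | ⟨x, y⟩
  · exact Or.inl rfl
  · right
    by_contra hne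
    apply ht
    apply szD_eq_one_of_fix hF (x := x) (y := y) _ h
    rintro ⟨rfl, rfl⟩
    exact hne rfl

theorem sW_smul_zero (hF : Fintype.card F = 2 ^ (2 * m + 1)) :
    sW hF • ovPt F m (some (0, 0)) = ovPt F m none :=
  szT_smul_zero

theorem sW_mem_normalizer_szK (hF : Fintype.card F = 2 ^ (2 * m + 1)) :
    sW hF ∈ Subgroup.normalizer ((szK hF : Subgroup (Cfsg.Sz F m)) : Set (Cfsg.Sz F m)) := by
  have key : ∀ y ∈ szK hF, sW hF * y * (sW hF)⁻¹ ∈ szK hF := by
    rintro y ⟨t, rfl⟩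
    refine ⟨t⁻¹, ?_⟩
    rw [sW_mul_sD, mul_assoc, mul_inv_cancel, mul_one]
  rw [Subgroup.mem_normalizer_iff]
  intro y
  constructor
  · exact key y
  · intro hy
    have h1 := key _ hy
    have h2 : sW hF * (sW hF * y * (sW hF)⁻¹) * (sW hF)⁻¹ = y := by
      rw [sW_inv]
      calc sW hF * (sW hF * y * sW hF) * sW hF = (sW hF * sW hF) * y * (sW hF * sW hF) := by group
        _ = y := by rw [sW_mul_self, one_mul, mul_one]
    rwa [h2] at h1

/-- the normaliser of the torus -/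
theorem mem_normalizer_szK_iff (hm : 1 ≤ m) (hF : Fintype.card F = 2 ^ (2 * m + 1))
    (g : Cfsg.Sz F m) :
    g ∈ Subgroup.normalizer ((szK hF : Subgroup (Cfsg.Sz F m)) : Set (Cfsg.Sz F m)) ↔
      g ∈ szK hF ∨ sW hF * g ∈ szK hF := by
  constructor
  · intro hg
    obtain ⟨t, ht⟩ := exists_unit_ne_one hm hF
    obtain ⟨t', ht'⟩ := (Subgroup.mem_normalizer_iff.1 hg (sD hF t)).1 ⟨t, rfl⟩
    have ht'1 : t' ≠ 1 := by
      rintro rfl
      rw [sD_one, conj_eq_one_iff] at ht'
      apply ht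
      apply sD_inj hF
      rw [ht', sD_one]
    have hfix : ∀ o : Option (F × F), sD hF t • ovPt F m o = ovPt F m o →
        ∀ o', g • ovPt F m o = ovPt F m o' → o' = none ∨ o' = some (0, 0) := by
      intro o ho o' ho'
      apply sD_fix_imp hF ht'1
      rw [← ht', ← ho', ← mul_smul, inv_mul_cancel_right, mul_smul, ho]
    obtain ⟨o1, ho1⟩ := exists_smul_eq_ovPt g none
    obtain ⟨o2, ho2⟩ := exists_smul_eq_ovPt g (some (0, 0))
    have h1 := hfix none (sD_smul_none hF t) o1 ho1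
    have h2 := hfix (some (0, 0)) (by rw [sD_smul_some, mul_zero, mul_zero]) o2 ho2
    have hne : o1 ≠ o2 := by
      intro h
      rw [h, ← ho2] at ho1
      have := ovPt_injective (smul_left_cancel g ho1)
      exact (Option.some_ne_none _) this.symm
    rcases h1 with rfl | rfl
    · have h3 : o2 = some (0, 0) := by
        rcases h2 with h | h
        · exact absurd h.symm hne
        · exact h
      subst h3
      left
      obtain ⟨s, hs⟩ := two_point_stab hm hF g.2 ho1 ho2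
      exact ⟨s, Subtype.ext hs⟩
    · have h3 : o2 = none := by
        rcases h2 with h | h
        · exact h
        · exact absurd h.symm hne
      subst h3
      right
      have e1 : (sW hF * g) • ovPt F m none = ovPt F m none := by
        rw [mul_smul, ho1, sW_smul_zero]
      have e2 : (sW hF * g) • ovPt F m (some (0, 0)) = ovPt F m (some (0, 0)) := by
        rw [mul_smul, ho2, sW_smul_none]
      obtain ⟨s, hs⟩ := two_point_stab hm hF (sW hF * g).2 e1 e2
      exact ⟨s, Subtype.ext hs⟩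
  · rintro (h | h)
    · exact Subgroup.le_normalizer h
    · have h1 := Subgroup.mul_mem _ (sW_mem_normalizer_szK hF) (Subgroup.le_normalizer h)
      rwa [← mul_assoc, sW_mul_self, one_mul] at h1

theorem sW_not_mem_szK (hF : Fintype.card F = 2 ^ (2 * m + 1)) : sW hF ∉ szK hF := by
  rintro ⟨t, ht⟩
  have h1 := sW_smul_none hF (F := F) (m := m)
  rw [ht, sD_smul_none] at h1
  exact (Option.some_ne_none _) (ovPt_injective h1).symm

theorem card_normalizer_szK (hm : 1 ≤ m) (hF : Fintype.card F = 2 ^ (2 * m + 1)) :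
    Nat.card (Subgroup.normalizer ((szK hF : Subgroup (Cfsg.Sz F m)) : Set (Cfsg.Sz F m))) =
      2 * (Fintype.card F - 1) := by
  have hle : szK hF ≤ Subgroup.normalizer ((szK hF : Subgroup (Cfsg.Sz F m)) : Set (Cfsg.Sz F m)) :=
    Subgroup.le_normalizer
  have hidx : ((szK hF).subgroupOf
      (Subgroup.normalizer ((szK hF : Subgroup (Cfsg.Sz F m)) : Set (Cfsg.Sz F m)))).index = 2 := by
    rw [Subgroup.index_eq_two_iff']
    refine ⟨⟨sW hF, sW_mem_normalizer_szK hF⟩, ?_⟩
    rintro ⟨b, hb⟩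
    rw [Subgroup.mem_subgroupOf, Subgroup.mem_subgroupOf]
    show Xor (sW hF * b ∈ szK hF) (b ∈ szK hF)
    rcases (mem_normalizer_szK_iff hm hF b).1 hb with h | h
    · right
      refine ⟨h, ?_⟩
      intro h'
      apply sW_not_mem_szK hF
      have := (szK hF).mul_mem h' ((szK hF).inv_mem h)
      rwa [mul_inv_cancel_right] at this
    · left
      refine ⟨h, ?_⟩
      intro h'
      apply sW_not_mem_szK hF
      have := (szK hF).mul_mem h ((szK hF).inv_mem h')
      rwa [mul_inv_cancel_right] at this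
  have h1 := Subgroup.card_mul_index ((szK hF).subgroupOf
      (Subgroup.normalizer ((szK hF : Subgroup (Cfsg.Sz F m)) : Set (Cfsg.Sz F m))))
  rw [hidx, Nat.card_congr (Subgroup.subgroupOfEquivOfLe hle).toEquiv, card_szK] at h1
  rw [← h1, mul_comm]

/-- the number of non-identity elements with two fixed points -/
theorem card_conjInto_szK (hm : 1 ≤ m) (hF : Fintype.card F = 2 ^ (2 * m + 1)) :
    2 * Nat.card {x : Cfsg.Sz F m // ConjInto (szK hF) x} =
      (Fintype.card F) ^ 2 * ((Fintype.card F) ^ 2 + 1) * (Fintype.card F - 2) := by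
  have : Finite (Cfsg.Sz F m) := inferInstance
  have h1 := card_conj_union_mul (szK hF) (fun g x hx hx1 hg => szK_TI hm hF g x hx hx1 hg)
  rw [card_normalizer_szK hm hF, card_Sz hm hF, card_szK hF] at h1
  have hq : 2 ≤ Fintype.card F := Fintype.one_lt_card
  have hpos : 0 < Fintype.card F - 1 := by omega
  apply Nat.eq_of_mul_eq_mul_right hpos
  have h3 : Fintype.card F - 1 - 1 = Fintype.card F - 2 := by omega
  rw [h3] at h1
  show 2 * Nat.card {x : Cfsg.Sz F m // x ≠ 1 ∧ ∃ g : Cfsg.Sz F m, g * x * g⁻¹ ∈ szK hF} * _ = _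
  calc 2 * Nat.card {x : Cfsg.Sz F m // x ≠ 1 ∧ ∃ g : Cfsg.Sz F m, g * x * g⁻¹ ∈ szK hF} *
        (Fintype.card F - 1)
      = Nat.card {x : Cfsg.Sz F m // x ≠ 1 ∧ ∃ g : Cfsg.Sz F m, g * x * g⁻¹ ∈ szK hF} *
        (2 * (Fintype.card F - 1)) := by ring
    _ = _ := by rw [h1]; ring

end Cfsg.Agent.Helper6
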