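import Cfsg.Agent.Helper6.SzChar0
import Cfsg.Agent.Helper75.CAFam
import Cfsg.Agent.Helper6.SzCl3
import Cfsg.Agent.Helper10.SzcFE
import Cfsg.Agent.Helper20.SzcMC
import Cfsg.Agent.Helper20.SzcMD
import Cfsg.Agent.Helper20.SzcMI5
import Cfsg.Agent.Helper24.SzcMI12
import Cfsg.Agent.Helper24.SzcMK
import Cfsg.Agent.Helper33.SzcFF
import Cfsg.Agent.Helper33.SzcMI
import Cfsg.Agent.Helper37.SzcMH
import Cfsg.Agent.Helper47.SzcMJ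
import Cfsg.Agent.Helper48.SzcCB
import Cfsg.Agent.Helper48.SzcCC
import Cfsg.Agent.Helper49.SzcFD
import Cfsg.Agent.Helper52.SzcDA
import Cfsg.Agent.Helper59.SzcGA
import Cfsg.Agent.Helper6.SzCharDB
import Cfsg.Agent.Helper63.SzcCE
import Cfsg.Agent.Helper63.SzcCF
import Cfsg.Agent.Helper65.SzcCA
import Cfsg.Agent.Helper65.SzcCD
import Cfsg.Agent.Helper65.SzcMA
import Cfsg.Agent.Helper68.SzcFC
import Cfsg.Agent.Helper68.SzcME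
import Cfsg.Agent.Helper72.SzcMI6
import Cfsg.Agent.Helper81.SzcMI34
import Cfsg.Agent.Helper89.SzcDC
import Cfsg.Agent.Helper93.SzcFA
import Cfsg.Agent.Helper93.SzcFB
import Cfsg.Agent.Helper97.SzcMF
import Cfsg.Agent.Helper97.SzcMG

/-!
# The leaves of the Suzuki character degree project (S4775): adapter to the pieces proved by the
team (see departures/helper6.md for the credits)
-/

set_option autoImplicit false

namespace Cfsg.Agent.Helper6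

open Cfsg
open scoped ComplexConjugate

universe u

section Frob

variable {X : Type u} [Group X] [Fintype X] {K H : Subgroup X} {T : ℕ}

/-- FA: the class number of the Frobenius group -/
theorem szc_frob_card_irr (D : FrobHyp K H T) : Nat.card (IrrCharacter X) = 2 * T ^ 2 + 2 := by
  exact Cfsg.Agent.Helper93.Szc.szc_frob_card_irr D

/-- FB: the irreducible characters trivial on the kernel -/
theorem szc_frob_lin (D : FrobHyp K H T) :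
    (∀ β : X → ℂ, IsIrrCharacter X β → (∀ n ∈ K, β n = β 1) → β 1 = 1) ∧
    Nat.card {β : IrrCharacter X // ∀ n ∈ K, (β : X → ℂ) n = (β : X → ℂ) 1} = 2 * T ^ 2 - 1 := by
  exact Cfsg.Agent.Helper93.Szc.szc_frob_lin D

/-- FC: the irreducible characters non-trivial on the kernel -/
theorem szc_frob_nonlin (D : FrobHyp K H T) (β : X → ℂ) (hβ : IsIrrCharacter X β)
    (hk : ∃ n ∈ K, β n ≠ β 1) :
    (∀ x, x ∉ K → β x = 0) ∧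
      ∃ d : ℕ, d ∣ (2 * T ^ 2) ^ 2 ∧ β 1 = (((2 * T ^ 2 - 1) * d : ℕ) : ℂ) := by
  exact Cfsg.Agent.Helper68.szc_frob_nonlin D β hβ hk

/-- FD: arithmetic -/
theorem szc_frob_arith (T : ℕ) (hT : ∃ m : ℕ, 1 ≤ m ∧ T = 2 ^ m) (d₁ d₂ d₃ : ℕ)
    (h₁ : d₁ ∣ (2 * T ^ 2) ^ 2) (h₂ : d₂ ∣ (2 * T ^ 2) ^ 2) (h₃ : d₃ ∣ (2 * T ^ 2) ^ 2)
    (h : d₁ ^ 2 + d₂ ^ 2 + d₃ ^ 2 = 2 * T ^ 2 + 1) :
    (d₁ = 1 ∧ d₂ = T ∧ d₃ = T) ∨ (d₁ = T ∧ d₂ = 1 ∧ d₃ = T) ∨ (d₁ = T ∧ d₂ = T ∧ d₃ = 1) := by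
  exact Cfsg.Agent.Helper49.Szc.szc_frob_arith T hT d₁ d₂ d₃ h₁ h₂ h₃ h

/-- FE: a character which is not real on the kernel -/
theorem szc_frob_nonreal (D : FrobHyp K H T) :
    ∃ β : X → ℂ, IsIrrCharacter X β ∧ ∃ ρ ∈ K, conj (β ρ) ≠ β ρ := by
  exact Cfsg.Agent.Helper10.Szc.szc_frob_nonreal D

/-- FF: assembly -/
theorem szc_frob_irr (D : FrobHyp K H T) : ∃ Θ Ψ₁ Ψ₂ : X → ℂ, FrobIrr K T Θ Ψ₁ Ψ₂ := by
  exact Cfsg.Agent.Helper33.Szc.szc_frob_irr D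

end Frob

section General

variable {X : Type u} [Group X] [Fintype X]

/-- GA: Parseval -/
theorem szc_parseval [Fintype (IrrCharacter X)] (f f' : X → ℂ) (hf : IsClassFunction X f)
    (hf' : IsClassFunction X f') :
    classInner f f' = ∑ χ : IrrCharacter X, classInner f (χ : X → ℂ) *
      conj (classInner f' (χ : X → ℂ)) := by
  exact Cfsg.Agent.Helper59.Szc.szc_parseval f f' hf hf'

/-- GB: conjugation -/
theorem szc_inner_conj (f β : X → ℂ) :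
    classInner (fun x => conj (f x)) (fun x => conj (β x)) = conj (classInner f β) := by
  exact Cfsg.Agent.Helper59.Szc.szc_inner_conj f β

end General

section Main

variable {G : Type u} [Group G] [Fintype G] {Q H B K₁ K₂ : Subgroup G} {w : G} {T : ℕ}
  [Fintype ↥B]

/-- MA -/
theorem szc_frobHyp (D : SzHyp Q H B K₁ K₂ w T) :
    FrobHyp (Q.subgroupOf B) (H.subgroupOf B) T := by
  exact Cfsg.Agent.Helper65.Szc.szc_frobHyp D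

/-- MB -/
theorem szc_card_B (D : SzHyp Q H B K₁ K₂ w T) :
    Nat.card ↥B = (2 * T ^ 2) ^ 2 * (2 * T ^ 2 - 1) := by
  exact Cfsg.Agent.Helper65.Szc.szc_card_B D

/-- MC: values of the function induced from a class function of `B` vanishing off `Q` -/
theorem szc_ind_values (D : SzHyp Q H B K₁ K₂ w T) (α : ↥B → ℂ) (hα : IsClassFunction ↥B α)
    (hvan : ∀ x : ↥B, (x : G) ∉ Q → α x = 0) :
    indFun B α 1 = (((2 * T ^ 2) ^ 2 + 1 : ℕ) : ℂ) * α 1 ∧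
    (∀ x : ↥B, (x : G) ∈ Q → x ≠ 1 → indFun B α (x : G) = α x) ∧
    (∀ x : ↥B, (x : G) ∉ Q → indFun B α (x : G) = 0) := by
  exact Cfsg.Agent.Helper20.Szc.szc_ind_values D α hα hvan

/-- MD -/
theorem szc_inner_ind_ind (D : SzHyp Q H B K₁ K₂ w T) (γ α : ↥B → ℂ)
    (hα : IsClassFunction ↥B α) (hvan : ∀ x : ↥B, (x : G) ∉ Q → α x = 0) :
    classInner (indFun B γ) (indFun B α)
      = classInner γ α + γ 1 * conj (α 1) / ((2 * T ^ 2 - 1 : ℕ) : ℂ) := by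
  exact Cfsg.Agent.Helper20.Szc.szc_inner_ind_ind D γ α hα hvan

/-- ME: the Gram relations -/
theorem szc_gram [Fintype (IrrCharacter G)] (D : SzHyp Q H B K₁ K₂ w T) (α α' : ↥B → ℂ)
    (hα : IsClassFunction ↥B α) (hvan : ∀ x : ↥B, (x : G) ∉ Q → α x = 0)
    (hα' : IsClassFunction ↥B α') (hvan' : ∀ x : ↥B, (x : G) ∉ Q → α' x = 0) :
    ∑ χ : IrrCharacter G, classInner (resFun B (χ : G → ℂ)) α *
        conj (classInner (resFun B (χ : G → ℂ)) α')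
      = classInner α' α + α' 1 * conj (α 1) / ((2 * T ^ 2 - 1 : ℕ) : ℂ) := by
  exact Cfsg.Agent.Helper68.szc_gram D α α' hα hvan hα' hvan'

/-- MF: Mackey for the linear characters of `B` -/
theorem szc_mackey_lin (D : SzHyp Q H B K₁ K₂ w T) (l μ : ↥B →* ℂ)
    (hl : ∀ x : ↥B, (x : G) ∈ Q → l x = 1) (hμ : ∀ x : ↥B, (x : G) ∈ Q → μ x = 1)
    (hsep : ∃ h : ↥B, (h : G) ∈ H ∧ l h ≠ conj (μ h)) :
    classInner (indFun B (fun b => l b)) (indFun B (fun b => μ b))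
      = classInner (fun b : ↥B => l b) (fun b : ↥B => μ b) := by
  exact Cfsg.Agent.Helper97.Szc.szc_mackey_lin D l μ hl hμ hsep

/-- MG: the permutation character has norm `2` -/
theorem szc_inner_perm (D : SzHyp Q H B K₁ K₂ w T) :
    classInner (indFun B (fun _ : ↥B => (1 : ℂ))) (indFun B (fun _ : ↥B => (1 : ℂ))) = 2 := by
  exact Cfsg.Agent.Helper97.Szc.szc_inner_perm D

/-- MH: the Steinberg character -/
theorem szc_steinberg (D : SzHyp Q H B K₁ K₂ w T) :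
    IsIrrCharacter G (indFun B (fun _ : ↥B => (1 : ℂ)) - fun _ => 1) := by
  exact Cfsg.Agent.Helper37.Szc.steinberg_of_inner_perm (szc_inner_perm D)

/-- MI1: an irreducible character of `B` trivial on `Q` is a homomorphism -/
theorem szc_lin_hom (D : SzHyp Q H B K₁ K₂ w T) {Θ Ψ₁ Ψ₂ : ↥B → ℂ}
    (I : FrobIrr (Q.subgroupOf B) T Θ Ψ₁ Ψ₂) (β : ↥B → ℂ) (hβ : IsIrrCharacter ↥B β)
    (hQ : ∀ n : ↥B, (n : G) ∈ Q → β n = β 1) :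
    ∃ l : ↥B →* ℂ, (∀ b, l b = β b) ∧ ∀ x : ↥B, (x : G) ∈ Q → l x = 1 := by
  exact Cfsg.Agent.Helper24.Szc.szc_lin_hom D I β hβ hQ

/-- MI2: a linear character of `B` trivial on `Q` and real on `H` is trivial -/
theorem szc_lin_real (D : SzHyp Q H B K₁ K₂ w T) (l : ↥B →* ℂ)
    (hl : ∀ x : ↥B, (x : G) ∈ Q → l x = 1)
    (hreal : ∀ h : ↥B, (h : G) ∈ H → conj (l h) = l h) : ∀ b : ↥B, l b = 1 := by
  exact Cfsg.Agent.Helper24.Szc.szc_lin_real D l hl hreal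

/-- MI3: the principal series characters are irreducible -/
theorem szc_ps_irr (D : SzHyp Q H B K₁ K₂ w T) (l : ↥B →* ℂ)
    (hl : ∀ x : ↥B, (x : G) ∈ Q → l x = 1) (hne : ∃ b : ↥B, l b ≠ 1) :
    IsIrrCharacter G (indFun B (fun b => l b)) := by
  exact Cfsg.Agent.Helper81.Szc.szc_ps_irr_of_MF D (fun l μ hl hμ hsep => szc_mackey_lin D l μ hl hμ hsep) l hl hne

/-- MI4: equality of principal series characters -/
theorem szc_ps_eq (D : SzHyp Q H B K₁ K₂ w T) (l μ : ↥B →* ℂ)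
    (hl : ∀ x : ↥B, (x : G) ∈ Q → l x = 1) (hμ : ∀ x : ↥B, (x : G) ∈ Q → μ x = 1)
    (hne : ∃ b : ↥B, l b ≠ 1)
    (h : indFun B (fun b => l b) = indFun B (fun b => μ b)) :
    (∀ b, μ b = l b) ∨ (∀ b, μ b = conj (l b)) := by
  exact Cfsg.Agent.Helper81.Szc.szc_ps_eq_of_MF D (fun l μ hl hμ hsep => szc_mackey_lin D l μ hl hμ hsep) l μ hl hμ hne h

/-- MI5: degree of an induced function, and vanishing off the conjugates of `B` -/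
theorem szc_ind_gen (D : SzHyp Q H B K₁ K₂ w T) (γ : ↥B → ℂ) :
    indFun B γ 1 = (((2 * T ^ 2) ^ 2 + 1 : ℕ) : ℂ) * γ 1 ∧
    ∀ g : G, (∀ x : G, x * g * x⁻¹ ∉ B) → indFun B γ g = 0 := by
  exact Cfsg.Agent.Helper20.Szc.szc_ind_gen D γ

/-- MI6: multiplicities of the non-linear characters of `B` in the restriction of a
principal series character -/
theorem szc_ps_mult (D : SzHyp Q H B K₁ K₂ w T) (l : ↥B →* ℂ)
    (hl : ∀ x : ↥B, (x : G) ∈ Q → l x = 1) (β : ↥B → ℂ) (hβ : IsIrrCharacter ↥B β)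
    (hk : ∃ n : ↥B, (n : G) ∈ Q ∧ β n ≠ β 1) (hvan : ∀ x : ↥B, (x : G) ∉ Q → β x = 0) :
    classInner (resFun B (indFun B (fun b => l b))) β = β 1 / ((2 * T ^ 2 - 1 : ℕ) : ℂ) := by
  exact Cfsg.Agent.Helper72.Szc.szc_ps_mult_of (fun γ α hα hv => szc_inner_ind_ind D γ α hα hv) l hl β hβ hk hvan

/-- MI: the known characters -/
theorem szc_known (D : SzHyp Q H B K₁ K₂ w T) {Θ Ψ₁ Ψ₂ : ↥B → ℂ}
    (I : FrobIrr (Q.subgroupOf B) T Θ Ψ₁ Ψ₂) :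
    ∃ 𝓚 : Finset (IrrCharacter G), SzKnown Q B T 𝓚 := by
  exact Cfsg.Agent.Helper33.Szc.szc_known D I

/-- MJ: the families of exceptional characters -/
theorem szc_family {𝓚 : Finset (IrrCharacter G)} (N : SzKnown Q B T 𝓚) (K : Subgroup G)
    (hC : ∀ k ∈ K, k ≠ 1 → Subgroup.centralizer ({k} : Set G) ≤ K)
    (hab : ∀ a ∈ K, ∀ b ∈ K, a * b = b * a)
    (hTI : ∀ g : G, g ∉ Subgroup.normalizer (K : Set G) → ∀ k ∈ K, g * k * g⁻¹ ∈ K → k = 1)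
    (hidx : (K.subgroupOf (Subgroup.normalizer (K : Set G))).index = 4) (t : ℕ) (ht : 2 ≤ t)
    (hcard : Nat.card K = 4 * t + 1)
    (hoff : ∀ k ∈ K, k ≠ 1 → ∀ g : G, g * k * g⁻¹ ∉ B) :
    ∃ (ε c : ℤ), Helper75.ExcData K ε c ∧
      Nat.card {ψ : IrrCharacter G // (ψ : G → ℂ) ∈ Helper75.excFam K} = t ∧
      (∀ ψ : IrrCharacter G, (ψ : G → ℂ) ∈ Helper75.excFam K → ψ ∉ 𝓚) ∧
      (∀ ψ ψ' : IrrCharacter G, (ψ : G → ℂ) ∈ Helper75.excFam K →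
        (ψ' : G → ℂ) ∈ Helper75.excFam K → ∀ b : ↥B, (ψ : G → ℂ) b = (ψ' : G → ℂ) b) := by
  exact Cfsg.Agent.Helper47.Szc.szc_family N K hC hab hTI hidx t ht hcard hoff

/-- MK: the degree of a character outside the known ones -/
theorem szc_deg_formula (D : SzHyp Q H B K₁ K₂ w T) {Θ Ψ₁ Ψ₂ : ↥B → ℂ}
    (I : FrobIrr (Q.subgroupOf B) T Θ Ψ₁ Ψ₂) {𝓚 : Finset (IrrCharacter G)}
    (N : SzKnown Q B T 𝓚) (χ : IrrCharacter G) (hχ : χ ∉ 𝓚) (m n₁ n₂ : ℕ)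
    (hm : classInner (resFun B (χ : G → ℂ)) Θ = m)
    (hn₁ : classInner (resFun B (χ : G → ℂ)) Ψ₁ = n₁)
    (hn₂ : classInner (resFun B (χ : G → ℂ)) Ψ₂ = n₂) :
    charDegree (χ : G → ℂ) = (2 * T ^ 2 - 1) * (m + T * (n₁ + n₂)) := by
  exact Cfsg.Agent.Helper24.Szc.szc_deg_formula D I N χ hχ m n₁ n₂ hm hn₁ hn₂

end Main

section Arith

/-- DA: the Diophantine analysis, `T ≥ 4` -/
theorem szc_dioph_large {ι : Type u} [DecidableEq ι] {T : ℕ} {R : Finset ι} {d m n₁ n₂ : ι → ℕ}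
    {cj : ι → ι} {F₁ F₂ : Finset ι} (hT : ∃ k : ℕ, 1 ≤ k ∧ T = 2 ^ k) (h4 : 4 ≤ T)
    (N : SzNum T R d m n₁ n₂ cj F₁ F₂) :
    (∀ χ ∈ R, d χ = (2 * T ^ 2 - 1) * (2 * T ^ 2 - 2 * T + 1) ∨
      d χ = (2 * T ^ 2 - 1) * (2 * T ^ 2 + 2 * T + 1) ∨ d χ = (2 * T ^ 2 - 1) * T) ∧
    (∃ χ ∈ R, d χ = (2 * T ^ 2 - 1) * (2 * T ^ 2 - 2 * T + 1)) ∧
    (∃ χ ∈ R, d χ = (2 * T ^ 2 - 1) * (2 * T ^ 2 + 2 * T + 1)) ∧
    (∃ χ ∈ R, d χ = (2 * T ^ 2 - 1) * T) := by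
  exact Cfsg.Agent.Helper52.Szc.szc_dioph_large hT h4 N

/-- DB: the Diophantine analysis, `T = 2` -/
theorem szc_dioph_small {ι : Type u} [DecidableEq ι] {R : Finset ι} {d m n₁ n₂ : ι → ℕ}
    {cj : ι → ι} {F₁ F₂ : Finset ι} (N : SzNum 2 R d m n₁ n₂ cj F₁ F₂) :
    (∀ χ ∈ R, d χ = 35 ∨ d χ = 91 ∨ d χ = 14) ∧
    (∃ χ ∈ R, d χ = 35) ∧ (∃ χ ∈ R, d χ = 91) ∧ (∃ χ ∈ R, d χ = 14) := by
  exact szc_dioph_small' N

/-- DC: the graph -/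
theorem szc_graph {S : Type u} [Group S] (m : ℕ) (hm : 1 ≤ m) (q : ℕ) (hqm : q = 2 ^ (2 * m + 1))
    (h : charDegrees S = szDegreeSet (2 ^ m)) :
    degreePrimes S = {r : ℕ | r.Prime ∧ (r = 2 ∨ r ∣ (q - 1) * (q ^ 2 + 1))} ∧
    ∀ r s : ℕ, (degreeGraph S).Adj r s ↔ (r ≠ s ∧ r.Prime ∧ s.Prime ∧
      ((r ∣ (q - 1) * (q ^ 2 + 1) ∧ s ∣ (q - 1) * (q ^ 2 + 1)) ∨ (r = 2 ∧ s ∣ q - 1) ∨
        (s = 2 ∧ r ∣ q - 1))) := by
  exact Cfsg.Agent.Helper89.Szc.szc_graph m hm q hqm h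

end Arith

section Concrete

variable {F : Type u} [Field F] [Fintype F] {m : ℕ}

/-- CA: the Borel subgroup -/
theorem szc_conc_borel (hm : 1 ≤ m) (hF : Fintype.card F = 2 ^ (2 * m + 1)) :
    Nat.card (Cfsg.Sz F m) = (2 * (2 ^ m) ^ 2) ^ 2 * ((2 * (2 ^ m) ^ 2) ^ 2 + 1) *
      (2 * (2 ^ m) ^ 2 - 1) ∧
    szQ hm hF ≤ szB F m ∧ szK hF ≤ szB F m ∧
    (∀ b ∈ szB F m, ∀ x ∈ szQ hm hF, b * x * b⁻¹ ∈ szQ hm hF) ∧
    szQ hm hF ⊓ szK hF = ⊥ ∧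
    (∀ b ∈ szB F m, ∃ x ∈ szQ hm hF, ∃ h ∈ szK hF, b = x * h) ∧
    (∀ h ∈ szK hF, h ≠ 1 → ∀ x ∈ szQ hm hF, h * x = x * h → x = 1) ∧
    Nat.card (szQ hm hF) = (2 * (2 ^ m) ^ 2) ^ 2 ∧
    Nat.card (szK hF) = 2 * (2 ^ m) ^ 2 - 1 ∧
    (∀ a ∈ szK hF, ∀ b ∈ szK hF, a * b = b * a) := by
  exact Cfsg.Agent.Helper65.Szc.szc_conc_borel hm hF

/-- CB: the class number of `Q` -/
theorem szc_conc_classesQ (hm : 1 ≤ m) (hF : Fintype.card F = 2 ^ (2 * m + 1)) :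
    Nat.card (ConjClasses ↥(szQ hm hF)) = 3 * (2 * (2 ^ m) ^ 2) - 2 := by
  exact Cfsg.Agent.Helper48.Szc.szc_conc_classesQ hm hF

/-- CC1: an element of order `4` is not conjugate to its inverse -/
theorem szc_conc_nonreal (hm : 1 ≤ m) (hF : Fintype.card F = 2 ^ (2 * m + 1)) :
    ∃ ρ ∈ szQ hm hF, ∀ b ∈ szB F m, b * ρ * b⁻¹ ≠ ρ⁻¹ := by
  exact Cfsg.Agent.Helper48.Szc.szc_conc_nonreal hm hF

/-- CC2: `Q` is a T.I. set with normalizer `B` -/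
theorem szc_conc_TI (hm : 1 ≤ m) (hF : Fintype.card F = 2 ^ (2 * m + 1)) :
    ∀ x ∈ szQ hm hF, x ≠ 1 → ∀ g : Cfsg.Sz F m, g⁻¹ * x * g ∈ szB F m → g ∈ szB F m := by
  exact Cfsg.Agent.Helper48.Szc.szc_conc_TI hm hF

/-- CD: the Weyl element -/
theorem szc_conc_weyl (hm : 1 ≤ m) (hF : Fintype.card F = 2 ^ (2 * m + 1)) :
    sW hF ∉ szB F m ∧
    (∀ g : Cfsg.Sz F m, g ∉ szB F m → ∃ b ∈ szB F m, ∃ b' ∈ szB F m, g = b * sW hF * b') ∧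
    (∀ h ∈ szK hF, (sW hF)⁻¹ * h * sW hF = h⁻¹) ∧
    (∀ b ∈ szB F m, (sW hF)⁻¹ * b * sW hF ∈ szB F m → b ∈ szK hF) := by
  exact Cfsg.Agent.Helper65.Szc.szc_conc_weyl hm hF

/-- CE: the class number of `Sz(q)` -/
theorem szc_conc_classesG (hm : 1 ≤ m) (hF : Fintype.card F = 2 ^ (2 * m + 1)) :
    Nat.card (ConjClasses (Cfsg.Sz F m)) = 2 * (2 ^ m) ^ 2 + 3 := by
  exact Cfsg.Agent.Helper63.Szc.szc_conc_classesG hm hF

/-- CF: the two tori -/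
theorem szc_conc_tori (hm : 1 ≤ m) (hF : Fintype.card F = 2 ^ (2 * m + 1)) :
    ∃ K₁ K₂ : Subgroup (Cfsg.Sz F m),
      (∀ k ∈ K₁, k ≠ 1 → Subgroup.centralizer ({k} : Set (Cfsg.Sz F m)) ≤ K₁) ∧
      (∀ a ∈ K₁, ∀ b ∈ K₁, a * b = b * a) ∧
      (∀ g : Cfsg.Sz F m, g ∉ Subgroup.normalizer (K₁ : Set (Cfsg.Sz F m)) →
        ∀ k ∈ K₁, g * k * g⁻¹ ∈ K₁ → k = 1) ∧
      Nat.card K₁ = 2 * (2 ^ m) ^ 2 + 2 * 2 ^ m + 1 ∧
      (K₁.subgroupOf (Subgroup.normalizer (K₁ : Set (Cfsg.Sz F m)))).index = 4 ∧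
      (∀ k ∈ K₁, k ≠ 1 → ∀ g : Cfsg.Sz F m, g * k * g⁻¹ ∉ szB F m) ∧
      (∀ k ∈ K₂, k ≠ 1 → Subgroup.centralizer ({k} : Set (Cfsg.Sz F m)) ≤ K₂) ∧
      (∀ a ∈ K₂, ∀ b ∈ K₂, a * b = b * a) ∧
      (∀ g : Cfsg.Sz F m, g ∉ Subgroup.normalizer (K₂ : Set (Cfsg.Sz F m)) →
        ∀ k ∈ K₂, g * k * g⁻¹ ∈ K₂ → k = 1) ∧
      Nat.card K₂ = 2 * (2 ^ m) ^ 2 - 2 * 2 ^ m + 1 ∧
      (K₂.subgroupOf (Subgroup.normalizer (K₂ : Set (Cfsg.Sz F m)))).index = 4 ∧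
      (∀ k ∈ K₂, k ≠ 1 → ∀ g : Cfsg.Sz F m, g * k * g⁻¹ ∉ szB F m) ∧
      (∀ k ∈ K₁, k ≠ 1 → ∀ g : Cfsg.Sz F m, g * k * g⁻¹ ∉ K₂) := by
  exact Cfsg.Agent.Helper63.Szc.szc_conc_tori hm hF


end Concrete

end Cfsg.Agent.Helper6
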