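import Cfsg.Agent.Helper6.NTor15

/-!
# Class squares in the Suzuki groups: definitions

`szTr g` is the trace of the `4 × 4` matrix of `g`; `IsProd2 x g` says that `g` is a product of
two conjugates of `x`.
-/

set_option autoImplicit false

namespace Cfsg.Agent.Helper6

variable {F : Type*} [Field F] [Fintype F] {m : ℕ}

/-- the trace of the matrix of an element of the Suzuki group -/
def szTr (g : Cfsg.Sz F m) : F :=
  Matrix.trace ((g : Matrix.SpecialLinearGroup (Fin 4) F) : Matrix (Fin 4) (Fin 4) F)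

/-- `g` is a product of two conjugates of `x` -/
def IsProd2 {G : Type*} [Group G] (x g : G) : Prop :=
  ∃ u v : G, g = (u * x * u⁻¹) * (v * x * v⁻¹)

/-- `y` is conjugate to `x` -/
def IsCj {G : Type*} [Group G] (x y : G) : Prop := ∃ k : G, k * x * k⁻¹ = y

theorem isCj_refl {G : Type*} [Group G] (x : G) : IsCj x x := ⟨1, by group⟩

theorem isCj_symm {G : Type*} [Group G] {x y : G} (h : IsCj x y) : IsCj y x := by
  obtain ⟨k, rfl⟩ := h
  exact ⟨k⁻¹, by group⟩

theorem isCj_trans {G : Type*} [Group G] {x y z : G} (h : IsCj x y) (h' : IsCj y z) :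
    IsCj x z := by
  obtain ⟨k, rfl⟩ := h
  obtain ⟨l, rfl⟩ := h'
  exact ⟨l * k, by group⟩

theorem isCj_inv {G : Type*} [Group G] {x y : G} (h : IsCj x y) : IsCj x⁻¹ y⁻¹ := by
  obtain ⟨k, rfl⟩ := h
  exact ⟨k, by group⟩

theorem isCj_conj {G : Type*} [Group G] (x k : G) : IsCj x (k * x * k⁻¹) := ⟨k, rfl⟩

/-- a product of two conjugates -/
theorem isProd2_of {G : Type*} [Group G] {x y z : G} (hy : IsCj x y) (hz : IsCj x z) :
    IsProd2 x (y * z) := by
  obtain ⟨u, rfl⟩ := hy
  obtain ⟨v, rfl⟩ := hz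
  exact ⟨u, v, rfl⟩

/-- the set of products of two conjugates is closed under conjugation -/
theorem isProd2_cj {G : Type*} [Group G] {x g g' : G} (h : IsProd2 x g) (hg : IsCj g g') :
    IsProd2 x g' := by
  obtain ⟨u, v, rfl⟩ := h
  obtain ⟨k, rfl⟩ := hg
  exact ⟨k * u, k * v, by group⟩

end Cfsg.Agent.Helper6
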