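import Cfsg.Agent.Helper6.SzClA

/-!
# Class squares in the Suzuki groups: the trace determines the class of an element of odd order
-/

set_option autoImplicit false

namespace Cfsg.Agent.Helper6

variable {F : Type*} [Field F] [Fintype F] {m : ℕ}

theorem szTr_of_isCj {x y : Cfsg.Sz F m} (h : IsCj x y) : szTr y = szTr x := by
  obtain ⟨k, rfl⟩ := h
  exact szTr_conj k x

/-- `2`-elements have trace zero -/
theorem szTr_eq_zero_of_conjInto_szQ (hm : 1 ≤ m) (hF : Fintype.card F = 2 ^ (2 * m + 1))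
    {g : Cfsg.Sz F m} (hg : ConjInto (szQ hm hF) g) : szTr g = 0 := by
  obtain ⟨-, k, hk⟩ := hg
  obtain ⟨a, b, hab⟩ := (mem_szQ_iff hm hF _).1 hk
  rw [← szTr_conj k g, hab, szTr_sU hF]

theorem szTr_one (hm : 1 ≤ m) (hF : Fintype.card F = 2 ^ (2 * m + 1)) :
    szTr (1 : Cfsg.Sz F m) = 0 := by
  rw [← sU_zero hm hF, szTr_sU hF]

/-- an element of non-zero trace is not a `2`-element -/
theorem not_two_of_szTr_ne_zero (hm : 1 ≤ m) (hF : Fintype.card F = 2 ^ (2 * m + 1))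
    {g : Cfsg.Sz F m} (hg : szTr g ≠ 0) : g ≠ 1 ∧ ¬ ConjInto (szQ hm hF) g := by
  refine ⟨?_, fun h => hg (szTr_eq_zero_of_conjInto_szQ hm hF h)⟩
  rintro rfl
  exact hg (szTr_one hm hF)

/-- every non-zero field element is a trace -/
theorem exists_szTr_eq (hF : Fintype.card F = 2 ^ (2 * m + 1)) (c : F) :
    ∃ b : F, szTr (sU hF 0 b * sW hF) = c := by
  obtain ⟨b, hb⟩ := exists_pow_sigma_eq hF c
  refine ⟨b, ?_⟩
  rw [szTr_sU_mul_sW hF, hb, zero_mul, zero_pow (by positivity), zero_pow (by positivity)]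
  ring

/-- the classification of the elements which are not `2`-elements by their traces -/
theorem szTr_classify (hm : 1 ≤ m) (hF : Fintype.card F = 2 ^ (2 * m + 1)) :
    (∀ g : Cfsg.Sz F m, g ≠ 1 → ¬ ConjInto (szQ hm hF) g → szTr g ≠ 0) ∧
    (∀ g g' : Cfsg.Sz F m, g ≠ 1 → g' ≠ 1 → ¬ ConjInto (szQ hm hF) g →
      ¬ ConjInto (szQ hm hF) g' → szTr g = szTr g' → IsCj g g') := by
  classical
  have : Finite (Cfsg.Sz F m) := inferInstance
  obtain ⟨p₁, p₂, x₁, x₂, hp₁, hq₁, hx₁, hp₂, hq₂, hx₂, hc₁, hc₂, hN₁, hN₂, hcover, -⟩ :=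
    sz_tori hm hF
  set T₁ : Subgroup (Cfsg.Sz F m) := Subgroup.centralizer ({x₁} : Set (Cfsg.Sz F m)) with hT₁
  set T₂ : Subgroup (Cfsg.Sz F m) := Subgroup.centralizer ({x₂} : Set (Cfsg.Sz F m)) with hT₂
  -- representatives
  obtain ⟨R₀, hR₀, hk₀, hr₀⟩ := exists_conj_reps (szK hF : Subgroup (Cfsg.Sz F m)) 2
    (by
      rintro a ⟨t, rfl⟩ ha
      apply centralizer_sD hm hF
      rintro rfl
      exact ha (sD_one hF))
    (by rw [card_normalizer_szK hm hF, card_szK hF])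
  obtain ⟨R₁, hR₁, hk₁, hr₁⟩ := exists_conj_reps T₁ 4
    (fun a ha ha1 => cent_eq hm hF hp₁ hq₁ hx₁ ha ha1) hN₁
  obtain ⟨R₂, hR₂, hk₂, hr₂⟩ := exists_conj_reps T₂ 4
    (fun a ha ha1 => cent_eq hm hF hp₂ hq₂ hx₂ ha ha1) hN₂
  rw [card_szK hF] at hk₀
  rw [hc₁] at hk₁
  rw [hc₂] at hk₂
  set R : Finset (Cfsg.Sz F m) := R₀ ∪ (R₁ ∪ R₂) with hR
  have hqpos : 2 ^ (m + 1) ≤ 2 ^ (2 * m + 1) := Nat.pow_le_pow_right (by norm_num) (by omega)
  have hq8 : 8 ≤ Fintype.card F := by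
    rw [hF]
    calc 8 = 2 ^ 3 := by norm_num
      _ ≤ 2 ^ (2 * m + 1) := Nat.pow_le_pow_right (by norm_num) (by omega)
  have hRcard : R.card ≤ Fintype.card F - 1 := by
    have h1 : R.card ≤ R₀.card + (R₁.card + R₂.card) :=
      (Finset.card_union_le _ _).trans (Nat.add_le_add_left (Finset.card_union_le _ _) _)
    rw [hF] at hk₀ ⊢
    omega
  -- every element which is not a `2`-element is conjugate to an element of `R`
  have hconj : ∀ g : Cfsg.Sz F m, g ≠ 1 → ¬ ConjInto (szQ hm hF) g → ∃ ρ ∈ R, IsCj g ρ := by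
    intro g hg1 hgQ
    by_cases hgK : ConjInto (szK hF) g
    · obtain ⟨-, k, hk⟩ := hgK
      have hne : k * g * k⁻¹ ≠ 1 := by rw [Ne, conj_eq_one_iff]; exact hg1
      obtain ⟨ρ, hρ, hcj⟩ := hr₀ _ hk hne
      exact ⟨ρ, Finset.mem_union_left _ hρ, isCj_trans (isCj_conj g k) hcj⟩
    · have hf : IsFpf hm hF g := ⟨hg1, hgQ, hgK⟩
      rcases hcover g hf with ⟨-, k, hk⟩ | ⟨-, k, hk⟩
      · have hne : k * g * k⁻¹ ≠ 1 := by rw [Ne, conj_eq_one_iff]; exact hg1
        obtain ⟨ρ, hρ, hcj⟩ := hr₁ _ hk hne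
        exact ⟨ρ, Finset.mem_union_right _ (Finset.mem_union_left _ hρ),
          isCj_trans (isCj_conj g k) hcj⟩
      · have hne : k * g * k⁻¹ ≠ 1 := by rw [Ne, conj_eq_one_iff]; exact hg1
        obtain ⟨ρ, hρ, hcj⟩ := hr₂ _ hk hne
        exact ⟨ρ, Finset.mem_union_right _ (Finset.mem_union_right _ hρ),
          isCj_trans (isCj_conj g k) hcj⟩
  -- the traces of the representatives cover the non-zero field elements
  have hsub : (Finset.univ.filter (fun c : F => c ≠ 0)) ⊆ R.image szTr := by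
    intro c hc
    rw [Finset.mem_filter] at hc
    obtain ⟨b, hb⟩ := exists_szTr_eq hF c
    obtain ⟨h1, hQ⟩ := not_two_of_szTr_ne_zero hm hF (by rw [hb]; exact hc.2)
    obtain ⟨ρ, hρ, hcj⟩ := hconj _ h1 hQ
    rw [Finset.mem_image]
    exact ⟨ρ, hρ, by rw [szTr_of_isCj hcj, hb]⟩
  have hcardF : (Finset.univ.filter (fun c : F => c ≠ 0)).card = Fintype.card F - 1 := by
    rw [Finset.filter_ne' Finset.univ (0 : F), Finset.card_erase_of_mem (Finset.mem_univ _),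
      Finset.card_univ]
  have h1 : Fintype.card F - 1 ≤ (R.image szTr).card := by
    rw [← hcardF]
    exact Finset.card_le_card hsub
  have h2 : (R.image szTr).card ≤ R.card := Finset.card_image_le
  have hinj : Set.InjOn szTr (R : Set (Cfsg.Sz F m)) :=
    Finset.card_image_iff.1 (le_antisymm h2 (hRcard.trans h1))
  have himg : Finset.univ.filter (fun c : F => c ≠ 0) = R.image szTr :=
    Finset.eq_of_subset_of_card_le hsub (by rw [hcardF]; exact h2.trans hRcard)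
  have hne0 : ∀ ρ ∈ R, szTr ρ ≠ 0 := by
    intro ρ hρ
    have : szTr ρ ∈ R.image szTr := Finset.mem_image_of_mem _ hρ
    rw [← himg, Finset.mem_filter] at this
    exact this.2
  constructor
  · intro g hg1 hgQ
    obtain ⟨ρ, hρ, hcj⟩ := hconj g hg1 hgQ
    rw [← szTr_of_isCj hcj]
    exact hne0 ρ hρ
  · intro g g' hg1 hg1' hgQ hgQ' htr
    obtain ⟨ρ, hρ, hcj⟩ := hconj g hg1 hgQ
    obtain ⟨ρ', hρ', hcj'⟩ := hconj g' hg1' hgQ'
    have : ρ = ρ' := hinj hρ hρ' (by rw [szTr_of_isCj hcj, szTr_of_isCj hcj', htr])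
    subst this
    exact isCj_trans hcj (isCj_symm hcj')

end Cfsg.Agent.Helper6
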