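import Cfsg.Agent.Helper6.SzCl1

/-!
# Class squares in the Suzuki groups: general properties of the trace
-/

set_option autoImplicit false

namespace Cfsg.Agent.Helper6

variable {F : Type*} [Field F] [Fintype F] {m : ℕ}

theorem szTr_mul (g h : Cfsg.Sz F m) :
    szTr (g * h) = Matrix.trace
      (((g : Matrix.SpecialLinearGroup (Fin 4) F) : Matrix (Fin 4) (Fin 4) F) *
        ((h : Matrix.SpecialLinearGroup (Fin 4) F) : Matrix (Fin 4) (Fin 4) F)) := rfl

theorem szTr_mul_comm (g h : Cfsg.Sz F m) : szTr (g * h) = szTr (h * g) := by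
  rw [szTr_mul, szTr_mul, Matrix.trace_mul_comm]

/-- (A1) the trace is a class function -/
theorem szTr_conj' (k g : Cfsg.Sz F m) : szTr (k * g * k⁻¹) = szTr g := by
  rw [szTr_mul_comm, ← mul_assoc, inv_mul_cancel, one_mul]

/-- (A2) the trace of the inverse (the group is symplectic) -/
theorem szTr_inv' (hm : 1 ≤ m) (hF : Fintype.card F = 2 ^ (2 * m + 1)) (g : Cfsg.Sz F m) :
    szTr g⁻¹ = szTr g := by
  have hP : PresJ ((g : Matrix.SpecialLinearGroup (Fin 4) F) : Matrix (Fin 4) (Fin 4) F) :=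
    presJ_of_mem_Sz hm hF g.2
  set M : Matrix (Fin 4) (Fin 4) F :=
    ((g : Matrix.SpecialLinearGroup (Fin 4) F) : Matrix (Fin 4) (Fin 4) F) with hM
  set Mi : Matrix (Fin 4) (Fin 4) F :=
    (((g⁻¹ : Cfsg.Sz F m) : Matrix.SpecialLinearGroup (Fin 4) F) : Matrix (Fin 4) (Fin 4) F)
    with hMi
  have h1 : M * Mi = 1 := by
    have h0 : ((g * g⁻¹ : Cfsg.Sz F m) : Matrix.SpecialLinearGroup (Fin 4) F) = 1 := by
      rw [mul_inv_cancel]; rfl
    have h := congrArg (fun x : Matrix.SpecialLinearGroup (Fin 4) F =>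
      (x : Matrix (Fin 4) (Fin 4) F)) h0
    simp only [Subgroup.coe_mul, Matrix.SpecialLinearGroup.coe_mul,
      Matrix.SpecialLinearGroup.coe_one] at h
    exact h
  have h2 : (Cfsg.suzukiForm F * M.transpose * Cfsg.suzukiForm F) * M = 1 := by
    unfold PresJ at hP
    rw [Matrix.mul_assoc, Matrix.mul_assoc, ← Matrix.mul_assoc M.transpose, hP,
      suzukiForm_mul_self]
  have h3 : Mi = Cfsg.suzukiForm F * M.transpose * Cfsg.suzukiForm F := by
    calc Mi = ((Cfsg.suzukiForm F * M.transpose * Cfsg.suzukiForm F) * M) * Mi := by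
          rw [h2, Matrix.one_mul]
      _ = Cfsg.suzukiForm F * M.transpose * Cfsg.suzukiForm F := by
          rw [Matrix.mul_assoc _ M Mi, h1, Matrix.mul_one]
  show Matrix.trace Mi = Matrix.trace M
  rw [h3, Matrix.trace_mul_comm, ← Matrix.mul_assoc, suzukiForm_mul_self, Matrix.one_mul,
    Matrix.trace_transpose]

/-- (A3) translations have trace zero -/
theorem szTr_sU' (hF : Fintype.card F = 2 ^ (2 * m + 1)) (a b : F) : szTr (sU hF a b) = 0 := by
  have h2 : (2 : F) = 0 := two_eq_zero_of_card hF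
  show Matrix.trace (uMat a b (a ^ (2 ^ (m + 1))) (ovF F m a b)) = 0
  simp only [Matrix.trace, Matrix.diag, Fin.sum_univ_four, uMat]
  simp
  linear_combination 2 * h2

/-- (A5) the trace of a square -/
theorem szTr_mul_self' (hF : Fintype.card F = 2 ^ (2 * m + 1)) (g : Cfsg.Sz F m) :
    szTr (g * g) = szTr g ^ 2 := by
  have h2 : (2 : F) = 0 := two_eq_zero_of_card hF
  rw [szTr_mul]
  unfold szTr
  set M : Matrix (Fin 4) (Fin 4) F :=
    ((g : Matrix.SpecialLinearGroup (Fin 4) F) : Matrix (Fin 4) (Fin 4) F) with hM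
  simp only [Matrix.trace, Matrix.diag, Matrix.mul_apply, Fin.sum_univ_four]
  linear_combination ((M 0 1 * M 1 0 + M 0 2 * M 2 0 + M 0 3 * M 3 0 + M 1 2 * M 2 1 +
    M 1 3 * M 3 1 + M 2 3 * M 3 2) - (M 0 0 * M 1 1 + M 0 0 * M 2 2 + M 0 0 * M 3 3 +
    M 1 1 * M 2 2 + M 1 1 * M 3 3 + M 2 2 * M 3 3)) * h2

end Cfsg.Agent.Helper6
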