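import Cfsg.Agent.Helper6.SzCl4
import Cfsg.Agent.Helper89.SzCl_B0
import Cfsg.Agent.Helper89.SzCl_B1
import Cfsg.Agent.Helper47.SzCl_A4
import Cfsg.Agent.Helper47.SzCl_C1
import Cfsg.Agent.Helper41.SzCl_A6
import Cfsg.Agent.Helper41.SzCl_A7
import Cfsg.Agent.Helper23.SzCl_D1
import Cfsg.Agent.Helper23.SzCl_D2

/-!
# Class squares in the Suzuki groups: the leaves (adapter)

The twelve leaf lemmas of the proof of S2457, collected from the files of the seats that proved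
them (board #10128): (A1)(A2)(A3)(A5) helper6 (`SzCl4`), (A4)(C1) helper47, (A6)(A7) helper41,
(B0)(B1) helper89, (D1)(D2) helper23.
-/

set_option autoImplicit false

namespace Cfsg.Agent.Helper6

variable {F : Type*} [Field F] [Fintype F] {m : ℕ}

/-! ## (A) trace identities -/

/-- (A1) the trace is a class function -/
theorem szTr_conj (k g : Cfsg.Sz F m) : szTr (k * g * k⁻¹) = szTr g := szTr_conj' k g

/-- (A2) the trace of the inverse (the group is symplectic) -/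
theorem szTr_inv (hm : 1 ≤ m) (hF : Fintype.card F = 2 ^ (2 * m + 1)) (g : Cfsg.Sz F m) :
    szTr g⁻¹ = szTr g := szTr_inv' hm hF g

/-- (A3) translations have trace zero -/
theorem szTr_sU (hF : Fintype.card F = 2 ^ (2 * m + 1)) (a b : F) : szTr (sU hF a b) = 0 :=
  szTr_sU' hF a b

/-- (A4) the trace of `u(a,b) w` -/
theorem szTr_sU_mul_sW (hF : Fintype.card F = 2 ^ (2 * m + 1)) (a b : F) :
    szTr (sU hF a b * sW hF) =
      a * b + b ^ (2 ^ (m + 1)) + a ^ (2 ^ (m + 1) + 2) + a ^ (2 ^ (m + 1)) :=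
  Cfsg.Agent.Helper47.SzCl.szTr_sU_mul_sW hF a b

/-- (A5) the trace of a square -/
theorem szTr_mul_self (hF : Fintype.card F = 2 ^ (2 * m + 1)) (g : Cfsg.Sz F m) :
    szTr (g * g) = szTr g ^ 2 := szTr_mul_self' hF g

/-- (A6) the first product family -/
theorem szTr_P1 (hm : 1 ≤ m) (hF : Fintype.card F = 2 ^ (2 * m + 1)) (b e : F) :
    szTr ((sU hF 0 b * sW hF) * (sU hF 0 e * (sU hF 0 b * sW hF) * (sU hF 0 e)⁻¹)) =
      ((b + e) ^ (2 ^ (m + 1))) ^ 2 :=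
  Cfsg.Agent.Helper41.SzClA6.szTr_P1 hm hF b e

/-- (A7) the second product family -/
theorem szTr_P2 (hm : 1 ≤ m) (hF : Fintype.card F = 2 ^ (2 * m + 1)) (b b₁ e : F) :
    szTr ((sU hF 0 b * sW hF) *
        ((sU hF 0 b₁ * sW hF) * sU hF 0 e * (sU hF 0 b₁ * sW hF)⁻¹)) =
      b ^ (2 ^ (m + 1)) +
        e ^ (2 ^ (m + 1)) * (1 + b₁ * (b + b₁) + (b₁ * (b + b₁)) ^ (2 ^ (m + 1))) +
        e * (b₁ ^ (2 ^ (m + 1)) * b + b ^ (2 ^ (m + 1)) * b₁) :=
  Cfsg.Agent.Helper41.SzClA7.szTr_P2 hm hF b b₁ e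

/-! ## (B) finite field lemmas -/

/-- (B0) `1` is not of the form `x^θ + x` -/
theorem sigma_add_ne_one (hF : Fintype.card F = 2 ^ (2 * m + 1)) (x : F) :
    x ^ (2 ^ (m + 1)) + x ≠ 1 := Cfsg.Agent.Helper89.SzCl.sigma_add_ne_one hF x

/-- (B1) the Gold form lemma: the function `a b + b^θ + a^(θ+2) + a^θ` takes every value at a
point with `a ≠ 0` -/
theorem exists_phi_eq (hm : 1 ≤ m) (hF : Fintype.card F = 2 ^ (2 * m + 1)) (δ : F) :
    ∃ a b : F, a ≠ 0 ∧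
      a * b + b ^ (2 ^ (m + 1)) + a ^ (2 ^ (m + 1) + 2) + a ^ (2 ^ (m + 1)) = δ :=
  Cfsg.Agent.Helper89.SzCl.exists_phi_eq hm hF δ

/-! ## (C) counting -/

/-- (C1) representatives of the classes of the non-identity elements of a self-centralising
subgroup -/
theorem exists_conj_reps {G : Type*} [Group G] [Finite G] (T : Subgroup G) (k : ℕ)
    (hC : ∀ a ∈ T, a ≠ 1 → Subgroup.centralizer ({a} : Set G) = T)
    (hN : Nat.card (Subgroup.normalizer (T : Set G)) = k * Nat.card T) :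
    ∃ R : Finset G, (∀ ρ ∈ R, ρ ∈ T ∧ ρ ≠ 1) ∧ k * R.card = Nat.card T - 1 ∧
      ∀ a ∈ T, a ≠ 1 → ∃ ρ ∈ R, IsCj a ρ :=
  Cfsg.Agent.Helper47.SzCl.exists_conj_reps T k hC hN

/-! ## (D) explicit products in the Borel subgroup -/

/-- (D1) elements of order four `y ~ z` with `y z ~ y` -/
theorem exists_four_Q3 (hm : 1 ≤ m) (hF : Fintype.card F = 2 ^ (2 * m + 1)) :
    ∃ y z : Cfsg.Sz F m, orderOf y = 4 ∧ IsCj y z ∧ IsCj y (y * z) :=
  Cfsg.Agent.Helper23.SzCl.exists_four_Q3 hm hF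

/-- (D2) elements of order four `y ~ z` with `y z ~ y⁻¹` -/
theorem exists_four_Q4 (hm : 1 ≤ m) (hF : Fintype.card F = 2 ^ (2 * m + 1)) :
    ∃ y z : Cfsg.Sz F m, orderOf y = 4 ∧ IsCj y z ∧ IsCj y⁻¹ (y * z) :=
  Cfsg.Agent.Helper23.SzCl.exists_four_Q4 hm hF

end Cfsg.Agent.Helper6
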