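import Mathlib

/-!
# Counting the conjugates of a subgroup with trivial intersections
-/

set_option autoImplicit false

namespace Cfsg.Agent.Helper6

/-- the number of non-identity elements conjugate into a subgroup with the trivial intersection
property -/
theorem card_conj_union_mul {G : Type*} [Group G] [Finite G] (A : Subgroup G)
    (hTI : ∀ g : G, ∀ x ∈ A, x ≠ 1 → g * x * g⁻¹ ∈ A → g ∈ Subgroup.normalizer (A : Set G)) :
    Nat.card {x : G // x ≠ 1 ∧ ∃ g : G, g * x * g⁻¹ ∈ A} *
        Nat.card (Subgroup.normalizer (A : Set G)) =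
      Nat.card G * (Nat.card A - 1) := by
  classical
  have : Fintype G := Fintype.ofFinite G
  -- the relation
  let r : G → G → Prop := fun g x => x ≠ 1 ∧ g * x * g⁻¹ ∈ A
  have key := Finset.sum_card_bipartiteAbove_eq_sum_card_bipartiteBelow (s := (Finset.univ : Finset G))
    (t := (Finset.univ : Finset G)) r
  -- left side
  have hleft : ∀ g : G, (Finset.bipartiteAbove r Finset.univ g).card = Nat.card A - 1 := by
    intro g
    have h1 : (Finset.bipartiteAbove r Finset.univ g).card = Nat.card {a : A // a ≠ 1} := by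
      rw [Nat.card_eq_fintype_card, ← Fintype.card_coe]
      apply Fintype.card_congr
      refine ⟨fun x => ⟨⟨g * x.1 * g⁻¹, ?_⟩, ?_⟩, fun a => ⟨g⁻¹ * (a.1 : G) * g, ?_⟩, ?_, ?_⟩
      · have := x.2
        rw [Finset.mem_bipartiteAbove] at this
        exact this.2.2
      · have := x.2
        rw [Finset.mem_bipartiteAbove] at this
        intro h
        apply this.2.1
        have h' : g * x.1 * g⁻¹ = 1 := congrArg Subtype.val h
        rwa [conj_eq_one_iff] at h'
      · rw [Finset.mem_bipartiteAbove]
        refine ⟨Finset.mem_univ _, ?_, ?_⟩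
        · intro h
          apply a.2
          apply Subtype.ext
          have h' : (a.1 : G) = g * (g⁻¹ * (a.1 : G) * g) * g⁻¹ := by group
          rw [h', h]
          simp
        · have h' : g * (g⁻¹ * (a.1 : G) * g) * g⁻¹ = (a.1 : G) := by group
          rw [h']
          exact a.1.2
      · intro x
        apply Subtype.ext
        show g⁻¹ * (g * x.1 * g⁻¹) * g = x.1
        group
      · intro a
        apply Subtype.ext
        apply Subtype.ext
        show g * (g⁻¹ * (a.1 : G) * g) * g⁻¹ = (a.1 : G)
        group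
    rw [h1]
    have h2 : Nat.card {a : A // a ≠ 1} = Nat.card A - 1 := by
      have : Fintype A := Fintype.ofFinite A
      rw [Nat.card_eq_fintype_card, Nat.card_eq_fintype_card, Fintype.card_subtype_compl,
        Fintype.card_subtype_eq]
    exact h2
  -- right side
  have hright : ∀ x : G, (Finset.bipartiteBelow r Finset.univ x).card =
      if (x ≠ 1 ∧ ∃ g : G, g * x * g⁻¹ ∈ A) then
        Nat.card (Subgroup.normalizer (A : Set G)) else 0 := by
    intro x
    split_ifs with hx
    · obtain ⟨hx1, g₀, hg₀⟩ := hx
      rw [Nat.card_eq_fintype_card, ← Fintype.card_coe]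
      apply Fintype.card_congr
      refine ⟨fun g => ⟨g.1 * g₀⁻¹, ?_⟩, fun n => ⟨(n.1 : G) * g₀, ?_⟩, ?_, ?_⟩
      · have := g.2
        rw [Finset.mem_bipartiteBelow] at this
        apply hTI (g.1 * g₀⁻¹) (g₀ * x * g₀⁻¹) hg₀
        · intro h
          apply hx1
          rwa [conj_eq_one_iff] at h
        · have h' : g.1 * g₀⁻¹ * (g₀ * x * g₀⁻¹) * (g.1 * g₀⁻¹)⁻¹ = g.1 * x * g.1⁻¹ := by group
          rw [h']
          exact this.2.2
      · rw [Finset.mem_bipartiteBelow]
        refine ⟨Finset.mem_univ _, hx1, ?_⟩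
        have h' : (n.1 : G) * g₀ * x * ((n.1 : G) * g₀)⁻¹ = (n.1 : G) * (g₀ * x * g₀⁻¹) * (n.1 : G)⁻¹ := by
          group
        rw [h']
        exact (Subgroup.mem_normalizer_iff.1 n.2 _).1 hg₀
      · intro g
        apply Subtype.ext
        show g.1 * g₀⁻¹ * g₀ = g.1
        group
      · intro n
        apply Subtype.ext
        show (n.1 : G) * g₀ * g₀⁻¹ = (n.1 : G)
        group
    · rw [Finset.card_eq_zero, Finset.eq_empty_iff_forall_notMem]
      intro g hg
      rw [Finset.mem_bipartiteBelow] at hg
      exact hx ⟨hg.2.1, g, hg.2.2⟩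
  simp only [hleft, hright] at key
  rw [Finset.sum_const, Finset.card_univ, smul_eq_mul, ← Finset.sum_filter, Finset.sum_const,
    smul_eq_mul] at key
  rw [Nat.card_eq_fintype_card (α := G), key]
  congr 1
  rw [Nat.card_eq_fintype_card, Fintype.card_subtype]
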