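import Mathlib

/-!
# Arithmetic for the counting of the cyclic tori of the Suzuki group
-/

set_option autoImplicit false

namespace Cfsg.Agent.Helper6

/-- one class of tori is impossible -/
theorem tor_arith_one (q n e a : ℕ) (hq : 3 ≤ q) (he : e = 1 ∨ e = 2 ∨ e = 4) (ha : 2 ≤ a)
    (hdvd : a ∣ q ^ 2 + 1) (h1 : n * (e * a) = q ^ 2 * (q ^ 2 + 1) * (q - 1) * (a - 1))
    (h2 : 2 * n = q ^ 3 * (q - 1) ^ 2) : False := by
  obtain ⟨b, hb⟩ := hdvd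
  obtain ⟨k, rfl⟩ : ∃ k, q = k + 1 := ⟨q - 1, by omega⟩
  obtain ⟨a', rfl⟩ : ∃ a', a = a' + 1 := ⟨a - 1, by omega⟩
  rw [Nat.add_sub_cancel] at h1 h2
  rw [Nat.add_sub_cancel] at h1
  have hk : 2 ≤ k := by omega
  -- cancel `a`
  have h3 : n * e = (k + 1) ^ 2 * b * k * a' := by
    have h4 : (n * e) * (a' + 1) = ((k + 1) ^ 2 * b * k * a') * (a' + 1) := by
      rw [hb] at h1
      calc n * e * (a' + 1) = n * (e * (a' + 1)) := by ring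
        _ = (k + 1) ^ 2 * ((a' + 1) * b) * k * a' := h1
        _ = _ := by ring
    exact Nat.eq_of_mul_eq_mul_right (by omega) h4
  -- the key equation `e q (q - 1) = 2 b (a - 1)`
  have h5 : e * ((k + 1) * k) = 2 * (b * a') := by
    have h6 : ((k + 1) ^ 2 * k) * (e * ((k + 1) * k)) = ((k + 1) ^ 2 * k) * (2 * (b * a')) := by
      calc ((k + 1) ^ 2 * k) * (e * ((k + 1) * k)) = e * ((k + 1) ^ 3 * k ^ 2) := by ring
        _ = e * (2 * n) := by rw [h2]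
        _ = 2 * (n * e) := by ring
        _ = 2 * ((k + 1) ^ 2 * b * k * a') := by rw [h3]
        _ = _ := by ring
    exact Nat.eq_of_mul_eq_mul_left (by positivity) h6
  have hb' : b * a' + b = (k + 1) ^ 2 + 1 := by rw [hb]; ring
  have ha' : 1 ≤ a' := by omega
  rcases he with rfl | rfl | rfl
  · nlinarith [Nat.mul_le_mul_left b ha']
  · -- `b = q + 1`
    have hbk : b = k + 2 := by nlinarith
    subst hbk
    rcases Nat.lt_or_ge a' k with h | h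
    · nlinarith
    · nlinarith
  · nlinarith

/-- each class of tori covers at least a fifth of the group -/
theorem tor_arith_fifth (G n e a : ℕ) (he : e = 1 ∨ e = 2 ∨ e = 4) (ha : 5 ≤ a)
    (h1 : n * (e * a) = G * (a - 1)) : G ≤ 5 * n := by
  obtain ⟨a', rfl⟩ : ∃ a', a = a' + 1 := ⟨a - 1, by omega⟩
  rw [Nat.add_sub_cancel] at h1
  have ha' : 4 ≤ a' := by omega
  have he4 : e ≤ 4 := by rcases he with rfl | rfl | rfl <;> norm_num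
  by_contra hcon
  push Not at hcon
  have h2 : n * (e * (a' + 1)) ≤ n * (4 * (a' + 1)) :=
    Nat.mul_le_mul_left _ (Nat.mul_le_mul_right _ he4)
  nlinarith

/-- three classes of tori are impossible -/
theorem tor_arith_three (q n : ℕ) (hq : 3 ≤ q)
    (h1 : 3 * (q ^ 2 * (q ^ 2 + 1) * (q - 1)) ≤ 5 * n) (h2 : 2 * n = q ^ 3 * (q - 1) ^ 2) :
    False := by
  obtain ⟨k, rfl⟩ : ∃ k, q = k + 1 := ⟨q - 1, by omega⟩
  rw [Nat.add_sub_cancel] at h1 h2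
  have hk : 2 ≤ k := by omega
  have h3 : 6 * ((k + 1) ^ 2 * ((k + 1) ^ 2 + 1) * k) ≤ 5 * ((k + 1) ^ 3 * k ^ 2) := by
    rw [← h2]; omega
  have h4 : 6 * ((k + 1) ^ 2 + 1) ≤ 5 * ((k + 1) * k) := by
    have h5 : ((k + 1) ^ 2 * k) * (6 * ((k + 1) ^ 2 + 1)) ≤ ((k + 1) ^ 2 * k) * (5 * ((k + 1) * k)) := by
      calc ((k + 1) ^ 2 * k) * (6 * ((k + 1) ^ 2 + 1)) = 6 * ((k + 1) ^ 2 * ((k + 1) ^ 2 + 1) * k) := by
            ring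
        _ ≤ 5 * ((k + 1) ^ 3 * k ^ 2) := h3
        _ = _ := by ring
    exact Nat.le_of_mul_le_mul_left h5 (by positivity)
  nlinarith

/-- two classes of tori: the orders -/
theorem tor_arith_two (q n₁ n₂ e₁ e₂ a₁ a₂ : ℕ) (hq : 3 ≤ q)
    (he₁ : e₁ = 1 ∨ e₁ = 2 ∨ e₁ = 4) (he₂ : e₂ = 1 ∨ e₂ = 2 ∨ e₂ = 4) (ha₁ : 5 ≤ a₁) (ha₂ : 5 ≤ a₂)
    (hprod : a₁ * a₂ = q ^ 2 + 1)
    (h1 : n₁ * (e₁ * a₁) = q ^ 2 * (q ^ 2 + 1) * (q - 1) * (a₁ - 1))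
    (h2 : n₂ * (e₂ * a₂) = q ^ 2 * (q ^ 2 + 1) * (q - 1) * (a₂ - 1))
    (h3 : 2 * (n₁ + n₂) = q ^ 3 * (q - 1) ^ 2) :
    e₁ = 4 ∧ e₂ = 4 ∧ a₁ + a₂ = 2 * q + 2 := by
  obtain ⟨k, rfl⟩ : ∃ k, q = k + 1 := ⟨q - 1, by omega⟩
  obtain ⟨b₁, rfl⟩ : ∃ b, a₁ = b + 1 := ⟨a₁ - 1, by omega⟩
  obtain ⟨b₂, rfl⟩ : ∃ b, a₂ = b + 1 := ⟨a₂ - 1, by omega⟩
  rw [Nat.add_sub_cancel] at h1 h2 h3
  rw [Nat.add_sub_cancel] at h1 h2
  have hk : 2 ≤ k := by omega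
  have hb₁ : 4 ≤ b₁ := by omega
  have hb₂ : 4 ≤ b₂ := by omega
  have g1 : n₁ * e₁ = (k + 1) ^ 2 * k * ((b₂ + 1) * b₁) := by
    have h4 : (n₁ * e₁) * (b₁ + 1) = ((k + 1) ^ 2 * k * ((b₂ + 1) * b₁)) * (b₁ + 1) := by
      calc n₁ * e₁ * (b₁ + 1) = n₁ * (e₁ * (b₁ + 1)) := by ring
        _ = (k + 1) ^ 2 * ((k + 1) ^ 2 + 1) * k * b₁ := h1
        _ = (k + 1) ^ 2 * ((b₁ + 1) * (b₂ + 1)) * k * b₁ := by rw [hprod]
        _ = _ := by ring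
    exact Nat.eq_of_mul_eq_mul_right (by omega) h4
  have g2 : n₂ * e₂ = (k + 1) ^ 2 * k * ((b₁ + 1) * b₂) := by
    have h4 : (n₂ * e₂) * (b₂ + 1) = ((k + 1) ^ 2 * k * ((b₁ + 1) * b₂)) * (b₂ + 1) := by
      calc n₂ * e₂ * (b₂ + 1) = n₂ * (e₂ * (b₂ + 1)) := by ring
        _ = (k + 1) ^ 2 * ((k + 1) ^ 2 + 1) * k * b₂ := h2
        _ = (k + 1) ^ 2 * ((b₁ + 1) * (b₂ + 1)) * k * b₂ := by rw [hprod]
        _ = _ := by ring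
    exact Nat.eq_of_mul_eq_mul_right (by omega) h4
  -- key: `e₂ (b₂+1) b₁ + e₁ (b₁+1) b₂` relation
  have hc : 0 < (k + 1) ^ 2 * k := by positivity
  have key : 2 * (e₂ * ((b₂ + 1) * b₁) + e₁ * ((b₁ + 1) * b₂)) = e₁ * e₂ * ((k + 1) * k) := by
    have h5 : ((k + 1) ^ 2 * k) * (2 * (e₂ * ((b₂ + 1) * b₁) + e₁ * ((b₁ + 1) * b₂))) =
        ((k + 1) ^ 2 * k) * (e₁ * e₂ * ((k + 1) * k)) := by
      calc ((k + 1) ^ 2 * k) * (2 * (e₂ * ((b₂ + 1) * b₁) + e₁ * ((b₁ + 1) * b₂)))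
          = 2 * (e₂ * ((k + 1) ^ 2 * k * ((b₂ + 1) * b₁)) + e₁ * ((k + 1) ^ 2 * k * ((b₁ + 1) * b₂))) := by
            ring
        _ = 2 * (e₂ * (n₁ * e₁) + e₁ * (n₂ * e₂)) := by rw [g1, g2]
        _ = e₁ * e₂ * (2 * (n₁ + n₂)) := by ring
        _ = e₁ * e₂ * ((k + 1) ^ 3 * k ^ 2) := by rw [h3]
        _ = _ := by ring
    exact Nat.eq_of_mul_eq_mul_left hc h5
  have hp : b₁ * b₂ + b₁ + b₂ = (k + 1) ^ 2 := by nlinarith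
  have hb12 : 16 ≤ b₁ * b₂ := Nat.mul_le_mul hb₁ hb₂
  rcases he₁ with rfl | rfl | rfl <;> rcases he₂ with rfl | rfl | rfl
  all_goals first
    | (refine ⟨rfl, rfl, ?_⟩; nlinarith)
    | (exfalso; nlinarith)

/-- the solution of the quadratic equation -/
theorem tor_arith_solve (m a₁ a₂ : ℕ) (hprod : a₁ * a₂ = (2 ^ (2 * m + 1)) ^ 2 + 1)
    (hsum : a₁ + a₂ = 2 * 2 ^ (2 * m + 1) + 2) :
    (a₁ = 2 ^ (2 * m + 1) + 2 ^ (m + 1) + 1 ∧ a₂ = 2 ^ (2 * m + 1) - 2 ^ (m + 1) + 1) ∨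
    (a₂ = 2 ^ (2 * m + 1) + 2 ^ (m + 1) + 1 ∧ a₁ = 2 ^ (2 * m + 1) - 2 ^ (m + 1) + 1) := by
  obtain ⟨q, hq⟩ : ∃ q : ℕ, q = 2 ^ (2 * m + 1) := ⟨_, rfl⟩
  obtain ⟨s, hs⟩ : ∃ s : ℕ, s = 2 ^ (m + 1) := ⟨_, rfl⟩
  have hsq : s * s = 2 * q := by
    rw [hs, hq, ← pow_add, ← pow_succ']
    congr 1
    ring
  have hsle : s ≤ q := by
    rw [hs, hq]
    exact Nat.pow_le_pow_right (by norm_num) (by omega)
  rw [← hq] at hprod hsum ⊢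
  rw [← hs]
  have h1 : ((a₁ : ℤ) - a₂) ^ 2 = (2 * (s : ℤ)) ^ 2 := by
    have e1 : (a₁ : ℤ) * a₂ = (q : ℤ) ^ 2 + 1 := by exact_mod_cast hprod
    have e2 : (a₁ : ℤ) + a₂ = 2 * q + 2 := by exact_mod_cast hsum
    have e3 : (s : ℤ) * s = 2 * q := by exact_mod_cast hsq
    have : ((a₁ : ℤ) - a₂) ^ 2 = ((a₁ : ℤ) + a₂) ^ 2 - 4 * (a₁ * a₂) := by ring
    rw [this, e1, e2]
    nlinarith
  rcases sq_eq_sq_iff_eq_or_eq_neg.1 h1 with h | h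
  · left
    have e2 : (a₁ : ℤ) + a₂ = 2 * q + 2 := by exact_mod_cast hsum
    constructor
    · have : (a₁ : ℤ) = q + s + 1 := by linarith
      exact_mod_cast this
    · have : (a₂ : ℤ) = q - s + 1 := by linarith
      zify [hsle]
      exact this
  · right
    have e2 : (a₁ : ℤ) + a₂ = 2 * q + 2 := by exact_mod_cast hsum
    constructor
    · have : (a₂ : ℤ) = q + s + 1 := by linarith
      exact_mod_cast this
    · have : (a₁ : ℤ) = q - s + 1 := by linarith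
      zify [hsle]
      exact this

end Cfsg.Agent.Helper6
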