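import Cfsg.Agent.Helper6.Tor9
import Cfsg.Agent.Helper6.Tor7

/-!
# The two classes of cyclic tori without fixed points of the Suzuki group
-/

set_option autoImplicit false

namespace Cfsg.Agent.Helper6

variable {F : Type*} [Field F] [Fintype F] {m : ℕ}

/-- existence of an element of prime order dividing `q² + 1` -/
theorem exists_singer (hm : 1 ≤ m) (hF : Fintype.card F = 2 ^ (2 * m + 1)) :
    ∃ (p : ℕ) (x : Cfsg.Sz F m), p.Prime ∧ p ∣ (Fintype.card F) ^ 2 + 1 ∧ orderOf x = p := by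
  have : Finite (Cfsg.Sz F m) := inferInstance
  have hq1 : 1 ≤ Fintype.card F := Fintype.card_pos
  have h2 : (Fintype.card F) ^ 2 + 1 ≠ 1 := by
    have : 0 < (Fintype.card F) ^ 2 := by positivity
    omega
  obtain ⟨p, hp, hd⟩ := Nat.exists_prime_and_dvd h2
  have : Fact p.Prime := ⟨hp⟩
  have hG : p ∣ Nat.card (Cfsg.Sz F m) := by
    rw [card_Sz hm hF]
    exact dvd_mul_of_dvd_left (dvd_mul_of_dvd_right hd _) _
  obtain ⟨x, hx⟩ := exists_prime_orderOf_dvd_card' p hG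
  exact ⟨p, x, hp, hd, hx⟩

/-- the two classes of cyclic tori without fixed points, unordered -/
theorem sz_tori_unordered (hm : 1 ≤ m) (hF : Fintype.card F = 2 ^ (2 * m + 1)) :
    ∃ (p₁ p₂ : ℕ) (x₁ x₂ : Cfsg.Sz F m),
      p₁.Prime ∧ p₁ ∣ (Fintype.card F) ^ 2 + 1 ∧ orderOf x₁ = p₁ ∧
      p₂.Prime ∧ p₂ ∣ (Fintype.card F) ^ 2 + 1 ∧ orderOf x₂ = p₂ ∧
      Nat.card (Subgroup.centralizer ({x₁} : Set (Cfsg.Sz F m))) +
        Nat.card (Subgroup.centralizer ({x₂} : Set (Cfsg.Sz F m))) = 2 * Fintype.card F + 2 ∧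
      Nat.card (Subgroup.centralizer ({x₁} : Set (Cfsg.Sz F m))) *
        Nat.card (Subgroup.centralizer ({x₂} : Set (Cfsg.Sz F m))) = (Fintype.card F) ^ 2 + 1 ∧
      Nat.card (Subgroup.normalizer ((Subgroup.centralizer {x₁} : Subgroup (Cfsg.Sz F m)) :
        Set (Cfsg.Sz F m))) = 4 * Nat.card (Subgroup.centralizer ({x₁} : Set (Cfsg.Sz F m))) ∧
      Nat.card (Subgroup.normalizer ((Subgroup.centralizer {x₂} : Subgroup (Cfsg.Sz F m)) :
        Set (Cfsg.Sz F m))) = 4 * Nat.card (Subgroup.centralizer ({x₂} : Set (Cfsg.Sz F m))) ∧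
      (∀ y, IsFpf hm hF y → ConjInto (Subgroup.centralizer ({x₁} : Set (Cfsg.Sz F m))) y ∨
        ConjInto (Subgroup.centralizer ({x₂} : Set (Cfsg.Sz F m))) y) ∧
      (∀ y, ConjInto (Subgroup.centralizer ({x₁} : Set (Cfsg.Sz F m))) y →
        ¬ ConjInto (Subgroup.centralizer ({x₂} : Set (Cfsg.Sz F m))) y) := by
  classical
  have hfin : Finite (Cfsg.Sz F m) := inferInstance
  have hq3 : 3 ≤ Fintype.card F := by
    rw [hF]
    calc 3 ≤ 2 ^ 3 := by norm_num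
      _ ≤ 2 ^ (2 * m + 1) := Nat.pow_le_pow_right (by norm_num) (by omega)
  have hN := card_isFpf hm hF
  obtain ⟨p₁, x₁, hp₁, hq₁, hx₁⟩ := exists_singer hm hF
  obtain ⟨e₁, he₁, hN₁, hc₁⟩ := cent_card_conjInto hm hF hp₁ hq₁ hx₁
  have ha₁ := cent_card_ge hm hF hp₁ hq₁ hx₁
  have hd₁ := cent_card_dvd hm hF hp₁ hq₁ hx₁
  -- a second class
  have hex : ∃ y₂, IsFpf hm hF y₂ ∧
      ¬ ConjInto (Subgroup.centralizer ({x₁} : Set (Cfsg.Sz F m))) y₂ := by
    by_contra hcon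
    push Not at hcon
    have heq : Nat.card {y // ConjInto (Subgroup.centralizer ({x₁} : Set (Cfsg.Sz F m))) y} =
        Nat.card {y // IsFpf hm hF y} :=
      Nat.card_congr (Equiv.subtypeEquivRight
        (fun y => ⟨cent_conjInto_isFpf hm hF hp₁ hq₁ hx₁, hcon y⟩))
    rw [heq] at hc₁
    exact tor_arith_one _ _ _ _ hq3 he₁ (by omega) hd₁ hc₁ hN
  obtain ⟨y₂, hy₂f, hy₂n⟩ := hex
  obtain ⟨p₂, x₂, hp₂, hq₂, hx₂, hy₂⟩ := isFpf_exists_singer hm hF hy₂f
  obtain ⟨e₂, he₂, hN₂, hc₂⟩ := cent_card_conjInto hm hF hp₂ hq₂ hx₂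
  have ha₂ := cent_card_ge hm hF hp₂ hq₂ hx₂
  have hd₂ := cent_card_dvd hm hF hp₂ hq₂ hx₂
  have hy₂c : ConjInto (Subgroup.centralizer ({x₂} : Set (Cfsg.Sz F m))) y₂ :=
    conjInto_of_mem _ hy₂ hy₂f.1
  have hdisj : ∀ z, ConjInto (Subgroup.centralizer ({x₁} : Set (Cfsg.Sz F m))) z →
      ¬ ConjInto (Subgroup.centralizer ({x₂} : Set (Cfsg.Sz F m))) z := by
    intro z hz1 hz2
    exact hy₂n (cent_conjInto_of_common hm hF hp₂ hq₂ hx₂ hp₁ hq₁ hx₁ hz2 hz1 hy₂c)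
  -- no third class
  have hcover : ∀ y, IsFpf hm hF y →
      ConjInto (Subgroup.centralizer ({x₁} : Set (Cfsg.Sz F m))) y ∨
        ConjInto (Subgroup.centralizer ({x₂} : Set (Cfsg.Sz F m))) y := by
    intro y₃ hy₃f
    by_contra hcon
    push Not at hcon
    obtain ⟨p₃, x₃, hp₃, hq₃, hx₃, hy₃⟩ := isFpf_exists_singer hm hF hy₃f
    obtain ⟨e₃, he₃, hN₃, hc₃⟩ := cent_card_conjInto hm hF hp₃ hq₃ hx₃
    have ha₃ := cent_card_ge hm hF hp₃ hq₃ hx₃
    have hy₃c : ConjInto (Subgroup.centralizer ({x₃} : Set (Cfsg.Sz F m))) y₃ :=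
      conjInto_of_mem _ hy₃ hy₃f.1
    have hdisj13 : ∀ z, ConjInto (Subgroup.centralizer ({x₁} : Set (Cfsg.Sz F m))) z →
        ¬ ConjInto (Subgroup.centralizer ({x₃} : Set (Cfsg.Sz F m))) z := by
      intro z hz1 hz3
      exact hcon.1 (cent_conjInto_of_common hm hF hp₃ hq₃ hx₃ hp₁ hq₁ hx₁ hz3 hz1 hy₃c)
    have hdisj23 : ∀ z, ConjInto (Subgroup.centralizer ({x₂} : Set (Cfsg.Sz F m))) z →
        ¬ ConjInto (Subgroup.centralizer ({x₃} : Set (Cfsg.Sz F m))) z := by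
      intro z hz2 hz3
      exact hcon.2 (cent_conjInto_of_common hm hF hp₃ hq₃ hx₃ hp₂ hq₂ hx₂ hz3 hz2 hy₃c)
    have h12 := card_subtype_add_eq
      (ConjInto (Subgroup.centralizer ({x₁} : Set (Cfsg.Sz F m))))
      (ConjInto (Subgroup.centralizer ({x₂} : Set (Cfsg.Sz F m))))
      (fun z => ConjInto (Subgroup.centralizer ({x₁} : Set (Cfsg.Sz F m))) z ∨
        ConjInto (Subgroup.centralizer ({x₂} : Set (Cfsg.Sz F m))) z)
      (fun _ h => Or.inl h) (fun _ h => Or.inr h) hdisj (fun _ h => h)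
    have hle := card_subtype_add_le
      (fun z => ConjInto (Subgroup.centralizer ({x₁} : Set (Cfsg.Sz F m))) z ∨
        ConjInto (Subgroup.centralizer ({x₂} : Set (Cfsg.Sz F m))) z)
      (ConjInto (Subgroup.centralizer ({x₃} : Set (Cfsg.Sz F m)))) (IsFpf hm hF)
      (fun z h => h.elim (cent_conjInto_isFpf hm hF hp₁ hq₁ hx₁)
        (cent_conjInto_isFpf hm hF hp₂ hq₂ hx₂))
      (fun z h => cent_conjInto_isFpf hm hF hp₃ hq₃ hx₃ h)
      (fun z h h3 => h.elim (fun h1 => hdisj13 z h1 h3) (fun h2 => hdisj23 z h2 h3))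
    have f1 := tor_arith_fifth _ _ _ _ he₁ ha₁ hc₁
    have f2 := tor_arith_fifth _ _ _ _ he₂ ha₂ hc₂
    have f3 := tor_arith_fifth _ _ _ _ he₃ ha₃ hc₃
    apply tor_arith_three (Fintype.card F) (Nat.card {y // IsFpf hm hF y}) hq3 _ hN
    omega
  have hsum := card_subtype_add_eq
    (ConjInto (Subgroup.centralizer ({x₁} : Set (Cfsg.Sz F m))))
    (ConjInto (Subgroup.centralizer ({x₂} : Set (Cfsg.Sz F m)))) (IsFpf hm hF)
    (fun _ h => cent_conjInto_isFpf hm hF hp₁ hq₁ hx₁ h)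
    (fun _ h => cent_conjInto_isFpf hm hF hp₂ hq₂ hx₂ h) hdisj hcover
  -- the orders are coprime
  have hcop : Nat.Coprime (Nat.card (Subgroup.centralizer ({x₁} : Set (Cfsg.Sz F m))))
      (Nat.card (Subgroup.centralizer ({x₂} : Set (Cfsg.Sz F m)))) := by
    apply Nat.coprime_of_dvd
    intro l hl h1 h2
    obtain ⟨y, hy1, hy2⟩ := cent_common_of_prime_dvd hm hF hp₁ hq₁ hx₁ hp₂ hq₂ hx₂ hl h1 h2
    exact hdisj y hy1 hy2
  have hq2pos : (Fintype.card F) ^ 2 + 1 ≠ 0 := by omega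
  have hprodpos : Nat.card (Subgroup.centralizer ({x₁} : Set (Cfsg.Sz F m))) *
      Nat.card (Subgroup.centralizer ({x₂} : Set (Cfsg.Sz F m))) ≠ 0 :=
    Nat.mul_ne_zero (by omega) (by omega)
  have hprod : Nat.card (Subgroup.centralizer ({x₁} : Set (Cfsg.Sz F m))) *
      Nat.card (Subgroup.centralizer ({x₂} : Set (Cfsg.Sz F m))) = (Fintype.card F) ^ 2 + 1 := by
    apply Nat.dvd_antisymm (hcop.mul_dvd_of_dvd_of_dvd hd₁ hd₂)
    rw [← Nat.factorization_prime_le_iff_dvd hq2pos hprodpos]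
    intro l hl
    by_cases hlq : l ∣ (Fintype.card F) ^ 2 + 1
    · have : Fact l.Prime := ⟨hl⟩
      have hqG : (Fintype.card F) ^ 2 + 1 ∣ Nat.card (Cfsg.Sz F m) := by
        rw [card_Sz hm hF]
        exact dvd_mul_of_dvd_left (dvd_mul_left _ _) _
      obtain ⟨y, hy⟩ := exists_prime_orderOf_dvd_card' l (dvd_trans hlq hqG)
      have hyf := isFpf_of_orderOf hm hF hl hlq hy
      have hyp : IsPGroup l (Subgroup.zpowers y) := by
        apply IsPGroup.of_card (n := 1)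
        rw [Nat.card_zpowers, hy, pow_one]
      obtain ⟨P, hP⟩ := hyp.exists_le_sylow
      have hyP : y ∈ P := hP (Subgroup.mem_zpowers y)
      have key : ∀ {p : ℕ} {x : Cfsg.Sz F m} (hp : p.Prime)
          (hq : p ∣ (Fintype.card F) ^ 2 + 1) (hx : orderOf x = p),
          ConjInto (Subgroup.centralizer ({x} : Set (Cfsg.Sz F m))) y →
          l ^ ((Nat.card (Cfsg.Sz F m)).factorization l) ∣
            Nat.card (Subgroup.centralizer ({x} : Set (Cfsg.Sz F m))) := by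
        rintro p x hp hq hx ⟨hy1, g, hg⟩
        have h1 : g * y * g⁻¹ ∈ (g • P : Sylow l (Cfsg.Sz F m)) := by
          rw [mem_sylow_smul_iff]
          have : g⁻¹ * (g * y * g⁻¹) * g = y := by group
          rw [this]
          exact hyP
        have h2 := cent_sylow_card_dvd hm hF hp hq hx (g • P) h1 hg
          (by rw [Ne, conj_eq_one_iff]; exact hy1)
        rwa [Sylow.card_eq_multiplicity] at h2
      have hle : ((Fintype.card F) ^ 2 + 1).factorization l ≤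
          (Nat.card (Cfsg.Sz F m)).factorization l :=
        (Nat.factorization_le_iff_dvd hq2pos Nat.card_pos.ne').2 hqG l
      have hdvd : l ^ ((Nat.card (Cfsg.Sz F m)).factorization l) ∣
          Nat.card (Subgroup.centralizer ({x₁} : Set (Cfsg.Sz F m))) *
            Nat.card (Subgroup.centralizer ({x₂} : Set (Cfsg.Sz F m))) := by
        rcases hcover y hyf with h | h
        · exact dvd_mul_of_dvd_left (key hp₁ hq₁ hx₁ h) _
        · exact dvd_mul_of_dvd_right (key hp₂ hq₂ hx₂ h) _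
      exact le_trans hle ((hl.pow_dvd_iff_le_factorization hprodpos).1 hdvd)
    · rw [Nat.factorization_eq_zero_of_not_dvd hlq]
      exact Nat.zero_le _
  obtain ⟨rfl, rfl, hsum'⟩ := tor_arith_two (Fintype.card F) _ _ e₁ e₂ _ _ hq3 he₁ he₂ ha₁ ha₂
    hprod hc₁ hc₂ (by rw [hsum]; exact hN)
  exact ⟨p₁, p₂, x₁, x₂, hp₁, hq₁, hx₁, hp₂, hq₂, hx₂, hsum', hprod, hN₁, hN₂, hcover, hdisj⟩

end Cfsg.Agent.Helper6
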