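import Cfsg.Agent.Helper6.Tor10

/-!
# The two classes of cyclic tori without fixed points of the Suzuki group: the orders
-/

set_option autoImplicit false

namespace Cfsg.Agent.Helper6

/-- conjugate elements have centralisers of the same order -/
theorem card_centralizer_conj {G : Type*} [Group G] (h x : G) :
    Nat.card (Subgroup.centralizer ({h * x * h⁻¹} : Set G)) =
      Nat.card (Subgroup.centralizer ({x} : Set G)) := by
  apply Nat.card_congr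
  refine ⟨fun z => ⟨h⁻¹ * z.1 * h, ?_⟩, fun z => ⟨h * z.1 * h⁻¹, ?_⟩, ?_, ?_⟩
  · rw [Subgroup.mem_centralizer_singleton_iff]
    have h1 := Subgroup.mem_centralizer_singleton_iff.1 z.2
    calc h⁻¹ * z.1 * h * x = h⁻¹ * (z.1 * (h * x * h⁻¹)) * h := by group
      _ = h⁻¹ * ((h * x * h⁻¹) * z.1) * h := by rw [h1]
      _ = x * (h⁻¹ * z.1 * h) := by group
  · rw [Subgroup.mem_centralizer_singleton_iff]
    have h1 := Subgroup.mem_centralizer_singleton_iff.1 z.2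
    calc h * z.1 * h⁻¹ * (h * x * h⁻¹) = h * (z.1 * x) * h⁻¹ := by group
      _ = h * (x * z.1) * h⁻¹ := by rw [h1]
      _ = h * x * h⁻¹ * (h * z.1 * h⁻¹) := by group
  · intro z
    apply Subtype.ext
    show h * (h⁻¹ * z.1 * h) * h⁻¹ = z.1
    group
  · intro z
    apply Subtype.ext
    show h⁻¹ * (h * z.1 * h⁻¹) * h = z.1
    group

variable {F : Type*} [Field F] [Fintype F] {m : ℕ}

/-- the two classes of cyclic tori without fixed points -/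
theorem sz_tori (hm : 1 ≤ m) (hF : Fintype.card F = 2 ^ (2 * m + 1)) :
    ∃ (p₁ p₂ : ℕ) (x₁ x₂ : Cfsg.Sz F m),
      p₁.Prime ∧ p₁ ∣ (Fintype.card F) ^ 2 + 1 ∧ orderOf x₁ = p₁ ∧
      p₂.Prime ∧ p₂ ∣ (Fintype.card F) ^ 2 + 1 ∧ orderOf x₂ = p₂ ∧
      Nat.card (Subgroup.centralizer ({x₁} : Set (Cfsg.Sz F m))) =
        2 ^ (2 * m + 1) + 2 ^ (m + 1) + 1 ∧
      Nat.card (Subgroup.centralizer ({x₂} : Set (Cfsg.Sz F m))) =
        2 ^ (2 * m + 1) - 2 ^ (m + 1) + 1 ∧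
      Nat.card (Subgroup.normalizer ((Subgroup.centralizer {x₁} : Subgroup (Cfsg.Sz F m)) :
        Set (Cfsg.Sz F m))) = 4 * Nat.card (Subgroup.centralizer ({x₁} : Set (Cfsg.Sz F m))) ∧
      Nat.card (Subgroup.normalizer ((Subgroup.centralizer {x₂} : Subgroup (Cfsg.Sz F m)) :
        Set (Cfsg.Sz F m))) = 4 * Nat.card (Subgroup.centralizer ({x₂} : Set (Cfsg.Sz F m))) ∧
      (∀ y, IsFpf hm hF y → ConjInto (Subgroup.centralizer ({x₁} : Set (Cfsg.Sz F m))) y ∨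
        ConjInto (Subgroup.centralizer ({x₂} : Set (Cfsg.Sz F m))) y) ∧
      (∀ y, ConjInto (Subgroup.centralizer ({x₁} : Set (Cfsg.Sz F m))) y →
        ¬ ConjInto (Subgroup.centralizer ({x₂} : Set (Cfsg.Sz F m))) y) := by
  obtain ⟨p₁, p₂, x₁, x₂, hp₁, hq₁, hx₁, hp₂, hq₂, hx₂, hsum, hprod, hN₁, hN₂, hcover, hdisj⟩ :=
    sz_tori_unordered hm hF
  have hsum' := hsum
  have hprod' := hprod
  rw [hF] at hsum' hprod'
  rcases tor_arith_solve m _ _ hprod' hsum' with ⟨h1, h2⟩ | ⟨h1, h2⟩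
  · exact ⟨p₁, p₂, x₁, x₂, hp₁, hq₁, hx₁, hp₂, hq₂, hx₂, h1, h2, hN₁, hN₂, hcover, hdisj⟩
  · exact ⟨p₂, p₁, x₂, x₁, hp₂, hq₂, hx₂, hp₁, hq₁, hx₁, h1, h2, hN₂, hN₁,
      fun y hy => (hcover y hy).symm, fun y hy2 hy1 => hdisj y hy1 hy2⟩

end Cfsg.Agent.Helper6
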