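import Cfsg.Agent.Helper6.Singer2

/-!
# Normalisers of elements of prime order dividing `q² + 1` in `GL₄(q)`
-/

set_option autoImplicit false

namespace Cfsg.Agent.Helper6

open Polynomial

/-- evaluating a polynomial at a conjugate -/
theorem aeval_conj_eq {R A : Type*} [CommRing R] [Ring A] [Algebra R A] (u v a : A)
    (huv : u * v = 1) (hvu : v * u = 1) (P : R[X]) :
    aeval (u * a * v) P = u * aeval a P * v := by
  have hpow : ∀ n : ℕ, (u * a * v) ^ n = u * a ^ n * v := by
    intro n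
    induction n with
    | zero => rw [pow_zero, pow_zero, mul_one, huv]
    | succ n ih =>
      rw [pow_succ, ih, pow_succ]
      calc u * a ^ n * v * (u * a * v) = u * a ^ n * (v * u) * a * v := by noncomm_ring
        _ = u * (a ^ n * a) * v := by rw [hvu]; noncomm_ring
  rw [aeval_eq_sum_range, aeval_eq_sum_range, Finset.mul_sum, Finset.sum_mul]
  apply Finset.sum_congr rfl
  intro i _
  rw [hpow, mul_smul_comm, smul_mul_assoc]

variable {F : Type*} [Field F] [Fintype F]

/-- an element of `GL₄(q)` conjugating an element `x` of odd prime order dividing `q² + 1` to a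
power `x ^ j` satisfies `x ^ (j ^ 4) = x` -/
theorem gl4_conj_pow_four [CharP F 2] {p : ℕ} [hp : Fact p.Prime] (hp2 : p ≠ 2)
    (hq : p ∣ (Fintype.card F) ^ 2 + 1) (x : GL (Fin 4) F) (hx : orderOf x = p)
    (g : GL (Fin 4) F) (j : ℕ) (hg : g * x * g⁻¹ = x ^ j) : x ^ (j ^ 4) = x := by
  classical
  have : Fact (Nat.Prime 2) := ⟨Nat.prime_two⟩
  set K := FiniteField.Extension F 2 4 with hK
  have hfr : Module.finrank F K = 4 := FiniteField.finrank_extension F 2 4
  have : Fintype K := Fintype.ofFinite K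
  let b : Module.Basis (Fin 4) F K := Module.finBasisOfFinrankEq F K hfr
  let Φ : (K →ₗ[F] K) ≃ₐ[F] Matrix (Fin 4) (Fin 4) F := LinearMap.toMatrixAlgEquiv b
  let ψA : K →ₐ[F] Matrix (Fin 4) (Fin 4) F := Φ.toAlgHom.comp (Algebra.lmul F K)
  let ψ : K →* Matrix (Fin 4) (Fin 4) F := (ψA : K →* Matrix (Fin 4) (Fin 4) F)
  have hψA : Function.Injective ψA := by
    intro x y hxy
    apply Algebra.lmul_injective (R := F) (A := K)
    exact Φ.injective hxy
  have hψ : Function.Injective ψ := hψA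
  let φ : Kˣ →* GL (Fin 4) F := Units.map ψ
  have hφ : Function.Injective φ := Units.map_injective hψ
  set C := φ.range with hC
  have hcardC : Nat.card C = (Fintype.card F) ^ 4 - 1 := by
    rw [← Nat.card_congr (MonoidHom.ofInjective hφ).toEquiv, Nat.card_units,
      FiniteField.natCard_extension, Nat.card_eq_fintype_card]
  have hq1 : 1 ≤ Fintype.card F := Fintype.card_pos
  have hq2 : 2 ≤ Fintype.card F := Fintype.one_lt_card
  have hpos : 0 < (Fintype.card F) ^ 4 - 1 := by
    have : 2 ^ 4 ≤ (Fintype.card F) ^ 4 := Nat.pow_le_pow_left hq2 4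
    omega
  have hidx : C.index = ((Fintype.card F) ^ 4 - Fintype.card F) *
      ((Fintype.card F) ^ 4 - (Fintype.card F) ^ 2) * ((Fintype.card F) ^ 4 - (Fintype.card F) ^ 3) := by
    have h1 := Subgroup.index_mul_card C
    rw [hcardC, Matrix.card_GL_field, Fin.prod_univ_four] at h1
    simp only [Fin.val_zero, pow_zero, Fin.val_one, pow_one, Fin.val_two] at h1
    have h3 : ((3 : Fin 4) : ℕ) = 3 := rfl
    rw [h3] at h1
    apply Nat.eq_of_mul_eq_mul_right hpos
    rw [h1]; ring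
  have hnd : ¬ p ∣ C.index := by
    rw [hidx]
    exact not_dvd_gl4_index hp.out hp2 hq hq1
  -- a Sylow subgroup inside `C`
  let T : Sylow p C := default
  set T' : Subgroup (GL (Fin 4) F) := (T : Subgroup C).map C.subtype with hT'
  have hTp : IsPGroup p T' := T.isPGroup'.map _
  have hidx' : ¬ p ∣ T'.index := by
    rw [hT', Subgroup.index_map_subtype]
    exact (Nat.Prime.not_dvd_mul hp.out T.not_dvd_index hnd)
  let S : Sylow p (GL (Fin 4) F) := hTp.toSylow hidx'
  -- conjugate `x` into `C`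
  have hxp : IsPGroup p (Subgroup.zpowers x) := by
    apply IsPGroup.of_card (n := 1)
    rw [Nat.card_zpowers, hx, pow_one]
  obtain ⟨P, hP⟩ := hxp.exists_le_sylow
  obtain ⟨c, hc⟩ := MulAction.exists_smul_eq (GL (Fin 4) F) S P
  have hxS : x ∈ (c • S : Sylow p (GL (Fin 4) F)) := by
    rw [hc]; exact hP (Subgroup.mem_zpowers x)
  rw [mem_smul_sylow_iff_conj] at hxS
  have hxC : c⁻¹ * x * c ∈ C := by
    obtain ⟨y, -, hy⟩ := hxS
    rw [← hy]
    exact y.2
  obtain ⟨lam, hlam⟩ := hxC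
  -- the conjugated relation
  have hg' : (c⁻¹ * g * c) * φ lam * (c⁻¹ * g * c)⁻¹ = (φ lam) ^ j := by
    rw [hlam]
    calc c⁻¹ * g * c * (c⁻¹ * x * c) * (c⁻¹ * g * c)⁻¹ = c⁻¹ * (g * x * g⁻¹) * c := by group
      _ = c⁻¹ * x ^ j * c := by rw [hg]
      _ = (c⁻¹ * x * c) ^ j := by
        have := conj_pow (a := c⁻¹) (b := x) (i := j)
        rw [inv_inv] at this
        exact this.symm
  -- matrix level
  have hmat : ((c⁻¹ * g * c : GL (Fin 4) F) : Matrix (Fin 4) (Fin 4) F) * ψA (lam : K) *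
      (((c⁻¹ * g * c)⁻¹ : GL (Fin 4) F) : Matrix (Fin 4) (Fin 4) F) = ψA ((lam : K) ^ j) := by
    have h1 := congrArg (fun M : GL (Fin 4) F => (M : Matrix (Fin 4) (Fin 4) F)) hg'
    simp only [Units.val_mul, Units.val_pow_eq_pow_val] at h1
    rw [map_pow]
    exact h1
  -- the minimal polynomial
  have halg : IsAlgebraic F (lam : K) := Algebra.IsAlgebraic.isAlgebraic _
  have hroot : aeval ((lam : K) ^ j) (minpoly F (lam : K)) = 0 := by
    apply hψA
    rw [map_zero, ← aeval_algHom_apply, ← hmat,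
      aeval_conj_eq _ _ _ (by rw [← Units.val_mul, mul_inv_cancel, Units.val_one])
        (by rw [← Units.val_mul, inv_mul_cancel, Units.val_one]),
      aeval_algHom_apply, minpoly.aeval, map_zero, mul_zero, zero_mul]
  obtain ⟨σ, hσ⟩ := minpoly.exists_algEquiv_of_root' halg hroot
  have hσ4 : σ ^ 4 = 1 := by
    have h1 : σ ^ Nat.card (K ≃ₐ[F] K) = 1 := pow_card_eq_one'
    rwa [FiniteField.natCard_algEquiv_extension F 2 4] at h1
  have hiter : ∀ k : ℕ, (σ ^ k) (lam : K) = (lam : K) ^ (j ^ k) := by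
    intro k
    induction k with
    | zero => rw [pow_zero, pow_zero, pow_one, AlgEquiv.one_apply]
    | succ k ih =>
      rw [pow_succ', AlgEquiv.mul_apply, ih, map_pow, hσ, ← pow_mul, ← pow_succ']
  have h4 := hiter 4
  rw [hσ4, AlgEquiv.one_apply] at h4
  -- back to `x`
  have h5 : lam ^ (j ^ 4) = lam := by
    apply Units.ext
    rw [Units.val_pow_eq_pow_val]
    exact h4.symm
  have h6 : (c⁻¹ * x * c) ^ (j ^ 4) = c⁻¹ * x * c := by
    rw [← hlam, ← map_pow, h5]
  have h7 : (c⁻¹ * x * c) ^ (j ^ 4) = c⁻¹ * x ^ (j ^ 4) * c := by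
    have := conj_pow (a := c⁻¹) (b := x) (i := j ^ 4)
    rw [inv_inv] at this
    exact this
  rw [h7] at h6
  calc x ^ (j ^ 4) = c * (c⁻¹ * x ^ (j ^ 4) * c) * c⁻¹ := by group
    _ = c * (c⁻¹ * x * c) * c⁻¹ := by rw [h6]
    _ = x := by group

/-- an element of `GL₄(q)` normalising the group generated by an element `x` of odd prime order
dividing `q² + 1` has its fourth power in the centraliser of `x` -/
theorem gl4_normalizer_pow_four [CharP F 2] {p : ℕ} [hp : Fact p.Prime] (hp2 : p ≠ 2)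
    (hq : p ∣ (Fintype.card F) ^ 2 + 1) (x : GL (Fin 4) F) (hx : orderOf x = p)
    (g : GL (Fin 4) F) (hg : g * x * g⁻¹ ∈ Subgroup.zpowers x) : g ^ 4 * x = x * g ^ 4 := by
  rw [← mem_powers_iff_mem_zpowers] at hg
  obtain ⟨j, hj⟩ := hg
  have hiter : ∀ k : ℕ, g ^ k * x * (g ^ k)⁻¹ = x ^ (j ^ k) := by
    intro k
    induction k with
    | zero => simp
    | succ k ih =>
      calc g ^ (k + 1) * x * (g ^ (k + 1))⁻¹ = g * (g ^ k * x * (g ^ k)⁻¹) * g⁻¹ := by
            rw [pow_succ']; group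
        _ = g * x ^ (j ^ k) * g⁻¹ := by rw [ih]
        _ = (g * x * g⁻¹) ^ (j ^ k) := (conj_pow).symm
        _ = (x ^ j) ^ (j ^ k) := by rw [← hj]
        _ = x ^ (j ^ (k + 1)) := by rw [← pow_mul, ← pow_succ']
  have h4 := hiter 4
  rw [gl4_conj_pow_four hp2 hq x hx g j hj.symm] at h4
  calc g ^ 4 * x = (g ^ 4 * x * (g ^ 4)⁻¹) * g ^ 4 := by group
    _ = x * g ^ 4 := by rw [h4]

end Cfsg.Agent.Helper6
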