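import Cfsg.Agent.Helper6.Tor3

/-!
# The elements of the Suzuki group without fixed points: counting
-/

set_option autoImplicit false

namespace Cfsg.Agent.Helper6

variable {F : Type*} [Field F] [Fintype F] {m : ℕ}

theorem conjInto_szQ_pow_four (hm : 1 ≤ m) (hF : Fintype.card F = 2 ^ (2 * m + 1))
    {x : Cfsg.Sz F m} (hx : ConjInto (szQ hm hF) x) : x ^ 4 = 1 := by
  obtain ⟨-, g, hg⟩ := hx
  obtain ⟨a, b, hab⟩ := (mem_szQ_iff hm hF _).1 hg
  have h1 : (g * x * g⁻¹) ^ 4 = 1 := by rw [hab, sU_pow_four hm hF]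
  rw [conj_pow, conj_eq_one_iff] at h1
  exact h1

theorem conjInto_szK_pow (hF : Fintype.card F = 2 ^ (2 * m + 1))
    {x : Cfsg.Sz F m} (hx : ConjInto (szK hF) x) : x ^ (Fintype.card F - 1) = 1 := by
  obtain ⟨-, g, t, hg⟩ := hx
  have h0 : t ^ (Fintype.card F - 1) = 1 := by
    classical
    rw [← Fintype.card_units]
    exact pow_card_eq_one
  have h1 : (g * x * g⁻¹) ^ (Fintype.card F - 1) = 1 := by
    rw [hg, ← sD_pow, h0, sD_one]
  rw [conj_pow, conj_eq_one_iff] at h1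
  exact h1

theorem card_F_sub_one_odd (hF : Fintype.card F = 2 ^ (2 * m + 1)) :
    ¬ 2 ∣ Fintype.card F - 1 := by
  rw [hF]
  have h1 : 2 ∣ 2 ^ (2 * m + 1) := dvd_pow_self 2 (by omega)
  have h2 : 0 < 2 ^ (2 * m + 1) := by positivity
  omega

theorem not_conjInto_both (hm : 1 ≤ m) (hF : Fintype.card F = 2 ^ (2 * m + 1))
    {x : Cfsg.Sz F m} (hQ : ConjInto (szQ hm hF) x) (hK : ConjInto (szK hF) x) : False := by
  have h1 := orderOf_dvd_of_pow_eq_one (conjInto_szQ_pow_four hm hF hQ)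
  have h2 := orderOf_dvd_of_pow_eq_one (conjInto_szK_pow hF hK)
  have h3 : Nat.Coprime 4 (Fintype.card F - 1) := by
    have : Nat.Coprime 2 (Fintype.card F - 1) :=
      (Nat.Prime.coprime_iff_not_dvd Nat.prime_two).2 (card_F_sub_one_odd hF)
    exact Nat.Coprime.pow_left 2 this
  have h4 : orderOf x ∣ 1 := by
    have := Nat.dvd_gcd h1 h2
    rwa [h3.gcd_eq_one] at this
  apply hQ.1
  rw [← orderOf_eq_one_iff]
  exact Nat.dvd_one.1 h4

theorem conjInto_szQ_of_commute (hm : 1 ≤ m) (hF : Fintype.card F = 2 ^ (2 * m + 1))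
    {y z : Cfsg.Sz F m} (hy : ConjInto (szQ hm hF) y) (hz1 : z ≠ 1) (hc : z * y = y * z) :
    ConjInto (szQ hm hF) z := by
  obtain ⟨hy1, g, hg⟩ := hy
  obtain ⟨a, b, hab⟩ := (mem_szQ_iff hm hF _).1 hg
  refine ⟨hz1, g, ?_⟩
  apply centralizer_sU_le hm hF (a := a) (b := b)
  · intro h0
    rw [(sU_eq_one_iff hm hF a b).2 h0, conj_eq_one_iff] at hab
    exact hy1 hab
  · rw [← hab]
    calc g * z * g⁻¹ * (g * y * g⁻¹) = g * (z * y) * g⁻¹ := by group
      _ = g * (y * z) * g⁻¹ := by rw [hc]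
      _ = _ := by group

theorem conjInto_szK_of_commute (hm : 1 ≤ m) (hF : Fintype.card F = 2 ^ (2 * m + 1))
    {y z : Cfsg.Sz F m} (hy : ConjInto (szK hF) y) (hz1 : z ≠ 1) (hc : z * y = y * z) :
    ConjInto (szK hF) z := by
  obtain ⟨hy1, g, t, hg⟩ := hy
  refine ⟨hz1, g, ?_⟩
  apply centralizer_sD_le hm hF (t := t)
  · rintro rfl
    rw [sD_one, conj_eq_one_iff] at hg
    exact hy1 hg
  · rw [← hg]
    calc g * z * g⁻¹ * (g * y * g⁻¹) = g * (z * y) * g⁻¹ := by group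
      _ = g * (y * z) * g⁻¹ := by rw [hc]
      _ = _ := by group

theorem conjInto_szQ_of_orderOf_two (hm : 1 ≤ m) (hF : Fintype.card F = 2 ^ (2 * m + 1))
    {x : Cfsg.Sz F m} (hx : orderOf x = 2) : ConjInto (szQ hm hF) x := by
  have : Finite (Cfsg.Sz F m) := inferInstance
  have : Fact (Nat.Prime 2) := ⟨Nat.prime_two⟩
  have hQp : IsPGroup 2 (szQ hm hF) := by
    apply IsPGroup.of_card (n := 2 * (2 * m + 1))
    rw [card_szQ, hF, ← pow_mul, mul_comm]
  let QS : Sylow 2 (Cfsg.Sz F m) := hQp.toSylow (szQ_index_odd hm hF)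
  have hxp : IsPGroup 2 (Subgroup.zpowers x) := by
    apply IsPGroup.of_card (n := 1)
    rw [Nat.card_zpowers, hx, pow_one]
  obtain ⟨P, hP⟩ := hxp.exists_le_sylow
  obtain ⟨k, hk⟩ := MulAction.exists_smul_eq (Cfsg.Sz F m) QS P
  have hxS : x ∈ (k • QS : Sylow 2 (Cfsg.Sz F m)) := by
    rw [hk]; exact hP (Subgroup.mem_zpowers x)
  rw [mem_sylow_smul_iff] at hxS
  refine ⟨?_, k⁻¹, ?_⟩
  · intro h
    rw [h, orderOf_one] at hx
    omega
  · rw [inv_inv]
    exact hxS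

theorem conjInto_szK_of_orderOf (hm : 1 ≤ m) (hF : Fintype.card F = 2 ^ (2 * m + 1)) {p : ℕ}
    [hp : Fact p.Prime] (hp2 : p ≠ 2) (hq : p ∣ Fintype.card F - 1) {x : Cfsg.Sz F m}
    (hx : orderOf x = p) : ConjInto (szK hF) x := by
  have hx1 : x ≠ 1 := by
    intro h
    rw [h, orderOf_one] at hx
    exact hp.out.one_lt.ne hx
  obtain ⟨o1, o2, hne, h1, h2⟩ := exists_two_fixed_of_dvd hp2 hq x hx
  obtain ⟨k, hk, e1, e2⟩ := exists_smul_base hF hne
  set k' : Cfsg.Sz F m := ⟨k, hk⟩ with hk'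
  have f1 : (k'⁻¹ * x * k') • ovPt F m none = ovPt F m none := by
    show (k⁻¹ * (x : Matrix.SpecialLinearGroup (Fin 4) F) * k) • ovPt F m none = ovPt F m none
    rw [mul_smul, mul_smul, e1, h1, ← e1, inv_smul_smul]
  have f2 : (k'⁻¹ * x * k') • ovPt F m (some (0, 0)) = ovPt F m (some (0, 0)) := by
    show (k⁻¹ * (x : Matrix.SpecialLinearGroup (Fin 4) F) * k) • ovPt F m (some (0, 0)) =
      ovPt F m (some (0, 0))
    rw [mul_smul, mul_smul, e2, h2, ← e2, inv_smul_smul]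
  obtain ⟨t, ht⟩ := two_point_stab hm hF (k'⁻¹ * x * k').2 f1 f2
  refine ⟨hx1, k'⁻¹, t, ?_⟩
  rw [inv_inv]
  exact Subtype.ext ht

/-- elements without fixed points -/
def IsFpf (hm : 1 ≤ m) (hF : Fintype.card F = 2 ^ (2 * m + 1)) (x : Cfsg.Sz F m) : Prop :=
  x ≠ 1 ∧ ¬ ConjInto (szQ hm hF) x ∧ ¬ ConjInto (szK hF) x

/-- the number of elements without fixed points -/
theorem card_isFpf (hm : 1 ≤ m) (hF : Fintype.card F = 2 ^ (2 * m + 1)) :
    2 * Nat.card {x : Cfsg.Sz F m // IsFpf hm hF x} =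
      (Fintype.card F) ^ 3 * (Fintype.card F - 1) ^ 2 := by
  classical
  have : Fintype (Cfsg.Sz F m) := Fintype.ofFinite _
  have hG := card_Sz hm hF
  have hcQ := card_conjInto_szQ hm hF
  have hcK := card_conjInto_szK hm hF
  rw [Nat.card_eq_fintype_card] at hG hcQ hcK ⊢
  rw [Fintype.card_subtype] at hcQ hcK ⊢
  rw [← Finset.card_univ] at hG
  have h1 := Finset.card_filter_add_card_filter_not (s := (Finset.univ : Finset (Cfsg.Sz F m)))
    (fun x => ConjInto (szQ hm hF) x)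
  have h2 := Finset.card_filter_add_card_filter_not
    (s := (Finset.univ.filter (fun x : Cfsg.Sz F m => ¬ ConjInto (szQ hm hF) x)))
    (fun x => ConjInto (szK hF) x)
  have h3 : (Finset.univ.filter (fun x : Cfsg.Sz F m => ¬ ConjInto (szQ hm hF) x)).filter
      (fun x => ConjInto (szK hF) x) = Finset.univ.filter (fun x => ConjInto (szK hF) x) := by
    ext x
    simp only [Finset.mem_filter, Finset.mem_univ, true_and]
    constructor
    · exact fun h => h.2
    · exact fun h => ⟨fun hQ => not_conjInto_both hm hF hQ h, h⟩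
  have h4 : (Finset.univ.filter (fun x : Cfsg.Sz F m => ¬ ConjInto (szQ hm hF) x)).filter
      (fun x => ¬ ConjInto (szK hF) x) =
      insert 1 (Finset.univ.filter (fun x => IsFpf hm hF x)) := by
    ext x
    simp only [Finset.mem_filter, Finset.mem_univ, true_and, Finset.mem_insert]
    constructor
    · intro h
      by_cases hx : x = 1
      · exact Or.inl hx
      · exact Or.inr ⟨hx, h.1, h.2⟩
    · rintro (rfl | h)
      · exact ⟨fun h => h.1 rfl, fun h => h.1 rfl⟩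
      · exact ⟨h.2.1, h.2.2⟩
  have h5 : (1 : Cfsg.Sz F m) ∉ Finset.univ.filter (fun x => IsFpf hm hF x) := by
    simp only [Finset.mem_filter, Finset.mem_univ, true_and]
    exact fun h => h.1 rfl
  rw [h3, h4, Finset.card_insert_of_notMem h5] at h2
  -- arithmetic
  obtain ⟨q, hq⟩ : ∃ q, Fintype.card F = q + 2 := by
    have : 2 ≤ Fintype.card F := Fintype.one_lt_card
    exact ⟨Fintype.card F - 2, by omega⟩
  rw [hq] at hG hcQ hcK ⊢
  have e1 : q + 2 - 1 = q + 1 := by omega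
  have e2 : q + 2 - 2 = q := by omega
  have e3 : (q + 2) ^ 2 - 1 = q ^ 2 + 4 * q + 3 := by
    have : (q + 2) ^ 2 = q ^ 2 + 4 * q + 3 + 1 := by ring
    omega
  rw [e1] at hG ⊢
  rw [e2] at hcK
  rw [e3] at hcQ
  set N := (Finset.univ.filter (fun x : Cfsg.Sz F m => IsFpf hm hF x)).card with hN
  set cQ := (Finset.univ.filter (fun x : Cfsg.Sz F m => ConjInto (szQ hm hF) x)).card with hcQdef
  set cK := (Finset.univ.filter (fun x : Cfsg.Sz F m => ConjInto (szK hF) x)).card with hcKdef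
  set nQ := (Finset.univ.filter (fun x : Cfsg.Sz F m => ¬ ConjInto (szQ hm hF) x)).card with hnQ
  have hG' : cQ + (cK + (N + 1)) = (q + 2) ^ 2 * ((q + 2) ^ 2 + 1) * (q + 1) := by
    rw [h2, h1, hG]
  nlinarith [hG', hcQ, hcK]
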