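import Cfsg.Agent.Helper6.Tor4
import Cfsg.Agent.Helper6.Tor2
import Cfsg.Agent.Helper6.Sz33
import Cfsg.Agent.Helper6.Sz19
import Cfsg.Agent.Helper6.SylCyc

/-!
# The centralisers of the elements of the Suzuki group without fixed points
-/

set_option autoImplicit false

namespace Cfsg.Agent.Helper6

/-- a power of prime order -/
theorem exists_prime_pow_of_ne_one {G : Type*} [Group G] [Finite G] {y : G} (hy : y ≠ 1) :
    ∃ (l : ℕ) (k : ℕ), l.Prime ∧ l ∣ orderOf y ∧ orderOf (y ^ k) = l := by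
  have h1 : orderOf y ≠ 1 := fun h => hy (orderOf_eq_one_iff.1 h)
  obtain ⟨l, hl, hd⟩ := Nat.exists_prime_and_dvd h1
  exact ⟨l, orderOf y / l, hl, hd, orderOf_pow_orderOf_div (orderOf_pos y).ne' hd⟩

/-- an element mapping a finite subgroup into itself normalises it -/
theorem mem_normalizer_of_conj_le {G : Type*} [Group G] (A : Subgroup G) [Finite A] (g : G)
    (key : ∀ y ∈ A, g * y * g⁻¹ ∈ A) : g ∈ Subgroup.normalizer (A : Set G) := by
  rw [Subgroup.mem_normalizer_iff]
  intro y
  constructor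
  · exact key y
  · intro hy
    let f : A → A := fun y => ⟨g * y.1 * g⁻¹, key y.1 y.2⟩
    have hf : Function.Injective f := by
      intro y y' h
      have h1 : g * y.1 * g⁻¹ = g * y'.1 * g⁻¹ := congrArg Subtype.val h
      apply Subtype.ext
      have : y.1 = g⁻¹ * (g * y.1 * g⁻¹) * g := by group
      rw [this, h1]; group
    obtain ⟨y', hy'⟩ := (Finite.injective_iff_surjective.1 hf) ⟨g * y * g⁻¹, hy⟩
    have h1 : g * y'.1 * g⁻¹ = g * y * g⁻¹ := congrArg Subtype.val hy'
    have h2 : y = y'.1 := by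
      have : y = g⁻¹ * (g * y * g⁻¹) * g := by group
      rw [this, ← h1]; group
    rw [h2]; exact y'.2

variable {F : Type*} [Field F] [Fintype F] {m : ℕ}

/-- primes dividing `q² + 1` -/
theorem prime_dvd_sq_add_one (hF : Fintype.card F = 2 ^ (2 * m + 1)) {l : ℕ} (hl : l.Prime)
    (hd : l ∣ (Fintype.card F) ^ 2 + 1) :
    l ≠ 2 ∧ ¬ l ∣ Fintype.card F - 1 ∧ ¬ l ∣ Fintype.card F := by
  have hq1 : 1 ≤ Fintype.card F := Fintype.card_pos
  have h2 : l ≠ 2 := by
    rintro rfl
    rw [hF] at hd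
    have h1 : 2 ∣ (2 ^ (2 * m + 1)) ^ 2 := dvd_pow (dvd_pow_self 2 (by omega)) (by norm_num)
    omega
  refine ⟨h2, ?_, ?_⟩
  · intro h
    have e : (Fintype.card F) ^ 2 + 1 = (Fintype.card F - 1) * (Fintype.card F + 1) + 2 := by
      obtain ⟨k, hk⟩ : ∃ k, Fintype.card F = k + 1 := ⟨Fintype.card F - 1, by omega⟩
      rw [hk, Nat.add_sub_cancel]
      ring
    rw [e] at hd
    have h3 : l ∣ 2 := (Nat.dvd_add_right (dvd_mul_of_dvd_left h _)).1 hd
    exact h2 ((Nat.prime_dvd_prime_iff_eq hl Nat.prime_two).1 h3)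
  · intro h
    rw [hF] at h
    have h3 := hl.dvd_of_dvd_pow h
    exact h2 ((Nat.prime_dvd_prime_iff_eq hl Nat.prime_two).1 h3)

/-- the prime divisors of the order of an element without fixed points -/
theorem isFpf_prime_dvd (hm : 1 ≤ m) (hF : Fintype.card F = 2 ^ (2 * m + 1)) {x : Cfsg.Sz F m}
    (hx : IsFpf hm hF x) {l : ℕ} (hl : l.Prime) (hd : l ∣ orderOf x) :
    l ≠ 2 ∧ l ∣ (Fintype.card F) ^ 2 + 1 := by
  have : Finite (Cfsg.Sz F m) := inferInstance
  have : Fact l.Prime := ⟨hl⟩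
  obtain ⟨y, hy⟩ : ∃ y, y = x ^ (orderOf x / l) := ⟨_, rfl⟩
  have hyo : orderOf y = l := by
    rw [hy]; exact orderOf_pow_orderOf_div (orderOf_pos x).ne' hd
  have hc : x * y = y * x := by rw [hy]; exact (pow_mul_comm' x _).symm
  have h2 : l ≠ 2 := by
    rintro rfl
    exact hx.2.1 (conjInto_szQ_of_commute hm hF (conjInto_szQ_of_orderOf_two hm hF hyo) hx.1 hc)
  have hK : ¬ l ∣ Fintype.card F - 1 := by
    intro h
    exact hx.2.2 (conjInto_szK_of_commute hm hF (conjInto_szK_of_orderOf hm hF h2 h hyo) hx.1 hc)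
  refine ⟨h2, ?_⟩
  have h3 : l ∣ Nat.card (Cfsg.Sz F m) := dvd_trans hd (orderOf_dvd_natCard x)
  rw [card_Sz hm hF] at h3
  rcases (Nat.Prime.dvd_mul hl).1 h3 with h4 | h4
  · rcases (Nat.Prime.dvd_mul hl).1 h4 with h5 | h5
    · exfalso
      have h6 := hl.dvd_of_dvd_pow h5
      rw [hF] at h6
      have h7 := hl.dvd_of_dvd_pow h6
      exact h2 ((Nat.prime_dvd_prime_iff_eq hl Nat.prime_two).1 h7)
    · exact h5
  · exact absurd h4 hK

/-- elements of odd prime order dividing `q² + 1` have no fixed points -/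
theorem isFpf_of_orderOf (hm : 1 ≤ m) (hF : Fintype.card F = 2 ^ (2 * m + 1)) {p : ℕ}
    (hp : p.Prime) (hq : p ∣ (Fintype.card F) ^ 2 + 1) {x : Cfsg.Sz F m} (hx : orderOf x = p) :
    IsFpf hm hF x := by
  obtain ⟨hp2, hK, -⟩ := prime_dvd_sq_add_one hF hp hq
  refine ⟨?_, ?_, ?_⟩
  · intro h
    rw [h, orderOf_one] at hx
    exact hp.one_lt.ne hx
  · intro h
    have h1 := orderOf_dvd_of_pow_eq_one (conjInto_szQ_pow_four hm hF h)
    rw [hx] at h1
    have h3 : p ∣ 2 ^ 2 := by norm_num; exact h1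
    exact hp2 ((Nat.prime_dvd_prime_iff_eq hp Nat.prime_two).1 (hp.dvd_of_dvd_pow h3))
  · intro h
    have h1 := orderOf_dvd_of_pow_eq_one (conjInto_szK_pow hF h)
    rw [hx] at h1
    exact hK h1

section cent

variable (hm : 1 ≤ m) (hF : Fintype.card F = 2 ^ (2 * m + 1)) {p : ℕ} (hp : p.Prime)
  (hq : p ∣ (Fintype.card F) ^ 2 + 1) {x : Cfsg.Sz F m} (hx : orderOf x = p)

include hm hF hp hq hx

/-- the centraliser is commutative -/
theorem cent_comm {g h : Cfsg.Sz F m} (hg : g ∈ Subgroup.centralizer {x})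
    (hh : h ∈ Subgroup.centralizer {x}) : g * h = h * g := by
  have : Fact p.Prime := ⟨hp⟩
  exact sz_centralizer_comm_singer hF (prime_dvd_sq_add_one hF hp hq).1 hq x hx g h
    (Subgroup.mem_centralizer_singleton_iff.1 hg) (Subgroup.mem_centralizer_singleton_iff.1 hh)

/-- the non-identity elements of the centraliser have no fixed points -/
theorem cent_isFpf {y : Cfsg.Sz F m} (hy : y ∈ Subgroup.centralizer {x}) (hy1 : y ≠ 1) :
    IsFpf hm hF y := by
  have hxf := isFpf_of_orderOf hm hF hp hq hx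
  have hc : x * y = y * x := (Subgroup.mem_centralizer_singleton_iff.1 hy).symm
  refine ⟨hy1, ?_, ?_⟩
  · intro h
    exact hxf.2.1 (conjInto_szQ_of_commute hm hF h hxf.1 hc)
  · intro h
    exact hxf.2.2 (conjInto_szK_of_commute hm hF h hxf.1 hc)

/-- the centraliser is the centraliser of each of its non-identity elements -/
theorem cent_eq {y : Cfsg.Sz F m} (hy : y ∈ Subgroup.centralizer {x}) (hy1 : y ≠ 1) :
    Subgroup.centralizer {y} = Subgroup.centralizer {x} := by
  have : Finite (Cfsg.Sz F m) := inferInstance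
  have hyf := cent_isFpf hm hF hp hq hx hy hy1
  obtain ⟨l, k, hl, hld, hlo⟩ := exists_prime_pow_of_ne_one hy1
  obtain ⟨hl2, hlq⟩ := isFpf_prime_dvd hm hF hyf hl hld
  have hxy' : x ∈ Subgroup.centralizer {y ^ k} := by
    rw [Subgroup.mem_centralizer_singleton_iff]
    have h1 : x * y = y * x := (Subgroup.mem_centralizer_singleton_iff.1 hy).symm
    exact (Commute.pow_right (show Commute x y from h1) k).eq
  apply le_antisymm
  · intro z hz
    have hz' : z ∈ Subgroup.centralizer {y ^ k} := by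
      rw [Subgroup.mem_centralizer_singleton_iff]
      have h1 : z * y = y * z := Subgroup.mem_centralizer_singleton_iff.1 hz
      exact (Commute.pow_right (show Commute z y from h1) k).eq
    rw [Subgroup.mem_centralizer_singleton_iff]
    exact cent_comm hm hF hl hlq hlo hz' hxy'
  · intro z hz
    rw [Subgroup.mem_centralizer_singleton_iff]
    exact cent_comm hm hF hp hq hx hz hy

/-- the trivial intersection property -/
theorem cent_TI (g y : Cfsg.Sz F m) (hy : y ∈ Subgroup.centralizer {x}) (hy1 : y ≠ 1)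
    (hg : g * y * g⁻¹ ∈ Subgroup.centralizer {x}) :
    g ∈ Subgroup.normalizer ((Subgroup.centralizer {x} : Subgroup (Cfsg.Sz F m)) :
      Set (Cfsg.Sz F m)) := by
  have : Finite (Cfsg.Sz F m) := inferInstance
  apply mem_normalizer_of_conj_le
  intro z hz
  have h1 : g * y * g⁻¹ ≠ 1 := by
    rw [Ne, conj_eq_one_iff]; exact hy1
  rw [← cent_eq hm hF hp hq hx hg h1, Subgroup.mem_centralizer_singleton_iff]
  have h3 : z * y = y * z := cent_comm hm hF hp hq hx hz hy
  calc g * z * g⁻¹ * (g * y * g⁻¹) = g * (z * y) * g⁻¹ := by group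
    _ = g * (y * z) * g⁻¹ := by rw [h3]
    _ = _ := by group

/-- the order of the centraliser divides `q² + 1` -/
theorem cent_card_dvd :
    Nat.card (Subgroup.centralizer ({x} : Set (Cfsg.Sz F m))) ∣ (Fintype.card F) ^ 2 + 1 := by
  have : Finite (Cfsg.Sz F m) := inferInstance
  have hcop : Nat.Coprime (Nat.card (Subgroup.centralizer ({x} : Set (Cfsg.Sz F m))))
      ((Fintype.card F) ^ 2 * (Fintype.card F - 1)) := by
    apply Nat.coprime_of_dvd
    intro l hl hd hd'
    have : Fact l.Prime := ⟨hl⟩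
    obtain ⟨y, hy⟩ := exists_prime_orderOf_dvd_card' l hd
    have hy1 : (y : Cfsg.Sz F m) ≠ 1 := by
      intro h
      have : y = 1 := Subtype.ext h
      rw [this, orderOf_one] at hy
      exact hl.one_lt.ne hy
    have hyf := cent_isFpf hm hF hp hq hx y.2 hy1
    have hyo : orderOf (y : Cfsg.Sz F m) = l := by rw [Subgroup.orderOf_coe]; exact hy
    obtain ⟨-, hlq⟩ := isFpf_prime_dvd hm hF hyf hl (by rw [hyo])
    obtain ⟨-, h1, h2⟩ := prime_dvd_sq_add_one hF hl hlq
    rcases (Nat.Prime.dvd_mul hl).1 hd' with h | h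
    · exact h2 (hl.dvd_of_dvd_pow h)
    · exact h1 h
  have h1 : Nat.card (Subgroup.centralizer ({x} : Set (Cfsg.Sz F m))) ∣
      Nat.card (Cfsg.Sz F m) := Subgroup.card_subgroup_dvd_card _
  rw [card_Sz hm hF] at h1
  have h3 : (Fintype.card F) ^ 2 * ((Fintype.card F) ^ 2 + 1) * (Fintype.card F - 1) =
      ((Fintype.card F) ^ 2 + 1) * ((Fintype.card F) ^ 2 * (Fintype.card F - 1)) := by ring
  rw [h3] at h1
  exact hcop.dvd_of_dvd_mul_right h1

/-- the centraliser is cyclic -/
theorem cent_isCyclic : IsCyclic (Subgroup.centralizer ({x} : Set (Cfsg.Sz F m))) := by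
  have : Finite (Cfsg.Sz F m) := inferInstance
  have hZ : IsZGroup (Subgroup.centralizer ({x} : Set (Cfsg.Sz F m))) := by
    constructor
    intro l hl P
    have : Fact l.Prime := ⟨hl⟩
    by_cases h2 : l = 2
    · subst h2
      -- the order is odd
      have hodd : ¬ 2 ∣ Nat.card (Subgroup.centralizer ({x} : Set (Cfsg.Sz F m))) := by
        intro h
        have := dvd_trans h (cent_card_dvd hm hF hp hq hx)
        exact (prime_dvd_sq_add_one hF Nat.prime_two this).1 rfl
      have hP : Nat.card P = 1 := by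
        obtain ⟨n, hn⟩ := P.isPGroup'.exists_card_eq
        rcases Nat.eq_zero_or_pos n with rfl | hpos
        · rw [hn, pow_zero]
        · exfalso
          apply hodd
          have h1 : 2 ∣ Nat.card P := by rw [hn]; exact dvd_pow_self 2 hpos.ne'
          exact dvd_trans h1 (Subgroup.card_subgroup_dvd_card _)
      have : Subsingleton P := (Nat.card_eq_one_iff_unique.1 hP).1
      infer_instance
    · exact sylow_cyclic_of_injective (Subgroup.centralizer ({x} : Set (Cfsg.Sz F m))).subtype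
        (Subgroup.subtype_injective _) (fun Q => sz_sylow_odd_cyclic hm hF h2 Q) P
  let _ : CommGroup (Subgroup.centralizer ({x} : Set (Cfsg.Sz F m))) :=
    { (inferInstance : Group (Subgroup.centralizer ({x} : Set (Cfsg.Sz F m)))) with
      mul_comm := fun a b => Subtype.ext (cent_comm hm hF hp hq hx a.2 b.2) }
  have hab := IsZGroup.isCyclic_abelianization
    (G := Subgroup.centralizer ({x} : Set (Cfsg.Sz F m)))
  exact isCyclic_of_surjective (Abelianization.equivOfComm
    (H := Subgroup.centralizer ({x} : Set (Cfsg.Sz F m)))).symm.toMonoidHom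
    (Abelianization.equivOfComm (H := Subgroup.centralizer ({x} : Set (Cfsg.Sz F m)))).symm.surjective

end cent

end Cfsg.Agent.Helper6
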