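import Cfsg.Agent.Helper6.Tor5

/-!
# The normalisers of the cyclic subgroups without fixed points of the Suzuki group
-/

set_option autoImplicit false

namespace Cfsg.Agent.Helper6

/-- in a finite cyclic group the elements of order dividing a prime `p` are the powers of any
element of order `p` -/
theorem mem_zpowers_of_isCyclic {A : Type*} [CommGroup A] [IsCyclic A] [Finite A] {x y : A}
    {p : ℕ} (hp : p.Prime) (hx : orderOf x = p) (hy : y ^ p = 1) : y ∈ Subgroup.zpowers x := by
  have h1 : Nat.card (powMonoidHom p : A →* A).ker ≤ p := by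
    rw [IsCyclic.card_powMonoidHom_ker]
    exact Nat.le_of_dvd hp.pos (Nat.gcd_dvd_right _ _)
  have h2 : Subgroup.zpowers x ≤ (powMonoidHom p : A →* A).ker := by
    rw [Subgroup.zpowers_le, MonoidHom.mem_ker, powMonoidHom_apply, ← hx, pow_orderOf_eq_one]
  have h3 : Nat.card (Subgroup.zpowers x) = p := by rw [Nat.card_zpowers, hx]
  have h4 := Subgroup.eq_of_le_of_card_ge h2 (by rw [h3]; exact h1)
  rw [h4, MonoidHom.mem_ker, powMonoidHom_apply]
  exact hy

/-- the number of fourth roots of unity modulo a prime -/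
theorem card_fourth_roots_le (p : ℕ) [Fact p.Prime] :
    Nat.card {j : ZMod p // j ^ 4 = 1} ≤ 4 := by
  classical
  have h1 : Nat.card {j : ZMod p // j ^ 4 = 1} =
      (Polynomial.nthRoots 4 (1 : ZMod p)).toFinset.card := by
    rw [Nat.card_eq_fintype_card, Fintype.card_subtype]
    congr 1
    ext j
    simp only [Finset.mem_filter, Finset.mem_univ, true_and, Multiset.mem_toFinset]
    rw [Polynomial.mem_nthRoots (by norm_num)]
  rw [h1]
  exact le_trans (Multiset.toFinset_card_le _) (Polynomial.card_nthRoots 4 1)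

variable {F : Type*} [Field F] [Fintype F] {m : ℕ}

section norm

variable (hm : 1 ≤ m) (hF : Fintype.card F = 2 ^ (2 * m + 1)) {p : ℕ} (hp : p.Prime)
  (hq : p ∣ (Fintype.card F) ^ 2 + 1) {x : Cfsg.Sz F m} (hx : orderOf x = p)

include hm hF hp hq hx

/-- conjugates of `x` under the normaliser are powers of `x` -/
theorem cent_conj_mem_zpowers {g : Cfsg.Sz F m}
    (hg : g ∈ Subgroup.normalizer ((Subgroup.centralizer {x} : Subgroup (Cfsg.Sz F m)) :
      Set (Cfsg.Sz F m))) : g * x * g⁻¹ ∈ Subgroup.zpowers x := by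
  have : Finite (Cfsg.Sz F m) := inferInstance
  have hxA : x ∈ Subgroup.centralizer ({x} : Set (Cfsg.Sz F m)) :=
    Subgroup.mem_centralizer_singleton_iff.2 rfl
  have hyA : g * x * g⁻¹ ∈ Subgroup.centralizer ({x} : Set (Cfsg.Sz F m)) :=
    (Subgroup.mem_normalizer_iff.1 hg x).1 hxA
  have hcyc := cent_isCyclic hm hF hp hq hx
  let _ : CommGroup (Subgroup.centralizer ({x} : Set (Cfsg.Sz F m))) :=
    { (inferInstance : Group (Subgroup.centralizer ({x} : Set (Cfsg.Sz F m)))) with
      mul_comm := fun a b => Subtype.ext (cent_comm hm hF hp hq hx a.2 b.2) }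
  have h1 : orderOf (⟨x, hxA⟩ : Subgroup.centralizer ({x} : Set (Cfsg.Sz F m))) = p := by
    rw [← Subgroup.orderOf_coe]; exact hx
  have h2 : (⟨g * x * g⁻¹, hyA⟩ : Subgroup.centralizer ({x} : Set (Cfsg.Sz F m))) ^ p = 1 := by
    apply Subtype.ext
    rw [Subgroup.coe_pow, Subgroup.coe_one, conj_pow, ← hx, pow_orderOf_eq_one]
    group
  obtain ⟨k, hk⟩ := Subgroup.mem_zpowers_iff.1 (mem_zpowers_of_isCyclic hp h1 h2)
  rw [Subgroup.mem_zpowers_iff]
  refine ⟨k, ?_⟩
  have := congrArg Subtype.val hk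
  rw [Subgroup.coe_zpow] at this
  exact this

/-- fourth powers of elements of the normaliser lie in the centraliser -/
theorem cent_normalizer_pow_four {g : Cfsg.Sz F m}
    (hg : g ∈ Subgroup.normalizer ((Subgroup.centralizer {x} : Subgroup (Cfsg.Sz F m)) :
      Set (Cfsg.Sz F m))) : g ^ 4 ∈ Subgroup.centralizer ({x} : Set (Cfsg.Sz F m)) := by
  have : Fact p.Prime := ⟨hp⟩
  have : CharP F 2 := CharTwo.of_one_ne_zero_of_two_eq_zero one_ne_zero (two_eq_zero_of_card hF)
  let ι : Cfsg.Sz F m →* GL (Fin 4) F :=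
    (Matrix.SpecialLinearGroup.toGL).comp (Cfsg.Sz F m).subtype
  have hι : Function.Injective ι :=
    Matrix.SpecialLinearGroup.toGL_injective.comp (Cfsg.Sz F m).subtype_injective
  have hx' : orderOf (ι x) = p := by rw [orderOf_injective ι hι, hx]
  have h1 := cent_conj_mem_zpowers hm hF hp hq hx hg
  have h2 : ι g * ι x * (ι g)⁻¹ ∈ Subgroup.zpowers (ι x) := by
    obtain ⟨k, hk⟩ := Subgroup.mem_zpowers_iff.1 h1
    rw [Subgroup.mem_zpowers_iff]
    refine ⟨k, ?_⟩
    rw [← map_zpow, hk, map_mul, map_mul, map_inv]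
  have h3 := gl4_normalizer_pow_four (prime_dvd_sq_add_one hF hp hq).1 hq (ι x) hx' (ι g) h2
  rw [Subgroup.mem_centralizer_singleton_iff]
  apply hι
  rw [map_mul, map_mul, map_pow]
  exact h3

/-- conjugation of `x` by elements of the normaliser: exponents -/
theorem cent_conj_eq_pow {g : Cfsg.Sz F m}
    (hg : g ∈ Subgroup.normalizer ((Subgroup.centralizer {x} : Subgroup (Cfsg.Sz F m)) :
      Set (Cfsg.Sz F m))) :
    ∃ j : ZMod p, j ^ 4 = 1 ∧ g * x * g⁻¹ = x ^ j.val := by
  have hpf : Fact p.Prime := ⟨hp⟩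
  have : Finite (Cfsg.Sz F m) := inferInstance
  have : CharP F 2 := CharTwo.of_one_ne_zero_of_two_eq_zero one_ne_zero (two_eq_zero_of_card hF)
  have h1 := cent_conj_mem_zpowers hm hF hp hq hx hg
  rw [← mem_powers_iff_mem_zpowers] at h1
  obtain ⟨j, hj⟩ := h1
  have hj' : x ^ j = g * x * g⁻¹ := hj
  let ι : Cfsg.Sz F m →* GL (Fin 4) F :=
    (Matrix.SpecialLinearGroup.toGL).comp (Cfsg.Sz F m).subtype
  have hι : Function.Injective ι :=
    Matrix.SpecialLinearGroup.toGL_injective.comp (Cfsg.Sz F m).subtype_injective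
  have hx' : orderOf (ι x) = p := by rw [orderOf_injective ι hι, hx]
  have h2 : ι g * ι x * (ι g)⁻¹ = (ι x) ^ j := by
    rw [← map_pow, hj', map_mul, map_mul, map_inv]
  have h3 := gl4_conj_pow_four (prime_dvd_sq_add_one hF hp hq).1 hq (ι x) hx' (ι g) j h2
  have h4 : x ^ (j ^ 4) = x ^ 1 := by
    apply hι
    rw [map_pow, h3, pow_one]
  rw [pow_eq_pow_iff_modEq, hx] at h4
  refine ⟨(j : ZMod p), ?_, ?_⟩
  · have := (ZMod.natCast_eq_natCast_iff _ _ _).2 h4
    push_cast at this
    exact this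
  · rw [← hj', pow_eq_pow_iff_modEq, hx, ← ZMod.natCast_eq_natCast_iff, ZMod.natCast_val,
      ZMod.cast_id']
    rfl

/-- the index of the centraliser in its normaliser is `1`, `2` or `4` -/
theorem cent_card_normalizer :
    ∃ e : ℕ, (e = 1 ∨ e = 2 ∨ e = 4) ∧
      Nat.card (Subgroup.normalizer ((Subgroup.centralizer {x} : Subgroup (Cfsg.Sz F m)) :
        Set (Cfsg.Sz F m))) = e * Nat.card (Subgroup.centralizer ({x} : Set (Cfsg.Sz F m))) := by
  classical
  have hpf : Fact p.Prime := ⟨hp⟩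
  have : Finite (Cfsg.Sz F m) := inferInstance
  obtain ⟨A, hA⟩ : ∃ A : Subgroup (Cfsg.Sz F m), A = Subgroup.centralizer {x} := ⟨_, rfl⟩
  rw [← hA]
  have hle : A ≤ Subgroup.normalizer (A : Set (Cfsg.Sz F m)) := Subgroup.le_normalizer
  have memA : ∀ z : Cfsg.Sz F m, z ∈ A ↔ z * x = x * z := by
    intro z
    rw [hA, Subgroup.mem_centralizer_singleton_iff]
  have hN : ∀ g : Cfsg.Sz F m, g ∈ Subgroup.normalizer (A : Set (Cfsg.Sz F m)) →
      g ∈ Subgroup.normalizer ((Subgroup.centralizer {x} : Subgroup (Cfsg.Sz F m)) :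
        Set (Cfsg.Sz F m)) := by
    intro g hg
    rw [← hA]
    exact hg
  haveI hnorm : (A.subgroupOf (Subgroup.normalizer (A : Set (Cfsg.Sz F m)))).Normal :=
    Subgroup.normal_in_normalizer
  -- exponent four
  have hexp : ∀ q : Subgroup.normalizer (A : Set (Cfsg.Sz F m)) ⧸
      A.subgroupOf (Subgroup.normalizer (A : Set (Cfsg.Sz F m))), q ^ 4 = 1 := by
    intro q
    obtain ⟨n, rfl⟩ := QuotientGroup.mk_surjective q
    rw [← QuotientGroup.mk_pow, QuotientGroup.eq_one_iff, Subgroup.mem_subgroupOf,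
      Subgroup.coe_pow, memA]
    exact Subgroup.mem_centralizer_singleton_iff.1
      (cent_normalizer_pow_four hm hF hp hq hx (hN _ n.2))
  have h2grp : IsPGroup 2 (Subgroup.normalizer (A : Set (Cfsg.Sz F m)) ⧸
      A.subgroupOf (Subgroup.normalizer (A : Set (Cfsg.Sz F m)))) := by
    intro q
    exact ⟨2, by norm_num; exact hexp q⟩
  obtain ⟨k, hk⟩ := h2grp.exists_card_eq
  -- at most four cosets
  have hchoose : ∀ q : Subgroup.normalizer (A : Set (Cfsg.Sz F m)) ⧸
      A.subgroupOf (Subgroup.normalizer (A : Set (Cfsg.Sz F m))),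
      ∃ j : ZMod p, j ^ 4 = 1 ∧ ((Quotient.out q : Subgroup.normalizer (A : Set (Cfsg.Sz F m))) :
        Cfsg.Sz F m) * x * ((Quotient.out q : Subgroup.normalizer (A : Set (Cfsg.Sz F m))) :
        Cfsg.Sz F m)⁻¹ = x ^ j.val := by
    intro q
    exact cent_conj_eq_pow hm hF hp hq hx (hN _ (Quotient.out q).2)
  let φ : (Subgroup.normalizer (A : Set (Cfsg.Sz F m)) ⧸
      A.subgroupOf (Subgroup.normalizer (A : Set (Cfsg.Sz F m)))) → {j : ZMod p // j ^ 4 = 1} :=
    fun q => ⟨Classical.choose (hchoose q), (Classical.choose_spec (hchoose q)).1⟩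
  have hφ : Function.Injective φ := by
    intro q q' h
    have h1 := (Classical.choose_spec (hchoose q)).2
    have h2 := (Classical.choose_spec (hchoose q')).2
    have h3 : Classical.choose (hchoose q) = Classical.choose (hchoose q') :=
      congrArg Subtype.val h
    rw [h3, ← h2] at h1
    rw [← QuotientGroup.out_eq' q, ← QuotientGroup.out_eq' q', QuotientGroup.eq,
      Subgroup.mem_subgroupOf, Subgroup.coe_mul, Subgroup.coe_inv, memA]
    set n := ((Quotient.out q : Subgroup.normalizer (A : Set (Cfsg.Sz F m))) : Cfsg.Sz F m)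
    set n' := ((Quotient.out q' : Subgroup.normalizer (A : Set (Cfsg.Sz F m))) : Cfsg.Sz F m)
    calc n⁻¹ * n' * x = n⁻¹ * (n' * x * n'⁻¹) * n' := by group
      _ = n⁻¹ * (n * x * n⁻¹) * n' := by rw [h1]
      _ = x * (n⁻¹ * n') := by group
  have hle4 : Nat.card (Subgroup.normalizer (A : Set (Cfsg.Sz F m)) ⧸
      A.subgroupOf (Subgroup.normalizer (A : Set (Cfsg.Sz F m)))) ≤ 4 :=
    le_trans (Nat.card_le_card_of_injective φ hφ) (card_fourth_roots_le p)
  have hcard := Subgroup.card_eq_card_quotient_mul_card_subgroup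
    (A.subgroupOf (Subgroup.normalizer (A : Set (Cfsg.Sz F m))))
  rw [Nat.card_congr (Subgroup.subgroupOfEquivOfLe hle).toEquiv] at hcard
  refine ⟨2 ^ k, ?_, by rw [hcard, hk]⟩
  rw [hk] at hle4
  have hk2 : k ≤ 2 := by
    by_contra hcon
    push Not at hcon
    have : 2 ^ 3 ≤ 2 ^ k := Nat.pow_le_pow_right (by norm_num) hcon
    omega
  interval_cases k
  · left; norm_num
  · right; left; norm_num
  · right; right; norm_num

end norm

end Cfsg.Agent.Helper6
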