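import Cfsg.Agent.Helper6.Tor6

/-!
# The classes of cyclic tori without fixed points of the Suzuki group
-/

set_option autoImplicit false

namespace Cfsg.Agent.Helper6

/-- conjugation invariance of `ConjInto` -/
theorem conjInto_conj_iff {G : Type*} [Group G] (A : Subgroup G) (h x : G) :
    ConjInto A (h * x * h⁻¹) ↔ ConjInto A x := by
  constructor
  · rintro ⟨h1, g, hg⟩
    refine ⟨fun hx => h1 (by rw [hx]; group), g * h, ?_⟩
    have : g * h * x * (g * h)⁻¹ = g * (h * x * h⁻¹) * g⁻¹ := by group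
    rw [this]; exact hg
  · rintro ⟨h1, g, hg⟩
    refine ⟨fun hx => h1 (conj_eq_one_iff.1 hx), g * h⁻¹, ?_⟩
    have : g * h⁻¹ * (h * x * h⁻¹) * (g * h⁻¹)⁻¹ = g * x * g⁻¹ := by group
    rw [this]; exact hg

/-- elements of a subgroup are conjugate into it -/
theorem conjInto_of_mem {G : Type*} [Group G] (A : Subgroup G) {x : G} (hx : x ∈ A)
    (hx1 : x ≠ 1) : ConjInto A x :=
  ⟨hx1, 1, by simpa using hx⟩

variable {F : Type*} [Field F] [Fintype F] {m : ℕ}

/-- conjugation invariance of `IsFpf` -/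
theorem isFpf_conj_iff (hm : 1 ≤ m) (hF : Fintype.card F = 2 ^ (2 * m + 1))
    (h x : Cfsg.Sz F m) : IsFpf hm hF (h * x * h⁻¹) ↔ IsFpf hm hF x := by
  unfold IsFpf
  rw [conjInto_conj_iff, conjInto_conj_iff, Ne, conj_eq_one_iff]

/-- an element without fixed points centralises one of its powers of prime order dividing
`q² + 1` -/
theorem isFpf_exists_singer (hm : 1 ≤ m) (hF : Fintype.card F = 2 ^ (2 * m + 1))
    {y : Cfsg.Sz F m} (hy : IsFpf hm hF y) :
    ∃ (l : ℕ) (x : Cfsg.Sz F m), l.Prime ∧ l ∣ (Fintype.card F) ^ 2 + 1 ∧ orderOf x = l ∧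
      y ∈ Subgroup.centralizer ({x} : Set (Cfsg.Sz F m)) := by
  have : Finite (Cfsg.Sz F m) := inferInstance
  obtain ⟨l, k, hl, hld, hlo⟩ := exists_prime_pow_of_ne_one hy.1
  obtain ⟨-, hlq⟩ := isFpf_prime_dvd hm hF hy hl hld
  refine ⟨l, y ^ k, hl, hlq, hlo, ?_⟩
  rw [Subgroup.mem_centralizer_singleton_iff]
  exact (pow_mul_comm' y k).symm

section cent

variable (hm : 1 ≤ m) (hF : Fintype.card F = 2 ^ (2 * m + 1)) {p : ℕ} (hp : p.Prime)
  (hq : p ∣ (Fintype.card F) ^ 2 + 1) {x : Cfsg.Sz F m} (hx : orderOf x = p)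

include hm hF hp hq hx

/-- elements conjugate into the centraliser have no fixed points -/
theorem cent_conjInto_isFpf {y : Cfsg.Sz F m}
    (hy : ConjInto (Subgroup.centralizer ({x} : Set (Cfsg.Sz F m))) y) : IsFpf hm hF y := by
  obtain ⟨hy1, g, hg⟩ := hy
  rw [← isFpf_conj_iff hm hF g y]
  exact cent_isFpf hm hF hp hq hx hg (by rw [Ne, conj_eq_one_iff]; exact hy1)

/-- `x` lies in its centraliser -/
theorem cent_self_mem : x ∈ Subgroup.centralizer ({x} : Set (Cfsg.Sz F m)) :=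
  Subgroup.mem_centralizer_singleton_iff.2 rfl

theorem cent_self_ne_one : x ≠ 1 := by
  intro h
  rw [h, orderOf_one] at hx
  exact hp.one_lt.ne hx

/-- the order of the centraliser is at least five -/
theorem cent_card_ge :
    5 ≤ Nat.card (Subgroup.centralizer ({x} : Set (Cfsg.Sz F m))) := by
  have : Finite (Cfsg.Sz F m) := inferInstance
  have hd := cent_card_dvd hm hF hp hq hx
  have hpd : p ∣ Nat.card (Subgroup.centralizer ({x} : Set (Cfsg.Sz F m))) := by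
    rw [← hx]
    have := orderOf_dvd_natCard (⟨x, cent_self_mem hm hF hp hq hx⟩ :
      Subgroup.centralizer ({x} : Set (Cfsg.Sz F m)))
    rwa [← Subgroup.orderOf_coe] at this
  have hpos : 0 < Nat.card (Subgroup.centralizer ({x} : Set (Cfsg.Sz F m))) := Nat.card_pos
  have hple := Nat.le_of_dvd hpos hpd
  have hp2 := (prime_dvd_sq_add_one hF hp hq).1
  have hp3 : p ≠ 3 := by
    rintro rfl
    have h1 : ((Fintype.card F) ^ 2 + 1) % 3 = 0 := Nat.mod_eq_zero_of_dvd hq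
    have h2 : (Fintype.card F) % 3 = 0 ∨ (Fintype.card F) % 3 = 1 ∨ (Fintype.card F) % 3 = 2 := by
      omega
    rw [Nat.add_mod, Nat.pow_mod] at h1
    rcases h2 with h | h | h <;> rw [h] at h1 <;> norm_num at h1
  have hp4 : p ≠ 4 := by
    rintro rfl
    norm_num at hp
  have := hp.two_le
  omega

/-- the number of elements conjugate into the centraliser -/
theorem cent_card_conjInto :
    ∃ e : ℕ, (e = 1 ∨ e = 2 ∨ e = 4) ∧
      Nat.card (Subgroup.normalizer ((Subgroup.centralizer {x} : Subgroup (Cfsg.Sz F m)) :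
        Set (Cfsg.Sz F m))) = e * Nat.card (Subgroup.centralizer ({x} : Set (Cfsg.Sz F m))) ∧
      Nat.card {y : Cfsg.Sz F m // ConjInto (Subgroup.centralizer ({x} : Set (Cfsg.Sz F m))) y} *
        (e * Nat.card (Subgroup.centralizer ({x} : Set (Cfsg.Sz F m)))) =
      (Fintype.card F) ^ 2 * ((Fintype.card F) ^ 2 + 1) * (Fintype.card F - 1) *
        (Nat.card (Subgroup.centralizer ({x} : Set (Cfsg.Sz F m))) - 1) := by
  have : Finite (Cfsg.Sz F m) := inferInstance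
  obtain ⟨e, he, hN⟩ := cent_card_normalizer hm hF hp hq hx
  refine ⟨e, he, hN, ?_⟩
  have h1 := card_conj_union_mul (Subgroup.centralizer ({x} : Set (Cfsg.Sz F m)))
    (fun g y hy hy1 hg => cent_TI hm hF hp hq hx g y hy hy1 hg)
  rw [hN, card_Sz hm hF] at h1
  exact h1

end cent

section two

variable (hm : 1 ≤ m) (hF : Fintype.card F = 2 ^ (2 * m + 1)) {p : ℕ} (hp : p.Prime)
  (hq : p ∣ (Fintype.card F) ^ 2 + 1) {x : Cfsg.Sz F m} (hx : orderOf x = p)
  {p' : ℕ} (hp' : p'.Prime)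
  (hq' : p' ∣ (Fintype.card F) ^ 2 + 1) {x' : Cfsg.Sz F m} (hx' : orderOf x' = p')

include hm hF hp hq hx hp' hq' hx'

/-- two classes with a common element coincide -/
theorem cent_conjInto_of_common {y : Cfsg.Sz F m}
    (hy : ConjInto (Subgroup.centralizer ({x} : Set (Cfsg.Sz F m))) y)
    (hy' : ConjInto (Subgroup.centralizer ({x'} : Set (Cfsg.Sz F m))) y) {z : Cfsg.Sz F m}
    (hz : ConjInto (Subgroup.centralizer ({x} : Set (Cfsg.Sz F m))) z) :
    ConjInto (Subgroup.centralizer ({x'} : Set (Cfsg.Sz F m))) z := by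
  obtain ⟨hy1, g₁, hg₁⟩ := hy
  obtain ⟨-, g₂, hg₂⟩ := hy'
  obtain ⟨hz1, h, hh⟩ := hz
  refine ⟨hz1, g₂ * g₁⁻¹ * h, ?_⟩
  have hne : g₂ * y * g₂⁻¹ ≠ 1 := by rw [Ne, conj_eq_one_iff]; exact hy1
  rw [← cent_eq hm hF hp' hq' hx' hg₂ hne, Subgroup.mem_centralizer_singleton_iff]
  have hc : h * z * h⁻¹ * (g₁ * y * g₁⁻¹) = g₁ * y * g₁⁻¹ * (h * z * h⁻¹) :=
    cent_comm hm hF hp hq hx hh hg₁
  calc g₂ * g₁⁻¹ * h * z * (g₂ * g₁⁻¹ * h)⁻¹ * (g₂ * y * g₂⁻¹)
      = g₂ * g₁⁻¹ * (h * z * h⁻¹ * (g₁ * y * g₁⁻¹)) * g₁ * g₂⁻¹ := by group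
    _ = g₂ * g₁⁻¹ * (g₁ * y * g₁⁻¹ * (h * z * h⁻¹)) * g₁ * g₂⁻¹ := by rw [hc]
    _ = _ := by group

end two

end Cfsg.Agent.Helper6
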